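import Mathlib

namespace Cfsg.Agent.InvChar

/-- A nontrivial normal subgroup of a finite p-group meets the centre nontrivially. -/
theorem exists_mem_center_of_normal {P : Type*} [Group P] [Finite P] {p : ℕ} [Fact p.Prime]
    (hP : IsPGroup p P) (N : Subgroup P) [hN : N.Normal] (hne : N ≠ ⊥) :
    ∃ c ∈ N, c ∈ Subgroup.center P ∧ c ≠ 1 := by
  have hd : p ∣ Nat.card N := by
    have := (Subgroup.nontrivial_iff_ne_bot N).mpr hne
    obtain ⟨k, hk0, hk⟩ := (hP.to_subgroup N).nontrivial_iff_card.mp this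
    rw [hk]; exact dvd_pow_self p (by omega)
  have h1 : (1 : N) ∈ MulAction.fixedPoints (ConjAct P) N := fun g => smul_one g
  obtain ⟨b, hb, hb1⟩ :=
    (hP.of_equiv ConjAct.toConjAct).exists_fixed_point_of_prime_dvd_card_of_fixed_point N hd h1
  refine ⟨b, b.2, Subgroup.mem_center_iff.mpr fun g => ?_, fun h => hb1 (Subtype.ext h.symm)⟩
  have h := congrArg Subtype.val (hb (ConjAct.toConjAct g))
  rw [ConjAct.Subgroup.val_conj_smul, ConjAct.smul_def, ConjAct.ofConjAct_toConjAct] at h
  exact (mul_inv_eq_iff_eq_mul.mp h)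

end Cfsg.Agent.InvChar
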