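import Mathlib
import Cfsg.Agent.Lib.InvChar.Basics
import Cfsg.Agent.Lib.Invol.Quaternion

/-!
# p-groups with a unique subgroup of order p
-/

set_option autoImplicit false
set_option linter.style.haveILetI false

namespace Cfsg.Agent.InvChar

variable {P : Type*} [Group P]

/-- Powers of `a ^ i * x` when `x` acts on `a` as the `r`-th power. -/
theorem pow_mul_twist {a x : P} {r : ℤ} (h : ∀ c : ℤ, x * a ^ c = a ^ (r * c) * x) (i : ℤ)
    (k : ℕ) : (a ^ i * x) ^ k = a ^ (i * ∑ j ∈ Finset.range k, r ^ j) * x ^ k := by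
  induction k with
  | zero => simp
  | succ k ih =>
    rw [pow_succ', ih, mul_assoc (a ^ i) x, ← mul_assoc x, h, mul_assoc (a ^ (r * _)),
      ← mul_assoc (a ^ i), ← zpow_add, ← pow_succ', geom_sum_succ]
    congr 2
    ring

variable [Finite P] {p : ℕ} [hp : Fact p.Prime]

/-- The twisted extension of a cyclic group by an element of `p`-th power in it. -/
theorem twist_key (hP : IsPGroup p P)
    (huniq : ∀ a x : P, a ≠ 1 → x ^ p = 1 → x ∈ Subgroup.zpowers a) {a x : P} {m : ℕ}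
    (ha : orderOf a = p ^ m) (hx : x ∉ Subgroup.zpowers a)
    (hxp : x ^ p ∈ Subgroup.zpowers a) {r : ℤ} (hr : x * a * x⁻¹ = a ^ r) (hnc : a ^ r ≠ a) :
    p = 2 ∧ 2 ≤ m ∧ a ^ r = a⁻¹ ∧ x * x = a ^ (p ^ (m - 1)) := by
  have ha1 : a ≠ 1 := fun h => hnc (by rw [h, one_zpow])
  have hm : m ≠ 0 := by
    rintro rfl
    exact ha1 (orderOf_eq_one_iff.mp (by rw [ha, pow_zero]))
  have hdvd : ∀ k : ℤ, a ^ k = 1 ↔ ((p : ℤ) ^ m) ∣ k := fun k => by
    rw [← orderOf_dvd_iff_zpow_eq_one, ha]; push_cast; rfl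
  have hconj : ∀ c : ℤ, x * a ^ c = a ^ (r * c) * x := by
    intro c
    rw [zpow_mul, ← hr, conj_zpow]
    group
  obtain ⟨t, ht⟩ := hxp
  simp only at ht
  have hnocomm : ¬ Commute x a := fun h => hnc (by rw [← hr, h.eq]; group)
  -- the exponent of `x ^ p` is divisible by `p`
  have hpt : (p : ℤ) ∣ t := by
    by_contra hpt
    have hco : IsCoprime t ((p : ℤ) ^ m) :=
      IsCoprime.pow_right ((Nat.prime_iff_prime_int.mp hp.out).coprime_iff_not_dvd.mpr hpt).symm
    obtain ⟨u, v, huv⟩ := hco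
    apply hnocomm
    have hxa : a = (x ^ p) ^ u := by
      rw [← ht, ← zpow_mul, ← mul_inv_eq_one, ← zpow_one a, ← zpow_mul, ← zpow_neg, ← zpow_add,
        hdvd]
      exact ⟨v, by linear_combination -huv⟩
    rw [hxa]
    exact ((Commute.refl x).pow_right p).zpow_right u
  -- no twist `a ^ i * x` has order `p`
  have hsol : ∀ i : ℤ, ¬ ((p : ℤ) ^ m ∣ i * (∑ j ∈ Finset.range p, r ^ j) + t) := by
    intro i hi
    have h1 : (a ^ i * x) ^ p = 1 := by
      rw [pow_mul_twist hconj, ← ht, ← zpow_add, hdvd]; exact hi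
    have h2 := huniq a _ ha1 h1
    exact hx ((Subgroup.mul_mem_cancel_left _ (Subgroup.zpow_mem_zpowers a i)).mp h2)
  -- `r ^ p ≡ 1`
  have hrp : (p : ℤ) ^ m ∣ r ^ p - 1 := by
    have h1 : ∀ k : ℕ, x ^ k * a * (x ^ k)⁻¹ = a ^ (r ^ k) := by
      intro k
      induction k with
      | zero => simp
      | succ k ih =>
        calc x ^ (k + 1) * a * (x ^ (k + 1))⁻¹ = x * (x ^ k * a * (x ^ k)⁻¹) * x⁻¹ := by group
          _ = a ^ r ^ (k + 1) := by rw [ih, hconj, mul_inv_cancel_right, pow_succ']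
    have h3 : a ^ (r ^ p) = a := by
      rw [← h1 p, ← ht]; group
    rw [← hdvd, zpow_sub, zpow_one, h3, mul_inv_cancel]
  -- solvability when the sum has gcd dividing `t`
  have hgcd : ¬ ((Int.gcd (∑ j ∈ Finset.range p, r ^ j) ((p : ℤ) ^ m) : ℤ) ∣ t) := by
    rintro ⟨c, hc⟩
    have hb := Int.gcd_eq_gcd_ab (∑ j ∈ Finset.range p, r ^ j) ((p : ℤ) ^ m)
    refine hsol (-(c * Int.gcdA (∑ j ∈ Finset.range p, r ^ j) ((p : ℤ) ^ m))) ?_
    exact ⟨c * Int.gcdB (∑ j ∈ Finset.range p, r ^ j) ((p : ℤ) ^ m), by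
      rw [hb] at hc; linear_combination hc⟩
  have hr1 : (p : ℤ) ∣ r - 1 := by
    have h1 : (p : ℤ) ∣ r ^ p - 1 := dvd_trans (dvd_pow_self _ hm) hrp
    rw [← ZMod.intCast_zmod_eq_zero_iff_dvd] at h1 ⊢
    push_cast at h1 ⊢
    rwa [ZMod.pow_card] at h1
  rcases hp.out.eq_two_or_odd' with rfl | hodd
  · -- p = 2
    simp only [Finset.sum_range_succ, Finset.sum_range_zero, zero_add, pow_zero, pow_one] at hgcd hsol
    have hrne : ¬ ((2 : ℤ) ^ m ∣ r - 1) := fun h => hnc (by
      rw [← mul_inv_eq_one, ← zpow_one a, ← zpow_mul, ← zpow_neg, ← zpow_add, hdvd]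
      simpa [sub_eq_add_neg] using h)
    obtain ⟨j, hjm, hj⟩ : ∃ j ≤ m, Int.gcd (1 + r) ((2 : ℤ) ^ m) = 2 ^ j := by
      refine (Nat.dvd_prime_pow Nat.prime_two).mp ?_
      rw [← Int.natCast_dvd_natCast]
      push_cast
      exact Int.gcd_dvd_right _ _
    have hcomm : (2 : ℤ) ^ m ∣ (r - 1) * t := by
      have h1 : x * a ^ t = a ^ t * x := by
        rw [ht]; exact (Commute.refl x).pow_right 2
      rw [hconj] at h1
      have h2 := mul_right_cancel h1
      rw [← mul_inv_eq_one, ← zpow_neg, ← zpow_add, hdvd] at h2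
      push_cast at h2
      convert h2 using 1
      ring
    push_cast at hgcd hpt hr1 hrp hsol
    rw [hj] at hgcd
    push_cast at hgcd
    -- `r ≡ 3` modulo 4
    have h4 : ¬ (4 : ℤ) ∣ r - 1 := by
      intro h
      have hj1 : j ≤ 1 := by
        by_contra hj1
        have h' : ((2 : ℤ) ^ j) ∣ 1 + r := by
          have := Int.gcd_dvd_left (1 + r) ((2 : ℤ) ^ m)
          rw [hj] at this; exact_mod_cast this
        have : (4 : ℤ) ∣ 1 + r := dvd_trans ⟨2 ^ (j - 2), by
          rw [show (4 : ℤ) = 2 ^ 2 by norm_num, ← pow_add]; congr 1; omega⟩ h'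
        omega
      apply hgcd
      interval_cases j
      · simp
      · simpa using hpt
    -- so `t` is `0` or the involution exponent
    have ht2 : (2 : ℤ) ^ (m - 1) ∣ t := by
      obtain ⟨u, hu⟩ := hr1
      have hu2 : IsCoprime ((2 : ℤ) ^ (m - 1)) u := by
        refine IsCoprime.pow_left ((Int.prime_two).coprime_iff_not_dvd.mpr fun hd => h4 ?_)
        obtain ⟨w, rfl⟩ := hd
        exact ⟨w, by rw [hu]; ring⟩
      refine hu2.dvd_of_dvd_mul_left ?_
      rw [hu, mul_assoc, show m = m - 1 + 1 by omega, pow_succ', mul_dvd_mul_iff_left two_ne_zero] at hcomm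
      simpa using hcomm
    have hjm' : j = m := by
      by_contra hne
      exact hgcd (dvd_trans (pow_dvd_pow _ (by omega)) ht2)
    have hneg : a ^ r = a⁻¹ := by
      rw [← mul_eq_one_iff_eq_inv, ← zpow_add_one, hdvd]
      have := Int.gcd_dvd_left (1 + r) ((2 : ℤ) ^ m)
      rw [hj, hjm'] at this
      push_cast at this ⊢
      rwa [add_comm]
    have hm2 : 2 ≤ m := by
      by_contra h
      apply hrne
      have : m = 1 := by omega
      subst this
      simpa using hr1
    refine ⟨rfl, hm2, hneg, ?_⟩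
    have hxt : x * x = a ^ t := by rw [ht, pow_two]
    rw [hxt, ← zpow_natCast, ← mul_inv_eq_one, ← zpow_neg, ← zpow_add, hdvd]
    obtain ⟨w, hw⟩ := ht2
    rcases Int.even_or_odd w with ⟨v, rfl⟩ | ⟨v, rfl⟩
    · exfalso
      apply hsol 0
      refine ⟨v, ?_⟩
      rw [hw, show (2 : ℤ) ^ m = 2 ^ (m - 1) * 2 by rw [← pow_succ]; congr 1; omega]
      ring
    · refine ⟨v, ?_⟩
      push_cast
      rw [hw, show (2 : ℤ) ^ m = 2 ^ (m - 1) * 2 by rw [← pow_succ]; congr 1; omega]
      ring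
  · -- odd p
    exfalso
    apply hgcd
    obtain ⟨k, hk⟩ := hr1
    have hr' : r = 1 + p * k := by linear_combination hk
    have hS : (p : ℤ) ^ 2 ∣ (∑ j ∈ Finset.range p, r ^ j) - p := by
      have := odd_sq_dvd_geom_sum₂_sub (a := (1 : ℤ)) (b := k) hodd
      simpa [hr'] using this
    obtain ⟨j, hjm, hj⟩ : ∃ j ≤ m, Int.gcd (∑ j ∈ Finset.range p, r ^ j) ((p : ℤ) ^ m) = p ^ j := by
      refine (Nat.dvd_prime_pow hp.out).mp ?_
      rw [← Int.natCast_dvd_natCast]
      push_cast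
      exact Int.gcd_dvd_right _ _
    have hj1 : j ≤ 1 := by
      by_contra hj1
      have h' : ((p : ℤ) ^ j) ∣ ∑ j ∈ Finset.range p, r ^ j := by
        have := Int.gcd_dvd_left (∑ j ∈ Finset.range p, r ^ j) ((p : ℤ) ^ m)
        rw [hj] at this; exact_mod_cast this
      have h2 : (p : ℤ) ^ 2 ∣ (p : ℤ) := by
        have := dvd_sub (dvd_trans (pow_dvd_pow _ (by omega : 2 ≤ j)) h') hS
        simpa using this
      have h3 : p ^ 2 ∣ p := by exact_mod_cast h2
      have := Nat.le_of_dvd hp.out.pos h3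
      have := hp.out.two_le
      nlinarith
    rw [hj]
    push_cast
    interval_cases j
    · simp
    · simpa using hpt

/-- An abelian subgroup is cyclic. -/
theorem exists_eq_zpowers_of_comm (hP : IsPGroup p P)
    (huniq : ∀ a x : P, a ≠ 1 → x ^ p = 1 → x ∈ Subgroup.zpowers a) (A : Subgroup P)
    (hA : ∀ u ∈ A, ∀ v ∈ A, u * v = v * u) : ∃ a ∈ A, A = Subgroup.zpowers a := by
  haveI := Fintype.ofFinite A
  obtain ⟨⟨a, haA⟩, hmax⟩ := Finite.exists_max (fun u : A => orderOf (u : P))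
  refine ⟨a, haA, le_antisymm (fun y hy => ?_) (Subgroup.zpowers_le.mpr haA)⟩
  obtain ⟨k, hk⟩ := hP y
  have hex : ∃ k, y ^ p ^ k ∈ Subgroup.zpowers a := ⟨k, hk ▸ one_mem _⟩
  classical
  by_contra hyA
  obtain ⟨k', hk'⟩ : ∃ k', Nat.find hex = k' + 1 := by
    refine Nat.exists_eq_succ_of_ne_zero fun h0 => hyA ?_
    have := Nat.find_spec hex
    rwa [h0, pow_zero, pow_one] at this
  set x := y ^ p ^ k' with hxdef
  have hx : x ∉ Subgroup.zpowers a := Nat.find_min hex (by omega)
  have hxp : x ^ p ∈ Subgroup.zpowers a := by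
    have := Nat.find_spec hex
    rwa [hk', pow_succ, pow_mul] at this
  have hxA : x ∈ A := pow_mem hy _
  have hxa : Commute x a := hA _ hxA _ haA
  obtain ⟨t, ht⟩ := hxp
  simp only at ht
  by_cases ha1 : a = 1
  · have := hmax ⟨x, hxA⟩
    simp only [ha1, orderOf_one] at this
    have h1 : orderOf x = 1 := le_antisymm this (orderOf_pos x)
    exact hx (orderOf_eq_one_iff.mp h1 ▸ one_mem _)
  obtain ⟨m, hm⟩ : ∃ m, orderOf a = p ^ m := hP.exists_orderOf_eq_pow a
  by_cases hpt : (p : ℤ) ∣ t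
  · obtain ⟨s, rfl⟩ := hpt
    have h1 : (a ^ (-s) * x) ^ p = 1 := by
      rw [(hxa.symm.zpow_left _).mul_pow, ← ht, ← zpow_natCast, ← zpow_mul, ← zpow_add]
      convert zpow_zero a using 2
      ring
    exact hx ((Subgroup.mul_mem_cancel_left _ (Subgroup.zpow_mem_zpowers a _)).mp
      (huniq a _ ha1 h1))
  · have hle := hmax ⟨x, hxA⟩
    simp only at hle
    obtain ⟨l, hl⟩ : ∃ l, orderOf x = p ^ l := hP.exists_orderOf_eq_pow x
    have h1 : orderOf (x ^ p) = orderOf a := by
      rw [← ht]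
      have hcop : t.natAbs.Coprime (orderOf a) := by
        rw [hm]
        refine Nat.Coprime.pow_right _ ((hp.out.coprime_iff_not_dvd.mpr fun h => hpt ?_).symm)
        exact Int.natCast_dvd.mpr h
      rcases Int.natAbs_eq t with h | h <;> rw [h] <;> simp only [zpow_neg, zpow_natCast, orderOf_inv] <;>
        exact Nat.Coprime.orderOf_pow hcop.symm
    have hl0 : l ≠ 0 := by
      rintro rfl
      exact hx (orderOf_eq_one_iff.mp (by rw [hl, pow_zero]) ▸ one_mem _)
    rw [orderOf_pow' _ hp.out.ne_zero, hl, Nat.gcd_eq_right (dvd_pow_self p hl0),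
      Nat.div_eq_of_eq_mul_left hp.out.pos (by rw [← pow_succ]; congr 1; omega : p ^ l = p ^ (l - 1) * p), hm] at h1
    rw [hl, hm] at hle
    have := Nat.pow_right_injective hp.out.two_le h1
    have := (Nat.pow_le_pow_iff_right hp.out.one_lt).mp hle
    omega

/-- A `p`-group with a unique subgroup of order `p` is cyclic or generalized quaternion. -/
theorem cyclic_or_quaternion (hP : IsPGroup p P)
    (huniq : ∀ H K : Subgroup P, Nat.card H = p → Nat.card K = p → H = K) :
    IsCyclic P ∨ (p = 2 ∧ ∃ n : ℕ, Nonempty (P ≃* QuaternionGroup (2 ^ n))) := by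
  have hu : ∀ a x : P, a ≠ 1 → x ^ p = 1 → x ∈ Subgroup.zpowers a := by
    intro a x ha hx
    by_cases hx1 : x = 1
    · rw [hx1]; exact one_mem _
    obtain ⟨m, hm⟩ : ∃ m, orderOf a = p ^ m := hP.exists_orderOf_eq_pow a
    have hm0 : m ≠ 0 := by rintro rfl; exact ha (orderOf_eq_one_iff.mp (by rw [hm, pow_zero]))
    have hb : orderOf (a ^ p ^ (m - 1)) = p := by
      rw [orderOf_pow' _ (pow_ne_zero _ hp.out.ne_zero), hm,
        Nat.gcd_eq_right (pow_dvd_pow p (by omega)), Nat.pow_div (by omega) hp.out.pos,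
        show m - (m - 1) = 1 by omega, pow_one]
    have := huniq (Subgroup.zpowers x) (Subgroup.zpowers (a ^ p ^ (m - 1)))
      (by rw [Nat.card_zpowers]; exact orderOf_eq_prime hx hx1) (by rw [Nat.card_zpowers, hb])
    exact Subgroup.zpowers_le.mpr (Subgroup.pow_mem _ (Subgroup.mem_zpowers a) _)
      (this ▸ Subgroup.mem_zpowers x)
  obtain ⟨A, ⟨hAn, hAc⟩, hAmax⟩ := Set.Finite.exists_maximal
    (s := {A : Subgroup P | A.Normal ∧ ∀ u ∈ A, ∀ v ∈ A, u * v = v * u}) (Set.toFinite _)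
    ⟨⊥, inferInstance, by simp⟩
  obtain ⟨a, haA, hAa⟩ := exists_eq_zpowers_of_comm hP hu A hAc
  haveI := hAn
  -- self-centralizing
  have hcent : ∀ y : P, y * a = a * y → y ∈ A := by
    by_contra! hcon
    obtain ⟨y, hya, hyA⟩ := hcon
    set C := Subgroup.centralizer ({a} : Set P) with hC
    have hCeq : C = Subgroup.centralizer (A : Set P) := by
      refine le_antisymm ?_ (Subgroup.centralizer_le (by simp [haA]))
      intro c hc
      rw [Subgroup.mem_centralizer_iff, hAa]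
      rintro _ ⟨k, rfl⟩
      exact ((Commute.symm (Subgroup.mem_centralizer_singleton_iff.mp hc)).zpow_left k)
    haveI : C.Normal := hCeq ▸ inferInstance
    set π := QuotientGroup.mk' A
    haveI : (C.map π).Normal := Subgroup.Normal.map inferInstance π (QuotientGroup.mk'_surjective A)
    have hne : C.map π ≠ ⊥ := by
      intro h
      rw [Subgroup.map_eq_bot_iff, QuotientGroup.ker_mk'] at h
      exact hyA (h (Subgroup.mem_centralizer_singleton_iff.mpr hya))
    obtain ⟨c, hcC, hcZ, hc1⟩ := exists_mem_center_of_normal (hP.to_quotient A) _ hne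
    obtain ⟨w, hw, rfl⟩ := hcC
    have hwcomm : ∀ u ∈ A, Commute w u := fun u hu' =>
      (Subgroup.mem_centralizer_iff.mp (hCeq ▸ hw) u hu').symm
    set A' := A ⊔ Subgroup.zpowers w with hA'
    have hn : A'.Normal := by
      rw [← Subgroup.normalizer_eq_top_iff, eq_top_iff]
      intro g _
      rw [Subgroup.mem_normalizer_iff]
      have key : ∀ g : P, ∀ z ∈ A', g * z * g⁻¹ ∈ A' := by
        intro g z hz
        have hle : A' ≤ A'.comap (MulAut.conj g).toMonoidHom := by
          rw [hA', sup_le_iff, Subgroup.zpowers_le]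
          refine ⟨fun u hu' => le_sup_left (a := A) (hAn.conj_mem u hu' g), ?_⟩
          show g * w * g⁻¹ ∈ A'
          have h1 : (g * w * g⁻¹) * w⁻¹ ∈ A := by
            apply (QuotientGroup.eq_one_iff _).mp
            show π (g * w * g⁻¹ * w⁻¹) = 1
            rw [map_mul π, map_mul π, map_mul π, map_inv π, map_inv π,
              Subgroup.mem_center_iff.mp hcZ (π g)]
            group
          have h2 := mul_mem (le_sup_left (b := Subgroup.zpowers w) h1)
            (le_sup_right (a := A) (Subgroup.mem_zpowers w))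
          simpa [mul_assoc] using h2
        exact hle hz
      intro z
      refine ⟨key g z, fun hz => ?_⟩
      have := key g⁻¹ _ hz
      simpa [mul_assoc] using this
    have hc' : ∀ u ∈ A', ∀ v ∈ A', u * v = v * u := by
      have h0 : A' = Subgroup.closure (↑A ∪ {w}) := by
        rw [hA', Subgroup.closure_union, Subgroup.closure_eq, Subgroup.zpowers_eq_closure]
      intro u hu' v hv
      rw [h0] at hu' hv
      haveI := Subgroup.isMulCommutative_closure (k := (↑A ∪ {w} : Set P)) (by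
        rintro u (hu | rfl) v (hv | rfl)
        · exact hAc u hu v hv
        · exact (hwcomm u hu).symm
        · exact hwcomm v hv
        · rfl)
      exact congrArg Subtype.val (mul_comm' (⟨u, hu'⟩ : Subgroup.closure (↑A ∪ {w} : Set P)) ⟨v, hv⟩)
    have := hAmax ⟨hn, hc'⟩ le_sup_left
    exact hc1 ((QuotientGroup.eq_one_iff _).mpr (this (le_sup_right (a := A) (Subgroup.mem_zpowers w))))
  by_cases htop : A = ⊤
  · left
    refine ⟨a, fun y => show y ∈ Subgroup.zpowers a from ?_⟩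
    rw [← hAa, htop]
    exact Subgroup.mem_top y
  right
  obtain ⟨m, hm⟩ : ∃ m, orderOf a = p ^ m := hP.exists_orderOf_eq_pow a
  -- every element outside `A` squares into `A` and inverts `a`
  have hout : ∀ y : P, y ∉ A → p = 2 ∧ 2 ≤ m ∧ y * a * y⁻¹ = a⁻¹ ∧ y * y = a ^ p ^ (m - 1) := by
    intro y hy
    obtain ⟨r, hr⟩ : ∃ r : ℤ, y * a * y⁻¹ = a ^ r := by
      have := hAn.conj_mem a haA y
      rw [hAa] at this
      obtain ⟨r, hr⟩ := this
      exact ⟨r, hr.symm⟩
    classical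
    obtain ⟨k, hk⟩ := hP y
    have hex : ∃ k, y ^ p ^ k ∈ A := ⟨k, hk ▸ one_mem _⟩
    obtain ⟨k', hk'⟩ : ∃ k', Nat.find hex = k' + 1 := by
      refine Nat.exists_eq_succ_of_ne_zero fun h0 => hy ?_
      have := Nat.find_spec hex
      rwa [h0, pow_zero, pow_one] at this
    have hx : y ^ p ^ k' ∉ A := Nat.find_min hex (by omega)
    have hxp : (y ^ p ^ k') ^ p ∈ A := by
      have := Nat.find_spec hex
      rwa [hk', pow_succ, pow_mul] at this
    have hpow : ∀ k : ℕ, y ^ k * a * (y ^ k)⁻¹ = a ^ (r ^ k) := by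
      intro k
      induction k with
      | zero => simp
      | succ k ih =>
        calc y ^ (k + 1) * a * (y ^ (k + 1))⁻¹ = y * (y ^ k * a * (y ^ k)⁻¹) * y⁻¹ := by group
          _ = a ^ r ^ (k + 1) := by rw [ih, ← conj_zpow, hr, ← zpow_mul, pow_succ']
    have hnc : a ^ (r ^ p ^ k') ≠ a := by
      intro h
      refine hx (hcent _ ?_)
      rw [← hpow] at h
      exact mul_inv_eq_iff_eq_mul.mp h
    obtain ⟨hp2, hm2, hinv, hsq⟩ :=
      twist_key hP hu hm (fun h => hx (hAa ▸ h)) (hAa ▸ hxp) (hpow _) hnc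
    subst hp2
    rcases k' with _ | k''
    · simp only [pow_zero, pow_one] at hinv hsq
      exact ⟨rfl, hm2, hr.trans hinv, hsq⟩
    · exfalso
      rw [← mul_eq_one_iff_eq_inv, ← zpow_add_one, ← orderOf_dvd_iff_zpow_eq_one, hm] at hinv
      push_cast at hinv
      have h4 : (4 : ℤ) ∣ r ^ 2 ^ (k'' + 1) + 1 := dvd_trans ⟨2 ^ (m - 2), by
        rw [show (4 : ℤ) = 2 ^ 2 by norm_num, ← pow_add]; congr 1; omega⟩ hinv
      rw [show 2 ^ (k'' + 1) = 2 ^ k'' * 2 by rw [pow_succ], pow_mul] at h4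
      generalize r ^ 2 ^ k'' = s at h4
      rcases Int.even_or_odd s with ⟨v, rfl⟩ | ⟨v, rfl⟩ <;> ring_nf at h4 <;> omega
  obtain ⟨x, hx⟩ : ∃ x, x ∉ A := by
    by_contra! h
    exact htop (eq_top_iff.mpr fun y _ => h y)
  obtain ⟨hp2, hm2, hinv, hsq⟩ := hout x hx
  subst hp2
  refine ⟨rfl, m - 1, ?_⟩
  obtain ⟨e⟩ := Invol.nonempty_quaternionEquiv hinv (2 ^ (m - 1))
    (by rw [hm, ← pow_succ']; congr 1; omega) hsq (hAa ▸ hx)
  have hgen : Subgroup.closure ({x, a} : Set P) = ⊤ := by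
    rw [eq_top_iff]
    intro y _
    have hAle : A ≤ Subgroup.closure ({x, a} : Set P) := by
      rw [hAa, Subgroup.zpowers_le]; exact Subgroup.subset_closure (by simp)
    by_cases hy : y ∈ A
    · exact hAle hy
    · have hy' := (hout y hy).2.2.1
      have h1 : x⁻¹ * y ∈ A := hcent _ (by
        have hx' : x⁻¹ * a⁻¹ * x = a := by rw [← hinv]; group
        calc x⁻¹ * y * a = x⁻¹ * (y * a * y⁻¹) * y := by group
          _ = (x⁻¹ * a⁻¹ * x) * (x⁻¹ * y) := by rw [hy']; group
          _ = a * (x⁻¹ * y) := by rw [hx'])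
      have := mul_mem (Subgroup.subset_closure (by simp : x ∈ ({x, a} : Set P))) (hAle h1)
      simpa using this
  exact ⟨((MulEquiv.subgroupCongr hgen).trans Subgroup.topEquiv).symm.trans e.symm⟩

end Cfsg.Agent.InvChar
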