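import Mathlib
import Cfsg.Agent.Lib.Transfer.Residual

namespace Cfsg.Agent.InvChar

/-- A group with a cyclic subgroup `⟨x⟩` of order `2 ^ n` and index two containing all elements of order
`2 ^ n` has a 2-group of automorphisms. -/
theorem isPGroup_mulAut_of_cyclic_index_two {Y : Type*} [Group Y] (n : ℕ) (hn : 1 ≤ n) (x y : Y) (hx : orderOf x = 2 ^ n)
    (hgen : ∀ z : Y, z ∈ Subgroup.zpowers x ∨ ∃ c ∈ Subgroup.zpowers x, z = c * y)
    (hord : ∀ z : Y, orderOf z = 2 ^ n → z ∈ Subgroup.zpowers x)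
    (hy : y ∉ Subgroup.zpowers x) : IsPGroup 2 (MulAut Y) := by
  have haut : ∀ φ : MulAut Y, ∃ a : ℤ, φ x = x ^ a := fun φ => by
    obtain ⟨a, ha⟩ := Subgroup.mem_zpowers_iff.mp (hord (φ x) (by rw [MulEquiv.orderOf_eq, hx]))
    exact ⟨a, ha.symm⟩
  intro φ
  obtain ⟨a, ha⟩ := haut φ
  have hpow : ∀ k : ℕ, (φ ^ k) x = x ^ (a ^ k) := by
    intro k
    induction k with
    | zero => simp
    | succ k ih => rw [pow_succ', MulAut.mul_apply, ih, map_zpow, ha, ← zpow_mul, pow_succ']
  have haodd : IsUnit (a : ZMod (2 ^ n)) := by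
    obtain ⟨b, hb⟩ := haut φ⁻¹
    refine isUnit_iff_exists_inv.mpr ⟨(b : ZMod (2 ^ n)), ?_⟩
    have h : φ (φ⁻¹ x) = x := φ.apply_symm_apply x
    rw [hb, map_zpow, ha, ← zpow_mul] at h
    have h2 : x ^ (a * b) = x ^ (1 : ℤ) := by rw [zpow_one]; exact h
    rw [zpow_eq_zpow_iff_modEq, hx, ← ZMod.intCast_eq_intCast_iff] at h2
    simpa using h2
  have hfix : (φ ^ (2 ^ (n - 1))) x = x := by
    rw [hpow]
    conv_rhs => rw [← zpow_one x]
    rw [zpow_eq_zpow_iff_modEq, hx, ← ZMod.intCast_eq_intCast_iff]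
    obtain ⟨u, hu⟩ := haodd
    have := ZMod.pow_totient u
    rw [Nat.totient_prime_pow Nat.prime_two (by omega), show (2:ℕ) - 1 = 1 from rfl, mul_one] at this
    have := congrArg Units.val this
    push_cast
    rw [Units.val_pow_eq_pow_val, hu, Units.val_one] at this
    exact this
  set ψ := φ ^ (2 ^ (n - 1))
  obtain ⟨c, hc, hcy⟩ : ∃ c ∈ Subgroup.zpowers x, ψ y = c * y := by
    rcases hgen (ψ y) with h | h
    · exfalso
      obtain ⟨k, hk⟩ := Subgroup.mem_zpowers_iff.mp h
      apply hy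
      have : ψ (x ^ k) = ψ y := by rw [map_zpow, hfix, hk]
      exact Subgroup.mem_zpowers_iff.mpr ⟨k, ψ.injective this⟩
    · exact h
  have hψc : ∀ z ∈ Subgroup.zpowers x, ψ z = z := by
    intro z hz
    obtain ⟨k, rfl⟩ := Subgroup.mem_zpowers_iff.mp hz
    rw [map_zpow, hfix]
  have hψk : ∀ k : ℕ, (ψ ^ k) y = c ^ k * y := by
    intro k
    induction k with
    | zero => simp
    | succ k ih => rw [pow_succ', MulAut.mul_apply, ih, map_mul, map_pow, hψc c hc, hcy, ← mul_assoc, ← pow_succ]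
  have hψx : ∀ k : ℕ, ∀ z ∈ Subgroup.zpowers x, (ψ ^ k) z = z := by
    intro k z hz
    induction k with
    | zero => simp
    | succ k ih => rw [pow_succ', MulAut.mul_apply, ih, hψc z hz]
  refine ⟨(n - 1) + n, ?_⟩
  rw [pow_add, pow_mul]
  refine MulEquiv.ext fun z => ?_
  have hcn : c ^ (2 ^ n) = 1 := by
    obtain ⟨k, rfl⟩ := Subgroup.mem_zpowers_iff.mp hc
    rw [← zpow_natCast, ← zpow_mul, mul_comm, zpow_mul, zpow_natCast, ← hx, pow_orderOf_eq_one, one_zpow]
  rcases hgen z with h | ⟨d, hd, rfl⟩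
  · rw [hψx _ z h]; rfl
  · rw [map_mul, hψx _ d hd, hψk, hcn, one_mul]; rfl

/-- The automorphism group of a cyclic 2-group is a 2-group. -/
theorem isPGroup_mulAut_of_isCyclic {Y : Type*} [Group Y] [Finite Y] [IsCyclic Y] (h : IsPGroup 2 Y) :
    IsPGroup 2 (MulAut Y) := by
  obtain ⟨k, hk⟩ := h.exists_card_eq
  rcases Nat.eq_zero_or_pos k with rfl | hk0
  · refine IsPGroup.of_card (n := 0) ?_
    rw [IsCyclic.card_mulAut, hk]; decide
  · refine IsPGroup.of_card (n := k - 1) ?_
    rw [IsCyclic.card_mulAut, hk, Nat.totient_prime_pow Nat.prime_two hk0]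
    simp

/-- If a normal `p`-subgroup `F` contains its centralizer and `Aut F` is a `p`-group, then so is `G`. -/
theorem isPGroup_of_normal_selfCentralizing {G : Type*} [Group G] {p : ℕ} [Fact p.Prime] (F : Subgroup G) [F.Normal]
    (hF : IsPGroup p F) (hC : Subgroup.centralizer (F : Set G) ≤ F) (hA : IsPGroup p (MulAut F)) : IsPGroup p G := by
  intro g
  obtain ⟨a, ha⟩ := hA (MulAut.conjNormal g)
  rw [← map_pow] at ha
  have hm : g ^ p ^ a ∈ F := by
    refine hC ?_
    rw [Subgroup.mem_centralizer_iff]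
    intro f hf
    have := congrArg Subtype.val (DFunLike.congr_fun ha ⟨f, hf⟩)
    rw [MulAut.conjNormal_apply] at this
    exact (mul_inv_eq_iff_eq_mul.mp this).symm
  obtain ⟨b, hb⟩ := hF ⟨_, hm⟩
  refine ⟨a + b, ?_⟩
  rw [pow_add, pow_mul]
  exact congrArg Subtype.val hb

/-- If a normal subgroup `H` of a finite group is given, distinct Sylow subgroups of `G ⧸ H` come from
distinct Sylow subgroups of `G` whose intersection covers the intersection in the quotient. -/
theorem exists_sylow_inf_map {G : Type*} [Group G] [Finite G] {p : ℕ} [hp : Fact p.Prime] (H : Subgroup G) [H.Normal]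
    (S₁ T₁ : Sylow p (G ⧸ H)) (hne : S₁ ≠ T₁) :
    ∃ S T : Sylow p G, S ≠ T ∧
      (S₁ : Subgroup (G ⧸ H)) ⊓ T₁ ≤ (((S : Subgroup G) ⊓ T).map (QuotientGroup.mk' H)) := by
  classical
  set π := QuotientGroup.mk' H
  have hπ : Function.Surjective π := QuotientGroup.mk'_surjective H
  obtain ⟨S, rfl⟩ := Sylow.mapSurjective_surjective hπ p S₁
  obtain ⟨T, rfl⟩ := Sylow.mapSurjective_surjective hπ p T₁
  simp only [Sylow.coe_mapSurjective] at *
  set X := (S : Subgroup G).map π ⊓ (T : Subgroup G).map π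
  set K := X.comap π with hK
  -- `R ⊓ K` is a Sylow subgroup of `K` covering `X`
  have key : ∀ R : Sylow p G, X ≤ (R : Subgroup G).map π →
      X ≤ ((R : Subgroup G) ⊓ K).map π ∧ ¬ p ∣ ((R : Subgroup G) ⊓ K).relIndex K := by
    intro R hR
    have hcover : X ≤ ((R : Subgroup G) ⊓ K).map π := by
      intro x hx
      obtain ⟨r, hr, rfl⟩ := hR hx
      exact ⟨r, ⟨hr, hx⟩, rfl⟩
    refine ⟨hcover, ?_⟩
    have hsup : ((R : Subgroup G) ⊓ K) ⊔ H = K := by
      refine le_antisymm (sup_le inf_le_right fun h hh => ?_) fun k hk => ?_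
      · show π h ∈ X
        rw [show π h = 1 from (QuotientGroup.eq_one_iff h).mpr hh]
        exact one_mem X
      · obtain ⟨r, hr, he⟩ := hcover hk
        have : r⁻¹ * k ∈ H := (QuotientGroup.eq (s := H)).mp he
        have h2 := Subgroup.mul_mem_sup hr this
        rwa [mul_inv_cancel_left] at h2
    intro hd
    have hle : H ≤ K := le_sup_right.trans hsup.le
    set A := (R : Subgroup G) ⊓ K with hA
    have hsup' : H.relIndex K = H.relIndex A := by
      conv_lhs => rw [← hsup]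
      exact Subgroup.relIndex_sup_right _ _
    have e1 := Subgroup.relIndex_mul_relIndex (A ⊓ H) H K inf_le_right hle
    have e2 := Subgroup.relIndex_mul_relIndex (A ⊓ H) A K inf_le_left inf_le_right
    rw [Subgroup.inf_relIndex_left, ← hsup', ← e1, mul_comm] at e2
    have h3 : A.relIndex K = (A ⊓ H).relIndex H :=
      Nat.eq_of_mul_eq_mul_right (Nat.pos_of_ne_zero (H.subgroupOf K).index_ne_zero_of_finite)
        (by first | exact e2 | exact e2.symm)
    rw [h3, hA, inf_assoc, inf_eq_right.mpr hle] at hd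
    exact Cfsg.Agent.Transfer.not_dvd_relIndex_normal R H hd
  obtain ⟨hS1, hS2⟩ := key S inf_le_left
  obtain ⟨hT1, hT2⟩ := key T inf_le_right
  let SK : Sylow p K := IsPGroup.toSylow (P := ((S : Subgroup G) ⊓ K).subgroupOf K)
    ((S.2.to_le inf_le_left).comap_of_injective K.subtype Subtype.val_injective) hS2
  let TK : Sylow p K := IsPGroup.toSylow (P := ((T : Subgroup G) ⊓ K).subgroupOf K)
    ((T.2.to_le inf_le_left).comap_of_injective K.subtype Subtype.val_injective) hT2
  obtain ⟨k, hk⟩ := MulAction.exists_smul_eq ↥K TK SK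
  refine ⟨S, (k : G) • T, ?_, ?_⟩
  · intro h
    apply hne
    obtain ⟨t, ht, hte⟩ := (show π (k:G) ∈ (T : Subgroup G).map π from (k.2 : π (k:G) ∈ X).2)
    apply Sylow.ext
    simp only [Sylow.coe_mapSurjective]
    have hS : (S : Subgroup G) = ((k : G) • T : Sylow p G) := congrArg _ h
    refine Subgroup.eq_of_le_of_card_ge ?_ ?_
    · rintro _ ⟨s, hs, rfl⟩
      rw [hS, Sylow.coe_subgroup_smul] at hs
      obtain ⟨u, hu, rfl⟩ := hs
      refine ⟨t * u * t⁻¹, mul_mem (mul_mem ht hu) (inv_mem ht), ?_⟩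
      show π (t * u * t⁻¹) = π ((k:G) * u * (k:G)⁻¹)
      rw [map_mul, map_mul, map_mul, map_mul, map_inv, map_inv, hte]
    · have := (Sylow.mapSurjective hπ S).card_eq_multiplicity
      have h2 := (Sylow.mapSurjective hπ T).card_eq_multiplicity
      simp only [Sylow.coe_mapSurjective] at this h2
      exact (h2.trans this.symm).le
  · intro x hx
    obtain ⟨s, hs, rfl⟩ := hS1 hx
    refine ⟨s, ⟨hs.1, ?_⟩, rfl⟩
    have hsK : (⟨s, hs.2⟩ : K) ∈ (SK : Subgroup K) := hs
    rw [← hk, Sylow.coe_subgroup_smul] at hsK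
    obtain ⟨u, hu, hus⟩ := hsK
    rw [SetLike.mem_coe, Sylow.coe_subgroup_smul]
    exact ⟨(u : G), hu.1, congrArg Subtype.val hus⟩

end Cfsg.Agent.InvChar
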