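import Mathlib
import Cfsg.Prelude.Def_Characters
import Cfsg.Prelude.Def_Transfer
import Cfsg.Agent.Lib.Invol.Isolated
import Cfsg.Agent.Lib.InvChar.Aut2
import Cfsg.Agent.Lib.Transfer.Abelian
import Cfsg.Agent.Lib.Transfer.Residual
import Cfsg.Agent.Lib.CT.TI
import Cfsg.Agent.Lib.CT.Tables
import Cfsg.Agent.Lib.CT.Kernel

/-!
# The Brauer-Suzuki theorem for quaternion groups of order at least 16
-/

set_option autoImplicit false
set_option linter.unusedSectionVars false
set_option linter.style.haveILetI false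

namespace Cfsg.Agent.BSQuaternion

open Cfsg Cfsg.Agent
open scoped ComplexConjugate commutatorElement

universe u

theorem quaternion_commutator {m : ℕ} [NeZero m] (g h : QuaternionGroup m) :
    ∃ k : ℕ, g * h * g⁻¹ * h⁻¹ = (QuaternionGroup.a 1 : QuaternionGroup m) ^ (2 * k) := by
  have hform : ∀ j : ZMod (2 * m),
      ∃ k : ℕ, QuaternionGroup.a (2 * j) = (QuaternionGroup.a 1 : QuaternionGroup m) ^ (2 * k) := by
    intro j
    refine ⟨j.val, ?_⟩
    rw [QuaternionGroup.a_one_pow]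
    congr 1
    push_cast
    rw [ZMod.natCast_zmod_val]
  have hmm : (m : ZMod (2 * m)) + m = 0 := by
    rw [← two_mul]
    exact_mod_cast ZMod.natCast_self (2 * m)
  have inv_a : ∀ i : ZMod (2 * m),
      (QuaternionGroup.a i : QuaternionGroup m)⁻¹ = QuaternionGroup.a (-i) := fun _ => rfl
  have inv_xa : ∀ i : ZMod (2 * m),
      (QuaternionGroup.xa i : QuaternionGroup m)⁻¹ = QuaternionGroup.xa ((m : ZMod (2 * m)) + i) := fun _ => rfl
  rcases g with i | i <;> rcases h with j | j <;>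
    simp only [inv_a, inv_xa, QuaternionGroup.a_mul_a, QuaternionGroup.a_mul_xa,
      QuaternionGroup.xa_mul_a, QuaternionGroup.xa_mul_xa]
  · obtain ⟨k, hk⟩ := hform 0
    exact ⟨k, by rw [← hk]; congr 1; ring⟩
  · obtain ⟨k, hk⟩ := hform i
    exact ⟨k, by rw [← hk]; congr 1; linear_combination hmm⟩
  · obtain ⟨k, hk⟩ := hform (-j)
    exact ⟨k, by rw [← hk]; congr 1; linear_combination hmm⟩
  · obtain ⟨k, hk⟩ := hform (j - i)
    exact ⟨k, by rw [← hk]; congr 1; linear_combination hmm⟩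

/-- The facts about a quaternion Sylow subgroup used below. -/
structure Data {G : Type u} [Group G] (S : Sylow 2 G) (n : ℕ) (D : Subgroup G) (a : G) : Prop where
  mem : a ∈ (S : Subgroup G)
  ord : orderOf a = 2 ^ (n + 3)
  card : Nat.card (S : Subgroup G) = 2 ^ (n + 4)
  out : ∀ s ∈ (S : Subgroup G), s ∉ Subgroup.zpowers a →
    s * a * s⁻¹ = a⁻¹ ∧ orderOf s = 4 ∧ s * s = a ^ 2 ^ (n + 2)
  derived : D = Subgroup.zpowers (a ^ 2)

theorem exists_data {G : Type u} [Group G] [Finite G] (S : Sylow 2 G) (n : ℕ)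
    (e : (S : Subgroup G) ≃* QuaternionGroup (2 ^ (n + 2))) (D : Subgroup G)
    (hD : D = ⁅(S : Subgroup G), (S : Subgroup G)⁆) : ∃ a : G, Data S n D a := by
  haveI : NeZero (2 ^ (n + 2)) := ⟨by positivity⟩
  set φ : QuaternionGroup (2 ^ (n + 2)) →* G :=
    (S : Subgroup G).subtype.comp e.symm.toMonoidHom
  have hφ : Function.Injective φ := Subtype.val_injective.comp e.symm.injective
  have hrange : ∀ s ∈ (S : Subgroup G), ∃ q, φ q = s := fun s hs =>
    ⟨e ⟨s, hs⟩, by simp [φ]⟩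
  set a := φ (QuaternionGroup.a 1) with ha
  have hmem : ∀ q, φ q ∈ (S : Subgroup G) := fun q => (e.symm q).2
  have hA : ∀ i, φ (QuaternionGroup.a i) ∈ Subgroup.zpowers a := fun i => by
    refine ⟨(i.val : ℤ), ?_⟩
    simp only [zpow_natCast, ha]
    rw [← map_pow, QuaternionGroup.a_one_pow, ZMod.natCast_zmod_val]
  refine ⟨a, hmem _, ?_, ?_, ?_, ?_⟩
  · rw [ha, orderOf_injective φ hφ, QuaternionGroup.orderOf_a_one]
    ring
  · rw [Nat.card_congr e.toEquiv, Nat.card_eq_fintype_card, QuaternionGroup.card]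
    ring
  · intro s hs hsA
    obtain ⟨q, rfl⟩ := hrange s hs
    rcases q with i | i
    · exact absurd (hA i) hsA
    refine ⟨?_, ?_, ?_⟩
    · rw [ha, ← map_inv φ, ← map_inv φ, ← map_mul φ, ← map_mul φ]
      congr 1
      show QuaternionGroup.xa i * QuaternionGroup.a 1 *
        QuaternionGroup.xa (((2 ^ (n + 2) : ℕ) : ZMod (2 * 2 ^ (n + 2))) + i) = QuaternionGroup.a (-1)
      rw [QuaternionGroup.xa_mul_a, QuaternionGroup.xa_mul_xa]
      congr 1
      have h0 : ((2 ^ (n + 2) : ℕ) : ZMod (2 * 2 ^ (n + 2))) + (2 ^ (n + 2) : ℕ) = 0 := by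
        rw [← two_mul]
        exact_mod_cast ZMod.natCast_self (2 * 2 ^ (n + 2))
      linear_combination h0
    · rw [orderOf_injective φ hφ, QuaternionGroup.orderOf_xa]
    · rw [ha, ← map_mul φ, ← map_pow φ, QuaternionGroup.xa_mul_xa, QuaternionGroup.a_one_pow]
      congr 2
      ring
  · rw [hD]
    apply le_antisymm
    · rw [Subgroup.commutator_le]
      intro g hg h hh
      obtain ⟨q, rfl⟩ := hrange g hg
      obtain ⟨r, rfl⟩ := hrange h hh
      obtain ⟨k, hk⟩ := quaternion_commutator q r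
      rw [commutatorElement_def, ← map_inv φ, ← map_inv φ, ← map_mul φ, ← map_mul φ, ← map_mul φ,
        hk, map_pow φ, ← ha, pow_mul]
      exact Subgroup.pow_mem _ (Subgroup.mem_zpowers _) k
    · rw [Subgroup.zpowers_le]
      have h := Subgroup.commutator_mem_commutator (hmem (QuaternionGroup.xa 0))
        (hmem (QuaternionGroup.a (-1)))
      convert h using 1
      rw [commutatorElement_def, ← map_inv φ, ← map_inv φ, ← map_mul φ, ← map_mul φ, ← map_mul φ,
        ha, ← map_pow φ, QuaternionGroup.a_one_pow]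
      congr 1
      show _ = QuaternionGroup.xa 0 * QuaternionGroup.a (-1) *
        QuaternionGroup.xa (((2 ^ (n + 2) : ℕ) : ZMod (2 * 2 ^ (n + 2))) + 0) *
        QuaternionGroup.a (- -1)
      rw [QuaternionGroup.xa_mul_a, QuaternionGroup.xa_mul_xa, QuaternionGroup.a_mul_a]
      congr 1
      have h0 : ((2 ^ (n + 2) : ℕ) : ZMod (2 * 2 ^ (n + 2))) + (2 ^ (n + 2) : ℕ) = 0 := by
        rw [← two_mul]
        exact_mod_cast ZMod.natCast_self (2 * 2 ^ (n + 2))
      push_cast at h0 ⊢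
      linear_combination -h0

/-- Cyclic subgroups of equal order inside a cyclic subgroup are equal. -/
theorem zpowers_eq_of_orderOf_eq {G : Type u} [Group G] [Finite G] {w u v : G}
    (hu : u ∈ Subgroup.zpowers w) (hv : v ∈ Subgroup.zpowers w) (h : orderOf u = orderOf v) :
    Subgroup.zpowers u = Subgroup.zpowers v := by
  have key : ∀ x ∈ Subgroup.zpowers w,
      x ∈ Subgroup.zpowers (w ^ (orderOf w / orderOf x)) ∧
        orderOf (w ^ (orderOf w / orderOf x)) = orderOf x := by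
    intro x hx
    obtain ⟨i, rfl⟩ := (IsOfFinOrder.mem_powers_iff_mem_zpowers (isOfFinOrder_of_finite w)).mpr hx
    have hd : orderOf (w ^ i) ∣ orderOf w := orderOf_pow_dvd i
    obtain ⟨d, hd'⟩ := hd
    have hpos : 0 < orderOf (w ^ i) := orderOf_pos _
    have hdiv : orderOf w / orderOf (w ^ i) = d := Nat.div_eq_of_eq_mul_right hpos hd'
    have hdpos : 0 < d := Nat.pos_of_mul_pos_left (hd' ▸ orderOf_pos w)
    constructor
    · have h1 : orderOf w ∣ i * orderOf (w ^ i) := orderOf_dvd_of_pow_eq_one (by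
        rw [pow_mul, pow_orderOf_eq_one])
      rw [hd', mul_comm i] at h1
      obtain ⟨j, rfl⟩ := Nat.dvd_of_mul_dvd_mul_left hpos h1
      rw [hdiv]
      exact ⟨(j : ℤ), by simp only [zpow_natCast, ← pow_mul]⟩
    · rw [hdiv, orderOf_pow' _ hdpos.ne', hd', Nat.gcd_eq_right (dvd_mul_left d _),
        Nat.mul_div_cancel _ hdpos]
  have e : ∀ x ∈ Subgroup.zpowers w,
      Subgroup.zpowers x = Subgroup.zpowers (w ^ (orderOf w / orderOf x)) := fun x hx =>
    Subgroup.eq_of_le_of_card_ge (Subgroup.zpowers_le.mpr (key x hx).1)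
      (by rw [Nat.card_zpowers, Nat.card_zpowers, (key x hx).2])
  rw [e u hu, e v hv, h]

section Local

variable {G : Type u} [Group G] [Finite G] {S : Sylow 2 G} {n : ℕ} {D : Subgroup G} {a : G}

/-- The centralizer of `D`. -/
abbrev Cd (D : Subgroup G) : Subgroup G := Subgroup.centralizer (D : Set G)

theorem Data.ord_sq (h : Data S n D a) : orderOf (a ^ 2) = 2 ^ (n + 2) := by
  rw [orderOf_pow' _ two_ne_zero, h.ord, Nat.gcd_eq_right (dvd_pow_self 2 (by omega)),
    Nat.div_eq_of_eq_mul_left two_pos (pow_succ 2 (n + 2))]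

theorem Data.card_D (h : Data S n D a) : Nat.card D = 2 ^ (n + 2) := by
  rw [h.derived, Nat.card_zpowers, h.ord_sq]

theorem Data.mem_C_iff (h : Data S n D a) {x : G} : x ∈ Cd D ↔ x * a ^ 2 = a ^ 2 * x := by
  constructor
  · intro hx
    exact ((Subgroup.mem_centralizer_iff.mp hx) _ (h.derived ▸ Subgroup.mem_zpowers _)).symm
  · intro hx
    rw [Cd, Subgroup.mem_centralizer_iff, h.derived]
    rintro _ ⟨k, rfl⟩
    exact ((show Commute x (a ^ 2) from hx).zpow_right k).symm

theorem Data.A_le_C (h : Data S n D a) : Subgroup.zpowers a ≤ Cd D := by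
  rw [Subgroup.zpowers_le, h.mem_C_iff, ← pow_succ, ← pow_succ']

theorem Data.inter_C (h : Data S n D a) {s : G} (hs : s ∈ (S : Subgroup G)) (hsC : s ∈ Cd D) :
    s ∈ Subgroup.zpowers a := by
  by_contra hsA
  obtain ⟨hinv, -, -⟩ := h.out s hs hsA
  have h1 : s * a ^ 2 * s⁻¹ = (a ^ 2)⁻¹ := by rw [← conj_pow, hinv, inv_pow]
  rw [h.mem_C_iff.mp hsC, mul_inv_cancel_right, ← mul_eq_one_iff_eq_inv, ← pow_two] at h1
  have := Nat.le_of_dvd two_pos (orderOf_dvd_of_pow_eq_one h1)
  rw [h.ord_sq, pow_add] at this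
  have := Nat.one_le_two_pow (n := n)
  omega

theorem Data.S_le_normalizer (h : Data S n D a) :
    (S : Subgroup G) ≤ Subgroup.normalizer (D : Set G) := by
  have key : ∀ s ∈ (S : Subgroup G), ∀ z ∈ D, s * z * s⁻¹ ∈ D := by
    intro s hs z hz
    by_cases hsA : s ∈ Subgroup.zpowers a
    · rw [← (Subgroup.mem_centralizer_iff.mp (h.A_le_C hsA)) z hz, mul_inv_cancel_right]
      exact hz
    · obtain ⟨hinv, -, -⟩ := h.out s hs hsA
      rw [h.derived] at hz ⊢
      obtain ⟨k, rfl⟩ := hz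
      simp only
      rw [← conj_zpow, ← conj_pow, hinv, inv_pow, inv_zpow]
      exact inv_mem (Subgroup.zpow_mem_zpowers _ _)
  intro s hs
  rw [Subgroup.mem_normalizer_iff]
  intro z
  refine ⟨key s hs z, fun hz => ?_⟩
  have := key s⁻¹ (inv_mem hs) _ hz
  simpa [mul_assoc] using this

/-- A `2`-subgroup of the centralizer of `D` is cyclic and has order at most that of `a`. -/
theorem Data.two_subgroup_C (h : Data S n D a) {P : Subgroup G} (hP : IsPGroup 2 P)
    (hPC : P ≤ Cd D) : ∃ w : G, P ⊔ D ≤ Subgroup.zpowers w := by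
  have hPD : IsPGroup 2 ↥(P ⊔ D) := by
    refine IsPGroup.to_sup_of_normal_right' hP (IsPGroup.of_card (n := n + 2) h.card_D) ?_
    exact hPC.trans (Subgroup.centralizer_le_normalizer _)
  have hDC : D ≤ Cd D := by
    refine fun x hx => h.A_le_C ?_
    rw [h.derived] at hx
    exact (Subgroup.zpowers_le.mpr (Subgroup.pow_mem _ (Subgroup.mem_zpowers a) 2)) hx
  obtain ⟨T, hT⟩ := hPD.exists_le_sylow
  obtain ⟨g, hg⟩ := MulAction.exists_smul_eq G T S
  have hmem : ∀ x ∈ P ⊔ D, g * x * g⁻¹ ∈ (S : Subgroup G) := fun x hx => by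
    rw [← hg, ← MulAut.conj_apply, ← MulAut.smul_def]
    exact Subgroup.smul_mem_pointwise_smul x (MulAut.conj g) _ (hT hx)
  set d' := g * a ^ 2 * g⁻¹ with hd'
  have hd'S : d' ∈ (S : Subgroup G) :=
    hmem _ (le_sup_right (a := P) (h.derived ▸ Subgroup.mem_zpowers _))
  have hcomm : ∀ x ∈ P ⊔ D, Commute (g * x * g⁻¹) d' := by
    intro x hx
    have hxC : x ∈ Cd D := (sup_le hPC hDC) hx
    exact (show Commute x (a ^ 2) from h.mem_C_iff.mp hxC).map (MulAut.conj g).toMonoidHom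
  by_cases hd'A : d' ∈ Subgroup.zpowers a
  · refine ⟨g⁻¹ * a * g, fun x hx => ?_⟩
    have hmA : g * x * g⁻¹ ∈ Subgroup.zpowers a := by
      refine h.inter_C (hmem x hx) (h.mem_C_iff.mpr ?_)
      have hz : Subgroup.zpowers d' = Subgroup.zpowers (a ^ 2) :=
        zpowers_eq_of_orderOf_eq hd'A (Subgroup.pow_mem _ (Subgroup.mem_zpowers a) 2)
          (by rw [hd', Invol.orderOf_conj])
      obtain ⟨k, hk⟩ := (hz.symm ▸ Subgroup.mem_zpowers (a ^ 2) : a ^ 2 ∈ Subgroup.zpowers d')
      rw [← hk]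
      exact ((hcomm x hx).zpow_right k).eq
    obtain ⟨k, hk⟩ := hmA
    refine ⟨k, ?_⟩
    simp only at hk ⊢
    have e : g⁻¹ * a * g = g⁻¹ * a * g⁻¹⁻¹ := by group
    rw [e, conj_zpow, hk]
    group
  · -- `d'` outside the cyclic part: then its order is four and its centralizer is `⟨d'⟩`
    refine ⟨a ^ 2, fun x hx => ?_⟩
    obtain ⟨hinv, h4, hsq⟩ := h.out d' hd'S hd'A
    have hxd : g * x * g⁻¹ ∈ Subgroup.zpowers d' := by
      have hyS := hmem x hx
      by_cases hy : g * x * g⁻¹ ∈ Subgroup.zpowers a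
      · obtain ⟨k, hk⟩ := hy
        simp only at hk
        have h1 : d' * a ^ k * d'⁻¹ = a ^ k := by
          rw [hk, ← (hcomm x hx).eq, mul_inv_cancel_right]
        rw [← conj_zpow, hinv, inv_zpow', ← mul_inv_eq_one, ← zpow_neg, ← zpow_add,
          ← orderOf_dvd_iff_zpow_eq_one, h.ord] at h1
        have h2 : ((2 ^ (n + 2) : ℕ) : ℤ) ∣ k := by
          obtain ⟨c, hc⟩ := h1
          refine ⟨-c, ?_⟩
          rw [pow_succ] at hc
          push_cast at hc ⊢
          linarith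
        obtain ⟨c, rfl⟩ := h2
        rw [← hk, zpow_mul, zpow_natCast, ← hsq]
        exact Subgroup.zpow_mem _ (mul_mem (Subgroup.mem_zpowers d') (Subgroup.mem_zpowers d')) c
      · obtain ⟨hinvy, -, hsqy⟩ := h.out _ hyS hy
        have hprod : g * x * g⁻¹ * d' ∈ Subgroup.zpowers a := by
          by_contra hc
          obtain ⟨hinvp, -, -⟩ := h.out _ (mul_mem hyS hd'S) hc
          have e1 : g * x * g⁻¹ * d' * a * (g * x * g⁻¹ * d')⁻¹ = a := by
            calc g * x * g⁻¹ * d' * a * (g * x * g⁻¹ * d')⁻¹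
                = (g * x * g⁻¹) * (d' * a * d'⁻¹) * (g * x * g⁻¹)⁻¹ := by group
              _ = ((g * x * g⁻¹) * a * (g * x * g⁻¹)⁻¹)⁻¹ := by rw [hinv]; group
              _ = a := by rw [hinvy, inv_inv]
          rw [e1, ← mul_eq_one_iff_eq_inv, ← pow_two, ← orderOf_dvd_iff_pow_eq_one, h.ord] at hinvp
          have := Nat.le_of_dvd two_pos hinvp
          rw [pow_add] at this
          have := Nat.one_le_two_pow (n := n)
          omega
        obtain ⟨k, hk⟩ := hprod
        simp only at hk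
        have h1 : d' * a ^ k * d'⁻¹ = a ^ k := by
          have := ((hcomm x hx).mul_left (Commute.refl d'))
          rw [hk, ← this.eq, mul_inv_cancel_right]
        rw [← conj_zpow, hinv, inv_zpow', ← mul_inv_eq_one, ← zpow_neg, ← zpow_add,
          ← orderOf_dvd_iff_zpow_eq_one, h.ord] at h1
        have h2 : ((2 ^ (n + 2) : ℕ) : ℤ) ∣ k := by
          obtain ⟨c, hc⟩ := h1
          refine ⟨-c, ?_⟩
          rw [pow_succ] at hc
          push_cast at hc ⊢
          linarith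
        obtain ⟨c, rfl⟩ := h2
        have e : g * x * g⁻¹ = (a ^ 2 ^ (n + 2)) ^ c * d'⁻¹ := by
          rw [← zpow_natCast, ← zpow_mul, hk]; group
        rw [e, ← hsq]
        exact mul_mem (Subgroup.zpow_mem _ (mul_mem (Subgroup.mem_zpowers d') (Subgroup.mem_zpowers d')) c)
          (inv_mem (Subgroup.mem_zpowers d'))
    obtain ⟨k, hk⟩ := hxd
    simp only at hk
    refine ⟨k, ?_⟩
    rw [hd', conj_zpow] at hk
    exact mul_left_cancel (mul_right_cancel hk)

/-- The elements of `C(D)` of order divisible by `|D|` generate subgroups containing `D`. -/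
theorem Data.D_le_zpowers (h : Data S n D a) {y : G} (hy : y ∈ Cd D)
    (hd : Nat.card D ∣ orderOf y) : D ≤ Subgroup.zpowers y := by
  rw [h.card_D] at hd
  obtain ⟨c, hc⟩ := hd
  have hcpos : 0 < c := Nat.pos_of_mul_pos_left (hc ▸ orderOf_pos y)
  have hy2 : orderOf (y ^ c) = 2 ^ (n + 2) := by
    rw [orderOf_pow' _ hcpos.ne', hc, Nat.gcd_eq_right (dvd_mul_left _ _), Nat.mul_div_cancel _ hcpos]
  obtain ⟨w, hw⟩ := h.two_subgroup_C (P := Subgroup.zpowers (y ^ c))
    (IsPGroup.of_card (n := n + 2) (by rw [Nat.card_zpowers, hy2]))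
    (Subgroup.zpowers_le.mpr (Subgroup.pow_mem _ hy _))
  have := zpowers_eq_of_orderOf_eq (hw (le_sup_left (b := D) (Subgroup.mem_zpowers _)))
    (hw (le_sup_right (a := Subgroup.zpowers (y ^ c)) (h.derived ▸ Subgroup.mem_zpowers (a ^ 2))))
    (hy2.trans h.ord_sq.symm)
  rw [h.derived, ← this]
  exact Subgroup.zpowers_le.mpr (Subgroup.pow_mem _ (Subgroup.mem_zpowers y) c)

theorem Data.mem_normalizer (h : Data S n D a) {g y : G} (hy : y ∈ Cd D)
    (hd : Nat.card D ∣ orderOf y) (hgy : g * y * g⁻¹ ∈ Cd D) :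
    g ∈ Subgroup.normalizer (D : Set G) := by
  have h1 : a ^ 2 ∈ Subgroup.zpowers y :=
    h.D_le_zpowers hy hd (h.derived ▸ Subgroup.mem_zpowers _)
  have h2 : a ^ 2 ∈ Subgroup.zpowers (g * y * g⁻¹) :=
    h.D_le_zpowers hgy (by rwa [Invol.orderOf_conj]) (h.derived ▸ Subgroup.mem_zpowers _)
  have h3 : g * a ^ 2 * g⁻¹ ∈ Subgroup.zpowers (g * y * g⁻¹) := by
    obtain ⟨k, hk⟩ := h1
    exact ⟨k, by simp only at hk ⊢; rw [conj_zpow, hk]⟩
  have h4 := zpowers_eq_of_orderOf_eq h3 h2 (Invol.orderOf_conj _ _)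
  rw [Subgroup.mem_normalizer_iff]
  intro z
  rw [h.derived]
  constructor
  · rintro ⟨k, rfl⟩
    rw [← conj_zpow, ← h4]
    exact Subgroup.zpow_mem_zpowers _ _
  · intro hz
    rw [← h4] at hz
    obtain ⟨k, hk⟩ := hz
    simp only at hk
    rw [conj_zpow] at hk
    exact ⟨k, mul_left_cancel (mul_right_cancel hk)⟩

theorem Data.exists_K (h : Data S n D a) :
    ∃ K : Subgroup G, Odd (Nat.card K) ∧ K ≤ Cd D ∧
      Subgroup.normalizer (D : Set G) ≤ Subgroup.normalizer (K : Set G) ∧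
      K ⊔ (S : Subgroup G) = Subgroup.normalizer (D : Set G) ∧
      K ⊔ ((S : Subgroup G) ⊓ Cd D) = Cd D ∧
      ((Cd D).subgroupOf (Subgroup.normalizer (D : Set G))).index = 2 ∧
      (∀ y ∈ Cd D, ∃ k ∈ K, ∃ j : ℕ, y = k * a ^ j) := by
  haveI : Fact (Nat.Prime 2) := ⟨Nat.prime_two⟩
  set C := Cd D with hC
  set N := Subgroup.normalizer (D : Set G) with hN
  -- `⟨a⟩` is a Sylow subgroup of `C`
  set A := (Subgroup.zpowers a).subgroupOf C with hA
  have hAcard : Nat.card A = 2 ^ (n + 3) := by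
    rw [Nat.card_congr (Subgroup.subgroupOfEquivOfLe h.A_le_C).toEquiv, Nat.card_zpowers, h.ord]
  obtain ⟨P, hP⟩ := (IsPGroup.of_card hAcard).exists_le_sylow
  have hPA : (P : Subgroup C) = A := by
    refine le_antisymm ?_ hP
    obtain ⟨w, hw⟩ := h.two_subgroup_C (P := (P : Subgroup C).map C.subtype) (P.2.map _)
      (Subgroup.map_subtype_le _)
    intro x hx
    have hxw : (x : G) ∈ Subgroup.zpowers w :=
      hw (le_sup_left (b := D) ⟨x, hx, rfl⟩)
    have haw : a ∈ Subgroup.zpowers w :=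
      hw (le_sup_left (b := D) ⟨⟨a, h.A_le_C (Subgroup.mem_zpowers a)⟩, hP (Subgroup.mem_zpowers a), rfl⟩)
    -- the image of `P` is contained in a conjugate of `S`, so `|P| ≤ |S|`, and it is not all of it
    obtain ⟨m, hm⟩ := P.2.exists_card_eq
    have hle : orderOf (x : G) ∣ 2 ^ (n + 3) := by
      by_contra hno
      obtain ⟨l, hl⟩ : ∃ l, orderOf (x : G) = 2 ^ l := by
        obtain ⟨l, hl⟩ := (Subgroup.orderOf_mk x hx) ▸ P.2.exists_orderOf_eq_pow ⟨x, hx⟩
        exact ⟨l, by rw [Subgroup.orderOf_coe]; exact hl⟩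
      have hl4 : n + 4 ≤ l := by
        by_contra h'
        exact hno (hl ▸ pow_dvd_pow 2 (by omega))
      have hxp : IsPGroup 2 (Subgroup.zpowers (x : G)) :=
        IsPGroup.of_card (n := l) (by rw [Nat.card_zpowers, hl])
      obtain ⟨T, hT⟩ := hxp.exists_le_sylow
      obtain ⟨g, hg⟩ := MulAction.exists_smul_eq G T S
      have hy : g * (x : G) * g⁻¹ ∈ (S : Subgroup G) := by
        rw [← hg, ← MulAut.conj_apply, ← MulAut.smul_def]
        exact Subgroup.smul_mem_pointwise_smul _ (MulAut.conj g) _ (hT (Subgroup.mem_zpowers _))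
      by_cases hyA : g * (x : G) * g⁻¹ ∈ Subgroup.zpowers a
      · have := orderOf_dvd_natCard (⟨_, hyA⟩ : Subgroup.zpowers a)
        rw [Subgroup.orderOf_mk, Invol.orderOf_conj, Nat.card_zpowers, h.ord] at this
        exact hno this
      · have := (h.out _ hy hyA).2.1
        rw [Invol.orderOf_conj, hl] at this
        have : 2 ^ (n + 4) ≤ 4 := le_of_le_of_eq (Nat.pow_le_pow_right two_pos hl4) this
        rw [pow_add] at this
        have := Nat.one_le_two_pow (n := n)
        omega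
    have hww : w ^ (orderOf w / 2 ^ (n + 3)) ∈ Subgroup.zpowers w :=
      Subgroup.pow_mem _ (Subgroup.mem_zpowers w) _
    show (x : G) ∈ Subgroup.zpowers a
    obtain ⟨c, hc⟩ := hle
    obtain ⟨i, rfl⟩ := (IsOfFinOrder.mem_powers_iff_mem_zpowers (isOfFinOrder_of_finite w)).mpr haw
    simp only at hc haw ⊢
    have hordw : 2 ^ (n + 3) ∣ orderOf w := h.ord ▸ orderOf_pow_dvd i
    obtain ⟨d, hd⟩ := hordw
    have hdpos : 0 < d := Nat.pos_of_mul_pos_left (hd ▸ orderOf_pos w)
    have hwd : orderOf (w ^ d) = 2 ^ (n + 3) := by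
      rw [orderOf_pow' _ hdpos.ne', hd, Nat.gcd_eq_right (dvd_mul_left _ _), Nat.mul_div_cancel _ hdpos]
    rw [zpowers_eq_of_orderOf_eq (Subgroup.pow_mem _ (Subgroup.mem_zpowers w) i)
      (Subgroup.pow_mem _ (Subgroup.mem_zpowers w) d) (h.ord.trans hwd.symm)]
    obtain ⟨j, hj⟩ := (IsOfFinOrder.mem_powers_iff_mem_zpowers (isOfFinOrder_of_finite w)).mpr hxw
    simp only at hj
    have : orderOf w ∣ j * 2 ^ (n + 3) := orderOf_dvd_of_pow_eq_one (by
      rw [pow_mul, hj, hc, pow_mul, pow_orderOf_eq_one, one_pow])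
    rw [hd, mul_comm j] at this
    obtain ⟨q, rfl⟩ := Nat.dvd_of_mul_dvd_mul_left (by positivity) this
    rw [← hj, pow_mul]
    exact Subgroup.pow_mem _ (Subgroup.mem_zpowers _) q
  have hPcyc : IsCyclic (P : Subgroup C) := by
    rw [hPA, hA]
    exact isCyclic_of_surjective (Subgroup.subgroupOfEquivOfLe h.A_le_C).symm.toMonoidHom
      (Subgroup.subgroupOfEquivOfLe h.A_le_C).symm.surjective
  have hCeven : 2 ∣ Nat.card C := by
    refine dvd_trans (dvd_pow_self 2 (by omega : n + 3 ≠ 0)) ?_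
    rw [← hAcard]
    exact Subgroup.card_subgroup_dvd_card A
  set M := (MonoidHom.transferSylow P
    (hPcyc.normalizer_le_centralizer ((Nat.minFac_eq_two_iff _).mpr hCeven))).ker with hM
  have hMc : M.IsComplement' (P : Subgroup C) := MonoidHom.ker_transferSylow_isComplement' P _
  have hMn : M.Normal := MonoidHom.normal_ker _
  have hMcard : ¬ 2 ∣ Nat.card M := by rw [← hMc.index_eq_card]; exact P.not_dvd_index
  have hMidx : M.index = 2 ^ (n + 3) := by rw [hMc.symm.index_eq_card, hPA, hAcard]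
  -- the odd order elements of `C`
  have hodd : ∀ y : C, Odd (orderOf y) → y ∈ M := by
    intro y hy
    have h1 : y ^ M.index ∈ M := Subgroup.pow_index_mem M y
    obtain ⟨u, hu⟩ : ∃ u : ℤ, ∃ v : ℤ, u * (M.index : ℤ) + v * (orderOf y : ℤ) = 1 := by
      refine ⟨_, _, (Int.isCoprime_iff_gcd_eq_one.mpr ?_).choose_spec.choose_spec⟩
      rw [Int.gcd_natCast_natCast, hMidx]
      exact Nat.Coprime.pow_left _ ((Nat.coprime_two_left).mpr hy)
    obtain ⟨v, huv⟩ := hu
    have : y = (y ^ M.index) ^ u := by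
      conv_lhs => rw [← zpow_one y, ← huv, zpow_add, mul_comm v, zpow_mul _ (orderOf y : ℤ),
        zpow_natCast, pow_orderOf_eq_one, one_zpow, mul_one]
      rw [← zpow_natCast, ← zpow_mul, mul_comm]
    rw [this]; exact zpow_mem h1 u
  set K := M.map C.subtype with hK
  have hKC : K ≤ C := Subgroup.map_subtype_le M
  have hKcard : Odd (Nat.card K) := by
    rw [hK, Subgroup.card_map_of_injective Subtype.val_injective, ← Nat.not_even_iff_odd,
      even_iff_two_dvd]
    exact hMcard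
  have hCN : C ≤ N := Subgroup.centralizer_le_normalizer _
  have hconjC : ∀ g ∈ N, ∀ y ∈ C, g * y * g⁻¹ ∈ C := by
    intro g hg y hy
    rw [hC, Cd, Subgroup.mem_centralizer_iff]
    intro z hz
    have hz' : g⁻¹ * z * g ∈ D := by
      have := (Subgroup.mem_normalizer_iff.mp hg (g⁻¹ * z * g)).mpr
      simpa [mul_assoc] using this (by simpa [mul_assoc] using hz)
    have := Subgroup.mem_centralizer_iff.mp hy _ hz'
    calc z * (g * y * g⁻¹) = g * ((g⁻¹ * z * g) * y) * g⁻¹ := by group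
      _ = g * y * g⁻¹ * z := by rw [this]; group
  have hKN : N ≤ Subgroup.normalizer (K : Set G) := by
    have key : ∀ g ∈ N, ∀ k ∈ K, g * k * g⁻¹ ∈ K := by
      rintro g hg _ ⟨k, hk, rfl⟩
      refine ⟨⟨_, hconjC g hg _ k.2⟩, hodd _ ?_, rfl⟩
      rw [Subgroup.orderOf_mk, Invol.orderOf_conj, ← Nat.not_even_iff_odd, even_iff_two_dvd]
      intro h2
      apply hMcard
      have := orderOf_dvd_natCard (⟨k, hk⟩ : M)
      rw [Subgroup.orderOf_mk] at this
      exact dvd_trans (by simpa [Subgroup.orderOf_coe] using h2) this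
    intro g hg
    rw [Subgroup.mem_normalizer_iff]
    intro z
    refine ⟨key g hg z, fun hz => ?_⟩
    have := key g⁻¹ (inv_mem hg) _ hz
    simpa [mul_assoc] using this
  have hdecomp : ∀ y ∈ C, ∃ k ∈ K, ∃ j : ℕ, y = k * a ^ j := by
    intro y hy
    obtain ⟨⟨m, p⟩, hmp⟩ := (hMc.existsUnique ⟨y, hy⟩).exists
    have hp : ((p : C) : G) ∈ Subgroup.zpowers a := by
      obtain ⟨p0, hp0⟩ := p
      rw [SetLike.mem_coe, hPA] at hp0
      exact hp0
    obtain ⟨j, hj⟩ := (IsOfFinOrder.mem_powers_iff_mem_zpowers (isOfFinOrder_of_finite a)).mpr hp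
    refine ⟨_, ⟨m, m.2, rfl⟩, j, ?_⟩
    simp only at hj hmp
    rw [hj]
    exact (congrArg Subtype.val hmp).symm
  have hsupC : K ⊔ ((S : Subgroup G) ⊓ C) = C := by
    refine le_antisymm (sup_le hKC inf_le_right) fun y hy => ?_
    obtain ⟨k, hk, j, rfl⟩ := hdecomp y hy
    exact mul_mem (le_sup_left (b := (S : Subgroup G) ⊓ C) hk) (le_sup_right (a := K)
      ⟨Subgroup.pow_mem _ h.mem j, Subgroup.pow_mem _ (h.A_le_C (Subgroup.mem_zpowers a)) j⟩)
  have hSN := h.S_le_normalizer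
  -- `N / C` is a `2`-group
  set C' := C.subgroupOf N with hC'
  haveI hC'n : C'.Normal := ⟨fun y hy g => hconjC g g.2 y hy⟩
  have hquot : IsPGroup 2 (N ⧸ C') := by
    intro q
    obtain ⟨g, rfl⟩ := QuotientGroup.mk_surjective q
    haveI : IsCyclic D := by rw [h.derived]; infer_instance
    obtain ⟨k, hk⟩ := InvChar.isPGroup_mulAut_of_isCyclic (IsPGroup.of_card h.card_D)
      (D.normalizerMonoidHom g)
    rw [← map_pow] at hk
    refine ⟨k, ?_⟩
    rw [← QuotientGroup.mk_pow, QuotientGroup.eq_one_iff]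
    have : g ^ 2 ^ k ∈ D.normalizerMonoidHom.ker := hk
    rwa [Subgroup.normalizerMonoidHom_ker] at this
  set S' := (S : Subgroup G).subgroupOf N
  have hidx : C'.index = 2 ∧ C' ⊔ S' = ⊤ := by
    have htop : C' ⊔ S' = ⊤ := by
      rw [← Subgroup.index_eq_one]
      obtain ⟨k, hk⟩ := hquot.exists_card_eq
      have d1 : (C' ⊔ S').index ∣ 2 ^ k := hk ▸ Subgroup.index_dvd_of_le le_sup_left
      have d2 : (C' ⊔ S').index ∣ S'.index := Subgroup.index_dvd_of_le le_sup_right
      have d3 : S'.index ∣ (S : Subgroup G).index := Subgroup.relIndex_dvd_index_of_le hSN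
      obtain ⟨i, -, hi⟩ := (Nat.dvd_prime_pow Nat.prime_two).mp d1
      rcases i with _ | i
      · simpa using hi
      · exact absurd (dvd_trans (hi ▸ dvd_pow_self 2 (Nat.succ_ne_zero i)) (d2.trans d3))
          S.not_dvd_index
    refine ⟨?_, htop⟩
    rw [← Subgroup.relIndex_top_right, ← htop, sup_comm, Subgroup.relIndex_sup_right,
      Subgroup.relIndex_subgroupOf hSN]
    have e : C.relIndex (S : Subgroup G) = (Subgroup.zpowers a).relIndex (S : Subgroup G) := by
      rw [← Subgroup.inf_relIndex_right C]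
      congr 1
      exact le_antisymm (fun s hs => h.inter_C hs.2 hs.1)
        (le_inf h.A_le_C (Subgroup.zpowers_le.mpr h.mem))
    rw [e]
    have := Subgroup.card_mul_index ((Subgroup.zpowers a).subgroupOf (S : Subgroup G))
    rw [Nat.card_congr (Subgroup.subgroupOfEquivOfLe (Subgroup.zpowers_le.mpr h.mem)).toEquiv,
      Nat.card_zpowers, h.ord, h.card, pow_succ 2 (n + 3)] at this
    exact Nat.eq_of_mul_eq_mul_left (by positivity) this
  refine ⟨K, hKcard, hKC, hKN, ?_, hsupC, hidx.1, hdecomp⟩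
  refine le_antisymm (sup_le (hKC.trans hCN) hSN) fun g hg => ?_
  have hg' : (⟨g, hg⟩ : N) ∈ C' ⊔ S' := by rw [hidx.2]; exact Subgroup.mem_top _
  have hle : C' ⊔ S' ≤ (K ⊔ (S : Subgroup G)).subgroupOf N := by
    refine sup_le (fun y hy => ?_) (fun y hy => le_sup_right (a := K) hy)
    have : ((y : G)) ∈ K ⊔ ((S : Subgroup G) ⊓ C) := by rw [hsupC]; exact hy
    exact sup_le_sup_left inf_le_left K this
  exact hle hg'

end Local

end Cfsg.Agent.BSQuaternion
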