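import Mathlib
import Cfsg.Agent.Lib.InvChar.BSQuaternion

/-!
# The exceptional characters in the Brauer-Suzuki theorem
-/

set_option autoImplicit false
set_option linter.style.haveILetI false
set_option linter.unusedSectionVars false

namespace Cfsg.Agent.BSQuaternion

open Cfsg Cfsg.Agent
open scoped ComplexConjugate

universe u

variable {G : Type u} [Group G] [Finite G] {S : Sylow 2 G} {n : ℕ} {D : Subgroup G} {a : G}

/-- The set on which the exceptional class function lives. -/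
def Xset (D : Subgroup G) : Set G := {y | y ∈ Cd D ∧ Nat.card D ∣ orderOf y}

theorem Data.isTI (h : Data S n D a) : CT.IsTI (Subgroup.normalizer (D : Set G)) (Xset D) := by
  intro g hg s hs hgs
  exact absurd (h.mem_normalizer hs.1 hs.2 hgs.1) hg

theorem Data.a_sq_mem_X (h : Data S n D a) : a ^ 2 ∈ Xset D :=
  ⟨h.A_le_C (Subgroup.pow_mem _ (Subgroup.mem_zpowers a) 2), by rw [h.card_D, h.ord_sq]⟩

theorem Data.exists_lin (h : Data S n D a) :
    ∃ lam : Cd D →* ℂˣ, ((lam ⟨a, h.A_le_C (Subgroup.mem_zpowers a)⟩ : ℂˣ) : ℂ) = Complex.I ∧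
      (∀ y : Cd D, (lam y : ℂ) ≠ 1 → Nat.card D ∣ orderOf (y : G)) ∧
      (∀ g ∈ Subgroup.normalizer (D : Set G), g ∉ Cd D → ∀ y : Cd D,
        ∀ hgy : g * (y : G) * g⁻¹ ∈ Cd D, lam ⟨_, hgy⟩ = (lam y)⁻¹) := by
  haveI : Fact (Nat.Prime 2) := ⟨Nat.prime_two⟩
  obtain ⟨K, hKodd, hKC, hKN, -, -, hidx, hdec⟩ := h.exists_K
  set C := Cd D with hC
  set N := Subgroup.normalizer (D : Set G) with hN
  have hCN : C ≤ N := Subgroup.centralizer_le_normalizer _
  set K' := K.subgroupOf C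
  haveI hKn : K'.Normal := ⟨fun k hk g =>
    (Subgroup.mem_normalizer_iff.mp (hKN (hCN g.2)) (k : G)).mp hk⟩
  set aC : C := ⟨a, h.A_le_C (Subgroup.mem_zpowers a)⟩ with haC
  set π := QuotientGroup.mk' K'
  have hgen : ∀ q : C ⧸ K', q ∈ Subgroup.zpowers (π aC) := by
    intro q
    obtain ⟨y, rfl⟩ := QuotientGroup.mk'_surjective K' q
    obtain ⟨k, hk, j, hj⟩ := hdec y y.2
    refine ⟨(j : ℤ), ?_⟩
    simp only [zpow_natCast]
    rw [← map_pow π]
    have hy : y = ⟨k, hKC hk⟩ * aC ^ j := Subtype.ext (by simpa [haC] using hj)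
    rw [hy, map_mul π]
    have h1 : π (⟨k, hKC hk⟩ : C) = 1 :=
      (QuotientGroup.eq_one_iff _).mpr (Subgroup.mem_subgroupOf.mpr hk)
    rw [h1, one_mul]
  have hord : orderOf (π aC) = 2 ^ (n + 3) := by
    apply Nat.dvd_antisymm
    · rw [← h.ord, ← Subgroup.orderOf_mk (H := C) a (h.A_le_C (Subgroup.mem_zpowers a))]
      exact orderOf_map_dvd π _
    · have h1 : π (aC ^ orderOf (π aC)) = 1 := by rw [map_pow π]; exact pow_orderOf_eq_one _
      have hmem : a ^ orderOf (π aC) ∈ K := by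
        have := (QuotientGroup.eq_one_iff _).mp h1
        rw [Subgroup.mem_subgroupOf] at this
        simpa [haC] using this
      have hdiv := orderOf_dvd_natCard (⟨_, hmem⟩ : K)
      rw [Subgroup.orderOf_mk] at hdiv
      have hdiv2 : orderOf (a ^ orderOf (π aC)) ∣ 2 ^ (n + 3) := h.ord ▸ orderOf_pow_dvd _
      have hcop : Nat.Coprime (Nat.card K) (2 ^ (n + 3)) :=
        Nat.Coprime.pow_right _ ((Nat.coprime_two_right).mpr hKodd)
      have := orderOf_eq_one_iff.mp (Nat.eq_one_of_dvd_coprimes hcop hdiv hdiv2)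
      rw [← h.ord]
      exact orderOf_dvd_of_pow_eq_one this
  set i : ℂˣ := Units.mk0 Complex.I Complex.I_ne_zero with hi
  have hi4 : orderOf i ∣ 4 := orderOf_dvd_of_pow_eq_one (Units.ext (by simp [hi, Complex.I_pow_four]))
  have hdvd : orderOf i ∣ orderOf (π aC) := by
    rw [hord]
    exact hi4.trans (by rw [show (4 : ℕ) = 2 ^ 2 by norm_num]; exact pow_dvd_pow 2 (by omega))
  set lam := (monoidHomOfForallMemZpowers hgen hdvd).comp π with hlam
  have hla : lam aC = i := by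
    rw [hlam, MonoidHom.comp_apply, monoidHomOfForallMemZpowers_apply_gen]
  have hlK : ∀ (k : G) (hk : k ∈ K), lam ⟨k, hKC hk⟩ = 1 := by
    intro k hk
    have h1 : π (⟨k, hKC hk⟩ : C) = 1 :=
      (QuotientGroup.eq_one_iff _).mpr (Subgroup.mem_subgroupOf.mpr hk)
    rw [hlam, MonoidHom.comp_apply, h1, map_one]
  refine ⟨lam, by rw [hla]; rfl, fun y hy => ?_, fun g hg hgC y hgy => ?_⟩
  · obtain ⟨q, hq⟩ := (IsOfFinOrder.mem_powers_iff_mem_zpowers
      (isOfFinOrder_of_finite (π aC))).mpr (hgen (π y))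
    simp only at hq
    have hly : lam y = i ^ q := by
      rw [hlam, MonoidHom.comp_apply, ← hq, map_pow, monoidHomOfForallMemZpowers_apply_gen]
    have hq4 : ¬ 4 ∣ q := by
      intro h4
      apply hy
      rw [hly, ← Units.val_one]
      exact congrArg Units.val (orderOf_dvd_iff_pow_eq_one.mp (hi4.trans h4))
    rw [h.card_D]
    refine dvd_trans ?_ ((Subgroup.orderOf_coe y).symm ▸ orderOf_map_dvd π y)
    rw [← hq, orderOf_pow, hord]
    obtain ⟨l, hl, hgcd⟩ := (Nat.dvd_prime_pow Nat.prime_two).mp (Nat.gcd_dvd_left (2 ^ (n + 3)) q)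
    rw [hgcd, Nat.pow_div hl two_pos]
    apply pow_dvd_pow
    have : l ≤ 1 := by
      by_contra hl'
      apply hq4
      have h2 : 2 ^ 2 ∣ Nat.gcd (2 ^ (n + 3)) q := hgcd ▸ pow_dvd_pow 2 (by omega)
      exact (h2.trans (Nat.gcd_dvd_right _ _))
    omega
  · -- a fixed element of `S` outside the cyclic part
    obtain ⟨s, hs, hsA⟩ : ∃ s ∈ (S : Subgroup G), s ∉ Subgroup.zpowers a := by
      by_contra! hcon
      have := Subgroup.card_le_of_le (hcon : (S : Subgroup G) ≤ _)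
      rw [h.card, Nat.card_zpowers, h.ord, pow_succ] at this
      have := Nat.one_le_two_pow (n := n + 3)
      omega
    have hsN : s ∈ N := h.S_le_normalizer hs
    have hsC : s ∉ C := fun hc => hsA (h.inter_C hs hc)
    have hinv := (h.out s hs hsA).1
    have hc : s⁻¹ * g ∈ C := by
      have := (Subgroup.mul_mem_iff_of_index_two hidx
        (a := (⟨s⁻¹, inv_mem hsN⟩ : N)) (b := ⟨g, hg⟩)).mpr ?_
      · exact Subgroup.mem_subgroupOf.mp this
      · simp only [Subgroup.mem_subgroupOf]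
        exact ⟨fun hh => absurd hh (fun hh => hsC (by simpa using inv_mem hh)),
          fun hh => absurd hh hgC⟩
    set c : C := ⟨_, hc⟩
    have hmem : ∀ w : C, s * (w : G) * s⁻¹ ∈ C := by
      intro w
      obtain ⟨k, hk, j, hj⟩ := hdec w w.2
      rw [hj, show s * (k * a ^ j) * s⁻¹ = (s * k * s⁻¹) * (s * a ^ j * s⁻¹) by group, ← conj_pow,
        hinv]
      exact mul_mem (hKC ((Subgroup.mem_normalizer_iff.mp (hKN hsN) k).mp hk))
        (Subgroup.pow_mem _ (inv_mem (h.A_le_C (Subgroup.mem_zpowers a))) _)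
    have hs_inv : ∀ w : C, lam ⟨_, hmem w⟩ = (lam w)⁻¹ := by
      intro w
      obtain ⟨k, hk, j, hj⟩ := hdec w w.2
      have hk' : s * k * s⁻¹ ∈ K := (Subgroup.mem_normalizer_iff.mp (hKN hsN) k).mp hk
      have e1 : (⟨_, hmem w⟩ : C) = ⟨_, hKC hk'⟩ * (aC⁻¹) ^ j := by
        apply Subtype.ext
        simp only [Subgroup.coe_mul, SubgroupClass.coe_pow, Subgroup.coe_inv, haC]
        rw [hj, show s * (k * a ^ j) * s⁻¹ = (s * k * s⁻¹) * (s * a ^ j * s⁻¹) by group, ← conj_pow,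
          hinv]
      have e2 : w = ⟨k, hKC hk⟩ * aC ^ j := Subtype.ext (by simpa [haC] using hj)
      rw [e1, map_mul, map_pow, map_inv, hlK _ hk', one_mul]
      conv_rhs => rw [e2, map_mul, map_pow, hlK _ hk, one_mul]
      rw [inv_pow]
    have e : (⟨_, hgy⟩ : C) = ⟨_, hmem (c * y * c⁻¹)⟩ := by
      apply Subtype.ext
      simp only [Subgroup.coe_mul, Subgroup.coe_inv, c]
      group
    rw [e, hs_inv, map_mul, map_mul, map_inv, mul_right_comm, mul_inv_cancel, one_mul]

/-- The exceptional generalized character of the normalizer of `D`. -/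
theorem Data.exists_theta [Fintype G] (h : Data S n D a)
    [Fintype (Subgroup.normalizer (D : Set G))] :
    ∃ θ : Subgroup.normalizer (D : Set G) → ℂ,
      IsGeneralizedCharacter (Subgroup.normalizer (D : Set G)) θ ∧
      (∀ x : Subgroup.normalizer (D : Set G), (x : G) ∉ Xset D → θ x = 0) ∧
      classInner θ θ = 3 ∧ classInner θ (fun _ => 1) = 1 ∧ θ 1 = 0 ∧
      θ ⟨a ^ 2, Subgroup.centralizer_le_normalizer _ h.a_sq_mem_X.1⟩ = 4 := by
  classical
  obtain ⟨lam, hla, hsupp, hconj⟩ := h.exists_lin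
  obtain ⟨K, -, -, -, -, -, hidx, -⟩ := h.exists_K
  have hCN : Cd D ≤ (Subgroup.normalizer (D : Set G)) := Subgroup.centralizer_le_normalizer _
  set C' := (Cd D).subgroupOf (Subgroup.normalizer (D : Set G)) with hC'
  haveI hC'n : C'.Normal := Subgroup.normal_of_index_eq_two hidx
  haveI := Fintype.ofFinite C'
  let ι : C' →* Cd D := (Subgroup.subgroupOfEquivOfLe hCN).toMonoidHom
  let l : C' →* ℂˣ := lam.comp ι
  let θ₀ : C' → ℂ := fun y => 2 - (l y : ℂ) - ((l y)⁻¹ : ℂˣ)
  have hlinv : ∀ g : (Subgroup.normalizer (D : Set G)), g ∉ C' → ∀ y : C', l ⟨g * y * g⁻¹, hC'n.conj_mem (y : (Subgroup.normalizer (D : Set G))) y.2 g⟩ = (l y)⁻¹ := by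
    intro g hg y
    exact hconj g g.2 hg (ι y) (hC'n.conj_mem (y : (Subgroup.normalizer (D : Set G))) y.2 g)
  have hlin : ∀ g : (Subgroup.normalizer (D : Set G)), g ∈ C' → ∀ y : C', l ⟨g * y * g⁻¹, hC'n.conj_mem (y : (Subgroup.normalizer (D : Set G))) y.2 g⟩ = l y := by
    intro g hg y
    have e : (⟨g * y * g⁻¹, hC'n.conj_mem (y : (Subgroup.normalizer (D : Set G))) y.2 g⟩ : C') = ⟨g, hg⟩ * y * (⟨g, hg⟩ : C')⁻¹ :=
      Subtype.ext rfl
    rw [e, map_mul, map_mul, map_inv, mul_right_comm, mul_inv_cancel, one_mul]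
  let μ : (Subgroup.normalizer (D : Set G)) →* ℂˣ := MonoidHom.mk' (fun g => if g ∈ C' then 1 else -1) (by
    intro x y
    by_cases hx : x ∈ C' <;> by_cases hy : y ∈ C' <;>
      simp [Subgroup.mul_mem_iff_of_index_two hidx, hx, hy])
  have hcardN : Nat.card (Subgroup.normalizer (D : Set G)) = 2 * Nat.card C' := by rw [← C'.card_mul_index, hidx, mul_comm]
  have hC0 : (Nat.card C' : ℂ) ≠ 0 := Nat.cast_ne_zero.mpr Nat.card_pos.ne'
  have hθeq : extendByZero C' θ₀ =
      ((fun g => (1 : ℂ)) + fun g => (μ g : ℂ)) - indFun C' (fun y => (l y : ℂ)) := by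
    funext g
    by_cases hg : g ∈ C'
    · obtain ⟨y, rfl⟩ : ∃ y : C', (y : (Subgroup.normalizer (D : Set G))) = g := ⟨⟨g, hg⟩, rfl⟩
      rw [CT.extendByZero_coe, Pi.sub_apply, Pi.add_apply, CT.indFun_apply_normal]
      have hterm : ∀ x : (Subgroup.normalizer (D : Set G)), CT.conjFun C' x (fun y => (l y : ℂ)) y =
          if x ∈ C' then (l y : ℂ) else ((l y)⁻¹ : ℂˣ) := by
        intro x
        simp only [CT.conjFun]
        split_ifs with hx
        · rw [hlin x hx]
        · rw [hlinv x hx]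
      have hμ : μ (y : (Subgroup.normalizer (D : Set G))) = 1 := if_pos y.2
      have hf1 : (Finset.univ.filter fun x : (Subgroup.normalizer (D : Set G)) => x ∈ C').card = Nat.card C' := by
        rw [← Fintype.card_subtype, ← Nat.card_eq_fintype_card]
      have hf2 : (Finset.univ.filter fun x : (Subgroup.normalizer (D : Set G)) => x ∉ C').card = Nat.card C' := by
        have := Finset.card_filter_add_card_filter_not (s := (Finset.univ : Finset (Subgroup.normalizer (D : Set G)))) (fun x : (Subgroup.normalizer (D : Set G)) => x ∈ C')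
        rw [hf1, Finset.card_univ, ← Nat.card_eq_fintype_card (α := (Subgroup.normalizer (D : Set G))), hcardN] at this
        omega
      simp only [hterm, Finset.sum_ite, Finset.sum_const, nsmul_eq_mul, hf1, hf2, hμ, θ₀]
      field_simp
      push_cast
      ring
    · rw [CT.extendByZero_not_mem _ _ hg, Pi.sub_apply, Pi.add_apply,
        CT.indFun_eq_zero_of_not_mem C' _ hg]
      simp [μ, hg]
  refine ⟨extendByZero C' θ₀, ?_, ?_, ?_, ?_, ?_, ?_⟩
  · rw [hθeq]
    exact CT.isGen_sub (CT.isGen_add (CT.isGen_of_isCharacter CT.isCharacter_one)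
      (CT.isGen_of_isCharacter (CT.isCharacter_lin μ)))
      (CT.isGen_indFun C' (CT.isGen_of_isCharacter (CT.isCharacter_lin l)))
  · intro x hx
    by_cases hxC : x ∈ C'
    · rw [CT.extendByZero_mem C' θ₀ hxC]
      have : (l ⟨x, hxC⟩ : ℂ) = 1 := by
        by_contra hne
        exact hx ⟨hxC, hsupp (ι ⟨x, hxC⟩) hne⟩
      simp only [θ₀, Units.val_inv_eq_inv_val, this]
      norm_num
    · exact CT.extendByZero_not_mem C' θ₀ hxC
  · have hla' : (l ⟨⟨a, hCN (h.A_le_C (Subgroup.mem_zpowers a))⟩, h.A_le_C (Subgroup.mem_zpowers a)⟩ : ℂ) = Complex.I := hla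
    have hl1 : ∑ y : C', (l y : ℂ) = 0 := by
      refine sum_hom_units_eq_zero ((Units.coeHom ℂ).comp l) fun h1 => ?_
      have := DFunLike.congr_fun h1 ⟨⟨a, hCN (h.A_le_C (Subgroup.mem_zpowers a))⟩, h.A_le_C (Subgroup.mem_zpowers a)⟩
      simp only [MonoidHom.comp_apply, Units.coeHom_apply, MonoidHom.one_apply, hla'] at this
      simpa using congrArg Complex.re this
    have hl2 : ∑ y : C', (l y : ℂ) ^ 2 = 0 := by
      refine sum_hom_units_eq_zero ((Units.coeHom ℂ).comp ((powMonoidHom 2).comp l)) fun h1 => ?_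
      have := DFunLike.congr_fun h1 ⟨⟨a, hCN (h.A_le_C (Subgroup.mem_zpowers a))⟩, h.A_le_C (Subgroup.mem_zpowers a)⟩
      simp only [MonoidHom.comp_apply, powMonoidHom_apply, Units.coeHom_apply, Units.val_pow_eq_pow_val,
        MonoidHom.one_apply, hla', Complex.I_sq] at this
      norm_num at this
    have hconjl : ∀ y : C', conj (l y : ℂ) = ((l y)⁻¹ : ℂˣ) := fun y => by
      rw [← CT.char_inv_eq_conj (CT.isCharacter_lin l) y, map_inv]
    have hl1' : ∑ y : C', (((l y)⁻¹ : ℂˣ) : ℂ) = 0 := by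
      simp only [← hconjl, ← map_sum, hl1, map_zero]
    have hl2' : ∑ y : C', (((l y)⁻¹ : ℂˣ) : ℂ) ^ 2 = 0 := by
      simp only [← hconjl, ← map_pow, ← map_sum, hl2, map_zero]
    have hsq : ∀ y : C', θ₀ y * conj (θ₀ y) = 6 - 4 * (l y : ℂ) - 4 * ((l y)⁻¹ : ℂˣ) +
        (l y : ℂ) ^ 2 + (((l y)⁻¹ : ℂˣ) : ℂ) ^ 2 := by
      intro y
      have hm : (l y : ℂ) * (((l y)⁻¹ : ℂˣ) : ℂ) = 1 := by simp
      have hcc : conj ((((l y)⁻¹ : ℂˣ) : ℂ)) = (l y : ℂ) := by rw [← hconjl, Complex.conj_conj]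
      simp only [θ₀, map_sub, map_ofNat, hconjl, hcc]
      linear_combination 2 * hm
    rw [classInner, CT.sum_extendByZero]
    simp only [CT.extendByZero_coe, hsq, Finset.sum_add_distrib, Finset.sum_sub_distrib,
      ← Finset.mul_sum, hl1, hl1', hl2, hl2', Finset.sum_const, Finset.card_univ, nsmul_eq_mul,
      ← Nat.card_eq_fintype_card, hcardN]
    field_simp
    push_cast
    ring
  · have hla' : (l ⟨⟨a, hCN (h.A_le_C (Subgroup.mem_zpowers a))⟩, h.A_le_C (Subgroup.mem_zpowers a)⟩ : ℂ) = Complex.I := hla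
    have hl1 : ∑ y : C', (l y : ℂ) = 0 := by
      refine sum_hom_units_eq_zero ((Units.coeHom ℂ).comp l) fun h1 => ?_
      have := DFunLike.congr_fun h1 ⟨⟨a, hCN (h.A_le_C (Subgroup.mem_zpowers a))⟩, h.A_le_C (Subgroup.mem_zpowers a)⟩
      simp only [MonoidHom.comp_apply, Units.coeHom_apply, MonoidHom.one_apply, hla'] at this
      simpa using congrArg Complex.re this
    have hconjl : ∀ y : C', conj (l y : ℂ) = ((l y)⁻¹ : ℂˣ) := fun y => by
      rw [← CT.char_inv_eq_conj (CT.isCharacter_lin l) y, map_inv]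
    have hl1' : ∑ y : C', (((l y)⁻¹ : ℂˣ) : ℂ) = 0 := by
      simp only [← hconjl, ← map_sum, hl1, map_zero]
    rw [classInner]
    simp only [map_one]
    rw [CT.sum_extendByZero C' θ₀ (fun _ => 1)]
    simp only [θ₀, mul_one, Finset.sum_sub_distrib, hl1, hl1', Finset.sum_const, Finset.card_univ,
      nsmul_eq_mul, ← Nat.card_eq_fintype_card, hcardN]
    field_simp
    push_cast
    ring
  · rw [CT.extendByZero_mem C' θ₀ (one_mem C')]
    simp only [θ₀, show (⟨1, one_mem C'⟩ : C') = 1 from rfl, map_one, inv_one, Units.val_one]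
    norm_num
  · rw [CT.extendByZero_mem C' θ₀ (Subgroup.mem_subgroupOf.mpr h.a_sq_mem_X.1 :
      (⟨a ^ 2, Subgroup.centralizer_le_normalizer _ h.a_sq_mem_X.1⟩ :
        Subgroup.normalizer (D : Set G)) ∈ C')]
    have e : l ⟨⟨a ^ 2, Subgroup.centralizer_le_normalizer _ h.a_sq_mem_X.1⟩, Subgroup.mem_subgroupOf.mpr h.a_sq_mem_X.1⟩ = l ⟨⟨a, hCN (h.A_le_C (Subgroup.mem_zpowers a))⟩, h.A_le_C (Subgroup.mem_zpowers a)⟩ ^ 2 := by
      rw [← map_pow]
      rfl
    simp only [θ₀, e, Units.val_inv_eq_inv_val, Units.val_pow_eq_pow_val]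
    rw [show (l ⟨⟨a, hCN (h.A_le_C (Subgroup.mem_zpowers a))⟩, h.A_le_C (Subgroup.mem_zpowers a)⟩ : ℂ) = Complex.I from hla,
      Complex.I_sq]
    norm_num

/-- A generalized character of norm three with one trivial constituent and degree zero. -/
theorem exists_of_norm_three [Fintype G] {f : G → ℂ} (hf : IsGeneralizedCharacter G f)
    (h3 : classInner f f = 3) (h1 : classInner f (fun _ => 1) = 1) (h0 : f 1 = 0) :
    ∃ χ₁ χ₂ : IrrCharacter G, χ₁ ≠ CT.trivIrr G ∧ χ₂ ≠ CT.trivIrr G ∧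
      (χ₁ : G → ℂ) 1 = (χ₂ : G → ℂ) 1 + 1 ∧
      f = (fun _ => (1 : ℂ)) + (χ₂ : G → ℂ) - (χ₁ : G → ℂ) := by
  classical
  obtain ⟨hcf, hm⟩ := CT.isGen_iff.mp hf
  choose m hm using hm
  have hexp := CT.classFunction_eq_sum hcf
  simp only [hm] at hexp
  have ht : m (CT.trivIrr G) = 1 := by
    have e : ((CT.trivIrr G : IrrCharacter G) : G → ℂ) = fun _ => 1 := rfl
    have := hm (CT.trivIrr G)
    rw [e, h1] at this
    exact_mod_cast this.symm
  have hsum : ∑ χ : IrrCharacter G, m χ ^ 2 = 3 := by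
    have := CT.classInner_eq_sum (f := f) hcf
    rw [h3] at this
    simp only [hm, map_intCast, ← pow_two] at this
    exact_mod_cast this.symm
  set s := (Finset.univ.erase (CT.trivIrr G)).filter fun χ => m χ ≠ 0 with hs
  have hsplit : ∑ χ ∈ Finset.univ.erase (CT.trivIrr G), m χ ^ 2 = 2 := by
    rw [← Finset.add_sum_erase _ _ (Finset.mem_univ (CT.trivIrr G)), ht] at hsum
    linarith
  have hs2 : ∑ χ ∈ s, m χ ^ 2 = 2 := by
    rw [← hsplit, hs]
    refine Finset.sum_subset (Finset.filter_subset _ _) fun χ hχ hχs => ?_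
    have : m χ = 0 := by
      by_contra h0
      exact hχs (Finset.mem_filter.mpr ⟨hχ, h0⟩)
    rw [this]; ring
  have hpm : ∀ χ ∈ s, m χ = 1 ∨ m χ = -1 := by
    intro χ hχ
    have hle : m χ ^ 2 ≤ 2 := hs2 ▸ Finset.single_le_sum (fun i _ => sq_nonneg (m i)) hχ
    have hne : m χ ≠ 0 := (Finset.mem_filter.mp hχ).2
    have h1 : m χ ≤ 1 := by nlinarith
    have h2 : -1 ≤ m χ := by nlinarith
    omega
  have hcard : s.card = 2 := by
    have : ∑ χ ∈ s, m χ ^ 2 = ∑ χ ∈ s, (1 : ℤ) := Finset.sum_congr rfl fun χ hχ => by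
      rcases hpm χ hχ with h | h <;> rw [h] <;> norm_num
    rw [hs2, Finset.sum_const, nsmul_one] at this
    exact_mod_cast this.symm
  obtain ⟨x, y, hxy, hsxy⟩ := Finset.card_eq_two.mp hcard
  have hxs : x ∈ s := by rw [hsxy]; simp
  have hys : y ∈ s := by rw [hsxy]; simp
  have hval : ∀ g, f g = 1 + (m x : ℂ) * (x : G → ℂ) g + (m y : ℂ) * (y : G → ℂ) g := by
    intro g
    have := congrFun hexp g
    rw [Finset.sum_apply, ← Finset.add_sum_erase _ _ (Finset.mem_univ (CT.trivIrr G))] at this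
    rw [this, Pi.smul_apply, ht, CT.trivIrr_apply, smul_eq_mul, Int.cast_one, one_mul, add_assoc]
    congr 1
    rw [← Finset.sum_subset (s₁ := s) (Finset.filter_subset _ _) (fun χ hχ hχs => ?_),
      hsxy, Finset.sum_pair hxy]
    swap
    · have h0 : m χ = 0 := by
        by_contra h0
        exact hχs (Finset.mem_filter.mpr ⟨hχ, h0⟩)
      simp [h0]
    simp [smul_eq_mul]
  have hdx := CT.deg_eq (CT.isCharacter_of_isIrr x.2)
  have hdy := CT.deg_eq (CT.isCharacter_of_isIrr y.2)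
  have e0 := hval 1
  rw [h0, hdx, hdy] at e0
  have e0' : (0 : ℤ) = 1 + m x * (CT.deg (x : G → ℂ) : ℤ) + m y * (CT.deg (y : G → ℂ) : ℤ) := by
    exact_mod_cast e0
  have hposx := CT.deg_pos x.2
  have hposy := CT.deg_pos y.2
  have hxne : x ≠ CT.trivIrr G := (Finset.mem_erase.mp (Finset.mem_filter.mp hxs).1).1
  have hyne : y ≠ CT.trivIrr G := (Finset.mem_erase.mp (Finset.mem_filter.mp hys).1).1
  rcases hpm x hxs with hmx | hmx <;> rcases hpm y hys with hmy | hmy <;> rw [hmx, hmy] at e0'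
  · omega
  · refine ⟨y, x, hyne, hxne, ?_, funext fun g => ?_⟩
    · rw [hdx, hdy]; exact_mod_cast (by omega : CT.deg (y : G → ℂ) = CT.deg (x : G → ℂ) + 1)
    · rw [hval g, hmx, hmy]; push_cast; simp only [Pi.add_apply, Pi.sub_apply]; ring
  · refine ⟨x, y, hxne, hyne, ?_, funext fun g => ?_⟩
    · rw [hdx, hdy]; exact_mod_cast (by omega : CT.deg (x : G → ℂ) = CT.deg (y : G → ℂ) + 1)
    · rw [hval g, hmx, hmy]; push_cast; simp only [Pi.add_apply, Pi.sub_apply]; ring
  · omega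

/-- `S` has one involution, so every involution of `G` is isolated. -/
theorem Data.isolated (h : Data S n D a) {u : G} (hu : orderOf u = 2) :
    IsIsolatedInvolution u := by
  have huniq : ∀ s ∈ (S : Subgroup G), orderOf s = 2 → s = a ^ 2 ^ (n + 2) := by
    intro s hs h2
    by_cases hsA : s ∈ Subgroup.zpowers a
    · have hz : orderOf (a ^ 2 ^ (n + 2)) = 2 := by
        rw [orderOf_pow' _ (by positivity), h.ord, Nat.gcd_eq_right (pow_dvd_pow 2 (by omega)),
          Nat.pow_div (by omega) two_pos, show n + 3 - (n + 2) = 1 by omega, pow_one]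
      have h3 := zpowers_eq_of_orderOf_eq hsA (Subgroup.pow_mem _ (Subgroup.mem_zpowers a) _)
        (h2.trans hz.symm)
      obtain ⟨k, hk⟩ := (h3 ▸ Subgroup.mem_zpowers s : s ∈ Subgroup.zpowers (a ^ 2 ^ (n + 2)))
      simp only at hk
      rcases Int.even_or_odd k with ⟨j, rfl⟩ | ⟨j, rfl⟩
      · rw [← two_mul, zpow_mul, zpow_two, Invol.mul_self_of_orderOf_two hz, one_zpow] at hk
        exact absurd hk.symm (fun he => Invol.ne_one_of_orderOf_two h2 he)
      · rw [zpow_add_one, zpow_mul, zpow_two, Invol.mul_self_of_orderOf_two hz, one_zpow, one_mul] at hk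
        exact hk.symm
    · have := (h.out s hs hsA).2.1
      omega
  refine ⟨hu, fun g hc => ?_⟩
  set v := g * u * g⁻¹
  have hv : orderOf v = 2 := by rw [Invol.orderOf_conj, hu]
  have hu2 := Invol.mul_self_of_orderOf_two hu
  have hv2 := Invol.mul_self_of_orderOf_two hv
  have hp : IsPGroup 2 ↥(Subgroup.zpowers u ⊔ Subgroup.zpowers v) := by
    refine IsPGroup.to_sup_of_normal_right' (IsPGroup.of_card (n := 1) (by rw [Nat.card_zpowers, hu, pow_one]))
      (IsPGroup.of_card (n := 1) (by rw [Nat.card_zpowers, hv, pow_one])) ?_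
    rw [Subgroup.zpowers_le]
    refine Subgroup.centralizer_le_normalizer _ (Subgroup.mem_centralizer_iff.mpr ?_)
    rintro _ ⟨k, rfl⟩
    exact (hc.zpow_right k).eq.symm
  obtain ⟨T, hT⟩ := hp.exists_le_sylow
  obtain ⟨c, hcT⟩ := MulAction.exists_smul_eq G T S
  have hmem : ∀ x ∈ Subgroup.zpowers u ⊔ Subgroup.zpowers v, c * x * c⁻¹ ∈ (S : Subgroup G) :=
    fun x hx => by
      rw [← hcT, ← MulAut.conj_apply, ← MulAut.smul_def]
      exact Subgroup.smul_mem_pointwise_smul x (MulAut.conj c) _ (hT hx)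
  have e1 := huniq _ (hmem u (le_sup_left (b := Subgroup.zpowers v) (Subgroup.mem_zpowers u)))
    (by rw [Invol.orderOf_conj, hu])
  have e2 := huniq _ (hmem v (le_sup_right (a := Subgroup.zpowers u) (Subgroup.mem_zpowers v)))
    (by rw [Invol.orderOf_conj, hv])
  exact mul_left_cancel (mul_right_cancel (e2.trans e1.symm))

/-- The exceptional pair and its values. -/
theorem Data.exists_pair [Fintype G] (h : Data S n D a) :
    ∃ χ₁ χ₂ : IrrCharacter G, χ₁ ≠ CT.trivIrr G ∧ χ₂ ≠ CT.trivIrr G ∧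
      (χ₁ : G → ℂ) 1 = (χ₂ : G → ℂ) 1 + 1 ∧
      (∀ g : G, ¬ 4 ∣ orderOf g → (χ₁ : G → ℂ) g - (χ₂ : G → ℂ) g = 1) ∧
      (χ₁ : G → ℂ) (a ^ 2) - (χ₂ : G → ℂ) (a ^ 2) = -3 ∧
      ∀ u : G, orderOf u = 2 →
        (χ₁ : G → ℂ) u = (χ₁ : G → ℂ) 1 ∧ (χ₂ : G → ℂ) u = (χ₂ : G → ℂ) 1 := by
  classical
  set N := Subgroup.normalizer (D : Set G) with hN
  haveI := Fintype.ofFinite N
  obtain ⟨θ, hgen, hsupp, hnorm, hone, hθ1, hθa⟩ := h.exists_theta
  have hθcf := CT.isClassFunction_of_isGen hgen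
  set F := indFun N θ with hF
  have hFgen : IsGeneralizedCharacter G F := CT.isGen_indFun N hgen
  have hF1 : F 1 = 0 := by rw [hF, CT.indFun_one_eval, hθ1, mul_zero]
  have hF3 : classInner F F = 3 := by
    rw [hF, CT.classInner_indFun_TI h.isTI hθcf hsupp hsupp hθ1, hnorm]
  have hFone : classInner F (fun _ => 1) = 1 := by
    rw [hF, CT.frobenius_reciprocity N θ (χ := fun _ => (1 : ℂ)) (fun _ _ => rfl), hone]
  have hFzero : ∀ g : G, F g ≠ 0 → Nat.card D ∣ orderOf g := by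
    intro g hg
    by_contra hno
    apply hg
    rw [hF, indFun]
    refine mul_eq_zero_of_right _ (Finset.sum_eq_zero fun x _ => ?_)
    by_cases hx : x⁻¹ * g * x ∈ N
    · rw [CT.extendByZero_mem N θ hx]
      refine hsupp _ fun hX => hno ?_
      have h' := hX.2
      rw [← Invol.orderOf_conj x⁻¹ g, inv_inv]
      exact h'
    · exact CT.extendByZero_not_mem N θ hx
  have h4D : 4 ∣ Nat.card D := by
    rw [h.card_D, show (4 : ℕ) = 2 ^ 2 by norm_num]; exact pow_dvd_pow 2 (by omega)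
  obtain ⟨χ₁, χ₂, hne1, hne2, hdeg, hFeq⟩ := exists_of_norm_three hFgen hF3 hFone hF1
  have hdiff : ∀ g : G, ¬ 4 ∣ orderOf g → (χ₁ : G → ℂ) g - (χ₂ : G → ℂ) g = 1 := by
    intro g hg
    have h0 : F g = 0 := by
      by_contra hne
      exact hg (h4D.trans (hFzero g hne))
    rw [hFeq] at h0
    simp only [Pi.add_apply, Pi.sub_apply] at h0
    linear_combination -h0
  refine ⟨χ₁, χ₂, hne1, hne2, hdeg, hdiff, ?_, ?_⟩
  · have h4 : F (a ^ 2) = 4 := by
      rw [hF, ← hθa]
      refine CT.indFun_eq_on_TI h.isTI hθcf hsupp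
        (t := ⟨a ^ 2, Subgroup.centralizer_le_normalizer _ h.a_sq_mem_X.1⟩) h.a_sq_mem_X ?_
      intro hh
      have := congrArg Subtype.val hh
      simp only [Subgroup.coe_one] at this
      have h' := h.ord_sq
      rw [this, orderOf_one] at h'
      have := Nat.one_lt_two_pow (n := n + 2) (by omega)
      omega
    rw [hFeq] at h4
    simp only [Pi.add_apply, Pi.sub_apply] at h4
    linear_combination -h4
  intro u hu
  -- no product of two conjugates of `u` lies in the support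
  have hiso := h.isolated hu
  have hzero : ∀ c : G, F c ≠ 0 → ∑ χ : IrrCharacter G,
      (χ : G → ℂ) u * (χ : G → ℂ) u * conj ((χ : G → ℂ) c) / (χ : G → ℂ) 1 = 0 := by
    intro c hc
    have hemp : IsEmpty {p : G × G // IsConj u p.1 ∧ IsConj u p.2 ∧ p.1 * p.2 = c} := by
      refine ⟨fun ⟨⟨x, y⟩, hx, hy, hxy⟩ => ?_⟩
      simp only at hx hy hxy
      have hodd := Invol.isolated_odd_mul_conj hiso hx hy
      rw [hxy] at hodd
      have h2 : 2 ∣ orderOf c := (show 2 ∣ 4 by norm_num).trans (h4D.trans (hFzero c hc))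
      exact (Nat.not_even_iff_odd.mpr hodd) (even_iff_two_dvd.mpr h2)
    have := CT.class_mul_formula u u c
    rw [Nat.card_of_isEmpty, Nat.cast_zero, eq_comm, mul_eq_zero] at this
    refine this.resolve_left ?_
    have hpos : (Nat.card {x : G // IsConj u x} : ℂ) ≠ 0 := by
      haveI : Nonempty {x : G // IsConj u x} := ⟨⟨u, IsConj.refl u⟩⟩
      exact Nat.cast_ne_zero.mpr Nat.card_pos.ne'
    exact div_ne_zero (mul_ne_zero hpos hpos) CT.card_ne_zero
  have hrel : ∑ χ : IrrCharacter G,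
      (χ : G → ℂ) u * (χ : G → ℂ) u / (χ : G → ℂ) 1 * classInner F (χ : G → ℂ) = 0 := by
    calc _ = (Nat.card G : ℂ)⁻¹ * ∑ c : G, F c * ∑ χ : IrrCharacter G,
          (χ : G → ℂ) u * (χ : G → ℂ) u * conj ((χ : G → ℂ) c) / (χ : G → ℂ) 1 := by
          simp only [classInner, Finset.mul_sum]
          rw [Finset.sum_comm]
          refine Finset.sum_congr rfl fun c _ => Finset.sum_congr rfl fun χ _ => ?_
          ring
      _ = 0 := by
          rw [Finset.sum_eq_zero fun c _ => ?_, mul_zero]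
          by_cases hc : F c = 0
          · rw [hc, zero_mul]
          · rw [hzero c hc, mul_zero]
  have hne12 : χ₁ ≠ χ₂ := by
    intro he
    rw [he] at hdeg
    simp at hdeg
  have hinner : ∀ χ : IrrCharacter G, classInner F (χ : G → ℂ) =
      (if CT.trivIrr G = χ then 1 else 0) + (if χ₂ = χ then 1 else 0) - (if χ₁ = χ then 1 else 0) := by
    intro χ
    rw [hFeq, CT.classInner_sub_left, CT.classInner_add_left,
      show (fun _ : G => (1 : ℂ)) = (CT.trivIrr G : G → ℂ) from rfl, CT.irr_inner_subtype,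
      CT.irr_inner_subtype, CT.irr_inner_subtype]
  simp only [hinner, mul_add, mul_sub, Finset.sum_add_distrib, Finset.sum_sub_distrib, mul_ite,
    mul_one, mul_zero, Finset.sum_ite_eq, Finset.mem_univ, if_true, CT.trivIrr_apply] at hrel
  have hb := hdiff u (by rw [hu]; norm_num)
  have hp2 := CT.irr_one_ne_zero χ₂.2
  have hp1 : (χ₂ : G → ℂ) 1 + 1 ≠ 0 := hdeg ▸ CT.irr_one_ne_zero χ₁.2
  have hb1 : (χ₁ : G → ℂ) u = (χ₂ : G → ℂ) u + 1 := by linear_combination hb
  rw [hb1, hdeg] at hrel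
  have hkey : ((χ₂ : G → ℂ) u - (χ₂ : G → ℂ) 1) ^ 2 = 0 := by
    field_simp at hrel
    linear_combination hrel
  have h2 : (χ₂ : G → ℂ) u = (χ₂ : G → ℂ) 1 := sub_eq_zero.mp (pow_eq_zero_iff two_ne_zero |>.mp hkey)
  exact ⟨by rw [hb1, hdeg, h2], h2⟩

end Cfsg.Agent.BSQuaternion
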