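import Mathlib
import Cfsg.Agent.Lib.InvChar.BSQuaternionChar
import Cfsg.Agent.Lib.Basics.Cores

/-!
# The Brauer-Suzuki theorem for quaternion Sylow subgroups of order at least 16
-/

set_option autoImplicit false
set_option linter.style.haveILetI false
set_option linter.unusedSectionVars false

namespace Cfsg.Agent.BSQuaternion

open Cfsg Cfsg.Agent
open scoped commutatorElement

universe u

variable {G : Type u} [Group G] [Finite G] {S : Sylow 2 G} {n : ℕ} {D : Subgroup G} {a : G}

theorem kerChar_normal {χ : G → ℂ} (hχ : IsIrrCharacter G χ) : (CT.kerChar χ).Normal := by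
  refine ⟨fun x hx g => ?_⟩
  rw [CT.mem_kerChar_iff (CT.isCharacter_of_isIrr hχ)] at hx ⊢
  rw [CT.isClassFunction_of_isIrr hχ x g, hx]

theorem exists_involution (h : Data S n D a) : orderOf (a ^ 2 ^ (n + 2)) = 2 := by
  rw [orderOf_pow' _ (by positivity), h.ord, Nat.gcd_eq_right (pow_dvd_pow 2 (by omega)),
    Nat.pow_div (by omega) two_pos, show n + 3 - (n + 2) = 1 by omega, pow_one]

theorem exists_normal_even_nonabelian (h : Data S n D a) :
    ∃ M : Subgroup G, M.Normal ∧ Even (Nat.card M) ∧ ¬ commutator G ≤ M := by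
  haveI := Fintype.ofFinite G
  obtain ⟨χ₁, χ₂, -, -, hdeg, -, -, hinv⟩ := h.exists_pair
  have hc := CT.isCharacter_of_isIrr χ₁.2
  refine ⟨CT.kerChar (χ₁ : G → ℂ), kerChar_normal χ₁.2, ?_, fun hle => ?_⟩
  · have hz := exists_involution h
    rw [even_iff_two_dvd, ← hz,
      ← Subgroup.orderOf_mk (H := CT.kerChar (χ₁ : G → ℂ)) _
        ((CT.mem_kerChar_iff hc).mpr (hinv _ hz).1)]
    exact orderOf_dvd_natCard _
  · haveI := kerChar_normal χ₁.2
    obtain ⟨ψ, hψ, hψχ⟩ := CT.exists_quotient_irr χ₁.2 (CT.kerChar (χ₁ : G → ℂ))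
      (fun x hx => (CT.mem_kerChar_iff hc).mp hx)
    have hcomm : ∀ p q : G ⧸ CT.kerChar (χ₁ : G → ℂ), p * q = q * p := by
      intro p q
      obtain ⟨x, rfl⟩ := QuotientGroup.mk_surjective p
      obtain ⟨y, rfl⟩ := QuotientGroup.mk_surjective q
      rw [← QuotientGroup.mk_mul, ← QuotientGroup.mk_mul, QuotientGroup.eq]
      refine hle ?_
      have e : (x * y)⁻¹ * (y * x) = ⁅y⁻¹, x⁻¹⁆ := by rw [commutatorElement_def]; group
      rw [e, commutator_eq_closure]
      exact Subgroup.subset_closure ⟨_, _, rfl⟩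
    have h1 := CT.irr_degree_one_of_comm hcomm hψ
    have := hψχ 1
    rw [QuotientGroup.mk_one, h1, hdeg, CT.deg_eq (CT.isCharacter_of_isIrr χ₂.2)] at this
    have hpos := CT.deg_pos χ₂.2
    have : (1 : ℕ) = CT.deg (χ₂ : G → ℂ) + 1 := by exact_mod_cast this
    omega

theorem involutions_cyclic (h : Data S n D a) (Q : Sylow 2 ↥(Subgroup.closure {g : G | orderOf g = 2})) :
    IsCyclic Q := by
  haveI : Fact (Nat.Prime 2) := ⟨Nat.prime_two⟩
  haveI := Fintype.ofFinite G
  obtain ⟨χ₁, χ₂, -, -, hdeg, -, ha2, hinv⟩ := h.exists_pair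
  set M := CT.kerChar (χ₁ : G → ℂ) ⊓ CT.kerChar (χ₂ : G → ℂ)
  haveI := kerChar_normal χ₁.2
  haveI := kerChar_normal χ₂.2
  haveI : M.Normal := Subgroup.normal_inf_normal _ _
  have hWM : Subgroup.closure {g : G | orderOf g = 2} ≤ M := by
    rw [Subgroup.closure_le]
    intro u hu
    exact ⟨(CT.mem_kerChar_iff (CT.isCharacter_of_isIrr χ₁.2)).mpr (hinv u hu).1,
      (CT.mem_kerChar_iff (CT.isCharacter_of_isIrr χ₂.2)).mpr (hinv u hu).2⟩
  have hMS : ∀ s ∈ (S : Subgroup G), s ∈ M → s ∈ Subgroup.zpowers a := by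
    intro s hs hsM
    by_contra hsA
    have h1 : (a ^ 2)⁻¹ ∈ M := by
      have hh := mul_mem hsM ((inferInstance : M.Normal).conj_mem _ (inv_mem hsM) a)
      have e : s * (a * s⁻¹ * a⁻¹) = (a ^ 2)⁻¹ := by
        rw [← mul_assoc, ← mul_assoc, (h.out s hs hsA).1]; group
      rwa [e] at hh
    rw [inv_mem_iff] at h1
    rw [(CT.mem_kerChar_iff (CT.isCharacter_of_isIrr χ₁.2)).mp h1.1,
      (CT.mem_kerChar_iff (CT.isCharacter_of_isIrr χ₂.2)).mp h1.2, hdeg] at ha2
    norm_num at ha2
  have hQ : IsPGroup 2 ↥((Q : Subgroup (Subgroup.closure {g : G | orderOf g = 2})).map (Subgroup.closure {g : G | orderOf g = 2}).subtype) := Q.2.map _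
  obtain ⟨T, hT⟩ := hQ.exists_le_sylow
  obtain ⟨c, hcT⟩ := MulAction.exists_smul_eq G T S
  have hsub : (Q : Subgroup (Subgroup.closure {g : G | orderOf g = 2})).map (Subgroup.closure {g : G | orderOf g = 2}).subtype ≤ Subgroup.zpowers (c⁻¹ * a * c⁻¹⁻¹) := by
    intro x hx
    have hxW : x ∈ (Subgroup.closure {g : G | orderOf g = 2}) := Subgroup.map_subtype_le _ hx
    have hxS : c * x * c⁻¹ ∈ (S : Subgroup G) := by
      rw [← hcT, ← MulAut.conj_apply, ← MulAut.smul_def]
      exact Subgroup.smul_mem_pointwise_smul x (MulAut.conj c) _ (hT hx)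
    obtain ⟨k, hk⟩ := hMS _ hxS ((inferInstance : M.Normal).conj_mem _ (hWM hxW) c)
    refine ⟨k, ?_⟩
    simp only at hk ⊢
    rw [conj_zpow, hk]
    group
  haveI : IsCyclic ↥((Q : Subgroup (Subgroup.closure {g : G | orderOf g = 2})).map (Subgroup.closure {g : G | orderOf g = 2}).subtype) :=
    isCyclic_of_injective (Subgroup.inclusion hsub) (Subgroup.inclusion_injective _)
  exact ((Q : Subgroup (Subgroup.closure {g : G | orderOf g = 2})).equivMapOfInjective (Subgroup.closure {g : G | orderOf g = 2}).subtype Subtype.val_injective).isCyclic.mpr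
    inferInstance

theorem center_card_two (h : Data S n D a)
    (hO : ∀ N : Subgroup G, N.Normal → Odd (Nat.card N) → N = ⊥) :
    Nat.card (Subgroup.center G) = 2 := by
  haveI : Fact (Nat.Prime 2) := ⟨Nat.prime_two⟩
  set u := a ^ 2 ^ (n + 2) with hu
  have hu2 : orderOf u = 2 := exists_involution h
  set W := Subgroup.closure {g : G | orderOf g = 2} with hW
  haveI hWn : W.Normal := by
    refine ⟨fun x hx g => ?_⟩
    have : W ≤ W.comap (MulAut.conj g).toMonoidHom := by
      rw [hW, Subgroup.closure_le]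
      intro y hy
      exact Subgroup.subset_closure (show orderOf (g * y * g⁻¹) = 2 by rw [Invol.orderOf_conj]; exact hy)
    exact this hx
  have huW : u ∈ W := Subgroup.subset_closure hu2
  obtain ⟨Q₀⟩ := (inferInstance : Nonempty (Sylow 2 W))
  haveI hcyc : IsCyclic (Q₀ : Subgroup W) := involutions_cyclic h Q₀
  have hWeven : 2 ∣ Nat.card W := by
    have := orderOf_dvd_natCard (⟨u, huW⟩ : W)
    rwa [Subgroup.orderOf_mk, hu2] at this
  obtain ⟨Q, N₀, hN₀, hN₀Q⟩ := Transfer.hasNormalPComplement_of_normalizer_le Q₀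
    (hcyc.normalizer_le_centralizer ((Nat.minFac_eq_two_iff _).mpr hWeven))
  have hN₀odd : ¬ 2 ∣ Nat.card N₀ := by rw [← hN₀Q.index_eq_card]; exact Q.not_dvd_index
  have hN₀bot : N₀ = ⊥ := by
    have hle : N₀ ≤ pPrimeCore 2 W := by
      haveI := hN₀
      exact Basics.le_pPrimeCore (Nat.prime_two.coprime_iff_not_dvd.mpr hN₀odd).symm
    haveI : ((pPrimeCore 2 W).map W.subtype).Normal := ConjAct.normal_of_characteristic_of_normal
    have := hO _ this (by
      rw [Subgroup.card_map_of_injective Subtype.val_injective, ← Nat.not_even_iff_odd,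
        even_iff_two_dvd]
      exact Basics.not_dvd_card_pPrimeCore 2)
    rw [Subgroup.map_eq_bot_iff_of_injective _ Subtype.val_injective] at this
    exact le_bot_iff.mp (this ▸ hle)
  have hQtop : (Q : Subgroup W) = ⊤ := by
    refine Subgroup.eq_top_of_card_eq _ ?_
    rw [← hN₀Q.card_mul_card, hN₀bot, Subgroup.card_bot, one_mul]
  haveI hQcyc : IsCyclic (Q : Subgroup W) :=
    isCyclic_of_surjective (Sylow.equiv Q₀ Q).toMonoidHom (Sylow.equiv Q₀ Q).surjective
  haveI hWcyc : IsCyclic W :=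
    isCyclic_of_surjective (Q : Subgroup W).subtype (fun w => ⟨⟨w, hQtop ▸ Subgroup.mem_top w⟩, rfl⟩)
  have hWexp : ∀ w ∈ W, w * w = 1 := by
    intro w hw
    induction hw using Subgroup.closure_induction with
    | mem x hx => exact Invol.mul_self_of_orderOf_two hx
    | one => exact one_mul 1
    | mul x y hx hy ihx ihy =>
      have hc : Commute x y := congrArg Subtype.val
        (IsCyclic.isMulCommutative.is_comm.comm (⟨x, hx⟩ : W) ⟨y, hy⟩)
      rw [hc.symm.mul_mul_mul_comm, ihx, ihy, one_mul]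
    | inv x _ ih => rw [← mul_inv_rev, ih, inv_one]
  have hWcard : Nat.card W = 2 := by
    obtain ⟨w, hw⟩ := IsCyclic.exists_ofOrder_eq_natCard (α := W)
    have h1 : orderOf w ∣ 2 := orderOf_dvd_of_pow_eq_one (Subtype.ext (by
      rw [pow_two]; exact hWexp w w.2))
    rw [hw] at h1
    exact Nat.dvd_antisymm h1 hWeven
  have hWeq : Subgroup.zpowers u = W :=
    Subgroup.eq_of_le_of_card_ge (Subgroup.zpowers_le.mpr huW) (by rw [Nat.card_zpowers, hu2, hWcard])
  have hucen : u ∈ Subgroup.center G := by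
    rw [Subgroup.mem_center_iff]
    intro g
    have h1 : g * u * g⁻¹ ∈ Subgroup.zpowers u := hWeq ▸ hWn.conj_mem u huW g
    rcases (Subgroup.mem_zpowers_iff.mp h1) with ⟨k, hk⟩
    rcases Int.even_or_odd k with ⟨j, rfl⟩ | ⟨j, rfl⟩
    · rw [← two_mul, zpow_mul, zpow_two, Invol.mul_self_of_orderOf_two hu2, one_zpow] at hk
      have := Invol.orderOf_conj g u
      rw [← hk, orderOf_one, hu2] at this
      omega
    · rw [zpow_add_one, zpow_mul, zpow_two, Invol.mul_self_of_orderOf_two hu2, one_zpow, one_mul] at hk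
      exact mul_inv_eq_iff_eq_mul.mp hk.symm
  -- the centre is a 2-group
  have hZp : IsPGroup 2 (Subgroup.center G) := by
    rintro ⟨z, hz⟩
    obtain ⟨v, m, hm, hv⟩ := Nat.exists_eq_two_pow_mul_odd (orderOf_pos z).ne'
    refine ⟨v, Subtype.ext ?_⟩
    haveI hn : (Subgroup.zpowers (z ^ 2 ^ v)).Normal := ⟨fun x hx g => by
      have hxc : x ∈ Subgroup.center G :=
        (Subgroup.zpowers_le.mpr (Subgroup.pow_mem _ hz _)) hx
      rw [Subgroup.mem_center_iff.mp hxc g, mul_inv_cancel_right]; exact hx⟩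
    have := hO _ hn (by
      rw [Nat.card_zpowers, orderOf_pow' _ (by positivity), hv, Nat.gcd_eq_right (dvd_mul_right _ _),
        Nat.mul_div_cancel_left _ (by positivity)]
      exact hm)
    rw [Subgroup.zpowers_eq_bot] at this
    simpa using this
  have hZS : Subgroup.center G ≤ (S : Subgroup G) :=
    (Basics.le_pCore hZp).trans (Basics.pCore_le_sylow 2 S)
  obtain ⟨s, hs, hsA⟩ : ∃ s ∈ (S : Subgroup G), s ∉ Subgroup.zpowers a := by
    by_contra! hcon
    have := Subgroup.card_le_of_le (hcon : (S : Subgroup G) ≤ _)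
    rw [h.card, Nat.card_zpowers, h.ord, pow_succ] at this
    have := Nat.one_le_two_pow (n := n + 3)
    omega
  have hZW : Subgroup.center G = W := by
    refine le_antisymm (fun z hz => ?_) (hWeq ▸ Subgroup.zpowers_le.mpr hucen)
    have hzA : z ∈ Subgroup.zpowers a := by
      by_contra hzA
      have h1 := (h.out z (hZS hz) hzA).1
      rw [← Subgroup.mem_center_iff.mp hz a, mul_inv_cancel_right, ← mul_eq_one_iff_eq_inv,
        ← pow_two, ← orderOf_dvd_iff_pow_eq_one, h.ord, pow_add] at h1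
      have := Nat.le_of_dvd two_pos h1
      have := Nat.one_le_two_pow (n := n)
      omega
    obtain ⟨k, rfl⟩ := hzA
    simp only at hz ⊢
    have h1 : a ^ k = (a ^ k)⁻¹ := by
      have hcomm : s * a ^ k * s⁻¹ = a ^ k := by
        rw [Subgroup.mem_center_iff.mp hz s, mul_inv_cancel_right]
      rw [← conj_zpow, (h.out s hs hsA).1, inv_zpow] at hcomm
      exact hcomm.symm
    by_cases hone : a ^ k = 1
    · rw [hone]; exact one_mem _
    · exact Subgroup.subset_closure (show orderOf (a ^ k) = 2 from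
        Invol.orderOf_two_of_mul_self (mul_eq_one_iff_eq_inv.mpr h1) hone)
  rw [hZW, hWcard]

end Cfsg.Agent.BSQuaternion
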