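import Mathlib
import Cfsg.Prelude.Def_Blocks
import Cfsg.Prelude.Def_Local
import Cfsg.Prelude.Def_TwoFusion
import Cfsg.Agent.Lib.Invol.Isolated
import Cfsg.Agent.Lib.Basics.Cores
import Cfsg.Agent.Lib.ClassSum.Basic
import Cfsg.Agent.Lib.CT.Kernel
import Cfsg.Agent.Lib.CT.Orthogonality
import Cfsg.Agent.Lib.Blocks.Orthogonality

/-!
# Glauberman's Z* theorem

The induction, relative to two inputs: constancy of principal block characters on
`z * O(C(z))`, and the case in which the involution is the only involution of its centralizer.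
-/

set_option autoImplicit false
set_option linter.style.haveILetI false

namespace Cfsg.Agent.InvChar

open Cfsg Cfsg.Agent
open scoped ComplexConjugate

universe u

/-- Principal block characters are constant on `z * O(C(z))`, `z` an involution. -/
def BlockConstant : Prop :=
  ∀ (H : Type u) [Group H] [Finite H] (M : Ideal AlgInt), IsPModular 2 M →
    ∀ z : H, orderOf z = 2 → ∀ y ∈ centralizerPPrimeCore 2 z, ∀ χ : IrrCharacter H,
      χ ∈ principalBlock M H → (χ : H → ℂ) (z * y) = (χ : H → ℂ) z

/-- The case of a single involution. -/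
def RankOneCase : Prop :=
  ∀ (H : Type u) [Group H] [Finite H] (z : H), IsIsolatedInvolution z →
    (∀ t : H, orderOf t = 2 → Commute t z → t = z) → pPrimeCore 2 H = ⊥ →
      z ∈ Subgroup.center H

/-- An isolated involution maps to an isolated involution. -/
theorem isolated_map {G : Type u} [Group G] [Finite G] {Q : Type u} [Group Q] [Finite Q]
    (φ : G →* Q) (hφ : Function.Surjective φ) {z : G} (hz : IsIsolatedInvolution z)
    (h1 : φ z ≠ 1) : IsIsolatedInvolution (φ z) := by
  have hz2 := Invol.isolated_mul_self hz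
  refine ⟨Invol.orderOf_two_of_mul_self (by rw [← map_mul φ, hz2, map_one φ]) h1, fun q hc => ?_⟩
  obtain ⟨g, rfl⟩ := hφ q
  rw [← map_inv φ, ← map_mul φ, ← map_mul φ] at hc ⊢
  set v := g * z * g⁻¹
  have hv2 : v * v = 1 :=
    Invol.mul_self_of_orderOf_two (by rw [Invol.orderOf_conj, hz.1])
  have hodd := Invol.isolated_odd_mul hz (isConj_iff.mpr ⟨g, rfl⟩ : IsConj z v)
  have h2 : φ (z * v) * φ (z * v) = 1 := by
    rw [map_mul φ, hc.symm.mul_mul_mul_comm, ← map_mul φ z z, ← map_mul φ v v, hz2, hv2, map_one φ, one_mul]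
  have h3 : φ (z * v) = 1 := by
    have d1 : orderOf (φ (z * v)) ∣ orderOf (z * v) := orderOf_map_dvd φ _
    have d2 : orderOf (φ (z * v)) ∣ 2 := orderOf_dvd_of_pow_eq_one (by rw [pow_two, h2])
    have hcop : Nat.Coprime (orderOf (z * v)) 2 := (Nat.coprime_two_right).mpr hodd
    exact orderOf_eq_one_iff.mp (Nat.eq_one_of_dvd_coprimes hcop d1 d2)
  rw [map_mul φ] at h3
  rw [eq_inv_of_mul_eq_one_right h3, ← map_inv φ, Invol.inv_of_orderOf_two hz.1]

/-- An isolated involution of a subgroup. -/
theorem isolated_subgroup {G : Type u} [Group G] [Finite G] {z : G} (hz : IsIsolatedInvolution z)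
    (C : Subgroup G) (hzC : z ∈ C) : IsIsolatedInvolution (⟨z, hzC⟩ : C) := by
  refine ⟨by rw [Subgroup.orderOf_mk]; exact hz.1, fun g hc => Subtype.ext ?_⟩
  exact hz.2 g (congrArg Subtype.val hc)

theorem character_class_relation {G : Type u} [Group G] [Finite G] (χ : IrrCharacter G)
    (t z : G) (h : ∀ g : G, (χ : G → ℂ) (t * (g * z * g⁻¹)) = (χ : G → ℂ) (t * z)) :
    (χ : G → ℂ) t * (χ : G → ℂ) z = (χ : G → ℂ) 1 * (χ : G → ℂ) (t * z) := by
  classical
  haveI := Fintype.ofFinite G
  have key := ClassSum.char_mul_omega χ.2 (ClassSum.classInd_isClassWeight z) t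
  have hcl := CT.isClassFunction_of_isIrr χ.2
  set c : ℂ := ∑ g, (ClassSum.classInd z g : ℂ) with hc
  have hc0 : c ≠ 0 := by
    have : c = ((Finset.univ.filter fun g => IsConj z g).card : ℂ) := by
      rw [hc, Finset.card_filter, Nat.cast_sum]
      refine Finset.sum_congr rfl fun g _ => ?_
      by_cases hg : IsConj z g
      · rw [ClassSum.classInd_pos hg, if_pos hg]; simp
      · rw [ClassSum.classInd_neg hg, if_neg hg]; simp
    rw [this, Nat.cast_ne_zero]
    exact Finset.card_ne_zero.mpr ⟨z, Finset.mem_filter.mpr ⟨Finset.mem_univ _, IsConj.refl z⟩⟩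
  have e1 : ∑ g, (ClassSum.classInd z g : ℂ) * (χ : G → ℂ) g = c * (χ : G → ℂ) z := by
    rw [hc, Finset.sum_mul]
    refine Finset.sum_congr rfl fun g _ => ?_
    by_cases hg : IsConj z g
    · rw [CT.isClassFunction_isConj hcl hg]
    · rw [ClassSum.classInd_neg hg]; simp
  have e2 : ∑ g, (ClassSum.classInd z g : ℂ) * (χ : G → ℂ) (t * g) =
      c * (χ : G → ℂ) (t * z) := by
    rw [hc, Finset.sum_mul]
    refine Finset.sum_congr rfl fun g _ => ?_
    by_cases hg : IsConj z g
    · obtain ⟨d, rfl⟩ := isConj_iff.mp hg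
      rw [h d]
    · rw [ClassSum.classInd_neg hg]; simp
  rw [ClassSum.omega, e1, e2] at key
  have h1 := CT.irr_one_ne_zero χ.2
  rw [mul_div, div_eq_iff h1] at key
  apply mul_left_cancel₀ hc0
  linear_combination key

/-- The general form from the core-free form. -/
theorem zstar_of_core_free {G : Type u} [Group G] [Finite G]
    (h : ∀ z : G ⧸ pPrimeCore 2 G, IsIsolatedInvolution z → z ∈ Subgroup.center (G ⧸ pPrimeCore 2 G))
    {z : G} (hz : IsIsolatedInvolution z) (g : G) : z * g * z⁻¹ * g⁻¹ ∈ pPrimeCore 2 G := by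
  haveI : Fact (Nat.Prime 2) := ⟨Nat.prime_two⟩
  set π := QuotientGroup.mk' (pPrimeCore 2 G)
  have h1 : π z ≠ 1 := by
    intro h1
    have hmem := (QuotientGroup.eq_one_iff _).mp h1
    have := orderOf_dvd_natCard (⟨z, hmem⟩ : pPrimeCore 2 G)
    rw [Subgroup.orderOf_mk, hz.1] at this
    exact Basics.not_dvd_card_pPrimeCore 2 this
  have hc := Subgroup.mem_center_iff.mp
    (h _ (isolated_map π (QuotientGroup.mk'_surjective _) hz h1)) (π g)
  apply (QuotientGroup.eq_one_iff _).mp
  show π (z * g * z⁻¹ * g⁻¹) = 1
  rw [map_mul π, map_mul π, map_mul π, map_inv π, map_inv π, ← hc]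
  group

theorem zstar_core_free (hB : BlockConstant.{u}) (hR : RankOneCase.{u}) :
    ∀ (k : ℕ) (G : Type u) [Group G] [Finite G] (z : G), Nat.card G < k →
      IsIsolatedInvolution z → pPrimeCore 2 G = ⊥ → z ∈ Subgroup.center G := by
  intro k
  induction k with
  | zero => intro G _ _ z h; omega
  | succ k ih =>
    intro G _ _ z hk hz hO
    haveI : Fact (Nat.Prime 2) := ⟨Nat.prime_two⟩
    -- the general form in smaller groups
    have gen : ∀ (H : Type u) [Group H] [Finite H] (w : H), Nat.card H < Nat.card G →
        IsIsolatedInvolution w → ∀ h : H, w * h * w⁻¹ * h⁻¹ ∈ pPrimeCore 2 H := by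
      intro H _ _ w hH hw h
      refine zstar_of_core_free (fun w' hw' => ih _ w' ?_ hw' ?_) hw h
      · have := Subgroup.card_quotient_dvd_card (pPrimeCore 2 H)
        have := Nat.le_of_dvd Nat.card_pos this
        omega
      · exact Basics.pPrimeCore_quotient_eq_bot 2
    have hodd_mem : ∀ g : G, Odd (orderOf (z * (g * z * g⁻¹))) := fun g =>
      Invol.isolated_odd_mul hz (isConj_iff.mpr ⟨g, rfl⟩)
    have hz2 := Invol.isolated_mul_self hz
    have hzinv := Invol.inv_of_orderOf_two hz.1
    have hOle : ∀ N : Subgroup G, N.Normal → ¬ 2 ∣ Nat.card N → N = ⊥ := by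
      intro N hN hc
      rw [← le_bot_iff, ← hO]
      haveI := hN
      exact Basics.le_pPrimeCore ((Nat.prime_two.coprime_iff_not_dvd.mpr hc).symm)
    have central_of_commute : (∀ g : G, z * (g * z * g⁻¹) = 1) → z ∈ Subgroup.center G := by
      intro h
      rw [Subgroup.mem_center_iff]
      intro g
      have h' := inv_eq_of_mul_eq_one_right (h g)
      rw [hzinv] at h'
      exact (mul_inv_eq_iff_eq_mul.mp h'.symm)
    by_cases hZ : Subgroup.center G = ⊥
    · by_cases hR1 : ∀ t : G, orderOf t = 2 → Commute t z → t = z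
      · exact hR G z hz hR1 hO
      push Not at hR1
      obtain ⟨t, ht, htz, htne⟩ := hR1
      haveI := Fintype.ofFinite G
      obtain ⟨M, hM⟩ := ClassSum.exists_modular 2 Nat.prime_two
      haveI := hM.2.1.isPrime
      classical
      -- the key constancy
      have key : ∀ s : G, orderOf s = 2 → Commute s z → s ≠ z → ∀ χ : IrrCharacter G,
          χ ∈ principalBlock M G → ∀ g : G,
          (χ : G → ℂ) (s * (g * z * g⁻¹)) = (χ : G → ℂ) (s * z) := by
        intro s hs hsz hsne χ hχ g
        set v := g * z * g⁻¹ with hv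
        have hzv : IsConj z v := isConj_iff.mpr ⟨g, rfl⟩
        have hvi : IsIsolatedInvolution v := Invol.isolated_conj hz g
        have hs2 := Invol.mul_self_of_orderOf_two hs
        have hv2 := Invol.isolated_mul_self hvi
        have heven : Even (orderOf (s * v)) := by
          by_contra h
          have hc := Invol.isConj_of_odd hs2 hv2 (Nat.not_even_iff_odd.mp h)
          exact hsne (Invol.isolated_eq_of_commute hz (hzv.trans hc.symm) hsz.symm)
        set w := s * v with hw
        set m := orderOf w / 2 with hm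
        set c := w ^ m with hc
        have hc2 : orderOf c = 2 := Invol.orderOf_pow_half heven (orderOf_pos _).ne'
        have hcs : Commute c s := Invol.commute_pow_half (Invol.conj_mul_eq_inv hs2 hv2) heven
        have hcv : Commute c v := Invol.commute_pow_half (Invol.conj_mul_eq_inv' hs2 hv2) heven
        set C := Subgroup.centralizer ({c} : Set G) with hC
        have hCtop : C ≠ ⊤ := by
          intro h
          have : c ∈ Subgroup.center G := Subgroup.mem_center_iff.mpr fun x =>
            Subgroup.mem_centralizer_singleton_iff.mp (h ▸ Subgroup.mem_top x : x ∈ C)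
          rw [hZ, Subgroup.mem_bot] at this
          exact Invol.ne_one_of_orderOf_two hc2 this
        have hCcard : Nat.card C < Nat.card G :=
          lt_of_le_of_ne (Subgroup.card_le_card_group C) fun h => hCtop (Subgroup.eq_top_of_card_eq C h)
        have hvC : v ∈ C := Subgroup.mem_centralizer_singleton_iff.mpr hcv.symm.eq
        have hsC : s ∈ C := Subgroup.mem_centralizer_singleton_iff.mpr hcs.symm.eq
        have hmem := gen C ⟨v, hvC⟩ hCcard (isolated_subgroup hvi C hvC) ⟨s, hsC⟩
        have hmem' : (w ^ 2)⁻¹ ∈ centralizerPPrimeCore 2 c := by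
          refine ⟨_, hmem, ?_⟩
          show v * s * v⁻¹ * s⁻¹ = _
          rw [hw, Invol.inv_eq_self_of_mul_self hv2, Invol.inv_eq_self_of_mul_self hs2, pow_two,
            mul_inv_rev, mul_inv_rev, Invol.inv_eq_self_of_mul_self hv2,
            Invol.inv_eq_self_of_mul_self hs2]
          group
        rw [inv_mem_iff] at hmem'
        have hcard : ¬ 2 ∣ Nat.card (centralizerPPrimeCore 2 c) := by
          rw [centralizerPPrimeCore, Subgroup.card_map_of_injective Subtype.val_injective]
          exact Basics.not_dvd_card_pPrimeCore 2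
        have hodd2 : ¬ 2 ∣ orderOf (w ^ 2) := fun h => hcard (h.trans (by
          have := orderOf_dvd_natCard (⟨w ^ 2, hmem'⟩ : centralizerPPrimeCore 2 c)
          rwa [Subgroup.orderOf_mk] at this))
        rw [orderOf_pow' _ two_ne_zero, Nat.gcd_eq_right (even_iff_two_dvd.mp heven)] at hodd2
        have h4 : ¬ 4 ∣ orderOf w := by
          intro h; apply hodd2; omega
        obtain ⟨k', hk'⟩ := heven
        have hy : w ^ (m + 1) ∈ centralizerPPrimeCore 2 c := by
          obtain ⟨j, hj⟩ : 2 ∣ m + 1 := by omega
          rw [hj, pow_mul]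
          exact Subgroup.pow_mem _ hmem' j
        have e1 : c * w ^ (m + 1) = w := by
          rw [hc, ← pow_add, show m + (m + 1) = orderOf w + 1 by omega, pow_succ,
            pow_orderOf_eq_one, one_mul]
        have e2 : (χ : G → ℂ) w = (χ : G → ℂ) c := by
          have := hB G M hM c hc2 _ hy χ hχ
          rwa [e1] at this
        obtain ⟨d, -, hd⟩ := Invol.isConj_mul_half_of_not_four_dvd hs2 hv2 ⟨k', hk'⟩ h4
        rw [← hm, ← hc] at hd
        have hzsc : IsConj z (s * c) := hzv.trans (isConj_iff.mpr ⟨d, hd⟩).symm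
        set S' := Subgroup.centralizer ({s} : Set G)
        obtain ⟨x, hx, hxe⟩ := Invol.isolated_isConj_in hz
          (Subgroup.mem_centralizer_singleton_iff.mpr hsz.symm.eq : z ∈ S') hzsc
          (Subgroup.mem_centralizer_singleton_iff.mpr ((Commute.refl s).mul_left hcs).eq : s * c ∈ S')
        have hxs : x * s = s * x := Subgroup.mem_centralizer_singleton_iff.mp hx
        rw [e2]
        apply CT.isClassFunction_isConj (CT.isClassFunction_of_isIrr χ.2)
        refine (isConj_iff.mpr ⟨x, ?_⟩).symm
        calc x * (s * z) * x⁻¹ = (x * s) * z * x⁻¹ := by group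
          _ = s * (x * z * x⁻¹) := by rw [hxs]; group
          _ = (s * s) * c := by rw [hxe]; group
          _ = c := by rw [hs2, one_mul]
      -- the two relations
      have hts : orderOf (t * z) = 2 := Invol.orderOf_two_of_mul_self
        (by rw [htz.symm.mul_mul_mul_comm, Invol.mul_self_of_orderOf_two ht, hz2, one_mul])
        (fun h => htne (by rw [eq_inv_of_mul_eq_one_left h, hzinv]))
      have htzz : Commute (t * z) z := htz.mul_left (Commute.refl z)
      have htzne : t * z ≠ z := fun h => Invol.ne_one_of_orderOf_two ht (mul_eq_right.mp h)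
      have rel1 : ∀ χ : IrrCharacter G, χ ∈ principalBlock M G →
          (χ : G → ℂ) t * (χ : G → ℂ) z = (χ : G → ℂ) 1 * (χ : G → ℂ) (t * z) := fun χ hχ =>
        character_class_relation χ t z (key t ht htz htne χ hχ)
      have rel2 : ∀ χ : IrrCharacter G, χ ∈ principalBlock M G →
          (χ : G → ℂ) (t * z) * (χ : G → ℂ) z = (χ : G → ℂ) 1 * (χ : G → ℂ) t := fun χ hχ => by
        have := character_class_relation χ (t * z) z (key (t * z) hts htzz htzne χ hχ)
        rwa [mul_assoc, hz2, mul_one] at this
      have hblock : IsPBlock M (principalBlock M G) := ⟨CT.trivIrr G, rfl⟩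
      have htriv : CT.trivIrr G ∈ principalBlock M G := by
        intro g
        refine ⟨0, 1, M.zero_mem, fun h => hM.2.1.ne_top (Ideal.eq_top_of_isUnit_mem M h isUnit_one), ?_⟩
        simp [CT.trivIrr]
      haveI := CT.irr_finite G
      haveI := Fintype.ofFinite (IrrCharacter G)
      have orth : ∀ s : G, orderOf s = 2 →
          ∑ χ ∈ (principalBlock M G).toFinset, (χ : G → ℂ) 1 * (χ : G → ℂ) s = 0 := by
        intro s hs
        have := Blocks.weak_orthogonality hM (Blocks.blockCoeff_mem_loc hblock) (g := (1 : G))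
          (h := s) (by rw [orderOf_one]; decide) (by rw [hs])
        rw [finsum_mem_eq_toFinset_sum] at this
        rw [← this]
        refine Finset.sum_congr rfl fun χ _ => ?_
        rw [← CT.char_inv_eq_conj (CT.isCharacter_of_isIrr χ.2), Invol.inv_of_orderOf_two hs]
      have hsum := congrArg₂ (· + ·) (orth t ht) (orth (t * z) hts)
      simp only [← Finset.sum_add_distrib, add_zero] at hsum
      obtain ⟨χ, hχne, hχz⟩ : ∃ χ : IrrCharacter G, χ ≠ CT.trivIrr G ∧
          (χ : G → ℂ) z = (χ : G → ℂ) 1 := by
        by_contra hcon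
        push Not at hcon
        rw [Finset.sum_eq_single (CT.trivIrr G)] at hsum
        · norm_num at hsum
        · intro χ hχ hne
          rw [Set.mem_toFinset] at hχ
          have h1 := rel1 χ hχ
          have h2 := rel2 χ hχ
          have hzero : (χ : G → ℂ) t * (((χ : G → ℂ) z - (χ : G → ℂ) 1) *
              ((χ : G → ℂ) z + (χ : G → ℂ) 1)) = 0 := by
            linear_combination (χ : G → ℂ) z * h1 + (χ : G → ℂ) 1 * h2
          rcases mul_eq_zero.mp hzero with h | h
          · linear_combination ((χ : G → ℂ) 1 + (χ : G → ℂ) z) * h - h1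
          · rcases mul_eq_zero.mp h with h | h
            · exact absurd (sub_eq_zero.mp h) (hcon χ hne)
            · linear_combination (χ : G → ℂ) t * h - h1
        · intro h; exact absurd (Set.mem_toFinset.mpr htriv) h
      set N := CT.kerChar (χ : G → ℂ) with hN
      have hχc := CT.isCharacter_of_isIrr χ.2
      have hNn : N.Normal := ⟨fun n hn g => by
        rw [CT.mem_kerChar_iff hχc] at hn ⊢
        rw [CT.isClassFunction_of_isIrr χ.2 n g, hn]⟩
      have hzN : z ∈ N := (CT.mem_kerChar_iff hχc).mpr hχz
      have hNtop : N ≠ ⊤ := by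
        intro h
        have hconst : (χ : G → ℂ) = (χ : G → ℂ) 1 • (CT.trivIrr G : G → ℂ) := by
          funext g
          rw [Pi.smul_apply, CT.trivIrr_apply, smul_eq_mul, mul_one]
          exact (CT.mem_kerChar_iff hχc).mp (h ▸ Subgroup.mem_top g : g ∈ N)
        have h0 := CT.irr_inner_of_ne χ.2 (CT.trivIrr G).2 (fun h' => hχne (Subtype.ext h'))
        rw [hconst, CT.classInner_smul_left, CT.irr_inner_self (CT.trivIrr G).2, mul_one] at h0
        exact CT.irr_one_ne_zero χ.2 h0
      have hNcard : Nat.card N < Nat.card G :=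
        lt_of_le_of_ne (Subgroup.card_le_card_group N) fun h => hNtop (Subgroup.eq_top_of_card_eq N h)
      have hON : pPrimeCore 2 N = ⊥ := by
        haveI := hNn
        haveI : ((pPrimeCore 2 N).map N.subtype).Normal :=
          ConjAct.normal_of_characteristic_of_normal
        have := hOle _ this (by
          rw [Subgroup.card_map_of_injective Subtype.val_injective]
          exact Basics.not_dvd_card_pPrimeCore 2)
        exact (Subgroup.map_eq_bot_iff_of_injective _ Subtype.val_injective).mp this
      have hcen := gen N ⟨z, hzN⟩ hNcard (isolated_subgroup hz N hzN)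
      apply central_of_commute
      intro g
      have hvN : g * z * g⁻¹ ∈ N := hNn.conj_mem _ hzN g
      have := hcen ⟨_, hvN⟩
      rw [hON, Subgroup.mem_bot, mul_inv_eq_one, mul_inv_eq_iff_eq_mul] at this
      have hcomm : Commute z (g * z * g⁻¹) := congrArg Subtype.val this
      rw [hz.2 g hcomm, hz2]
    · -- a central involution
      obtain ⟨c, hcZ, hc2⟩ : ∃ c ∈ Subgroup.center G, orderOf c = 2 := by
        by_cases h2 : 2 ∣ Nat.card (Subgroup.center G)
        · obtain ⟨c, hc⟩ := exists_prime_orderOf_dvd_card' 2 h2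
          exact ⟨c, c.2, by rw [Subgroup.orderOf_coe]; exact hc⟩
        · exact absurd (hOle _ inferInstance h2) hZ
      set K := Subgroup.zpowers c with hK
      have hKZ : K ≤ Subgroup.center G := Subgroup.zpowers_le.mpr hcZ
      by_cases hzK : z ∈ K
      · exact hKZ hzK
      haveI hKn : K.Normal := ⟨fun n hn g => by
        rw [Subgroup.mem_center_iff.mp (hKZ hn) g, mul_inv_cancel_right]; exact hn⟩
      have hKcard : Nat.card K = 2 := by rw [hK, Nat.card_zpowers, hc2]
      have hQlt : Nat.card (G ⧸ K) < Nat.card G := by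
        rw [Subgroup.card_eq_card_quotient_mul_card_subgroup K, hKcard]
        have := Nat.card_pos (α := G ⧸ K)
        omega
      set π := QuotientGroup.mk' K
      have hzπ : IsIsolatedInvolution (π z) := isolated_map π (QuotientGroup.mk'_surjective K) hz
        (fun h => hzK ((QuotientGroup.eq_one_iff _).mp h))
      set M := (pPrimeCore 2 (G ⧸ K)).comap π with hM
      haveI : M.Normal := inferInstance
      have hKM : K ≤ M := by
        rw [hM]; exact (QuotientGroup.ker_mk' K).ge.trans (MonoidHom.ker_le_comap _ _)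
      have hMcard : Nat.card M = 2 * Nat.card (pPrimeCore 2 (G ⧸ K)) := by
        exact (Basics.card_comap_mk' (N := K) (pPrimeCore 2 (G ⧸ K))).trans (congrArg (· * _) hKcard)
      have hcard' : Nat.card (K.subgroupOf M) = 2 :=
        (Nat.card_congr (Subgroup.subgroupOfEquivOfLe hKM).toEquiv).trans hKcard
      have hidx : (K.subgroupOf M).index = Nat.card (pPrimeCore 2 (G ⧸ K)) := by
        have := Subgroup.card_mul_index (K.subgroupOf M)
        rw [hcard', hMcard] at this
        omega
      obtain ⟨D, hD⟩ := Subgroup.exists_right_complement'_of_coprime (N := K.subgroupOf M) (by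
        rw [hcard', hidx]
        exact Nat.prime_two.coprime_iff_not_dvd.mpr (Basics.not_dvd_card_pPrimeCore 2))
      have hDcard : ¬ 2 ∣ Nat.card D := by
        rw [← hD.symm.index_eq_card, hidx]; exact Basics.not_dvd_card_pPrimeCore 2
      have hDidx : D.index = 2 := by rw [hD.index_eq_card, hcard']
      -- `D` consists of the elements of odd order
      have hDchar : ∀ d : M, Odd (orderOf d) → d ∈ D := by
        intro d ⟨j, hj⟩
        have : d = d ^ (j + 1) * d ^ (j + 1) := by
          rw [← pow_add, show j + 1 + (j + 1) = orderOf d + 1 by omega, pow_succ,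
            pow_orderOf_eq_one, one_mul]
        rw [this]
        exact Subgroup.mul_self_mem_of_index_two hDidx _
      have hDn : (D.map M.subtype).Normal := by
        constructor
        rintro _ ⟨d, hd, rfl⟩ g
        have hmem : g * (d : G) * g⁻¹ ∈ M := Subgroup.Normal.conj_mem inferInstance _ d.2 g
        refine ⟨⟨_, hmem⟩, hDchar _ ?_, rfl⟩
        rw [Subgroup.orderOf_mk, Invol.orderOf_conj, Subgroup.orderOf_coe]
        have h1 : orderOf d ∣ Nat.card D := by
          have := orderOf_dvd_natCard (⟨d, hd⟩ : D)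
          rwa [Subgroup.orderOf_mk] at this
        rw [← Nat.not_even_iff_odd, even_iff_two_dvd]
        exact fun h => hDcard (h.trans h1)
      have hDbot : D.map M.subtype = ⊥ := hOle _ hDn (by
        rw [Subgroup.card_map_of_injective Subtype.val_injective]; exact hDcard)
      apply central_of_commute
      intro g
      have h1 := gen (G ⧸ K) (π z) hQlt hzπ (π g)
      have hmem : z * (g * z * g⁻¹) ∈ M := by
        have h2 : z * g * z⁻¹ * g⁻¹ ∈ M := by
          show π (z * g * z⁻¹ * g⁻¹) ∈ pPrimeCore 2 (G ⧸ K)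
          rw [map_mul π, map_mul π, map_mul π, map_inv π, map_inv π]
          exact h1
        have e : z * (g * z * g⁻¹) = z * g * z⁻¹ * g⁻¹ := by rw [hzinv]; group
        rw [e]; exact h2
      have h3 : (z * (g * z * g⁻¹)) ∈ D.map M.subtype :=
        ⟨⟨_, hmem⟩, hDchar _ (by rw [Subgroup.orderOf_mk]; exact hodd_mem g), rfl⟩
      rwa [hDbot, Subgroup.mem_bot] at h3

/-- Glauberman's Z* theorem, relative to the two inputs. -/
theorem zstar (hB : BlockConstant.{u}) (hR : RankOneCase.{u}) {G : Type u} [Group G] [Finite G]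
    {z : G} (hz : IsIsolatedInvolution z) (g : G) : z * g * z⁻¹ * g⁻¹ ∈ pPrimeCore 2 G := by
  haveI : Fact (Nat.Prime 2) := ⟨Nat.prime_two⟩
  exact zstar_of_core_free (fun w hw => zstar_core_free hB hR _ _ w (Nat.lt_succ_self _) hw
    (Basics.pPrimeCore_quotient_eq_bot 2)) hz g

end Cfsg.Agent.InvChar
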