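import Mathlib
import Cfsg.Agent.Lib.InvChar.ZStar
import Cfsg.Agent.Lib.Transfer.Abelian

/-!
# The rank one case of the Z* theorem

It follows from the Brauer-Suzuki theorem and the structure of 2-groups with one involution.
-/

set_option autoImplicit false
set_option linter.style.haveILetI false

namespace Cfsg.Agent.InvChar

open Cfsg Cfsg.Agent

universe u

/-- 2-groups with one involution are cyclic or generalized quaternion. -/
def OneInvolutionStructure : Prop :=
  ∀ (P : Type u) [Group P] [Finite P], IsPGroup 2 P →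
    (∀ H K : Subgroup P, Nat.card H = 2 → Nat.card K = 2 → H = K) →
      IsCyclic P ∨ ∃ n : ℕ, Nonempty (P ≃* QuaternionGroup (2 ^ n))

/-- The Brauer-Suzuki theorem. -/
def BrauerSuzuki : Prop :=
  ∀ (G : Type u) [Group G] [Finite G] (S : Sylow 2 G) (n : ℕ),
    Nonempty ((S : Subgroup G) ≃* QuaternionGroup (2 ^ (n + 1))) →
      (∀ N : Subgroup G, N.Normal → Odd (Nat.card N) → N = ⊥) →
        Nat.card (Subgroup.center G) = 2

theorem rankOneCase (h16 : OneInvolutionStructure.{u}) (hBS : BrauerSuzuki.{u}) :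
    RankOneCase.{u} := by
  intro H _ _ z hz huniq hO
  haveI : Fact (Nat.Prime 2) := ⟨Nat.prime_two⟩
  have hz2 := Invol.isolated_mul_self hz
  -- a Sylow 2-subgroup through `z`
  have hzp : IsPGroup 2 (Subgroup.zpowers z) :=
    IsPGroup.of_card (n := 1) (by rw [Nat.card_zpowers, hz.1, pow_one])
  obtain ⟨P, hP⟩ := hzp.exists_le_sylow
  have hzP : z ∈ (P : Subgroup H) := hP (Subgroup.mem_zpowers z)
  have hcen := Invol.isolated_sylow_le_centralizer hz P hzP
  have hinvol : ∀ t : (P : Subgroup H), orderOf t = 2 → t = ⟨z, hzP⟩ := by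
    intro t ht
    refine Subtype.ext (huniq _ (by rw [Subgroup.orderOf_coe]; exact ht) ?_)
    exact Subgroup.mem_centralizer_singleton_iff.mp (hcen t.2)
  have hsub : ∀ K L : Subgroup (P : Subgroup H), Nat.card K = 2 → Nat.card L = 2 → K = L := by
    intro K L hK hL
    have key : ∀ K : Subgroup (P : Subgroup H), Nat.card K = 2 →
        K = Subgroup.zpowers (⟨z, hzP⟩ : (P : Subgroup H)) := by
      intro K hK
      obtain ⟨t, ht⟩ := exists_prime_orderOf_dvd_card' (G := K) 2 (by rw [hK])
      have hgen : Subgroup.zpowers (t : (P : Subgroup H)) = K := by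
        refine Subgroup.eq_of_le_of_card_ge (Subgroup.zpowers_le.mpr t.2) ?_
        rw [Nat.card_zpowers, hK, Subgroup.orderOf_coe, ht]
      rw [← hgen, hinvol t (by rw [Subgroup.orderOf_coe]; exact ht)]
    rw [key K hK, key L hL]
  have hNodd : ∀ N : Subgroup H, N.Normal → Odd (Nat.card N) → N = ⊥ := by
    intro N hN hc
    rw [← le_bot_iff, ← hO]
    haveI := hN
    exact Basics.le_pPrimeCore ((Nat.coprime_two_right).mpr hc)
  have hcase : IsCyclic (P : Subgroup H) → z ∈ Subgroup.center H := by
    intro hcyc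
    have hmin : (Nat.card H).minFac = 2 := by
      rw [Nat.minFac_eq_two_iff]
      exact hz.1 ▸ orderOf_dvd_natCard z
    obtain ⟨Q, N, hN, hQN⟩ : HasNormalPComplement 2 H :=
      Transfer.hasNormalPComplement_of_normalizer_le P (hcyc.normalizer_le_centralizer hmin)
    have hN1 : N = ⊥ := hNodd N hN (by
      rw [← hQN.index_eq_card, ← Nat.not_even_iff_odd, even_iff_two_dvd]
      exact Q.not_dvd_index)
    have hcardH : Nat.card (P : Subgroup H) = Nat.card H := by
      rw [← hQN.card_mul, hN1, Subgroup.card_bot, one_mul]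
      exact Nat.card_congr (Sylow.equiv P Q).toEquiv
    have hPtop : (P : Subgroup H) = ⊤ := Subgroup.eq_top_of_card_eq _ hcardH
    rw [Subgroup.mem_center_iff]
    intro g
    exact Subgroup.mem_centralizer_singleton_iff.mp (hcen (hPtop ▸ Subgroup.mem_top g))
  rcases h16 (P : Subgroup H) P.2 hsub with hcyc | ⟨n, ⟨e⟩⟩
  · exact hcase hcyc
  · rcases n with _ | m
    · haveI : IsCyclic (QuaternionGroup (2 ^ 0)) := QuaternionGroup.quaternionGroup_one_isCyclic
      exact hcase (isCyclic_of_surjective e.symm.toMonoidHom e.symm.surjective)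
    · have hc := hBS H P m ⟨e⟩ hNodd
      obtain ⟨c, hc'⟩ := exists_prime_orderOf_dvd_card' (G := Subgroup.center H) 2 (by rw [hc])
      have := huniq (c : H) (by rw [Subgroup.orderOf_coe]; exact hc')
        (Subgroup.mem_center_iff.mp c.2 z).symm
      rw [← this]; exact c.2

end Cfsg.Agent.InvChar
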