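import Mathlib
import Cfsg.Agent.Lib.Transfer.Fusion
import Cfsg.Agent.Lib.Invol.Quaternion
import Cfsg.Agent.Lib.Invol.Basic
import Cfsg.Agent.Lib.InvChar.Aut2

/-!
# Fusion in a group with a quaternion Sylow 2-subgroup of order 8
-/

set_option autoImplicit false
set_option linter.style.haveILetI false
set_option linter.unusedSectionVars false

namespace Cfsg.Agent.Q8

open Cfsg Cfsg.Agent

universe u

variable {G : Type u} [Group G] [Finite G]

theorem orderOf_eq_four {x : G} (h : orderOf x ∣ 4) (h2 : x * x ≠ 1) : orderOf x = 4 := by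
  have hle := Nat.le_of_dvd (by norm_num) h
  have h1 : orderOf x ≠ 1 := fun h1 => h2 (by rw [orderOf_eq_one_iff.mp h1, one_mul])
  have h3 : orderOf x ≠ 2 := fun h3 => h2 (Invol.mul_self_of_orderOf_two h3)
  interval_cases hn : orderOf x
  · exact absurd h (by norm_num)
  · exact absurd rfl h1
  · exact absurd rfl h3
  · exact absurd h (by norm_num)
  · rfl

/-- Facts about `Q8` inside `G`. -/
theorem facts (S : Sylow 2 G) (e : (S : Subgroup G) ≃* QuaternionGroup 2) :
    (∀ x ∈ (S : Subgroup G), orderOf x ∣ 4) ∧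
    (∀ x ∈ (S : Subgroup G), ∀ y ∈ (S : Subgroup G), orderOf x = 2 → orderOf y = 2 → x = y) ∧
    (∀ x ∈ (S : Subgroup G), ∀ y ∈ (S : Subgroup G), orderOf x = 4 → orderOf y = 4 →
      y ∉ Subgroup.zpowers x →
      x * x = y * y ∧ y * x * y⁻¹ = x⁻¹ ∧ orderOf (x * y) = 4 ∧ x * y ∉ Subgroup.zpowers x ∧
      ∀ w ∈ (S : Subgroup G), orderOf w = 4 →
        w ∈ Subgroup.zpowers x ∨ w ∈ Subgroup.zpowers y ∨ w ∈ Subgroup.zpowers (x * y)) ∧
    (∃ x ∈ (S : Subgroup G), ∃ y ∈ (S : Subgroup G),
      orderOf x = 4 ∧ orderOf y = 4 ∧ y ∉ Subgroup.zpowers x) := by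
  set φ : QuaternionGroup 2 →* G := (S : Subgroup G).subtype.comp e.symm.toMonoidHom
  have hφ : Function.Injective φ := Subtype.val_injective.comp e.symm.injective
  have hrange : ∀ s ∈ (S : Subgroup G), ∃ q, φ q = s := fun s hs => ⟨e ⟨s, hs⟩, by simp [φ]⟩
  have d1 : ∀ q : QuaternionGroup 2, q ^ 4 = 1 := by decide
  have d2 : ∀ p q : QuaternionGroup 2, p * p = 1 → q * q = 1 → p ≠ 1 → q ≠ 1 → p = q := by decide
  have d3 : ∀ p q : QuaternionGroup 2, p * p ≠ 1 → q * q ≠ 1 → q ≠ p → q ≠ p⁻¹ →
      p * p = q * q ∧ q * p * q⁻¹ = p⁻¹ ∧ (p * q) * (p * q) ≠ 1 ∧ p * q ≠ p ∧ p * q ≠ p⁻¹ ∧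
      p * q ≠ 1 ∧ p * q ≠ p * p ∧
      ∀ w : QuaternionGroup 2, w * w ≠ 1 →
        w = p ∨ w = p⁻¹ ∨ w = q ∨ w = q⁻¹ ∨ w = p * q ∨ w = (p * q)⁻¹ := by decide
  have d4 : (QuaternionGroup.a 1 : QuaternionGroup 2) * QuaternionGroup.a 1 ≠ 1 ∧
      (QuaternionGroup.xa 0 : QuaternionGroup 2) * QuaternionGroup.xa 0 ≠ 1 ∧
      ∀ k : Fin 4, (QuaternionGroup.a 1 : QuaternionGroup 2) ^ (k : ℕ) ≠ QuaternionGroup.xa 0 := by
    decide
  have hsq : ∀ q : QuaternionGroup 2, orderOf (φ q) = 4 → q * q ≠ 1 := by
    intro q hq h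
    have h' : (φ q) ^ 2 = 1 := by rw [pow_two, ← map_mul φ, h, map_one]
    have := Nat.le_of_dvd two_pos (orderOf_dvd_of_pow_eq_one h')
    omega
  have hpow4 : ∀ q : QuaternionGroup 2, (φ q) ^ 4 = 1 := fun q => by rw [← map_pow φ, d1, map_one]
  have hord : ∀ q : QuaternionGroup 2, q * q ≠ 1 → orderOf (φ q) = 4 := fun q hq =>
    orderOf_eq_four (orderOf_dvd_of_pow_eq_one (hpow4 q))
      (fun h => hq (hφ (by rw [map_mul φ, h, map_one])))
  classical
  refine ⟨fun x hx => ?_, fun x hx y hy h1 h2 => ?_, fun x hx y hy h1 h2 hxy => ?_, ?_⟩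
  · obtain ⟨q, rfl⟩ := hrange x hx
    exact orderOf_dvd_of_pow_eq_one (hpow4 q)
  · obtain ⟨p, rfl⟩ := hrange x hx
    obtain ⟨q, rfl⟩ := hrange y hy
    congr 1
    refine d2 p q (hφ ?_) (hφ ?_) (fun h => ?_) (fun h => ?_)
    · rw [map_mul φ, Invol.mul_self_of_orderOf_two h1, map_one]
    · rw [map_mul φ, Invol.mul_self_of_orderOf_two h2, map_one]
    · exact Invol.ne_one_of_orderOf_two h1 (by rw [h, map_one])
    · exact Invol.ne_one_of_orderOf_two h2 (by rw [h, map_one])
  · obtain ⟨p, rfl⟩ := hrange x hx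
    obtain ⟨q, rfl⟩ := hrange y hy
    obtain ⟨e1, e2, e3, e4, e5, e6, e7, e8⟩ := d3 p q (hsq p h1) (hsq q h2)
      (fun h => hxy (h ▸ Subgroup.mem_zpowers _))
      (fun h => hxy (by rw [h, map_inv]; exact inv_mem (Subgroup.mem_zpowers _)))
    refine ⟨by rw [← map_mul φ, ← map_mul φ, e1], by rw [← map_inv φ, ← map_inv φ, ← map_mul φ, ← map_mul φ, e2],
      by rw [← map_mul φ]; exact hord _ e3, fun hmem => ?_, fun w hw h4 => ?_⟩
    · obtain ⟨k, hk, hk'⟩ := (mem_zpowers_iff_mem_range_orderOf.mp hmem : _) |> Finset.mem_image.mp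
      rw [Finset.mem_range, h1] at hk
      rw [← map_mul φ, ← map_pow φ] at hk'
      have := hφ hk'
      interval_cases k
      · exact e6 (by simpa using this.symm)
      · exact e4 (by simpa using this.symm)
      · exact e7 (by simpa [pow_two] using this.symm)
      · refine e5 ?_
        rw [← this]
        exact eq_inv_of_mul_eq_one_left (by rw [← pow_succ, d1])
    · obtain ⟨r, rfl⟩ := hrange w hw
      rcases e8 r (hsq r h4) with rfl | rfl | rfl | rfl | rfl | rfl
      · exact Or.inl (Subgroup.mem_zpowers _)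
      · exact Or.inl (by rw [map_inv]; exact inv_mem (Subgroup.mem_zpowers _))
      · exact Or.inr (Or.inl (Subgroup.mem_zpowers _))
      · exact Or.inr (Or.inl (by rw [map_inv]; exact inv_mem (Subgroup.mem_zpowers _)))
      · exact Or.inr (Or.inr (by rw [map_mul]; exact Subgroup.mem_zpowers _))
      · exact Or.inr (Or.inr (by rw [map_inv, map_mul]; exact inv_mem (Subgroup.mem_zpowers _)))
  · refine ⟨φ (QuaternionGroup.a 1), (e.symm _).2, φ (QuaternionGroup.xa 0), (e.symm _).2,
      hord _ d4.1, hord _ d4.2.1, fun hmem => ?_⟩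
    obtain ⟨k, hk, hk'⟩ := (mem_zpowers_iff_mem_range_orderOf.mp hmem : _) |> Finset.mem_image.mp
    rw [Finset.mem_range, hord _ d4.1] at hk
    rw [← map_pow φ] at hk'
    exact d4.2.2 ⟨k, hk⟩ (hφ hk')

/-- Any two elements of order 4 of `S` are conjugate under `N(S)`, up to inversion, unless there is
a normal 2-complement. -/
theorem exists_normalizer_conj (S : Sylow 2 G) (e : (S : Subgroup G) ≃* QuaternionGroup 2)
    (hnc : ∀ N : Subgroup G, N.Normal → ¬ Subgroup.IsComplement' N (S : Subgroup G))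
    {a b : G} (ha : a ∈ (S : Subgroup G)) (hb : b ∈ (S : Subgroup G)) (ha4 : orderOf a = 4)
    (hb4 : orderOf b = 4) :
    ∃ g ∈ Subgroup.normalizer ((S : Subgroup G) : Set G), g * a * g⁻¹ ∈ Subgroup.zpowers b := by
  classical
  haveI : Fact (Nat.Prime 2) := ⟨Nat.prime_two⟩
  obtain ⟨hdvd, huniq, htriple, x₀, hx₀, y₀, hy₀, hx4, hy4, hxy⟩ := facts S e
  -- some element of odd order acts nontrivially
  obtain ⟨g, hgN, hgodd, hgC⟩ : ∃ g ∈ Subgroup.normalizer ((S : Subgroup G) : Set G),
      Odd (orderOf g) ∧ g ∉ Subgroup.centralizer ((S : Subgroup G) : Set G) := by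
    by_contra hcon
    push Not at hcon
    have hnp : HasNormalPComplement 2 G := by
      refine Transfer.hasNormalPComplement_of_frobenius fun D hD g hg hco => ?_
      have hodd : Odd (orderOf g) := (Nat.coprime_two_right).mp hco
      obtain ⟨T, hT⟩ := hD.exists_le_sylow
      obtain ⟨c, hc⟩ := MulAction.exists_smul_eq G T S
      have hD' : ∀ d ∈ D, c * d * c⁻¹ ∈ (S : Subgroup G) := fun d hd => by
        rw [← hc, ← MulAut.conj_apply, ← MulAut.smul_def]
        exact Subgroup.smul_mem_pointwise_smul d (MulAut.conj c) _ (hT hd)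
      set D' := D.map (MulAut.conj c).toMonoidHom with hD'def
      have hD'le : D' ≤ (S : Subgroup G) := by
        rintro _ ⟨d, hd, rfl⟩; exact hD' d hd
      set g' := c * g * c⁻¹ with hg'
      have hg'N : g' ∈ Subgroup.normalizer (D' : Set G) := by
        rw [Subgroup.mem_normalizer_iff]
        intro z
        simp only [hD'def, Subgroup.mem_map_equiv, MulAut.conj_symm_apply]
        have := (Subgroup.mem_normalizer_iff.mp hg) (c⁻¹ * z * c)
        convert this using 2
        rw [hg']; group
      have hg'odd : Odd (orderOf g') := by rw [hg', Invol.orderOf_conj]; exact hodd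
      suffices g' ∈ Subgroup.centralizer (D' : Set G) by
        rw [Subgroup.mem_centralizer_iff] at this ⊢
        intro d hd
        have h := this (c * d * c⁻¹) ⟨d, hd, rfl⟩
        rw [hg'] at h
        have h' : c * (d * g) * c⁻¹ = c * (g * d) * c⁻¹ := by
          rw [show c * (d * g) * c⁻¹ = c * d * c⁻¹ * (c * g * c⁻¹) by group, h]; group
        exact mul_left_cancel (mul_right_cancel h')
      by_cases hcyc : IsCyclic D'
      · obtain ⟨k, hk⟩ := InvChar.isPGroup_mulAut_of_isCyclic (Y := D') (S.2.to_le hD'le)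
          (D'.normalizerMonoidHom ⟨g', hg'N⟩)
        have hk' : orderOf (D'.normalizerMonoidHom ⟨g', hg'N⟩) ∣ 2 ^ k :=
          orderOf_dvd_of_pow_eq_one hk
        have hd' : orderOf (D'.normalizerMonoidHom ⟨g', hg'N⟩) ∣ orderOf g' := by
          rw [← Subgroup.orderOf_mk (H := Subgroup.normalizer (D' : Set G)) g' hg'N]
          exact orderOf_map_dvd _ _
        have h1 := Nat.eq_one_of_dvd_coprimes
          (Nat.Coprime.pow_right k ((Nat.coprime_two_right).mpr hg'odd)) hd' hk'
        have : (⟨g', hg'N⟩ : Subgroup.normalizer (D' : Set G)) ∈ D'.normalizerMonoidHom.ker :=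
          orderOf_eq_one_iff.mp h1
        rw [Subgroup.normalizerMonoidHom_ker] at this
        exact this
      · have hD'S : D' = (S : Subgroup G) := by
          by_contra hne
          apply hcyc
          have hlt : D' < (S : Subgroup G) := lt_of_le_of_ne hD'le hne
          rcases (D'.bot_or_nontrivial) with hbot | hnt
          · rw [hbot]; infer_instance
          obtain ⟨k, hk⟩ := (S.2.to_le hD'le).exists_card_eq
          obtain ⟨k8, hk8⟩ := S.2.exists_card_eq
          have h8 : Nat.card (S : Subgroup G) = 8 := (Invol.q8_facts e).1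
          have hlt' : Nat.card D' < 8 := by
            rw [← h8]
            exact lt_of_le_of_ne (Subgroup.card_le_of_le hD'le) fun h =>
              hne (Subgroup.eq_of_le_of_card_ge hD'le h.ge)
          have hk3 : k ≤ 2 := by
            by_contra h'
            have : 2 ^ 3 ≤ 2 ^ k := Nat.pow_le_pow_right two_pos (by omega)
            omega
          by_cases h4 : ∃ x ∈ D', orderOf x = 4
          · obtain ⟨x, hx, hx'⟩ := h4
            have hz : Subgroup.zpowers x = D' := by
              refine Subgroup.eq_of_le_of_card_ge (Subgroup.zpowers_le.mpr hx) ?_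
              rw [Nat.card_zpowers, hx', hk]
              exact le_trans (Nat.pow_le_pow_right two_pos hk3) (by norm_num)
            rw [← hz]; infer_instance
          · push Not at h4
            obtain ⟨⟨x, hx⟩, hx1⟩ := exists_ne (1 : D')
            have hord2 : ∀ y ∈ D', y ≠ 1 → orderOf y = 2 := by
              intro y hy hy1
              refine Invol.orderOf_two_of_mul_self ?_ hy1
              by_contra hh
              exact h4 y hy (orderOf_eq_four (hdvd y (hD'le hy)) hh)
            have hz : Subgroup.zpowers x = D' := by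
              refine le_antisymm (Subgroup.zpowers_le.mpr hx) fun y hy => ?_
              by_cases hy1 : y = 1
              · rw [hy1]; exact one_mem _
              · rw [huniq y (hD'le hy) x (hD'le hx) (hord2 y hy hy1)
                  (hord2 x hx (fun h => hx1 (Subtype.ext h)))]
                exact Subgroup.mem_zpowers x
            rw [← hz]; infer_instance
        rw [hD'S] at hg'N ⊢
        exact hcon g' hg'N hg'odd
    obtain ⟨Q, N, hN, hNQ⟩ := hnp
    refine hnc N hN ?_
    have hcard : Nat.card (S : Subgroup G) = Nat.card (Q : Subgroup G) :=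
      Nat.card_congr (Sylow.equiv S Q).toEquiv
    refine Subgroup.isComplement'_of_coprime ?_ ?_
    · rw [hcard, hNQ.card_mul_card]
    · rw [← hNQ.index_eq_card]
      obtain ⟨k, hk⟩ := S.2.exists_card_eq
      rw [hk]
      refine Nat.Coprime.pow_right _ (Nat.coprime_two_right.mpr ?_)
      rw [← Nat.not_even_iff_odd, even_iff_two_dvd]
      exact Q.not_dvd_index
  have hmem : ∀ w ∈ (S : Subgroup G), g * w * g⁻¹ ∈ (S : Subgroup G) := fun w hw =>
    (Subgroup.mem_normalizer_iff.mp hgN w).mp hw
  -- an element of odd order fixing a cyclic subgroup of order 4 centralizes it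
  have hfix : ∀ w : G, orderOf w = 4 → g * w * g⁻¹ ∈ Subgroup.zpowers w → g * w * g⁻¹ = w := by
    intro w hw hgw
    obtain ⟨k, hk, hk'⟩ := (mem_zpowers_iff_mem_range_orderOf.mp hgw : _) |> Finset.mem_image.mp
    rw [Finset.mem_range, hw] at hk
    have ho : orderOf (g * w * g⁻¹) = 4 := by rw [Invol.orderOf_conj, hw]
    interval_cases k
    · rw [← hk', pow_zero, orderOf_one] at ho; omega
    · rw [← hk', pow_one]
    · rw [← hk', orderOf_pow, hw] at ho; norm_num at ho
    · exfalso
      have hinv : g * w * g⁻¹ = w⁻¹ := by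
        rw [← hk']
        exact eq_inv_of_mul_eq_one_left (by rw [← pow_succ]; exact orderOf_dvd_iff_pow_eq_one.mp (by rw [hw]))
      have hiter : ∀ j : ℕ, g ^ j * w * (g ^ j)⁻¹ = if Even j then w else w⁻¹ := by
        intro j
        induction j with
        | zero => simp
        | succ j ih =>
          have e : g ^ (j + 1) * w * (g ^ (j + 1))⁻¹ = g * (g ^ j * w * (g ^ j)⁻¹) * g⁻¹ := by group
          rw [e, ih]
          by_cases hj : Even j
          · rw [if_pos hj, if_neg (by rw [Nat.even_add_one]; exact not_not.mpr hj), hinv]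
          · rw [if_neg hj, if_pos (Nat.even_add_one.mpr hj), ← conj_inv, hinv, inv_inv]
      have := hiter (orderOf g)
      rw [pow_orderOf_eq_one, one_mul, inv_one, mul_one, if_neg (Nat.not_even_iff_odd.mpr hgodd)] at this
      have h2 : w ^ 2 = 1 := by rw [pow_two]; exact mul_eq_one_iff_eq_inv.mpr this
      have := Nat.le_of_dvd two_pos (orderOf_dvd_of_pow_eq_one h2)
      omega
  have hg2 : ∀ w : G, g ^ 2 * w * (g ^ 2)⁻¹ = w → g * w * g⁻¹ = w := by
    intro w hw
    obtain ⟨j, hj⟩ := hgodd
    have hc : Commute (g ^ 2) w := mul_inv_eq_iff_eq_mul.mp hw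
    have hg : g = (g ^ 2) ^ (j + 1) := by
      rw [← pow_mul, show 2 * (j + 1) = orderOf g + 1 by omega, pow_succ, pow_orderOf_eq_one, one_mul]
    rw [hg, (hc.pow_left (j + 1)).eq, mul_inv_cancel_right]
  -- no cyclic subgroup of order 4 is fixed
  have hnofix : ∀ w ∈ (S : Subgroup G), orderOf w = 4 → g * w * g⁻¹ ∉ Subgroup.zpowers w := by
    intro w hw hw4 hgw
    apply hgC
    have hwfix := hfix w hw4 hgw
    obtain ⟨v, hv, hv4, hvw⟩ : ∃ v ∈ (S : Subgroup G), orderOf v = 4 ∧ v ∉ Subgroup.zpowers w := by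
      by_contra hcon
      push Not at hcon
      have h1 := hcon x₀ hx₀ hx4
      have hz : Subgroup.zpowers x₀ = Subgroup.zpowers w :=
        Subgroup.eq_of_le_of_card_ge (Subgroup.zpowers_le.mpr h1)
          (by rw [Nat.card_zpowers, Nat.card_zpowers, hx4, hw4])
      exact hxy (hz ▸ hcon y₀ hy₀ hy4)
    obtain ⟨-, -, hwv4, hwvw, hall⟩ := htriple w hw v hv hw4 hv4 hvw
    have hgv4 : orderOf (g * v * g⁻¹) = 4 := by rw [Invol.orderOf_conj, hv4]
    have hnotw : ∀ u : G, u ∉ Subgroup.zpowers w → g * u * g⁻¹ ∉ Subgroup.zpowers w := by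
      intro u hu hmemw
      obtain ⟨k, hk⟩ := hmemw
      simp only at hk
      refine hu ⟨k, ?_⟩
      simp only
      have : g * w ^ k * g⁻¹ = g * u * g⁻¹ := by rw [← conj_zpow, hwfix, hk]
      exact mul_left_cancel (mul_right_cancel this)
    have hvfix : g * v * g⁻¹ = v := by
      rcases hall _ (hmem v hv) hgv4 with h1 | h1 | h1
      · exact absurd h1 (hnotw v hvw)
      · exact hfix v hv4 h1
      · apply hg2
        have e : g ^ 2 * v * (g ^ 2)⁻¹ = g * (g * v * g⁻¹) * g⁻¹ := by simp [pow_two, mul_assoc]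
        have h2 : g ^ 2 * v * (g ^ 2)⁻¹ ∈ Subgroup.zpowers v := by
          rcases hall _ (hmem _ (hmem v hv)) (by rw [Invol.orderOf_conj, hgv4]) with h2 | h2 | h2
          · exact absurd h2 (hnotw _ (hnotw v hvw))
          · rw [e]; exact h2
          · exfalso
            have hz : Subgroup.zpowers (g * v * g⁻¹) = Subgroup.zpowers (w * v) :=
              Subgroup.eq_of_le_of_card_ge (Subgroup.zpowers_le.mpr h1)
                (by rw [Nat.card_zpowers, Nat.card_zpowers, hgv4, hwv4])
            rw [← hz] at h2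
            have := hfix _ hgv4 h2
            have hv' : g * v * g⁻¹ = v := mul_left_cancel (mul_right_cancel this)
            rw [hv'] at h1
            exact hvw (by
              have h3 : v ∈ Subgroup.zpowers (w * v) := h1
              have hw' : w ∈ Subgroup.zpowers (w * v) := by
                have := mul_mem (Subgroup.mem_zpowers (w * v)) (inv_mem h3)
                simpa using this
              have hzz : Subgroup.zpowers w = Subgroup.zpowers (w * v) :=
                Subgroup.eq_of_le_of_card_ge (Subgroup.zpowers_le.mpr hw')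
                  (by rw [Nat.card_zpowers, Nat.card_zpowers, hw4, hwv4])
              exact absurd (hzz ▸ Subgroup.mem_zpowers (w * v)) hwvw)
        obtain ⟨k, hk, hk'⟩ := (mem_zpowers_iff_mem_range_orderOf.mp h2 : _) |> Finset.mem_image.mp
        rw [Finset.mem_range, hv4] at hk
        have ho : orderOf (g ^ 2 * v * (g ^ 2)⁻¹) = 4 := by rw [Invol.orderOf_conj, hv4]
        interval_cases k
        · rw [← hk', pow_zero, orderOf_one] at ho; omega
        · rw [← hk', pow_one]
        · rw [← hk', orderOf_pow, hv4] at ho; norm_num at ho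
        · exfalso
          have hinv : g ^ 2 * v * (g ^ 2)⁻¹ = v⁻¹ := by
            rw [← hk']
            exact eq_inv_of_mul_eq_one_left (by rw [← pow_succ]; exact orderOf_dvd_iff_pow_eq_one.mp (by rw [hv4]))
          have hiter : ∀ j : ℕ, (g ^ 2) ^ j * v * ((g ^ 2) ^ j)⁻¹ = if Even j then v else v⁻¹ := by
            intro j
            induction j with
            | zero => simp
            | succ j ih =>
              have e : (g ^ 2) ^ (j + 1) * v * ((g ^ 2) ^ (j + 1))⁻¹ =
                g ^ 2 * ((g ^ 2) ^ j * v * ((g ^ 2) ^ j)⁻¹) * (g ^ 2)⁻¹ := by group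
              rw [e, ih]
              by_cases hj : Even j
              · rw [if_pos hj, if_neg (by rw [Nat.even_add_one]; exact not_not.mpr hj), hinv]
              · rw [if_neg hj, if_pos (Nat.even_add_one.mpr hj), ← conj_inv, hinv, inv_inv]
          have := hiter (orderOf g)
          rw [← pow_mul, mul_comm 2, pow_mul, pow_orderOf_eq_one, one_pow, one_mul, inv_one, mul_one,
            if_neg (Nat.not_even_iff_odd.mpr hgodd)] at this
          have h2 : v ^ 2 = 1 := by rw [pow_two]; exact mul_eq_one_iff_eq_inv.mpr this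
          have := Nat.le_of_dvd two_pos (orderOf_dvd_of_pow_eq_one h2)
          omega
    rw [Subgroup.mem_centralizer_iff]
    intro u hu
    have hcent : ∀ t ∈ Subgroup.closure ({w, v} : Set G), t * g = g * t := by
      intro t ht
      have hle : Subgroup.closure ({w, v} : Set G) ≤ Subgroup.centralizer ({g} : Set G) := by
        rw [Subgroup.closure_le]
        rintro t (rfl | rfl)
        · exact Subgroup.mem_centralizer_singleton_iff.mpr (mul_inv_eq_iff_eq_mul.mp hwfix).symm
        · exact Subgroup.mem_centralizer_singleton_iff.mpr (mul_inv_eq_iff_eq_mul.mp hvfix).symm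
      exact Subgroup.mem_centralizer_singleton_iff.mp (hle ht)
    refine hcent u ?_
    by_cases h4 : orderOf u = 4
    · have hw' : w ∈ Subgroup.closure ({w, v} : Set G) := Subgroup.subset_closure (by simp)
      have hv' : v ∈ Subgroup.closure ({w, v} : Set G) := Subgroup.subset_closure (by simp)
      rcases hall u hu h4 with h | h | h
      · exact Subgroup.zpowers_le.mpr hw' h
      · exact Subgroup.zpowers_le.mpr hv' h
      · exact Subgroup.zpowers_le.mpr (mul_mem hw' hv') h
    · by_cases hu1 : u = 1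
      · rw [hu1]; exact one_mem _
      · have hu2 : orderOf u = 2 := by
          refine Invol.orderOf_two_of_mul_self ?_ hu1
          by_contra hh
          exact h4 (orderOf_eq_four (hdvd u hu) hh)
        have hww : orderOf (w * w) = 2 := by rw [← pow_two, orderOf_pow, hw4]; rfl
        rw [huniq u hu (w * w) (mul_mem hw hw) hu2 hww]
        exact mul_mem (Subgroup.subset_closure (by simp)) (Subgroup.subset_closure (by simp))
  -- the orbit of `⟨a⟩`
  have ha1 := hnofix a ha ha4
  set a₁ := g * a * g⁻¹ with ha₁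
  have ha₁S := hmem a ha
  have ha₁4 : orderOf a₁ = 4 := by rw [ha₁, Invol.orderOf_conj, ha4]
  obtain ⟨-, -, haa4, -, hall⟩ := htriple a ha a₁ ha₁S ha4 ha₁4 ha1
  rcases hall b hb hb4 with h | h | h
  · refine ⟨1, one_mem _, ?_⟩
    rw [one_mul, inv_one, mul_one]
    have hz : Subgroup.zpowers b = Subgroup.zpowers a :=
      Subgroup.eq_of_le_of_card_ge (Subgroup.zpowers_le.mpr h)
        (by rw [Nat.card_zpowers, Nat.card_zpowers, ha4, hb4])
    rw [hz]; exact Subgroup.mem_zpowers a
  · refine ⟨g, hgN, ?_⟩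
    have hz : Subgroup.zpowers b = Subgroup.zpowers a₁ :=
      Subgroup.eq_of_le_of_card_ge (Subgroup.zpowers_le.mpr h)
        (by rw [Nat.card_zpowers, Nat.card_zpowers, ha₁4, hb4])
    rw [hz]; exact Subgroup.mem_zpowers a₁
  · refine ⟨g * g, mul_mem hgN hgN, ?_⟩
    have hz : Subgroup.zpowers b = Subgroup.zpowers (a * a₁) :=
      Subgroup.eq_of_le_of_card_ge (Subgroup.zpowers_le.mpr h)
        (by rw [Nat.card_zpowers, Nat.card_zpowers, haa4, hb4])
    rw [hz]
    have e : g * g * a * (g * g)⁻¹ = g * a₁ * g⁻¹ := by rw [ha₁]; group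
    rw [e]
    rcases hall _ (hmem a₁ ha₁S) (by rw [Invol.orderOf_conj, ha₁4]) with h2 | h2 | h2
    · exfalso
      refine hnofix a ha ha4 ?_
      have h3 : g ^ 2 * a * (g ^ 2)⁻¹ ∈ Subgroup.zpowers a := by rw [pow_two, e]; exact h2
      obtain ⟨k, hk, hk'⟩ := (mem_zpowers_iff_mem_range_orderOf.mp h3 : _) |> Finset.mem_image.mp
      rw [Finset.mem_range, ha4] at hk
      have ho : orderOf (g ^ 2 * a * (g ^ 2)⁻¹) = 4 := by rw [Invol.orderOf_conj, ha4]
      have hpow : ∀ w : G, g ^ 2 * w * (g ^ 2)⁻¹ ∈ Subgroup.zpowers w → ∀ j : ℕ,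
          (g ^ 2) ^ j * w * ((g ^ 2) ^ j)⁻¹ ∈ Subgroup.zpowers w := by
        intro w hw j
        induction j with
        | zero => simp
        | succ j ih =>
          obtain ⟨i, hi⟩ := ih
          simp only at hi
          have e' : (g ^ 2) ^ (j + 1) * w * ((g ^ 2) ^ (j + 1))⁻¹ =
            g ^ 2 * ((g ^ 2) ^ j * w * ((g ^ 2) ^ j)⁻¹) * (g ^ 2)⁻¹ := by group
          rw [e', ← hi, ← conj_zpow]
          exact Subgroup.zpow_mem _ hw i
      obtain ⟨j, hj⟩ := hgodd
      have := hpow a h3 (j + 1)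
      rwa [← pow_mul, show 2 * (j + 1) = orderOf g + 1 by omega, pow_succ, pow_orderOf_eq_one,
        one_mul] at this
    · exact absurd h2 (hnofix a₁ ha₁S ha₁4)
    · exact h2

end Cfsg.Agent.Q8
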