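import Mathlib
import Cfsg.Prelude.Def_Blocks
import Cfsg.Prelude.Def_Local
import Cfsg.Agent.Lib.InvChar.Q8Fusion
import Cfsg.Agent.Lib.InvChar.BSQuaternion
import Cfsg.Agent.Lib.Transfer.Abelian
import Cfsg.Agent.Lib.Basics.Cores
import Cfsg.Agent.Lib.Blocks.PPart
import Cfsg.Agent.Lib.CT.Orthogonality

/-!
# Elements and sections in a group with a quaternion Sylow 2-subgroup of order 8
-/

set_option autoImplicit false
set_option linter.style.haveILetI false
set_option linter.unusedSectionVars false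

namespace Cfsg.Agent.Q8

open Cfsg Cfsg.Agent

universe u

variable {G : Type u} [Group G] [Finite G]

/-- A 2-subgroup is conjugate into a given Sylow 2-subgroup. -/
theorem exists_conj_into (S : Sylow 2 G) {P : Subgroup G} (hP : IsPGroup 2 P) :
    ∃ c : G, ∀ x ∈ P, c * x * c⁻¹ ∈ (S : Subgroup G) := by
  haveI : Fact (Nat.Prime 2) := ⟨Nat.prime_two⟩
  obtain ⟨T, hT⟩ := hP.exists_le_sylow
  obtain ⟨c, hc⟩ := MulAction.exists_smul_eq G T S
  refine ⟨c, fun x hx => ?_⟩
  rw [← hc, ← MulAut.conj_apply, ← MulAut.smul_def]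
  exact Subgroup.smul_mem_pointwise_smul x (MulAut.conj c) _ (hT hx)

theorem exists_conj_elem_into (S : Sylow 2 G) {t : G} (ht : ∃ k, t ^ 2 ^ k = 1) :
    ∃ c : G, c * t * c⁻¹ ∈ (S : Subgroup G) := by
  haveI : Fact (Nat.Prime 2) := ⟨Nat.prime_two⟩
  have hp : IsPGroup 2 (Subgroup.zpowers t) := by
    obtain ⟨k, hk⟩ := ht
    exact IsPGroup.of_card_dvd_pow (n := k) (by rw [Nat.card_zpowers]; exact orderOf_dvd_of_pow_eq_one hk)
  obtain ⟨c, hc⟩ := exists_conj_into S hp
  exact ⟨c, hc t (Subgroup.mem_zpowers t)⟩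

theorem orderOf_dvd_four (S : Sylow 2 G) (e : (S : Subgroup G) ≃* QuaternionGroup 2) {t : G}
    (ht : ∃ k, t ^ 2 ^ k = 1) : orderOf t ∣ 4 := by
  obtain ⟨c, hc⟩ := exists_conj_elem_into S ht
  have := (facts S e).1 _ hc
  rwa [Invol.orderOf_conj] at this

theorem eq_of_commute_of_orderOf_two (S : Sylow 2 G) (e : (S : Subgroup G) ≃* QuaternionGroup 2)
    {s t : G} (hs : orderOf s = 2) (ht : orderOf t = 2) (h : Commute s t) : s = t := by
  by_contra hne
  have hs2 := Invol.mul_self_of_orderOf_two hs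
  have ht2 := Invol.mul_self_of_orderOf_two ht
  have hp : IsPGroup 2 ↥(Subgroup.zpowers s ⊔ Subgroup.zpowers t) := by
    refine IsPGroup.to_sup_of_normal_right' (IsPGroup.of_card (n := 1) (by rw [Nat.card_zpowers, hs, pow_one]))
      (IsPGroup.of_card (n := 1) (by rw [Nat.card_zpowers, ht, pow_one])) ?_
    rw [Subgroup.zpowers_le]
    refine Subgroup.centralizer_le_normalizer _ (Subgroup.mem_centralizer_iff.mpr ?_)
    rintro _ ⟨k, rfl⟩
    exact (h.zpow_right k).eq.symm
  obtain ⟨c, hc⟩ := exists_conj_into S hp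
  have := (facts S e).2.1 _ (hc s (le_sup_left (b := Subgroup.zpowers t) (Subgroup.mem_zpowers s)))
    _ (hc t (le_sup_right (a := Subgroup.zpowers s) (Subgroup.mem_zpowers t)))
    (by rw [Invol.orderOf_conj, hs]) (by rw [Invol.orderOf_conj, ht])
  exact hne (mul_left_cancel (mul_right_cancel this))

/-- A 2-subgroup centralizing an element `x` of order 4 lies in `⟨x⟩`. -/
theorem two_subgroup_centralizing_le (S : Sylow 2 G) (e : (S : Subgroup G) ≃* QuaternionGroup 2)
    {x : G} (hx : orderOf x = 4) {P : Subgroup G} (hP : IsPGroup 2 P)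
    (hPx : P ≤ Subgroup.centralizer ({x} : Set G)) (hxP : x ∈ P) : P ≤ Subgroup.zpowers x := by
  obtain ⟨c, hc⟩ := exists_conj_into S hP
  obtain ⟨hdvd, huniq, htriple, -⟩ := facts S e
  intro y hy
  have hcomm : Commute (c * y * c⁻¹) (c * x * c⁻¹) :=
    (show Commute y x from Subgroup.mem_centralizer_singleton_iff.mp (hPx hy)).map
      (MulAut.conj c).toMonoidHom
  have hxc : orderOf (c * x * c⁻¹) = 4 := by rw [Invol.orderOf_conj, hx]
  have hback : c * y * c⁻¹ ∈ Subgroup.zpowers (c * x * c⁻¹) → y ∈ Subgroup.zpowers x := by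
    rintro ⟨k, hk⟩
    refine ⟨k, ?_⟩
    simp only [conj_zpow] at hk ⊢
    exact mul_left_cancel (mul_right_cancel hk)
  apply hback
  by_contra hout
  by_cases h4 : orderOf (c * y * c⁻¹) = 4
  · obtain ⟨-, hinv, -, -, -⟩ := htriple _ (hc x hxP) _ (hc y hy) hxc h4 hout
    rw [hcomm.eq, mul_inv_cancel_right, ← mul_eq_one_iff_eq_inv, ← pow_two] at hinv
    have := Nat.le_of_dvd two_pos (orderOf_dvd_of_pow_eq_one hinv)
    omega
  · by_cases h1 : c * y * c⁻¹ = 1
    · exact hout (h1 ▸ one_mem _)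
    · have h2 : orderOf (c * y * c⁻¹) = 2 := by
        refine Invol.orderOf_two_of_mul_self ?_ h1
        by_contra hh
        exact h4 (orderOf_eq_four (hdvd _ (hc y hy)) hh)
      have hsq : orderOf ((c * x * c⁻¹) ^ 2) = 2 := by rw [orderOf_pow, hxc]; rfl
      refine hout ?_
      rw [huniq _ (hc y hy) _ (Subgroup.pow_mem _ (hc x hxP) 2) h2 hsq]
      exact Subgroup.pow_mem _ (Subgroup.mem_zpowers _) 2

/-- The structure of the centralizer of an element of order 4. -/
theorem centralizer_four (S : Sylow 2 G) (e : (S : Subgroup G) ≃* QuaternionGroup 2)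
    {x : G} (hx : orderOf x = 4) :
    Nat.card (Subgroup.centralizer ({x} : Set G)) = 4 * Nat.card (centralizerPPrimeCore 2 x) ∧
    (∀ o : G, o ∈ centralizerPPrimeCore 2 x ↔ Odd (orderOf o) ∧ Commute x o) := by
  haveI : Fact (Nat.Prime 2) := ⟨Nat.prime_two⟩
  set C := Subgroup.centralizer ({x} : Set G) with hC
  have hxC : x ∈ C := Subgroup.mem_centralizer_singleton_iff.mpr rfl
  set A := (Subgroup.zpowers x).subgroupOf C with hA
  have hAC : Subgroup.zpowers x ≤ C := Subgroup.zpowers_le.mpr hxC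
  have hAcard : Nat.card A = 4 := by
    rw [Nat.card_congr (Subgroup.subgroupOfEquivOfLe hAC).toEquiv, Nat.card_zpowers, hx]
  obtain ⟨P, hP⟩ := (IsPGroup.of_card (p := 2) (n := 2) (by rw [hAcard]; rfl) : IsPGroup 2 A).exists_le_sylow
  have hPA : (P : Subgroup C) = A := by
    refine le_antisymm ?_ hP
    intro y hy
    have hle := two_subgroup_centralizing_le S e hx (P := (P : Subgroup C).map C.subtype) (P.2.map _)
      (Subgroup.map_subtype_le _) ⟨⟨x, hxC⟩, hP (Subgroup.mem_zpowers x), rfl⟩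
    exact hle ⟨y, hy, rfl⟩
  have hPcyc : IsCyclic (P : Subgroup C) := by
    rw [hPA, hA]
    exact (Subgroup.subgroupOfEquivOfLe hAC).isCyclic.mpr inferInstance
  have hCeven : 2 ∣ Nat.card C := by
    refine dvd_trans ?_ (Subgroup.card_subgroup_dvd_card A)
    rw [hAcard]; norm_num
  obtain ⟨Q, N, hN, hNQ⟩ := Transfer.hasNormalPComplement_of_normalizer_le P
    (hPcyc.normalizer_le_centralizer ((Nat.minFac_eq_two_iff _).mpr hCeven))
  have hNodd : ¬ 2 ∣ Nat.card N := by rw [← hNQ.index_eq_card]; exact Q.not_dvd_index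
  have hQcard : Nat.card (Q : Subgroup C) = 4 := by
    rw [Nat.card_congr (Sylow.equiv Q P).toEquiv, hPA, hAcard]
  have hNidx : N.index = 4 := by rw [hNQ.symm.index_eq_card, hQcard]
  have hodd : ∀ o : C, Odd (orderOf o) → o ∈ N := by
    intro o ho
    have h4 : o ^ 4 ∈ N := by rw [← hNidx]; exact Subgroup.pow_index_mem N o
    have hmem : (o ^ 4) ∈ Subgroup.zpowers (o ^ 4) := Subgroup.mem_zpowers _
    have hgen : o ∈ Subgroup.zpowers (o ^ 4) := by
      have heq : Subgroup.zpowers (o ^ 4) = Subgroup.zpowers o := by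
        refine Subgroup.eq_of_le_of_card_ge
          (Subgroup.zpowers_le.mpr (Subgroup.pow_mem _ (Subgroup.mem_zpowers o) 4)) ?_
        rw [Nat.card_zpowers, Nat.card_zpowers, orderOf_pow]
        have : Nat.gcd (orderOf o) 4 = 1 := by
          rw [show (4 : ℕ) = 2 ^ 2 by norm_num]
          exact Nat.Coprime.pow_right 2 ((Nat.coprime_two_right).mpr ho)
        rw [this, Nat.div_one]
      rw [heq]; exact Subgroup.mem_zpowers o
    exact (Subgroup.zpowers_le.mpr h4) hgen
  have hNeq : N = pPrimeCore 2 C := by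
    refine le_antisymm ?_ fun o ho => hodd o ?_
    · haveI := hN
      exact Basics.le_pPrimeCore (Nat.prime_two.coprime_iff_not_dvd.mpr hNodd).symm
    · rw [← Nat.not_even_iff_odd, even_iff_two_dvd]
      intro h2
      have := orderOf_dvd_natCard (⟨o, ho⟩ : pPrimeCore 2 C)
      rw [Subgroup.orderOf_mk] at this
      exact Basics.not_dvd_card_pPrimeCore 2 (h2.trans this)
  constructor
  · rw [centralizerPPrimeCore, Subgroup.card_map_of_injective Subtype.val_injective, ← hNeq,
      ← N.card_mul_index, hNidx, mul_comm]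
  · intro o
    constructor
    · rintro ⟨o', ho', rfl⟩
      refine ⟨?_, (Subgroup.mem_centralizer_singleton_iff.mp o'.2).symm⟩
      rw [← Nat.not_even_iff_odd, even_iff_two_dvd]
      intro h2
      have := orderOf_dvd_natCard (⟨o', ho'⟩ : pPrimeCore 2 C)
      rw [Subgroup.orderOf_mk] at this
      refine Basics.not_dvd_card_pPrimeCore 2 (dvd_trans ?_ this)
      simpa [Subgroup.orderOf_coe] using h2
    · rintro ⟨ho, hxo⟩
      have hoC : o ∈ C := Subgroup.mem_centralizer_singleton_iff.mpr hxo.eq.symm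
      refine ⟨⟨o, hoC⟩, ?_, rfl⟩
      show (⟨o, hoC⟩ : C) ∈ pPrimeCore 2 C
      rw [← hNeq]
      exact hodd _ (by rw [Subgroup.orderOf_mk]; exact ho)

/-- The data of a centralizer of an involution: the involution is central and all elements of order
4 are conjugate. -/
structure Setup (C : Type u) [Group C] [Finite C] (z x : C) : Prop where
  quat : ∃ S : Sylow 2 C, Nonempty ((S : Subgroup C) ≃* QuaternionGroup 2)
  central : z ∈ Subgroup.center C
  hz : orderOf z = 2
  hx : orderOf x = 4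
  conj : ∀ t : C, orderOf t = 4 → IsConj x t

variable {C : Type u} [Group C] [Finite C] {z x : C}

theorem Setup.eq_z (h : Setup C z x) {t : C} (ht : orderOf t = 2) : t = z := by
  obtain ⟨S, ⟨e⟩⟩ := h.quat
  exact eq_of_commute_of_orderOf_two S e ht h.hz (Subgroup.mem_center_iff.mp h.central t)

theorem Setup.sq_eq (h : Setup C z x) {t : C} (ht : orderOf t = 4) : t * t = z :=
  h.eq_z (by rw [← pow_two, orderOf_pow, ht]; rfl)

theorem Setup.card_eq (h : Setup C z x) : ∃ m, Odd m ∧ Nat.card C = 8 * m := by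
  haveI : Fact (Nat.Prime 2) := ⟨Nat.prime_two⟩
  obtain ⟨S, ⟨e⟩⟩ := h.quat
  refine ⟨(S : Subgroup C).index, ?_, ?_⟩
  · rw [← Nat.not_even_iff_odd, even_iff_two_dvd]; exact S.not_dvd_index
  · rw [← (S : Subgroup C).card_mul_index, (Invol.q8_facts e).1]

/-- The exponent taking an element to its odd part. -/
noncomputable def oddExp (C : Type u) : ℕ :=
  if hh : (8 : ℕ).Coprime ((Nat.card C) / 8) then (Nat.chineseRemainder hh 0 1 : ℕ) else 0

/-- The odd part. -/
noncomputable def ev (g : C) : C := g ^ oddExp C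

/-- The 2-part. -/
noncomputable def tw (g : C) : C := g * (ev g)⁻¹

theorem Setup.oddExp_spec (h : Setup C z x) :
    ∃ m, Odd m ∧ Nat.card C = 8 * m ∧ 8 ∣ oddExp C ∧ oddExp C ≡ 1 [MOD m] := by
  obtain ⟨m, hm, hc⟩ := h.card_eq
  have hd : Nat.card C / 8 = m := by rw [hc, Nat.mul_div_cancel_left _ (by norm_num)]
  have hco : (8 : ℕ).Coprime (Nat.card C / 8) := by
    rw [hd, show (8 : ℕ) = 2 ^ 3 by norm_num]
    exact Nat.Coprime.pow_left 3 ((Nat.coprime_two_left).mpr hm)
  refine ⟨m, hm, hc, ?_, ?_⟩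
  · rw [oddExp, dif_pos hco]
    exact Nat.modEq_zero_iff_dvd.mp (Nat.chineseRemainder hco 0 1).2.1
  · rw [oddExp, dif_pos hco]
    have h2 := (Nat.chineseRemainder hco 0 1).2.2
    subst hd
    exact h2

theorem tw_mul_ev (g : C) : tw g * ev g = g := inv_mul_cancel_right g _

theorem commute_tw_ev (g : C) : Commute (tw g) (ev g) :=
  ((Commute.refl g).pow_right _).mul_left (Commute.refl _).inv_left

theorem ev_mem_zpowers (g : C) : ev g ∈ Subgroup.zpowers g :=
  Subgroup.pow_mem _ (Subgroup.mem_zpowers g) _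

theorem tw_mem_zpowers (g : C) : tw g ∈ Subgroup.zpowers g :=
  mul_mem (Subgroup.mem_zpowers g) (inv_mem (ev_mem_zpowers g))

theorem Setup.ev_odd (h : Setup C z x) (g : C) : Odd (orderOf (ev g)) := by
  obtain ⟨m, hm, hc, h8, -⟩ := h.oddExp_spec
  refine hm.of_dvd_nat (orderOf_dvd_of_pow_eq_one ?_)
  obtain ⟨j, hj⟩ := h8
  rw [ev, ← pow_mul, hj, show 8 * j * m = Nat.card C * j by rw [hc]; ring, pow_mul, pow_card_eq_one',
    one_pow]

theorem Setup.tw_pow_eight (h : Setup C z x) (g : C) : tw g ^ 8 = 1 := by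
  obtain ⟨m, hm, hc, h8, h1⟩ := h.oddExp_spec
  have hcomm : Commute g (ev g)⁻¹ := ((Commute.refl g).pow_right _).inv_right
  rw [tw, hcomm.mul_pow, inv_pow, ev, ← pow_mul, mul_inv_eq_one]
  apply pow_eq_pow_iff_modEq.mpr
  refine Nat.ModEq.of_dvd (hc ▸ orderOf_dvd_natCard g) ?_
  rw [mul_comm (oddExp C)]
  simpa using (h1.mul_left' 8).symm

theorem Setup.tw_dvd_four (h : Setup C z x) (g : C) : orderOf (tw g) ∣ 4 := by
  obtain ⟨S, ⟨e⟩⟩ := h.quat
  exact orderOf_dvd_four S e ⟨3, h.tw_pow_eight g⟩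

theorem Setup.isPPart (h : Setup C z x) (g : C) : IsPPart 2 g (tw g) := by
  refine ⟨ev g, tw_mul_ev g, commute_tw_ev g, ?_, ?_⟩
  · obtain ⟨k, -, hk⟩ := (Nat.dvd_prime_pow Nat.prime_two).mp (show orderOf (tw g) ∣ 2 ^ 3 from
      orderOf_dvd_of_pow_eq_one (h.tw_pow_eight g))
    exact ⟨k, hk⟩
  · rw [← even_iff_two_dvd, Nat.not_even_iff_odd]; exact h.ev_odd g

/-- Uniqueness of the decomposition. -/
theorem Setup.parts_eq (h : Setup C z x) {g t o : C} (hto : t * o = g) (hc : Commute t o)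
    (ht : orderOf t ∣ 4) (ho : Odd (orderOf o)) : tw g = t ∧ ev g = o := by
  haveI : Fact (Nat.Prime 2) := ⟨Nat.prime_two⟩
  have hp : IsPPart 2 g t := by
    refine ⟨o, hto, hc, ?_, ?_⟩
    · obtain ⟨k, -, hk⟩ := (Nat.dvd_prime_pow Nat.prime_two).mp (show orderOf t ∣ 2 ^ 2 from ht)
      exact ⟨k, hk⟩
    · rw [← even_iff_two_dvd, Nat.not_even_iff_odd]; exact ho
  have h1 := Blocks.ppart_unique (h.isPPart g) hp
  refine ⟨h1, ?_⟩
  have h2 := tw_mul_ev g
  have h3 : t * ev g = t * o := by rw [hto, ← h1]; exact h2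
  exact mul_left_cancel h3

theorem Setup.tw_cases (h : Setup C z x) (g : C) : tw g = 1 ∨ tw g = z ∨ orderOf (tw g) = 4 := by
  by_cases h1 : tw g = 1
  · exact Or.inl h1
  by_cases h2 : tw g * tw g = 1
  · exact Or.inr (Or.inl (h.eq_z (Invol.orderOf_two_of_mul_self h2 h1)))
  · exact Or.inr (Or.inr (orderOf_eq_four (h.tw_dvd_four g) h2))

theorem ev_conj (g c : C) : ev (c * g * c⁻¹) = c * ev g * c⁻¹ := conj_pow

theorem tw_conj (g c : C) : tw (c * g * c⁻¹) = c * tw g * c⁻¹ := by
  rw [tw, tw, ev_conj]; group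

theorem Setup.ev_of_odd (h : Setup C z x) {g : C} (hg : Odd (orderOf g)) : tw g = 1 ∧ ev g = g :=
  h.parts_eq (one_mul g) (Commute.one_left g) (by rw [orderOf_one]; exact one_dvd _) hg

theorem Setup.tw_z_mul (h : Setup C z x) {y : C} (hy : Odd (orderOf y)) :
    tw (z * y) = z ∧ ev (z * y) = y :=
  h.parts_eq rfl (Subgroup.mem_center_iff.mp h.central y).symm (by rw [h.hz]; norm_num) hy

/-- A quarter of the elements have 2-part of order 4. -/
theorem Setup.card_four (h : Setup C z x) :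
    4 * Nat.card {g : C // orderOf (tw g) = 4} = Nat.card C := by
  classical
  haveI := Fintype.ofFinite C
  obtain ⟨S, ⟨e⟩⟩ := h.quat
  obtain ⟨hcard, hmem⟩ := centralizer_four S e h.hx
  choose c hc using fun t : {t : C // IsConj x t} => isConj_iff.mp t.2
  have heq : {g : C // orderOf (tw g) = 4} ≃ {t : C // IsConj x t} × centralizerPPrimeCore 2 x := by
    refine (Equiv.ofBijective
      (fun p : {t : C // IsConj x t} × centralizerPPrimeCore 2 x =>
        (⟨c p.1 * (x * (p.2 : C)) * (c p.1)⁻¹, ?_⟩ : {g : C // orderOf (tw g) = 4})) ⟨?_, ?_⟩).symm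
    · obtain ⟨hodd, hcom⟩ := (hmem _).mp p.2.2
      rw [tw_conj, Invol.orderOf_conj,
        (h.parts_eq rfl hcom (by rw [h.hx]) hodd).1, h.hx]
    · rintro ⟨t, o⟩ ⟨t', o'⟩ heq
      simp only [Subtype.mk.injEq] at heq
      obtain ⟨hodd, hcom⟩ := (hmem _).mp o.2
      obtain ⟨hodd', hcom'⟩ := (hmem _).mp o'.2
      have h1 := congrArg tw heq
      rw [tw_conj, tw_conj, (h.parts_eq rfl hcom (by rw [h.hx]) hodd).1,
        (h.parts_eq rfl hcom' (by rw [h.hx]) hodd').1, hc, hc] at h1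
      have ht : t = t' := Subtype.ext h1
      subst ht
      have h2 := mul_left_cancel (mul_left_cancel (mul_right_cancel heq) : _)
      exact Prod.ext rfl (Subtype.ext h2)
    · rintro ⟨g, hg⟩
      set t : {t : C // IsConj x t} := ⟨tw g, h.conj _ hg⟩
      have htw : (c t)⁻¹ * tw g * c t = x := by
        have := hc t
        rw [show ((t : {t : C // IsConj x t}) : C) = tw g from rfl] at this
        rw [← this]; group
      refine ⟨(t, ⟨(c t)⁻¹ * ev g * c t, (hmem _).mpr ⟨?_, ?_⟩⟩), Subtype.ext ?_⟩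
      · have e1 : (c t)⁻¹ * ev g * c t = (c t)⁻¹ * ev g * (c t)⁻¹⁻¹ := by group
        rw [e1, Invol.orderOf_conj]; exact h.ev_odd g
      · have := (commute_tw_ev g).map (MulAut.conj (c t)⁻¹).toMonoidHom
        simp only [MulEquiv.toMonoidHom_eq_coe, MonoidHom.coe_coe, MulAut.conj_apply, inv_inv] at this
        rwa [htw] at this
      · show c t * (x * ((c t)⁻¹ * ev g * c t)) * (c t)⁻¹ = g
        conv_rhs => rw [← tw_mul_ev g]
        rw [← htw]; group
  rw [Nat.card_congr heq, Nat.card_prod, mul_left_comm, ← hcard]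
  exact CT.card_conj_class_mul_centralizer x

end Cfsg.Agent.Q8
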