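import Mathlib
import Cfsg.Agent.Lib.InvChar.Q8Setup
import Cfsg.Agent.Lib.CT.Kernel
import Cfsg.Agent.S0942
import Cfsg.Agent.S0925

/-!
# Principal block facts on 2-sections
-/

set_option autoImplicit false
set_option linter.style.haveILetI false
set_option linter.unusedSectionVars false

namespace Cfsg.Agent.Q8

open Cfsg Cfsg.Agent
open scoped ComplexConjugate

universe u

variable {G : Type u} [Group G] [Finite G]

theorem trivIrr_mem_principalBlock (M : Ideal AlgInt) [M.IsPrime] :
    CT.trivIrr G ∈ principalBlock M G := Blocks.self_mem_blockOf (CT.trivIrr G)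

/-- Principal block characters are constant on the 2-section of an element of order 4. -/
theorem const_on_section (S : Sylow 2 G) (e : (S : Subgroup G) ≃* QuaternionGroup 2)
    {M : Ideal AlgInt} (hM : IsPModular 2 M) {x : G} (hx : orderOf x = 4) {u w : G}
    (hu : IsPPart 2 u w) (hxw : IsConj x w) {χ : IrrCharacter G}
    (hχ : χ ∈ principalBlock M G) : (χ : G → ℂ) u = (χ : G → ℂ) x := by
  haveI : Fact (Nat.Prime 2) := ⟨Nat.prime_two⟩
  obtain ⟨c, hc⟩ := isConj_iff.mp hxw
  obtain ⟨o, hwo, hcom, -, hodd⟩ := hu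
  have ho : c⁻¹ * o * c ∈ centralizerPPrimeCore 2 x := by
    rw [(centralizer_four S e hx).2]
    refine ⟨?_, ?_⟩
    · have e1 : c⁻¹ * o * c = c⁻¹ * o * c⁻¹⁻¹ := by group
      rw [e1, Invol.orderOf_conj, ← Nat.not_even_iff_odd, even_iff_two_dvd]
      exact hodd
    · have := hcom.map (MulAut.conj c⁻¹).toMonoidHom
      simp only [MulEquiv.toMonoidHom_eq_coe, MonoidHom.coe_coe, MulAut.conj_apply, inv_inv] at this
      rwa [← hc, show c⁻¹ * (c * x * c⁻¹) * c = x by group] at this
  have h := Cfsg.Agent.S0942.result 2 M hM x ⟨2, by rw [hx]; norm_num⟩ _ ho χ hχ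
  rw [← h]
  apply CT.isClassFunction_isConj (CT.isClassFunction_of_isIrr χ.2)
  refine (isConj_iff.mpr ⟨c, ?_⟩).symm
  rw [← hwo, ← hc]
  group

/-- A class function that is 4 on the section of `x` and zero elsewhere lies in the principal
block. -/
theorem inner_section_fn [Fintype G] (S : Sylow 2 G) (e : (S : Subgroup G) ≃* QuaternionGroup 2)
    {M : Ideal AlgInt} (hM : IsPModular 2 M) {x : G} (hx : orderOf x = 4) {f : G → ℂ}
    (hf : IsClassFunction G f) (h4 : ∀ u w, IsPPart 2 u w → IsConj x w → f u = 4)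
    (h0 : ∀ u w, IsPPart 2 u w → ¬ IsConj x w → f u = 0) (h1 : classInner f (fun _ => 1) = 1)
    (χ : IrrCharacter G) :
    (χ ∈ principalBlock M G → classInner f (χ : G → ℂ) = conj ((χ : G → ℂ) x)) ∧
      (χ ∉ principalBlock M G → classInner f (χ : G → ℂ) = 0) := by
  classical
  haveI : Fact (Nat.Prime 2) := ⟨Nat.prime_two⟩
  haveI := hM.2.1.isPrime
  have hin : ∀ ψ : IrrCharacter G, ψ ∈ principalBlock M G →
      classInner f (ψ : G → ℂ) = conj ((ψ : G → ℂ) x) := by
    intro ψ hψ
    have : ∀ u, f u * conj ((ψ : G → ℂ) u) = f u * conj ((ψ : G → ℂ) x) := by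
      intro u
      obtain ⟨w, hw, -⟩ := Blocks.exists_isPPart (p := 2) u
      by_cases hc : IsConj x w
      · rw [const_on_section S e hM hx hw hc hψ]
      · rw [h0 u w hw hc, zero_mul, zero_mul]
    have h1' : (Nat.card G : ℂ)⁻¹ * ∑ u, f u = 1 := by
      simpa [classInner] using h1
    rw [classInner]
    simp only [this, ← Finset.sum_mul]
    rw [← mul_assoc, h1', one_mul]
  refine ⟨hin χ, fun hχ => ?_⟩
  set c : IrrCharacter G → ℂ := fun ψ =>
    if ψ ∈ principalBlock M G then classInner f (ψ : G → ℂ) else 0 with hc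
  set P : G → ℂ := ∑ ψ : IrrCharacter G, c ψ • (ψ : G → ℂ) with hP
  have hPapply : ∀ u, P u = ∑ ψ : IrrCharacter G, c ψ * (ψ : G → ℂ) u := fun u => by
    simp [hP, Finset.sum_apply]
  have hPblock : ∀ u, P u = blockPart (principalBlock M G) f u := by
    intro u
    rw [hPapply, blockPart, Blocks.finsum_mem_irr]
    refine Finset.sum_congr rfl fun ψ _ => ?_
    by_cases hψ : ψ ∈ principalBlock M G
    · simp only [hc, if_pos hψ]
      congr 2
      exact Subsingleton.elim _ _
    · simp only [hc, if_neg hψ, zero_mul]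
  have hPf : P = (P x / 4) • f := by
    funext u
    obtain ⟨w, hw, -⟩ := Blocks.exists_isPPart (p := 2) u
    rw [Pi.smul_apply, smul_eq_mul]
    by_cases hcw : IsConj x w
    · rw [h4 u w hw hcw, hPapply, hPapply, div_mul_cancel₀ _ (by norm_num : (4 : ℂ) ≠ 0)]
      refine Finset.sum_congr rfl fun ψ _ => ?_
      by_cases hψ : ψ ∈ principalBlock M G
      · rw [const_on_section S e hM hx hw hcw hψ]
      · simp only [hc, if_neg hψ, zero_mul]
    · rw [h0 u w hw hcw, mul_zero, hPblock]
      have hk : ∃ k : ℕ, orderOf w = 2 ^ k := by obtain ⟨o, -, -, hk, -⟩ := hw; exact hk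
      exact ((Cfsg.Agent.S0925.result 2 M hM).1 f hf w hk
        (fun u' z' hu' hz' => h0 u' z' hu' fun hc' => hcw (hc'.trans hz'.symm))
        _ ⟨CT.trivIrr G, rfl⟩ u w hw (IsConj.refl w))
  have hinner : ∀ ψ : IrrCharacter G, classInner P (ψ : G → ℂ) = c ψ := by
    intro ψ
    rw [hP, CT.classInner_sum_left]
    simp only [CT.classInner_smul_left, CT.irr_inner_subtype, mul_ite, mul_one, mul_zero,
      Finset.sum_ite_eq', Finset.mem_univ, if_true]
  have hK : P x / 4 = 1 := by
    have h2 := hinner (CT.trivIrr G)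
    rw [hPf, CT.classInner_smul_left] at h2
    simp only [hc, if_pos (trivIrr_mem_principalBlock M)] at h2
    rw [show ((CT.trivIrr G : IrrCharacter G) : G → ℂ) = fun _ => 1 from rfl, h1, mul_one] at h2
    exact h2
  rw [hK, one_smul] at hPf
  rw [← hPf, hinner, hc]
  exact if_neg hχ

end Cfsg.Agent.Q8
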