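import Mathlib
import Cfsg.Agent.Lib.InvChar.Q8Setup
import Cfsg.Agent.Lib.CT.Brauer
import Cfsg.Agent.Lib.CT.Kernel
import Cfsg.Agent.Lib.CT.Integral
import Cfsg.Agent.Lib.ClassSum.Basic
import Cfsg.Agent.Lib.Transfer.Hall

/-!
# Generalized characters attached to the 2-sections of an involution centralizer
-/

set_option autoImplicit false
set_option linter.style.haveILetI false
set_option linter.unusedSectionVars false

namespace Cfsg.Agent.Q8

open Cfsg Cfsg.Agent
open scoped ComplexConjugate

universe u

variable {C : Type u} [Group C] [Finite C] {z x : C}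

/-- Central elements multiply the values of an irreducible character by a scalar. -/
theorem irr_central_mul {H : Type u} [Group H] [Finite H] {χ : H → ℂ} (hχ : IsIrrCharacter H χ)
    {w : H} (hw : w ∈ Subgroup.center H) (hw2 : w * w = 1) :
    ∃ c : ℂ, (c = 1 ∨ c = -1) ∧ ∀ g, χ (w * g) = c * χ g := by
  haveI := Fintype.ofFinite H
  obtain ⟨n, ρ, hρ, rfl⟩ := hχ
  haveI := hρ
  obtain ⟨ω, hω, -⟩ := CT.central_scalar ρ hw
  have hval : ∀ g, ρ.character (w * g) = ω * ρ.character g := fun g => by
    rw [Representation.character, map_mul, hω]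
    simp [Representation.character, Module.End.mul_eq_comp]
  refine ⟨ω, ?_, hval⟩
  have h1 := hval w
  have h2 := hval 1
  rw [hw2] at h1
  rw [mul_one] at h2
  rw [h2, ← mul_assoc] at h1
  have hne : ρ.character 1 ≠ 0 := CT.irr_one_ne_zero ⟨n, ρ, hρ, rfl⟩
  have : ω * ω = 1 := (mul_right_cancel₀ hne ((one_mul _).trans h1)).symm
  exact mul_self_eq_one_iff.mp this

/-- The function 4 on the 2-sections of the elements of order 4. -/
noncomputable def psiC (g : C) : ℂ := if orderOf (tw g) = 4 then 4 else 0

/-- The twist of a function by the sign of the central involution. -/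
noncomputable def minusFn (z : C) (A : C → ℂ) (g : C) : ℂ := by
  classical exact if tw g = 1 then A (ev g) else if tw g = z then -A (ev g) else 0

theorem isClassFunction_psiC : IsClassFunction C (psiC : C → ℂ) := fun g c => by
  unfold psiC
  rw [tw_conj, Invol.orderOf_conj]

theorem Setup.isClassFunction_minusFn (h : Setup C z x) {A : C → ℂ} (hA : IsClassFunction C A) :
    IsClassFunction C (minusFn z A) := fun g c => by
  classical
  have e1 : c * tw g * c⁻¹ = 1 ↔ tw g = 1 := by rw [conj_eq_one_iff]
  have e2 : c * tw g * c⁻¹ = z ↔ tw g = z := by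
    constructor
    · intro he
      have hzz : c⁻¹ * z * c = z := by
        rw [mul_assoc, ← Subgroup.mem_center_iff.mp h.central c, inv_mul_cancel_left]
      rw [← hzz, ← he]; group
    · intro he
      rw [he, Subgroup.mem_center_iff.mp h.central c, mul_inv_cancel_right]
  unfold minusFn
  rw [tw_conj, ev_conj]
  simp only [e1, e2, hA (ev g) c]

section TwoGroup

variable {T : Type u} [Group T] [Finite T]

/-- Class functions on a small 2-group with a central involution. -/
theorem two_group_gen (h : ∀ t : T, orderOf t ∣ 4) (hcard : Nat.card T = 4 ∨ Nat.card T = 8)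
    {zT : T} (hz : zT ∈ Subgroup.center T) (hz2 : orderOf zT = 2)
    (huniq : ∀ t : T, orderOf t = 2 → t = zT)
    (hcomm : Nat.card T = 8 → ∃ a b : T, b * a * b⁻¹ * a⁻¹ = zT) :
    IsGeneralizedCharacter T (fun t => if orderOf t = 4 then (4 : ℂ) else 0) ∧
    (open Classical in IsGeneralizedCharacter T
      (fun t => if t = 1 then (2 : ℂ) else if t = zT then -2 else 0)) := by
  classical
  haveI := Fintype.ofFinite T
  have hne : zT ≠ 1 := Invol.ne_one_of_orderOf_two hz2
  have hzz := Invol.mul_self_of_orderOf_two hz2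
  have h4 : ∀ t : T, orderOf t = 4 ↔ t ≠ 1 ∧ t ≠ zT := by
    intro t
    constructor
    · intro ht
      refine ⟨fun h1 => ?_, fun h1 => ?_⟩
      · rw [h1, orderOf_one] at ht; omega
      · rw [h1, hz2] at ht; omega
    · rintro ⟨h1, h2⟩
      refine orderOf_eq_four (h t) fun hh => h2 (huniq t (Invol.orderOf_two_of_mul_self hh h1))
  -- the scalar of `zT` and the parity
  have hkey : ∀ χ : IrrCharacter T, ∃ d : ℕ, (χ : T → ℂ) 1 = d ∧
      ((χ : T → ℂ) zT = (χ : T → ℂ) 1 ∨
        ((χ : T → ℂ) zT = -(χ : T → ℂ) 1 ∧ (Nat.card T = 8 → 2 ∣ d))) := by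
    intro χ
    refine ⟨_, CT.deg_eq (CT.isCharacter_of_isIrr χ.2), ?_⟩
    obtain ⟨c, hc, hval⟩ := irr_central_mul χ.2 hz hzz
    have hv := hval 1
    rw [mul_one] at hv
    rcases hc with rfl | rfl
    · exact Or.inl (by rw [hv, one_mul])
    · refine Or.inr ⟨by rw [hv, neg_one_mul], fun h8 => ?_⟩
      have hd := ClassSum.degree_dvd_card χ
      rw [h8] at hd
      obtain ⟨i, -, hi⟩ := (Nat.dvd_prime_pow Nat.prime_two).mp (show CT.deg (χ : T → ℂ) ∣ 2 ^ 3 from hd)
      rcases Nat.eq_zero_or_pos i with rfl | hi0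
      · exfalso
        have h1 : (χ : T → ℂ) 1 = 1 := by rw [CT.deg_eq (CT.isCharacter_of_isIrr χ.2), hi]; simp
        obtain ⟨lam, hlam⟩ := CT.exists_hom_of_degree_one (CT.isCharacter_of_isIrr χ.2) h1
        obtain ⟨a, b, hab⟩ := hcomm h8
        have hz1 : lam zT = 1 := by
          rw [← hab]; simp [mul_right_comm (lam b) (lam a)]
        rw [h1, neg_one_mul] at hv
        have : (χ : T → ℂ) zT = 1 := by rw [hlam]; simp [hz1]
        rw [this] at hv
        norm_num at hv
      · rw [hi]; exact dvd_pow_self 2 (by omega)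
  have hsum : ∀ χ : IrrCharacter T, ∃ n : ℕ, ∑ t, conj ((χ : T → ℂ) t) = (Nat.card T : ℂ) * n := by
    intro χ
    obtain ⟨n, hn⟩ := CT.classInner_character_nat CT.isCharacter_one (CT.isCharacter_of_isIrr χ.2)
    refine ⟨n, ?_⟩
    rw [← hn, classInner, ← mul_assoc, mul_inv_cancel₀ CT.card_ne_zero, one_mul]
    simp
  have hcf1 : IsClassFunction T (fun t => if orderOf t = 4 then (4 : ℂ) else 0) := fun g c => by
    simp only [Invol.orderOf_conj]
  have hcf2 : IsClassFunction T (fun t => if t = 1 then (2 : ℂ) else if t = zT then -2 else 0) := by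
    intro g c
    have e2 : c * g * c⁻¹ = zT ↔ g = zT := by
      constructor
      · intro he
        have hzc : c⁻¹ * zT * c = zT := by
          rw [mul_assoc, ← Subgroup.mem_center_iff.mp hz c, inv_mul_cancel_left]
        rw [← hzc, ← he]; group
      · intro he
        rw [he, Subgroup.mem_center_iff.mp hz c, mul_inv_cancel_right]
    simp only [conj_eq_one_iff, e2]
  constructor
  · refine CT.isGen_iff.mpr ⟨hcf1, fun χ => ?_⟩
    obtain ⟨n, hn⟩ := hsum χ
    obtain ⟨d, hd, hzv⟩ := hkey χ
    have hsplit : ∑ t : T, (if orderOf t = 4 then (4 : ℂ) else 0) * conj ((χ : T → ℂ) t) =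
        4 * ((Nat.card T : ℂ) * n - conj ((χ : T → ℂ) 1) - conj ((χ : T → ℂ) zT)) := by
      have e : ∀ t : T, (if orderOf t = 4 then (4 : ℂ) else 0) * conj ((χ : T → ℂ) t) =
          4 * conj ((χ : T → ℂ) t) - (if t = 1 then 4 * conj ((χ : T → ℂ) t) else 0) -
            (if t = zT then 4 * conj ((χ : T → ℂ) t) else 0) := by
        intro t
        by_cases h1 : t = 1
        · subst h1; simp [hne.symm]
        · by_cases h2 : t = zT
          · subst h2; simp [hne, hz2]
          · simp [h1, h2, (h4 t).mpr ⟨h1, h2⟩]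
      simp only [e, Finset.sum_sub_distrib, Finset.sum_ite_eq', Finset.mem_univ, if_true,
        ← Finset.mul_sum, hn]
      ring
    rw [classInner, hsplit]
    rcases hcard with hT | hT <;> rcases hzv with hzv | ⟨hzv, -⟩ <;>
      rw [hzv, hT, hd] <;> simp only [map_neg, map_natCast]
    · exact ⟨4 * n - 2 * d, by push_cast; ring⟩
    · exact ⟨4 * n, by push_cast; ring⟩
    · exact ⟨4 * n - d, by push_cast; ring⟩
    · exact ⟨4 * n, by push_cast; ring⟩
  · refine CT.isGen_iff.mpr ⟨hcf2, fun χ => ?_⟩
    obtain ⟨d, hd, hzv⟩ := hkey χ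
    have hsplit : ∑ t : T, (if t = 1 then (2 : ℂ) else if t = zT then -2 else 0) * conj ((χ : T → ℂ) t) =
        2 * conj ((χ : T → ℂ) 1) - 2 * conj ((χ : T → ℂ) zT) := by
      have e : ∀ t : T, (if t = 1 then (2 : ℂ) else if t = zT then -2 else 0) * conj ((χ : T → ℂ) t) =
          (if t = 1 then 2 * conj ((χ : T → ℂ) t) else 0) -
            (if t = zT then 2 * conj ((χ : T → ℂ) t) else 0) := by
        intro t
        by_cases h1 : t = 1
        · subst h1; simp [hne.symm]
        · by_cases h2 : t = zT
          · subst h2; simp [hne]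
          · simp [h1, h2]
      simp only [e, Finset.sum_sub_distrib, Finset.sum_ite_eq', Finset.mem_univ, if_true]
    rw [classInner, hsplit]
    rcases hzv with hzv | ⟨hzv, heven⟩
    · exact ⟨0, by rw [hzv]; simp⟩
    · rcases hcard with hT | hT
      · exact ⟨d, by rw [hzv, hT, hd]; simp only [map_neg, map_natCast]; push_cast; ring⟩
      · obtain ⟨d', rfl⟩ := heven hT
        exact ⟨d', by rw [hzv, hT, hd]; simp only [map_neg, map_natCast]; push_cast; ring⟩

end TwoGroup

/-- The power map to odd parts is a homomorphism on nilpotent subgroups. -/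
theorem Setup.ev_mul (h : Setup C z x) (E : Subgroup C) [Group.IsNilpotent E] (a b : E) :
    (a * b) ^ oddExp C = a ^ oddExp C * b ^ oddExp C := by
  haveI : ∀ {p : ℕ} [Fact p.Prime] (P : Sylow p E), (P : Subgroup E).Normal := fun P =>
    P.normal_of_normalizerCondition normalizerCondition_of_isNilpotent
  set Φ := Sylow.directProductOfNormal (G := E) (fun P => this P)
  obtain ⟨m, hm, hc, h8, h1⟩ := h.oddExp_spec
  obtain ⟨A, rfl⟩ := Φ.surjective a
  obtain ⟨B, rfl⟩ := Φ.surjective b
  rw [← map_mul Φ, ← map_pow Φ, ← map_pow Φ, ← map_pow Φ, ← map_mul Φ]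
  congr 1
  funext p P
  haveI : Fact (p : ℕ).Prime := ⟨Nat.prime_of_mem_primeFactors p.2⟩
  simp only [Pi.pow_apply, Pi.mul_apply]
  have key : ∀ w : (P : Subgroup E), w ^ oddExp C = if (p : ℕ) = 2 then 1 else w := by
    intro w
    obtain ⟨i, hi⟩ := P.2.exists_orderOf_eq_pow w
    have hdC : orderOf w ∣ Nat.card C := by
      have h0 := orderOf_dvd_natCard ((w : E) : C)
      rwa [Subgroup.orderOf_coe, Subgroup.orderOf_coe] at h0
    rw [hc] at hdC
    split_ifs with hp2
    · refine orderOf_dvd_iff_pow_eq_one.mp (dvd_trans ?_ h8)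
      rw [hi, hp2] at hdC ⊢
      exact (Nat.Coprime.pow_left i ((Nat.coprime_two_left).mpr hm)).dvd_of_dvd_mul_right hdC
    · have hdm : orderOf w ∣ m := by
        rw [hi] at hdC ⊢
        refine (Nat.Coprime.pow_left i ?_).dvd_of_dvd_mul_left hdC
        rw [show (8 : ℕ) = 2 ^ 3 by norm_num]
        exact Nat.Coprime.pow_right 3 ((Nat.coprime_primes (Fact.out) Nat.prime_two).mpr hp2)
      conv_rhs => rw [← pow_one w]
      exact pow_eq_pow_iff_modEq.mpr (h1.of_dvd hdm)
  rw [key, key, key]
  split_ifs <;> simp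

/-- The odd part on a nilpotent subgroup. -/
noncomputable def Setup.evHom (h : Setup C z x) (E : Subgroup C) [Group.IsNilpotent E] : E →* E :=
  MonoidHom.mk' (fun e => e ^ oddExp C) (h.ev_mul E)

theorem Setup.evHom_coe (h : Setup C z x) (E : Subgroup C) [Group.IsNilpotent E] (e : E) :
    ((h.evHom E e : E) : C) = ev (e : C) := by
  simp [Setup.evHom, ev]

theorem Setup.tw_mul (h : Setup C z x) (E : Subgroup C) [Group.IsNilpotent E] (a b : E) :
    (a * b) * ((a * b) ^ oddExp C)⁻¹ = (a * (a ^ oddExp C)⁻¹) * (b * (b ^ oddExp C)⁻¹) := by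
  have hco : Commute (b * (b ^ oddExp C)⁻¹) (a ^ oddExp C)⁻¹ := by
    refine (Transfer.commute_of_coprime_of_nilpotent (G := E) ?_).inv_right
    have e1 : orderOf (b * (b ^ oddExp C)⁻¹) ∣ 2 ^ 2 := by
      rw [← Subgroup.orderOf_coe]
      exact h.tw_dvd_four (b : C)
    have e2 : Odd (orderOf (a ^ oddExp C)) := by
      rw [← Subgroup.orderOf_coe]; exact h.ev_odd (a : C)
    exact Nat.Coprime.coprime_dvd_left e1 (Nat.Coprime.pow_left 2 ((Nat.coprime_two_left).mpr e2))
  rw [h.ev_mul E, mul_inv_rev, ← mul_assoc, mul_assoc a b, mul_assoc a (b * _), hco.eq, ← mul_assoc]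

/-- The 2-part on a nilpotent subgroup. -/
noncomputable def Setup.twHom (h : Setup C z x) (E : Subgroup C) [Group.IsNilpotent E] : E →* E :=
  MonoidHom.mk' (fun e => e * (e ^ oddExp C)⁻¹) (h.tw_mul E)

theorem Setup.twHom_coe (h : Setup C z x) (E : Subgroup C) [Group.IsNilpotent E] (e : E) :
    ((h.twHom E e : E) : C) = tw (e : C) := by
  simp [Setup.twHom, tw, ev]

/-- The generalized characters `psiC` and `minusFn z A`. -/
theorem Setup.isGen_fns (h : Setup C z x) {A : C → ℂ} (hA : IsGeneralizedCharacter C A)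
    (hAz : ∀ g, A (z * g) = A g) {c : ℤ} (hA4 : ∀ g, orderOf (tw g) = 4 → A g = 2 * c) :
    IsGeneralizedCharacter C (psiC : C → ℂ) ∧ IsGeneralizedCharacter C (minusFn z A) := by
  classical
  haveI := Fintype.ofFinite C
  suffices hloc : ∀ E : Subgroup C, Group.IsNilpotent E →
      IsGeneralizedCharacter E (fun e : E => psiC (e : C)) ∧
        IsGeneralizedCharacter E (fun e : E => minusFn z A (e : C)) by
    exact ⟨CT.isGen_of_restrict_elementary isClassFunction_psiC
        (fun E q hq hE => (hloc E (CT.isNilpotent_of_isElementary hq hE)).1),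
      CT.isGen_of_restrict_elementary (h.isClassFunction_minusFn (CT.isClassFunction_of_isGen hA))
        (fun E q hq hE => (hloc E (CT.isNilpotent_of_isElementary hq hE)).2)⟩
  intro E hnil
  haveI := hnil
  set τ := h.twHom E with hτ
  set π := h.evHom E with hπ
  haveI := Fintype.ofFinite E
  set T := τ.range with hT
  haveI := Fintype.ofFinite T
  have hτc : ∀ e : E, ((τ e : E) : C) = tw (e : C) := h.twHom_coe E
  have hπc : ∀ e : E, ((π e : E) : C) = ev (e : C) := h.evHom_coe E
  have hAE : IsGeneralizedCharacter E (fun e : E => A (ev (e : C))) := by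
    have := CT.isGen_comp (E.subtype.comp π) hA
    simp only [MonoidHom.comp_apply, Subgroup.coe_subtype, hπc] at this
    exact this
  by_cases hfour : ∃ e : E, orderOf (tw (e : C)) = 4
  · -- `T` has an element of order 4
    obtain ⟨s₀, hs₀⟩ := hfour
    set s : E := τ s₀ with hs
    have hs4 : orderOf s = 4 := by rw [← Subgroup.orderOf_coe, hτc]; exact hs₀
    have hTp : IsPGroup 2 T := by
      rintro ⟨_, e, rfl⟩
      refine ⟨2, Subtype.ext ?_⟩
      exact orderOf_dvd_iff_pow_eq_one.mp (by
        rw [← Subgroup.orderOf_coe, hτc]; exact h.tw_dvd_four _)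
    obtain ⟨S, ⟨e⟩⟩ := h.quat
    obtain ⟨hdvd, huniqS, htriple, x₀, hx₀, y₀, hy₀, hx4, hy4, hxy⟩ := facts S e
    obtain ⟨c₀, hc₀⟩ := exists_conj_into S (P := T.map E.subtype) (hTp.map _)
    have hTdvd : ∀ t : T, orderOf t ∣ 4 := by
      rintro ⟨t, ht⟩
      obtain ⟨e', he'⟩ := (ht : t ∈ τ.range)
      rw [← Subgroup.orderOf_coe]
      show orderOf t ∣ 4
      rw [← he', ← Subgroup.orderOf_coe, hτc]; exact h.tw_dvd_four _
    have hzE : (z : C) ∈ E := by
      have : ((s * s : E) : C) = z := by
        rw [Subgroup.coe_mul]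
        exact h.sq_eq (by rw [Subgroup.orderOf_coe]; exact hs4)
      rw [← this]; exact (s * s).2
    have hzT : (⟨z, hzE⟩ : E) ∈ T := by
      have : (⟨z, hzE⟩ : E) = s * s := Subtype.ext (by
        rw [Subgroup.coe_mul]
        exact (h.sq_eq (by rw [Subgroup.orderOf_coe]; exact hs4)).symm)
      rw [this]; exact mul_mem ⟨s₀, rfl⟩ ⟨s₀, rfl⟩
    set zT : T := ⟨⟨z, hzE⟩, hzT⟩ with hzTdef
    have hzTc : zT ∈ Subgroup.center T := Subgroup.mem_center_iff.mpr fun t =>
      Subtype.ext (Subtype.ext (Subgroup.mem_center_iff.mp h.central _))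
    have hzT2 : orderOf zT = 2 := by
      rw [← Subgroup.orderOf_coe, ← Subgroup.orderOf_coe]; exact h.hz
    have huniqT : ∀ t : T, orderOf t = 2 → t = zT := fun t ht =>
      Subtype.ext (Subtype.ext (h.eq_z (by rw [Subgroup.orderOf_coe, Subgroup.orderOf_coe]; exact ht)))
    have hconjT : Nat.card T ∣ 8 ∧ (Nat.card T = 8 → ∃ a b : T, b * a * b⁻¹ * a⁻¹ = zT) := by
      set f : T →* (S : Subgroup C) :=
        ((MulAut.conj c₀).toMonoidHom.comp (E.subtype.comp T.subtype)).codRestrict _
          (fun t => hc₀ _ ⟨(t : E), t.2, rfl⟩) with hf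
      have hfinj : Function.Injective f := by
        intro p q hpq
        have := congrArg Subtype.val hpq
        simp only [hf, MonoidHom.codRestrict_apply, MonoidHom.comp_apply] at this
        exact Subtype.ext (Subtype.ext ((MulAut.conj c₀).injective this))
      have h8 : Nat.card (S : Subgroup C) = 8 := (Invol.q8_facts e).1
      refine ⟨h8 ▸ Subgroup.card_dvd_of_injective f hfinj, fun hT8 => ?_⟩
      have hsurj : Function.Surjective f :=
        ((Nat.bijective_iff_injective_and_card f).mpr ⟨hfinj, hT8.trans h8.symm⟩).2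
      obtain ⟨a, ha⟩ := hsurj ⟨x₀, hx₀⟩
      obtain ⟨b, hb⟩ := hsurj ⟨y₀, hy₀⟩
      refine ⟨a, b, hfinj ?_⟩
      have hz' : f zT = ⟨x₀ ^ 2, Subgroup.pow_mem _ hx₀ 2⟩ := by
        apply Subtype.ext
        refine huniqS _ (f zT).2 _ (Subgroup.pow_mem _ hx₀ 2) ?_ (by rw [orderOf_pow, hx4]; rfl)
        rw [Subgroup.orderOf_coe, orderOf_injective f hfinj, hzT2]
      rw [hz', map_mul f, map_mul f, map_mul f, map_inv f, map_inv f, ha, hb]
      apply Subtype.ext
      obtain ⟨-, hinv, -, -, -⟩ := htriple x₀ hx₀ y₀ hy₀ hx4 hy4 hxy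
      simp only [Subgroup.coe_mul, Subgroup.coe_inv]
      rw [hinv, ← mul_inv_rev, ← pow_two]
      have h4 : x₀ ^ 4 = 1 := orderOf_dvd_iff_pow_eq_one.mp (by rw [hx4])
      exact inv_eq_of_mul_eq_one_left (by rw [← pow_add]; exact h4)
    have hcardT : Nat.card T = 4 ∨ Nat.card T = 8 := by
      have h4 : 4 ∣ Nat.card T := by
        have := orderOf_dvd_natCard (⟨s, s₀, rfl⟩ : T)
        rw [← Subgroup.orderOf_coe] at this
        exact hs4 ▸ this
      have hle := Nat.le_of_dvd (by norm_num) hconjT.1
      have hd := hconjT.1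
      interval_cases hn : Nat.card T <;> omega
    obtain ⟨hg1, hg2⟩ := two_group_gen hTdvd hcardT hzTc hzT2 huniqT hconjT.2
    have hρ1 := CT.isGen_comp τ.rangeRestrict hg1
    have hρ2 := CT.isGen_comp τ.rangeRestrict hg2
    constructor
    · convert hρ1 using 1
      funext e'
      rw [psiC, ← Subgroup.orderOf_coe, ← Subgroup.orderOf_coe, MonoidHom.coe_rangeRestrict, hτc]
    · -- half of `A` on the odd part
      set O := π.range with hO
      haveI := Fintype.ofFinite O
      have hOodd : ∀ o : O, Odd (orderOf ((o : E) : C)) := by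
        rintro ⟨_, e', rfl⟩
        show Odd (orderOf ((π e' : E) : C))
        rw [hπc]; exact h.ev_odd _
      have hcomm : ∀ (t : Subgroup.zpowers s) (o : O), Commute (t : E) (o : E) := by
        rintro ⟨_, k, rfl⟩ o
        refine Commute.zpow_left (Transfer.commute_of_coprime_of_nilpotent (G := E) ?_) k
        rw [hs4, show (4 : ℕ) = 2 ^ 2 by norm_num]
        refine Nat.Coprime.pow_left 2 ((Nat.coprime_two_left).mpr ?_)
        rw [← Subgroup.orderOf_coe]; exact hOodd o
      set ι : Subgroup.zpowers s × O →* C :=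
        E.subtype.comp (MonoidHom.noncommCoprod (Subgroup.zpowers s).subtype O.subtype hcomm) with hι
      have hιval : ∀ (t : Subgroup.zpowers s) (o : O), ι (t, o) = ((t : E) : C) * ((o : E) : C) :=
        fun t o => rfl
      have ht4 : ∀ t : Subgroup.zpowers s, orderOf ((t : E) : C) ∣ 4 := by
        intro t
        rw [Subgroup.orderOf_coe, Subgroup.orderOf_coe]
        exact (orderOf_dvd_natCard t).trans (by rw [Nat.card_zpowers, hs4])
      haveI := Fintype.ofFinite (Subgroup.zpowers s)
      have hcards : Fintype.card (Subgroup.zpowers s) = 4 := by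
        rw [← Nat.card_eq_fintype_card, Nat.card_zpowers, hs4]
      set zs : Subgroup.zpowers s := ⟨s * s, mul_mem (Subgroup.mem_zpowers s) (Subgroup.mem_zpowers s)⟩
      have hzs : ((zs : E) : C) = z := by
        show ((s * s : E) : C) = z
        rw [Subgroup.coe_mul]
        exact h.sq_eq (by rw [Subgroup.orderOf_coe]; exact hs4)
      have hzs_ne : zs ≠ 1 := fun he => by
        have := congrArg (fun t : Subgroup.zpowers s => ((t : E) : C)) he
        simp only [Subgroup.coe_one, hzs] at this
        exact Invol.ne_one_of_orderOf_two h.hz this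
      set K : Subgroup (Subgroup.zpowers s) := Subgroup.zpowers zs
      have hzs2 : orderOf zs = 2 := by
        rw [← Subgroup.orderOf_coe, ← Subgroup.orderOf_coe, hzs, h.hz]
      have hKidx : K.index = 2 := by
        have := K.card_mul_index
        rw [Nat.card_zpowers, hzs2, Nat.card_eq_fintype_card, hcards] at this
        omega
      have hKmem : ∀ t, t ∈ K ↔ t = 1 ∨ t = zs := by
        intro t
        constructor
        · intro ht
          obtain ⟨i, hi, rfl⟩ := (mem_zpowers_iff_mem_range_orderOf.mp ht : _) |> Finset.mem_image.mp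
          rw [Finset.mem_range, hzs2] at hi
          interval_cases i <;> simp
        · rintro (rfl | rfl)
          · exact one_mem _
          · exact Subgroup.mem_zpowers _
      let μ : Subgroup.zpowers s →* ℂˣ := MonoidHom.mk' (fun t => if t ∈ K then 1 else -1) (by
        intro p q
        by_cases hp : p ∈ K <;> by_cases hq : q ∈ K <;>
          simp [Subgroup.mul_mem_iff_of_index_two hKidx, hp, hq])
      have hout : ∀ (t : Subgroup.zpowers s) (o : O), t ∉ K → A (ι (t, o)) = 2 * c := by
        intro t o ht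
        rw [hKmem, not_or] at ht
        apply hA4
        have ht4' : orderOf ((t : E) : C) = 4 := by
          refine orderOf_eq_four (ht4 t) fun hh => ?_
          rcases (by
            by_cases h1 : ((t : E) : C) = 1
            · exact Or.inl h1
            · exact Or.inr (h.eq_z (Invol.orderOf_two_of_mul_self hh h1)) :
              ((t : E) : C) = 1 ∨ ((t : E) : C) = z) with h1 | h1
          · exact ht.1 (Subtype.ext (Subtype.ext h1))
          · exact ht.2 (Subtype.ext (Subtype.ext (h1.trans hzs.symm)))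
        rw [hιval, (h.parts_eq rfl (congrArg Subtype.val (hcomm t o) :) (ht4 t) (hOodd o)).1, ht4']
      have hsum : ∀ o : O, ∑ t, (μ t : ℂ) * A (ι (t, o)) = 2 * A ((o : E) : C) - 4 * c := by
        intro o
        have e : ∀ t, (μ t : ℂ) * A (ι (t, o)) =
            (if t = 1 then A ((o : E) : C) + 2 * c else 0) +
              (if t = zs then A ((o : E) : C) + 2 * c else 0) - 2 * c := by
          intro t
          by_cases ht : t ∈ K
          · have hμt : μ t = 1 := if_pos ht
            rcases (hKmem t).mp ht with rfl | rfl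
            · rw [hμt, if_pos rfl, if_neg hzs_ne.symm, hιval]; simp
            · rw [hμt, if_pos rfl, if_neg hzs_ne, hιval, hzs, hAz]; simp
          · have hμt : μ t = -1 := if_neg ht
            rw [hKmem, not_or] at ht
            rw [hμt, if_neg ht.1, if_neg ht.2, hout t o (by rw [hKmem, not_or]; exact ht)]
            simp
        simp only [e, Finset.sum_sub_distrib, Finset.sum_add_distrib, Finset.sum_ite_eq',
          Finset.mem_univ, if_true, Finset.sum_const, Finset.card_univ, hcards, nsmul_eq_mul]
        push_cast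
        ring
      have hhalf : IsGeneralizedCharacter O (fun o : O => A ((o : E) : C) / 2) := by
        have hcf : IsClassFunction O (fun o : O => A ((o : E) : C) / 2) := by
          intro o o'
          simp only [Subgroup.coe_mul, Subgroup.coe_inv]
          rw [CT.isClassFunction_of_isGen hA]
        refine CT.isGen_iff.mpr ⟨hcf, fun η => ?_⟩
        have hP := CT.isGen_comp ι hA
        have hξ : IsCharacter (Subgroup.zpowers s × O)
            (fun p => (μ p.1 : ℂ) * (η : O → ℂ) p.2) := by
          have h1 := CT.isCharacter_comp (MonoidHom.fst (Subgroup.zpowers s) O) (CT.isCharacter_lin μ)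
          have h2 := CT.isCharacter_comp (MonoidHom.snd (Subgroup.zpowers s) O)
            (CT.isCharacter_of_isIrr η.2)
          exact CT.isCharacter_mul h1 h2
        obtain ⟨n₁, hn₁⟩ := CT.isGen_inner_int hP (CT.isGen_of_isCharacter hξ)
        obtain ⟨n₂, hn₂⟩ := CT.classInner_character_nat (CT.isCharacter_one (G := O))
          (CT.isCharacter_of_isIrr η.2)
        refine ⟨n₁ + c * n₂, ?_⟩
        push_cast
        rw [← hn₁, ← hn₂]
        have hprod : ∑ p : Subgroup.zpowers s × O, A (ι p) * conj ((μ p.1 : ℂ) * (η : O → ℂ) p.2) =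
            ∑ o : O, (2 * A ((o : E) : C) - 4 * c) * conj ((η : O → ℂ) o) := by
          rw [Fintype.sum_prod_type, Finset.sum_comm]
          refine Finset.sum_congr rfl fun o _ => ?_
          rw [← hsum o, Finset.sum_mul]
          refine Finset.sum_congr rfl fun t _ => ?_
          have hμr : conj (μ t : ℂ) = (μ t : ℂ) := by
            by_cases ht : t ∈ K
            · simp [μ, ht]
            · simp [μ, ht]
          rw [map_mul, hμr]; ring
        have hcardP : (Nat.card (Subgroup.zpowers s × O) : ℂ) = 4 * Nat.card O := by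
          rw [Nat.card_prod, Nat.card_zpowers, hs4]; push_cast; ring
        simp only [classInner, hprod, hcardP, one_mul]
        rw [← sub_eq_zero]
        simp only [Finset.mul_sum, ← Finset.sum_add_distrib, ← Finset.sum_sub_distrib]
        refine Finset.sum_eq_zero fun o _ => ?_
        have : (Nat.card O : ℂ) ≠ 0 := CT.card_ne_zero
        field_simp
        ring
      have hhE := CT.isGen_comp π.rangeRestrict hhalf
      convert CT.isGen_mul hρ2 hhE using 1
      funext e'
      have e0 : tw (e' : C) = 1 ↔ τ.rangeRestrict e' = 1 := by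
        rw [← hτc, Subtype.ext_iff, MonoidHom.coe_rangeRestrict, Subgroup.coe_one, Subtype.ext_iff,
          Subgroup.coe_one]
      have e1 : tw (e' : C) = z ↔ τ.rangeRestrict e' = zT := by
        rw [← hτc, Subtype.ext_iff (a1 := τ.rangeRestrict e'), MonoidHom.coe_rangeRestrict, Subtype.ext_iff]
      simp only [Pi.mul_apply, minusFn, e0, e1, MonoidHom.coe_rangeRestrict, hπc]
      split_ifs <;> ring
  · -- no element of order 4
    push Not at hfour
    have hval : ∀ e : E, tw (e : C) = 1 ∨ tw (e : C) = z := fun e => by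
      rcases h.tw_cases (e : C) with h1 | h1 | h1
      · exact Or.inl h1
      · exact Or.inr h1
      · exact absurd h1 (hfour e)
    have hzne : z ≠ 1 := Invol.ne_one_of_orderOf_two h.hz
    let sgn : E →* ℂˣ := MonoidHom.mk' (fun e => if tw (e : C) = 1 then 1 else -1) (by
      intro a b
      have hmul : tw ((a * b : E) : C) = tw (a : C) * tw (b : C) := by
        rw [← h.twHom_coe E, ← h.twHom_coe E, ← h.twHom_coe E, map_mul, Subgroup.coe_mul]
      simp only [Subgroup.coe_mul] at hmul ⊢
      rcases hval a with ha | ha <;> rcases hval b with hb | hb <;>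
        simp [hmul, ha, hb, hzne, Invol.mul_self_of_orderOf_two h.hz])
    constructor
    · convert CT.isGen_zero (G := E) using 1
      funext e
      simp [psiC, hfour e]
    · convert CT.isGen_mul hAE (CT.isGen_of_isCharacter (CT.isCharacter_lin sgn)) using 1
      funext e
      simp only [Pi.mul_apply, sgn, MonoidHom.mk'_apply, minusFn]
      rcases hval e with h1 | h1 <;> simp [h1, hzne]

end Cfsg.Agent.Q8
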