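import Mathlib
import Cfsg.Agent.Lib.InvChar.Q8Gen
import Cfsg.Agent.Lib.InvChar.Q8Block
import Cfsg.Agent.Lib.Blocks.Orthogonality

/-!
# The principal block of the centralizer of an involution, quaternion Sylow 2-subgroup of order 8

The four generalized characters `A i` are the signed characters of the principal block that are
trivial on the central involution.
-/

set_option autoImplicit false
set_option linter.style.haveILetI false
set_option linter.unusedSectionVars false

namespace Cfsg.Agent.Q8

open Cfsg Cfsg.Agent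
open scoped ComplexConjugate

universe u

variable {C : Type u} [Group C] [Finite C] {z x : C}

theorem odd_of_tw_one (h : Setup C z x) {y : C} (hy : tw y = 1) : Odd (orderOf y) ∧ ev y = y := by
  have e := tw_mul_ev y
  rw [hy, one_mul] at e
  exact ⟨e ▸ h.ev_odd y, e⟩

theorem Setup.tw_z_mul' (h : Setup C z x) (g : C) :
    tw (z * g) = z * tw g ∧ ev (z * g) = ev g := by
  have hz : ∀ w : C, Commute z w := fun w => (Subgroup.mem_center_iff.mp h.central w).symm
  refine h.parts_eq (by rw [mul_assoc, tw_mul_ev]) ((hz _).mul_left (commute_tw_ev g)) ?_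
    (h.ev_odd g)
  refine orderOf_dvd_of_pow_eq_one ?_
  rw [(hz _).mul_pow, orderOf_dvd_iff_pow_eq_one.mp (by rw [h.hz]; norm_num : orderOf z ∣ 4),
    orderOf_dvd_iff_pow_eq_one.mp (h.tw_dvd_four g), one_mul]

variable [Fintype C]

open Classical in
/-- The sum over the elements of odd order. -/
noncomputable def oddSum (F : C → ℂ) : ℂ := ∑ y, if tw y = 1 then F y else 0

/-- The scalar product on the elements of odd order. -/
noncomputable def Rf (f g : C → ℂ) : ℂ :=
  2 * (Nat.card C : ℂ)⁻¹ * oddSum fun y => f y * conj (g y)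

theorem oddSum_congr {F F' : C → ℂ} (h : ∀ y, tw y = 1 → F y = F' y) : oddSum F = oddSum F' := by
  classical
  unfold oddSum
  refine Finset.sum_congr rfl fun y _ => ?_
  by_cases hy : tw y = 1
  · rw [if_pos hy, if_pos hy, h y hy]
  · rw [if_neg hy, if_neg hy]

theorem oddSum_add (F F' : C → ℂ) :
    oddSum (fun y => F y + F' y) = oddSum F + oddSum F' := by
  classical
  unfold oddSum
  rw [← Finset.sum_add_distrib]
  refine Finset.sum_congr rfl fun y _ => ?_
  split_ifs <;> simp

theorem oddSum_const_mul (c : ℂ) (F : C → ℂ) : oddSum (fun y => c * F y) = c * oddSum F := by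
  classical
  unfold oddSum
  rw [Finset.mul_sum]
  refine Finset.sum_congr rfl fun y _ => ?_
  split_ifs <;> simp

theorem Rf_add_left (f f' g : C → ℂ) : Rf (f + f') g = Rf f g + Rf f' g := by
  simp only [Rf, Pi.add_apply, add_mul, oddSum_add]
  ring

theorem Rf_add_right (f g g' : C → ℂ) : Rf f (g + g') = Rf f g + Rf f g' := by
  simp only [Rf, Pi.add_apply, map_add, mul_add, oddSum_add]

theorem Rf_smul_left (c : ℂ) (f g : C → ℂ) : Rf (c • f) g = c * Rf f g := by
  simp only [Rf, Pi.smul_apply, smul_eq_mul, mul_assoc, oddSum_const_mul]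
  ring

theorem Rf_sub_left (f f' g : C → ℂ) : Rf (f - f') g = Rf f g - Rf f' g := by
  have := Rf_add_left (f - f') f' g
  rw [sub_add_cancel] at this
  rw [this]; ring

theorem Rf_sum_right {ι : Type} (s : Finset ι) (f : C → ℂ) (g : ι → C → ℂ) :
    Rf f (∑ i ∈ s, g i) = ∑ i ∈ s, Rf f (g i) := by
  classical
  induction s using Finset.induction_on with
  | empty => simp [Rf, oddSum]
  | insert a s ha ih => rw [Finset.sum_insert ha, Finset.sum_insert ha, Rf_add_right, ih]

theorem Rf_conj (f g : C → ℂ) : conj (Rf f g) = Rf g f := by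
  classical
  simp only [Rf, oddSum, map_mul, map_sum, map_inv₀, map_natCast, map_ofNat]
  congr 1
  refine Finset.sum_congr rfl fun y _ => ?_
  split_ifs
  · rw [map_mul, Complex.conj_conj]; ring
  · simp

theorem Rf_congr_left {f f' : C → ℂ} (g : C → ℂ) (h : ∀ y, tw y = 1 → f y = f' y) :
    Rf f g = Rf f' g := by
  rw [Rf, Rf, oddSum_congr fun y hy => by rw [h y hy]]

/-- The sum over the whole group. -/
theorem Setup.sum_split (h : Setup C z x) (F : C → ℂ) :
    ∑ y, F y = oddSum F + oddSum (fun y => F (z * y)) +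
      ∑ y, (if orderOf (tw y) = 4 then F y else 0) := by
  classical
  have hne : z ≠ 1 := Invol.ne_one_of_orderOf_two h.hz
  have hzz := Invol.mul_self_of_orderOf_two h.hz
  have h2 : oddSum (fun y => F (z * y)) = ∑ y, if tw y = z then F y else 0 := by
    unfold oddSum
    refine Fintype.sum_equiv (Equiv.mulLeft z) _ _ fun y => ?_
    have e : tw (Equiv.mulLeft z y) = z * tw y := (h.tw_z_mul' y).1
    by_cases hy : tw y = 1
    · rw [if_pos hy, if_pos (by rw [e, hy, mul_one])]
      rfl
    · rw [if_neg hy, if_neg]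
      intro h'
      rw [e] at h'
      exact hy (mul_left_cancel (h'.trans (mul_one z).symm))
  rw [h2]
  unfold oddSum
  rw [← Finset.sum_add_distrib, ← Finset.sum_add_distrib]
  refine Finset.sum_congr rfl fun y _ => ?_
  rcases h.tw_cases y with h1 | h1 | h1
  · simp [h1, hne.symm]
  · simp [h1, hne, h.hz]
  · have a1 : tw y ≠ 1 := fun e => by rw [e, orderOf_one] at h1; omega
    have a2 : tw y ≠ z := fun e => by rw [e, h.hz] at h1; omega
    simp [h1, a1, a2]

theorem Setup.sum_four_const (h : Setup C z x) (k : ℂ) :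
    ∑ y : C, (if orderOf (tw y) = 4 then k else 0) = k * (Nat.card C : ℂ) / 4 := by
  classical
  rw [← Finset.sum_filter, Finset.sum_const, nsmul_eq_mul]
  have h4 := h.card_four
  rw [Nat.card_eq_fintype_card (α := {g : C // orderOf (tw g) = 4}), Fintype.card_subtype] at h4
  rw [← h4]
  push_cast
  ring

theorem Setup.psiC_inner (h : Setup C z x) :
    classInner (psiC : C → ℂ) psiC = 4 ∧ classInner (psiC : C → ℂ) (fun _ => 1) = 1 := by
  have hN : (Nat.card C : ℂ) ≠ 0 := CT.card_ne_zero
  constructor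
  · rw [classInner]
    have e : ∀ y : C, psiC y * conj (psiC y) = if orderOf (tw y) = 4 then (16 : ℂ) else 0 := by
      intro y
      unfold psiC
      split_ifs <;> simp [show (conj (4 : ℂ)) = 4 from Complex.conj_ofNat 4] <;> norm_num
    simp only [e, h.sum_four_const]
    field_simp
    norm_num
  · rw [classInner]
    have e : ∀ y : C, psiC y * conj (1 : ℂ) = if orderOf (tw y) = 4 then (4 : ℂ) else 0 := by
      intro y
      rw [map_one, mul_one, psiC]
    simp only [e, h.sum_four_const]
    field_simp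

theorem Setup.section_facts (h : Setup C z x) {M : Ideal AlgInt} (hM : IsPModular 2 M)
    (ψ : IrrCharacter C) :
    (ψ ∈ principalBlock M C → classInner (psiC : C → ℂ) (ψ : C → ℂ) = conj ((ψ : C → ℂ) x) ∧
      ∀ g, orderOf (tw g) = 4 → (ψ : C → ℂ) g = (ψ : C → ℂ) x) ∧
    (ψ ∉ principalBlock M C → classInner (psiC : C → ℂ) (ψ : C → ℂ) = 0) := by
  haveI : Fact (Nat.Prime 2) := ⟨Nat.prime_two⟩
  obtain ⟨S, ⟨e⟩⟩ := h.quat
  have hin := inner_section_fn S e hM h.hx isClassFunction_psiC
    (fun u w hw hc => by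
      have hu : tw u = w := Blocks.ppart_unique (h.isPPart u) hw
      rw [psiC, if_pos]
      rw [hu]
      obtain ⟨c, rfl⟩ := isConj_iff.mp hc
      rw [Invol.orderOf_conj, h.hx])
    (fun u w hw hc => by
      have hu : tw u = w := Blocks.ppart_unique (h.isPPart u) hw
      rw [psiC, if_neg]
      rw [hu]
      exact fun h4 => hc (h.conj w h4))
    h.psiC_inner.2 ψ
  refine ⟨fun hψ => ⟨hin.1 hψ, fun g hg => ?_⟩, hin.2⟩
  exact const_on_section S e hM h.hx (h.isPPart g) (h.conj _ hg) hψ

theorem Setup.z_mul_x (h : Setup C z x) : orderOf (z * x) = 4 := by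
  have hzc : Commute z x := (Subgroup.mem_center_iff.mp h.central x).symm
  have h1 : (z * x) * (z * x) = z := by
    rw [hzc.symm.mul_mul_mul_comm, Invol.mul_self_of_orderOf_two h.hz, one_mul, h.sq_eq h.hx]
  refine orderOf_eq_four ?_ (by rw [h1]; exact Invol.ne_one_of_orderOf_two h.hz)
  refine orderOf_dvd_of_pow_eq_one ?_
  rw [show (4 : ℕ) = 2 * 2 by norm_num, pow_mul, pow_two (z * x), h1, pow_two,
    Invol.mul_self_of_orderOf_two h.hz]

/-- A character of the principal block trivial on `z` does not vanish at `x`. -/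
theorem Setup.apply_x_ne_zero (h : Setup C z x) {M : Ideal AlgInt} (hM : IsPModular 2 M)
    {ψ : IrrCharacter C} (hψ : ψ ∈ principalBlock M C)
    (hz : ∀ g, (ψ : C → ℂ) (z * g) = (ψ : C → ℂ) g) : (ψ : C → ℂ) x ≠ 0 := by
  classical
  haveI : Fact (Nat.Prime 2) := ⟨Nat.prime_two⟩
  haveI := hM.2.1.isPrime
  intro hx0
  have h40 : ∀ g, orderOf (tw g) = 4 → (ψ : C → ℂ) g = 0 := fun g hg => by
    rw [((h.section_facts hM ψ).1 hψ).2 g hg, hx0]
  have hne : z ≠ 1 := Invol.ne_one_of_orderOf_two h.hz
  have hβgen := (h.isGen_fns (CT.isGen_of_isIrr ψ.2) hz (c := 0)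
    (fun g hg => by rw [h40 g hg]; simp)).2
  set β := minusFn z (ψ : C → ℂ) with hβdef
  have hodd : ∀ g, tw g = 1 → β g = (ψ : C → ℂ) g := fun g hg => by
    rw [hβdef, minusFn, if_pos hg, (odd_of_tw_one h hg).2]
  have hzval : ∀ g, tw g = 1 → β (z * g) = -(ψ : C → ℂ) g := fun g hg => by
    rw [hβdef, minusFn, (h.tw_z_mul' g).1, (h.tw_z_mul' g).2, hg, mul_one, if_neg hne, if_pos rfl,
      (odd_of_tw_one h hg).2]
  have hfour : ∀ g, orderOf (tw g) = 4 → β g = 0 := fun g hg => by
    have a1 : tw g ≠ 1 := fun e => by rw [e, orderOf_one] at hg; omega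
    have a2 : tw g ≠ z := fun e => by rw [e, h.hz] at hg; omega
    rw [hβdef, minusFn, if_neg a1, if_neg a2]
  have htw1 : tw (1 : C) = 1 := (h.ev_of_odd (by rw [orderOf_one]; exact odd_one)).1
  have hβ1 : β 1 = (ψ : C → ℂ) 1 := hodd 1 htw1
  have hnorm : classInner β β = 1 := by
    rw [← CT.irr_inner_self ψ.2]
    simp only [classInner]
    congr 1
    rw [h.sum_split (fun g => β g * conj (β g)),
      h.sum_split (fun g => (ψ : C → ℂ) g * conj ((ψ : C → ℂ) g))]
    congr 1
    · congr 1
      · exact oddSum_congr fun y hy => by rw [hodd y hy]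
      · exact oddSum_congr fun y hy => by rw [hzval y hy, hz, map_neg]; ring
    · refine Finset.sum_congr rfl fun y _ => ?_
      by_cases hy : orderOf (tw y) = 4
      · rw [if_pos hy, if_pos hy, h40 y hy, hfour y hy]
      · rw [if_neg hy, if_neg hy]
  have hdeg := CT.deg_eq (CT.isCharacter_of_isIrr ψ.2)
  have hirr : IsIrrCharacter C β := CT.isIrr_of_isGen_norm_one hβgen hnorm (by
    rw [hβ1, hdeg, Complex.natCast_re]
    exact_mod_cast CT.deg_pos ψ.2)
  set b : IrrCharacter C := ⟨β, hirr⟩
  have hψb : ψ ≠ b := by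
    intro e
    have e1 := congrFun (congrArg (fun χ : IrrCharacter C => (χ : C → ℂ)) e) (z * 1)
    simp only [b] at e1
    rw [hz, hzval 1 htw1] at e1
    exact CT.irr_one_ne_zero ψ.2 (by linear_combination (1 / 2 : ℂ) * e1)
  -- the restriction to a Sylow subgroup
  obtain ⟨S, ⟨e⟩⟩ := h.quat
  obtain ⟨c0, hc0⟩ := exists_conj_elem_into S (t := z)
    ⟨1, by rw [pow_one, pow_two]; exact Invol.mul_self_of_orderOf_two h.hz⟩
  rw [Subgroup.mem_center_iff.mp h.central c0, mul_inv_cancel_right] at hc0
  obtain ⟨n, hn⟩ : ∃ n : ℕ, 2 * (ψ : C → ℂ) 1 = 8 * (n : ℂ) := by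
    haveI := Fintype.ofFinite (S : Subgroup C)
    obtain ⟨n, hn⟩ := CT.classInner_character_nat
      (CT.isCharacter_restrict (S : Subgroup C) (CT.isCharacter_of_isIrr ψ.2))
      (CT.isCharacter_one (G := (S : Subgroup C)))
    refine ⟨n, ?_⟩
    rw [← hn, classInner, (Invol.q8_facts e).1]
    have hval : ∀ s : (S : Subgroup C), (ψ : C → ℂ) s * conj (1 : ℂ) =
        (if s = 1 then (ψ : C → ℂ) 1 else 0) +
          (if s = ⟨z, hc0⟩ then (ψ : C → ℂ) 1 else 0) := by
      intro s
      rw [map_one, mul_one]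
      by_cases h1 : s = 1
      · subst h1
        have : (1 : (S : Subgroup C)) ≠ ⟨z, hc0⟩ := fun e' => hne (congrArg Subtype.val e').symm
        simp [this]
      by_cases h2 : s = ⟨z, hc0⟩
      · subst h2
        rw [if_neg h1, if_pos rfl, zero_add]
        have := hz 1
        rwa [mul_one] at this
      rw [if_neg h1, if_neg h2, add_zero]
      apply h40
      have hs4 : orderOf (s : C) ∣ 4 := (facts S e).1 _ s.2
      have hts : tw (s : C) = (s : C) := (h.parts_eq (g := (s : C)) (t := (s : C)) (o := 1)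
        (mul_one _) (Commute.one_right _) hs4 (by rw [orderOf_one]; exact odd_one)).1
      rw [hts]
      refine orderOf_eq_four hs4 fun hh => h2 (Subtype.ext (h.eq_z ?_))
      exact Invol.orderOf_two_of_mul_self hh fun e' => h1 (Subtype.ext e')
    simp only [hval, Finset.sum_add_distrib, Finset.sum_ite_eq', Finset.mem_univ, if_true]
    norm_num
    ring
  obtain ⟨m, hm, hcard⟩ := h.card_eq
  have hA : ∀ g : C, MemLocalRing M (blockCoeff ({ψ, b} : Set (IrrCharacter C)) g) := by
    intro g
    rw [blockCoeff, finsum_mem_pair hψb]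
    show _ ∈ Blocks.Loc M
    have hb : ∀ u, (b : C → ℂ) u = β u := fun u => rfl
    rcases h.tw_cases g with h1 | h1 | h1
    · rw [hb, hb, hβ1, hodd g h1]
      have e1 : (Nat.card C : ℂ)⁻¹ * ((ψ : C → ℂ) 1 * conj ((ψ : C → ℂ) g) +
          (ψ : C → ℂ) 1 * conj ((ψ : C → ℂ) g)) =
          (m : ℂ)⁻¹ * ((n : ℂ) * conj ((ψ : C → ℂ) g)) := by
        rw [← two_mul, ← mul_assoc 2, hn, hcard]
        have : (m : ℂ) ≠ 0 := Nat.cast_ne_zero.mpr fun e' => by rw [e'] at hm; exact Nat.not_odd_zero hm
        push_cast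
        field_simp
      rw [e1]
      refine Subring.mul_mem _ (Blocks.inv_mem_loc (natCast_mem (Blocks.Loc M) _) ?_)
        (Subring.mul_mem _ (natCast_mem (Blocks.Loc M) _)
          (Blocks.integral_mem_loc (CT.isIntegral_conj (Blocks.isIntegral_irr ψ.2 g))))
      rw [Blocks.memLocalIdeal_natCast hM, ← even_iff_two_dvd, Nat.not_even_iff_odd]
      exact hm
    · have hge : g = z * ev g := by
        conv_lhs => rw [← tw_mul_ev g, h1]
      have hev1 : tw (ev g) = 1 := (h.ev_of_odd (h.ev_odd g)).1
      rw [hb, hb, hge, hzval _ hev1, hz, hβ1, map_neg]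
      have : (Nat.card C : ℂ)⁻¹ * ((ψ : C → ℂ) 1 * conj ((ψ : C → ℂ) (ev g)) +
          (ψ : C → ℂ) 1 * -conj ((ψ : C → ℂ) (ev g))) = 0 := by ring
      rw [this]
      exact Subring.zero_mem _
    · rw [hb, hb, h40 g h1, hfour g h1, map_zero, mul_zero, mul_zero, add_zero, mul_zero]
      exact Subring.zero_mem _
  have hsub := Blocks.blockOf_subset_of_integral hA (χ := ψ) (Set.mem_insert _ _)
  have htriv : CT.trivIrr C ∈ blockOf M (ψ : C → ℂ) := by
    rw [← Blocks.block_eq_blockOf Blocks.isPBlock_principalBlock hψ]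
    exact Blocks.trivIrr_mem_principalBlock
  rcases hsub htriv with h' | h'
  · rw [← h', CT.trivIrr_apply] at hx0
    exact one_ne_zero hx0
  · have e1 := congrFun (congrArg (fun χ : IrrCharacter C => (χ : C → ℂ))
      (Set.mem_singleton_iff.mp h')) x
    simp only [b, CT.trivIrr_apply] at e1
    rw [hfour x (by
      rw [(h.parts_eq (g := x) (t := x) (o := 1) (mul_one _) (Commute.one_right _)
        (by rw [h.hx]) (by rw [orderOf_one]; exact odd_one)).1, h.hx])] at e1
    exact one_ne_zero e1

/-- The signed characters of the principal block trivial on `z`. -/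
structure IsLocalFamily (M : Ideal AlgInt) (z : C) (A : Fin 4 → C → ℂ) : Prop where
  zero : A 0 = fun _ => 1
  gen : ∀ i, IsGeneralizedCharacter C (A i)
  zinv : ∀ i g, A i (z * g) = A i g
  four : ∀ i g, orderOf (tw g) = 4 → A i g = 1
  ortho : ∀ i j, classInner (A i) (A j) = if i = j then 1 else 0
  sum : ∀ g, ∑ i, A i g = psiC g
  supp : ∀ i, ∀ ψ ∉ principalBlock M C, classInner (A i) (ψ : C → ℂ) = 0
  nf : ∀ ψ ∈ principalBlock M C, (∀ g, (ψ : C → ℂ) (z * g) = (ψ : C → ℂ) g) →
    ∃ j, ∃ r : ℂ, (ψ : C → ℂ) = r • A j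

theorem Setup.exists_family (h : Setup C z x) {M : Ideal AlgInt} (hM : IsPModular 2 M) :
    ∃ A : Fin 4 → C → ℂ, IsLocalFamily M z A := by
  classical
  haveI := hM.2.1.isPrime
  have hgen : IsGeneralizedCharacter C (psiC : C → ℂ) :=
    (h.isGen_fns (A := 0) CT.isGen_zero (fun _ => rfl) (c := 0) (fun _ _ => by simp)).1
  obtain ⟨hcf, hm⟩ := CT.isGen_iff.mp hgen
  choose m hm using hm
  have hexp := CT.classFunction_eq_sum hcf
  simp only [hm] at hexp
  have ht : m (CT.trivIrr C) = 1 := by
    have := hm (CT.trivIrr C)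
    rw [show ((CT.trivIrr C : IrrCharacter C) : C → ℂ) = fun _ => 1 from rfl, h.psiC_inner.2] at this
    exact_mod_cast this.symm
  have hsum : ∑ χ : IrrCharacter C, m χ ^ 2 = 4 := by
    have := CT.classInner_eq_sum (f := (psiC : C → ℂ)) hcf
    rw [h.psiC_inner.1] at this
    simp only [hm, map_intCast, ← pow_two] at this
    exact_mod_cast this.symm
  set s := (Finset.univ.erase (CT.trivIrr C)).filter fun χ => m χ ≠ 0 with hs
  have hsplit : ∑ χ ∈ Finset.univ.erase (CT.trivIrr C), m χ ^ 2 = 3 := by
    rw [← Finset.add_sum_erase _ _ (Finset.mem_univ (CT.trivIrr C)), ht] at hsum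
    linarith
  have hs3 : ∑ χ ∈ s, m χ ^ 2 = 3 := by
    rw [← hsplit, hs]
    refine Finset.sum_subset (Finset.filter_subset _ _) fun χ hχ hχs => ?_
    have : m χ = 0 := by
      by_contra h0
      exact hχs (Finset.mem_filter.mpr ⟨hχ, h0⟩)
    rw [this]; ring
  have hne0 : ∀ χ ∈ s, m χ ≠ 0 := fun χ hχ => (Finset.mem_filter.mp hχ).2
  have hsq : ∀ χ ∈ s, m χ ^ 2 = 1 := by
    intro χ hχ
    have hle : m χ ^ 2 ≤ 3 := hs3 ▸ Finset.single_le_sum (fun i _ => sq_nonneg (m i)) hχ
    have h1 : m χ ≤ 1 := by nlinarith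
    have h2 : -1 ≤ m χ := by nlinarith
    have : m χ = 1 ∨ m χ = -1 := by
      have := hne0 χ hχ
      omega
    rcases this with h' | h' <;> rw [h'] <;> norm_num
  have hcard : s.card = 3 := by
    rw [Finset.sum_congr rfl hsq, Finset.sum_const, nsmul_one] at hs3
    exact_mod_cast hs3
  set enum : Fin 3 ≃ s := (Fintype.equivFinOfCardEq (by rw [Fintype.card_coe, hcard])).symm
  have hblock : ∀ χ ∈ s, χ ∈ principalBlock M C := by
    intro χ hχ
    by_contra hb
    have := (h.section_facts hM χ).2 hb
    rw [hm χ] at this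
    exact hne0 χ hχ (by exact_mod_cast this)
  have hx : ∀ χ ∈ s, (χ : C → ℂ) x = (m χ : ℂ) := by
    intro χ hχ
    have h1 := ((h.section_facts hM χ).1 (hblock χ hχ)).1
    rw [hm χ] at h1
    rw [← Complex.conj_conj ((χ : C → ℂ) x), ← h1, map_intCast]
  have hsqC : ∀ χ ∈ s, (m χ : ℂ) * (m χ : ℂ) = 1 := fun χ hχ => by
    rw [← pow_two]; exact_mod_cast hsq χ hχ
  refine ⟨Fin.cons (fun _ => 1)
    (fun i => (m (enum i : IrrCharacter C) : ℂ) • ((enum i : IrrCharacter C) : C → ℂ)),
    ⟨rfl, fun i => ?_, fun i g => ?_, fun i g hg => ?_, fun i j => ?_, fun g => ?_, fun i ψ hψ => ?_, ?_⟩⟩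
  · induction i using Fin.cases with
    | zero => simpa using CT.isGen_of_isCharacter (CT.isCharacter_one (G := C))
    | succ i =>
      simp only [Fin.cons_succ]
      exact CT.isGen_zsmul _ (CT.isGen_of_isIrr (enum i : IrrCharacter C).2)
  · induction i using Fin.cases with
    | zero => simp
    | succ i =>
      simp only [Fin.cons_succ, Pi.smul_apply, smul_eq_mul]
      congr 1
      obtain ⟨c, -, hval⟩ := irr_central_mul (enum i : IrrCharacter C).2 h.central
        (Invol.mul_self_of_orderOf_two h.hz)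
      have h1 := hval x
      rw [CT.isClassFunction_isConj (CT.isClassFunction_of_isIrr (enum i : IrrCharacter C).2)
        (h.conj _ h.z_mul_x).symm] at h1
      have hx0 : ((enum i : IrrCharacter C) : C → ℂ) x ≠ 0 := by
        rw [hx _ (enum i).2]; exact_mod_cast hne0 _ (enum i).2
      have hc1 : c = 1 := mul_right_cancel₀ hx0 (by rw [one_mul]; exact h1.symm)
      rw [hval, hc1, one_mul]
  · induction i using Fin.cases with
    | zero => simp
    | succ i =>
      simp only [Fin.cons_succ, Pi.smul_apply, smul_eq_mul]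
      rw [((h.section_facts hM _).1 (hblock _ (enum i).2)).2 g hg, hx _ (enum i).2]
      exact hsqC _ (enum i).2
  · have hnt : ∀ k : Fin 3, classInner ((enum k : IrrCharacter C) : C → ℂ) (fun _ => 1) = 0 := by
      intro k
      have := CT.irr_inner_subtype (enum k : IrrCharacter C) (CT.trivIrr C)
      rwa [if_neg (Finset.mem_erase.mp (Finset.mem_filter.mp (enum k).2).1).1] at this
    induction i using Fin.cases with
    | zero =>
      induction j using Fin.cases with
      | zero =>
        simp only [Fin.cons_zero, if_true]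
        exact CT.irr_inner_self CT.isIrrCharacter_one
      | succ j =>
        rw [if_neg (Fin.succ_ne_zero j).symm]
        simp only [Fin.cons_zero, Fin.cons_succ]
        rw [← CT.classInner_conj_symm, CT.classInner_smul_left, hnt, mul_zero, map_zero]
    | succ i =>
      induction j using Fin.cases with
      | zero =>
        rw [if_neg (Fin.succ_ne_zero i)]
        simp only [Fin.cons_zero, Fin.cons_succ]
        rw [CT.classInner_smul_left, hnt, mul_zero]
      | succ j =>
        simp only [Fin.cons_succ, Fin.succ_inj, CT.classInner_smul_left, CT.classInner_smul_right,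
          map_intCast, CT.irr_inner_subtype]
        by_cases hij : i = j
        · subst hij
          simp only [if_true, mul_one]
          exact hsqC _ (enum i).2
        · rw [if_neg hij, if_neg (fun e => hij (enum.injective (Subtype.ext e))), mul_zero, mul_zero]
  · rw [Fin.sum_univ_succ]
    simp only [Fin.cons_zero, Fin.cons_succ, Pi.smul_apply, smul_eq_mul]
    rw [Equiv.sum_comp enum (fun χ => (m (χ : IrrCharacter C) : ℂ) * ((χ : IrrCharacter C) : C → ℂ) g),
      Finset.sum_coe_sort s (fun χ => (m χ : ℂ) * (χ : C → ℂ) g)]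
    rw [congrFun hexp g, Finset.sum_apply,
      ← Finset.add_sum_erase _ _ (Finset.mem_univ (CT.trivIrr C))]
    simp only [Pi.smul_apply, smul_eq_mul, ht, CT.trivIrr_apply, Int.cast_one, one_mul]
    congr 1
    refine Finset.sum_subset (Finset.filter_subset _ _) fun χ hχ hχs => ?_
    have : m χ = 0 := by
      by_contra h0
      exact hχs (Finset.mem_filter.mpr ⟨hχ, h0⟩)
    rw [this]; simp
  · induction i using Fin.cases with
    | zero =>
      simp only [Fin.cons_zero]
      exact CT.irr_inner_of_ne CT.isIrrCharacter_one ψ.2 fun e =>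
        hψ (by rw [show ψ = CT.trivIrr C from Subtype.ext e.symm]; exact Blocks.trivIrr_mem_principalBlock)
    | succ i =>
      simp only [Fin.cons_succ]
      rw [CT.classInner_smul_left, CT.irr_inner_subtype, if_neg, mul_zero]
      exact fun e => hψ (e ▸ hblock _ (enum i).2)
  · intro ψ hψ hz
    by_cases htriv : ψ = CT.trivIrr C
    · refine ⟨0, 1, ?_⟩
      rw [htriv, one_smul, Fin.cons_zero]
      rfl
    have hx0 := h.apply_x_ne_zero hM hψ hz
    have h1 := ((h.section_facts hM ψ).1 hψ).1
    rw [hm ψ] at h1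
    have hmne : m ψ ≠ 0 := fun e => by
      rw [e, Int.cast_zero] at h1
      exact hx0 (by rw [← Complex.conj_conj ((ψ : C → ℂ) x), ← h1, map_zero])
    have hmem : ψ ∈ s :=
      Finset.mem_filter.mpr ⟨Finset.mem_erase.mpr ⟨htriv, Finset.mem_univ _⟩, hmne⟩
    refine ⟨(enum.symm ⟨ψ, hmem⟩).succ, (m ψ : ℂ), ?_⟩
    rw [Fin.cons_succ, Equiv.apply_symm_apply, smul_smul, hsqC ψ hmem, one_smul]

variable {M : Ideal AlgInt} {A : Fin 4 → C → ℂ}

/-- The Gram matrix on the elements of odd order. -/
theorem IsLocalFamily.gram (hA : IsLocalFamily M z A) (h : Setup C z x) (i j : Fin 4) :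
    Rf (A i) (A j) = (if i = j then 1 else 0) - 1 / 4 := by
  have hN : (Nat.card C : ℂ) ≠ 0 := CT.card_ne_zero
  have h0 := hA.ortho i j
  rw [classInner, h.sum_split] at h0
  have e1 : oddSum (fun y => A i (z * y) * conj (A j (z * y))) =
      oddSum (fun y => A i y * conj (A j y)) := oddSum_congr fun y _ => by rw [hA.zinv, hA.zinv]
  have e2 : ∑ y, (if orderOf (tw y) = 4 then A i y * conj (A j y) else 0) =
      (Nat.card C : ℂ) / 4 := by
    have : ∀ y, (if orderOf (tw y) = 4 then A i y * conj (A j y) else 0) =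
        if orderOf (tw y) = 4 then (1 : ℂ) else 0 := fun y => by
      split_ifs with hy
      · rw [hA.four i y hy, hA.four j y hy, map_one, mul_one]
      · rfl
    simp only [this, h.sum_four_const, one_mul]
  rw [e1, e2] at h0
  rw [Rf, ← h0]
  field_simp
  ring

/-- A combination of principal block characters orthogonal to the family on the elements of odd
order vanishes there. -/
theorem IsLocalFamily.span (hA : IsLocalFamily M z A) (h : Setup C z x) (hM : IsPModular 2 M)
    (c : IrrCharacter C → ℂ) {D : C → ℂ}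
    (hD : ∀ y, tw y = 1 → D y = ∑ᶠ ψ ∈ principalBlock M C, c ψ * (ψ : C → ℂ) y)
    (hR : ∀ j, Rf D (A j) = 0) : ∀ y, tw y = 1 → D y = 0 := by
  classical
  haveI := hM.2.1.isPrime
  have hN : (Nat.card C : ℂ) ≠ 0 := CT.card_ne_zero
  have hne : z ≠ 1 := Invol.ne_one_of_orderOf_two h.hz
  choose sg hsg hval using fun ψ : IrrCharacter C =>
    irr_central_mul ψ.2 h.central (Invol.mul_self_of_orderOf_two h.hz)
  set v : IrrCharacter C → ℂ := fun ψ => oddSum fun y => D y * conj ((ψ : C → ℂ) y) with hv
  set a : C → ℂ := fun y => if tw y = 1 then D y else 0 with ha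
  have hva : ∀ ψ, v ψ = ∑ y, a y * conj ((ψ : C → ℂ) y) := fun ψ => by
    simp only [hv, oddSum, ha]
    refine Finset.sum_congr rfl fun y _ => ?_
    split_ifs <;> simp
  have horth : ∀ y y', tw y = 1 → tw y' = 1 → ∑ ψ : IrrCharacter C,
      (if ψ ∈ principalBlock M C then sg ψ * ((ψ : C → ℂ) y * conj ((ψ : C → ℂ) y')) else 0) = 0 := by
    intro y y' hy hy'
    have h2 : 2 ∣ orderOf (z * y) := by
      rw [← even_iff_two_dvd, ← Nat.not_odd_iff_even]
      intro hodd
      have := (h.ev_of_odd hodd).1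
      rw [(h.tw_z_mul' y).1, hy, mul_one] at this
      exact hne this
    have h2' : ¬ 2 ∣ orderOf y' := by
      rw [← even_iff_two_dvd, Nat.not_even_iff_odd]; exact (odd_of_tw_one h hy').1
    have := Blocks.weak_orthogonality' hM
      (fun u => Blocks.blockCoeff_mem_loc (Blocks.isPBlock_principalBlock (M := M) (G := C)) u) h2 h2'
    rw [Blocks.finsum_mem_irr] at this
    refine Eq.trans (Finset.sum_congr rfl fun ψ _ => ?_) this
    split_ifs
    · rw [hval]; ring
    · rfl
  have hzero : ∑ ψ : IrrCharacter C,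
      (if ψ ∈ principalBlock M C then sg ψ * (conj (v ψ) * v ψ) else 0) = 0 := by
    have hterm : ∀ ψ : IrrCharacter C,
        (if ψ ∈ principalBlock M C then sg ψ * (conj (v ψ) * v ψ) else 0) =
        ∑ y, ∑ y', conj (a y) * a y' *
          (if ψ ∈ principalBlock M C then sg ψ * ((ψ : C → ℂ) y * conj ((ψ : C → ℂ) y')) else 0) := by
      intro ψ
      split_ifs
      · rw [hva, map_sum, Finset.sum_mul_sum, Finset.mul_sum]
        refine Finset.sum_congr rfl fun y _ => ?_
        rw [Finset.mul_sum]
        refine Finset.sum_congr rfl fun y' _ => ?_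
        rw [map_mul, Complex.conj_conj]
        ring
      · simp
    simp only [hterm]
    rw [Finset.sum_comm]
    refine Finset.sum_eq_zero fun y _ => ?_
    rw [Finset.sum_comm]
    refine Finset.sum_eq_zero fun y' _ => ?_
    rw [← Finset.mul_sum]
    by_cases hy : tw y = 1
    · by_cases hy' : tw y' = 1
      · rw [horth y y' hy hy', mul_zero]
      · simp [ha, hy']
    · simp [ha, hy]
  have hnf : ∀ ψ ∈ principalBlock M C, sg ψ = 1 → v ψ = 0 := by
    intro ψ hψ hs
    obtain ⟨j, r, hj⟩ := hA.nf ψ hψ (fun g => by rw [hval, hs, one_mul])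
    have h0 := hR j
    rw [Rf, mul_eq_zero, mul_eq_zero] at h0
    have h1 : oddSum (fun y => D y * conj (A j y)) = 0 :=
      h0.resolve_left (fun h' => h'.elim two_ne_zero (inv_ne_zero hN))
    simp only [hv, hj, Pi.smul_apply, smul_eq_mul, map_mul]
    rw [oddSum_congr (F' := fun y => conj r * (D y * conj (A j y))) (fun y _ => by ring),
      oddSum_const_mul, h1, mul_zero]
  have hall : ∀ ψ ∈ principalBlock M C, v ψ = 0 := by
    intro ψ hψ
    have hneg : ∑ χ : IrrCharacter C,
        (if χ ∈ principalBlock M C then Complex.normSq (v χ) else 0) = 0 := by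
      have : ((∑ χ : IrrCharacter C,
          (if χ ∈ principalBlock M C then Complex.normSq (v χ) else 0) : ℝ) : ℂ) =
          -(∑ χ : IrrCharacter C,
            (if χ ∈ principalBlock M C then sg χ * (conj (v χ) * v χ) else 0)) := by
        rw [Complex.ofReal_sum, ← Finset.sum_neg_distrib]
        refine Finset.sum_congr rfl fun χ _ => ?_
        split_ifs with hχ
        · rw [Complex.normSq_eq_conj_mul_self]
          rcases hsg χ with h1 | h1
          · rw [hnf χ hχ h1]; simp
          · rw [h1]; ring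
        · simp
      rw [hzero, neg_zero] at this
      exact_mod_cast this
    have := (Finset.sum_eq_zero_iff_of_nonneg (fun χ _ => by
      split_ifs
      · exact Complex.normSq_nonneg _
      · exact le_refl _)).mp hneg ψ (Finset.mem_univ _)
    rwa [if_pos hψ, Complex.normSq_eq_zero] at this
  have hDD : oddSum (fun y => D y * conj (D y)) = 0 := by
    have e1 : ∀ y, tw y = 1 → D y * conj (D y) = ∑ ψ : IrrCharacter C,
        (if ψ ∈ principalBlock M C then conj (c ψ) * (D y * conj ((ψ : C → ℂ) y)) else 0) := by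
      intro y hy
      conv_lhs => arg 2; rw [hD y hy, Blocks.finsum_mem_irr, map_sum]
      rw [Finset.mul_sum]
      refine Finset.sum_congr rfl fun ψ _ => ?_
      split_ifs
      · rw [map_mul]; ring
      · simp
    rw [oddSum_congr e1]
    unfold oddSum
    rw [Finset.sum_congr rfl (fun y _ => show (if tw y = 1 then ∑ ψ : IrrCharacter C,
        (if ψ ∈ principalBlock M C then conj (c ψ) * (D y * conj ((ψ : C → ℂ) y)) else 0) else 0) =
        ∑ ψ : IrrCharacter C, (if ψ ∈ principalBlock M C then
          conj (c ψ) * (a y * conj ((ψ : C → ℂ) y)) else 0) by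
      split_ifs with hy <;> simp [ha, hy])]
    rw [Finset.sum_comm]
    refine Finset.sum_eq_zero fun ψ _ => ?_
    by_cases hψ : ψ ∈ principalBlock M C
    · simp only [if_pos hψ, ← Finset.mul_sum, ← hva, hall ψ hψ, mul_zero]
    · simp [hψ]
  intro y hy
  have hre : ∑ u : C, (if tw u = 1 then Complex.normSq (D u) else 0) = 0 := by
    have : ((∑ u : C, (if tw u = 1 then Complex.normSq (D u) else 0) : ℝ) : ℂ) =
        oddSum (fun y => D y * conj (D y)) := by
      rw [Complex.ofReal_sum, oddSum]
      refine Finset.sum_congr rfl fun u _ => ?_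
      split_ifs
      · rw [Complex.normSq_eq_conj_mul_self]; ring
      · simp
    rw [hDD] at this
    exact_mod_cast this
  have := (Finset.sum_eq_zero_iff_of_nonneg (fun u _ => by
    split_ifs
    · exact Complex.normSq_nonneg _
    · exact le_refl _)).mp hre y (Finset.mem_univ _)
  rwa [if_pos hy, Complex.normSq_eq_zero] at this

/-- The function attached to the `k`-th character of the family. -/
noncomputable def phiFn (z : C) (A : Fin 4 → C → ℂ) (k : Fin 4) : C → ℂ :=
  (A 0 + A k) - minusFn z (A 0 + A k)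

theorem IsLocalFamily.isGen_phiFn (hA : IsLocalFamily M z A) (h : Setup C z x) (k : Fin 4) :
    IsGeneralizedCharacter C (phiFn z A k) := by
  have h1 := CT.isGen_add (hA.gen 0) (hA.gen k)
  refine CT.isGen_sub h1 (h.isGen_fns h1 (fun g => ?_) (c := 1) (fun g hg => ?_)).2
  · simp only [Pi.add_apply, hA.zinv]
  · simp only [Pi.add_apply, hA.four _ g hg]; norm_num

theorem IsLocalFamily.phiFn_values (hA : IsLocalFamily M z A) (h : Setup C z x) (k : Fin 4)
    (y : C) : (tw y = 1 → phiFn z A k y = 0 ∧ phiFn z A k (z * y) = 2 * (1 + A k y)) ∧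
      (orderOf (tw y) = 4 → phiFn z A k y = 2) := by
  classical
  have hne : z ≠ 1 := Invol.ne_one_of_orderOf_two h.hz
  have h0 : ∀ u, A 0 u = 1 := fun u => by rw [hA.zero]
  constructor
  · intro hy
    constructor
    · simp only [phiFn, Pi.sub_apply, minusFn, if_pos hy, (odd_of_tw_one h hy).2, sub_self]
    · simp only [phiFn, Pi.sub_apply, minusFn, (h.tw_z_mul' y).1, (h.tw_z_mul' y).2, hy, mul_one,
        if_neg hne, if_pos, (odd_of_tw_one h hy).2, Pi.add_apply, hA.zinv, h0]
      ring
  · intro hy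
    have a1 : tw y ≠ 1 := fun e => by rw [e, orderOf_one] at hy; omega
    have a2 : tw y ≠ z := fun e => by rw [e, h.hz] at hy; omega
    simp only [phiFn, Pi.sub_apply, minusFn, if_neg a1, if_neg a2, sub_zero, Pi.add_apply,
      hA.four _ y hy]
    norm_num

theorem IsLocalFamily.phiFn_inner (hA : IsLocalFamily M z A) (h : Setup C z x) {j k : Fin 4}
    (hj : j ≠ 0) (hk : k ≠ 0) :
    classInner (phiFn z A j) (phiFn z A k) = (if j = k then 3 else 1) ∧
      classInner (phiFn z A k) (fun _ => 1) = 1 ∧
      classInner (phiFn z A k) psiC = 2 := by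
  have hN : (Nat.card C : ℂ) ≠ 0 := CT.card_ne_zero
  have h0 : ∀ u, A 0 u = 1 := fun u => by rw [hA.zero]
  refine ⟨?_, ?_, ?_⟩
  · rw [classInner, h.sum_split]
    have e1 : oddSum (fun y => phiFn z A j y * conj (phiFn z A k y)) = 0 := by
      rw [oddSum_congr (F' := fun y => (0 : ℂ) * 1)
        (fun y hy => by rw [((hA.phiFn_values h j y).1 hy).1]; simp), oddSum_const_mul, zero_mul]
    have e2 : oddSum (fun y => phiFn z A j (z * y) * conj (phiFn z A k (z * y))) =
        4 * oddSum (fun y => (A 0 + A j) y * conj ((A 0 + A k) y)) := by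
      rw [← oddSum_const_mul]
      refine oddSum_congr fun y hy => ?_
      rw [((hA.phiFn_values h j y).1 hy).2, ((hA.phiFn_values h k y).1 hy).2]
      simp only [Pi.add_apply, h0, map_mul, map_ofNat]
      ring
    have e3 : ∑ y, (if orderOf (tw y) = 4 then phiFn z A j y * conj (phiFn z A k y) else 0) =
        4 * (Nat.card C : ℂ) / 4 := by
      rw [← h.sum_four_const]
      refine Finset.sum_congr rfl fun y _ => ?_
      split_ifs with hy
      · rw [(hA.phiFn_values h j y).2 hy, (hA.phiFn_values h k y).2 hy, map_ofNat]; norm_num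
      · rfl
    rw [e1, e2, e3]
    have e4 : Rf (A 0 + A j) (A 0 + A k) = (if j = k then 1 else 0) := by
      rw [Rf_add_left, Rf_add_right, Rf_add_right, hA.gram h, hA.gram h, hA.gram h, hA.gram h,
        if_pos rfl, if_neg hj, if_neg hk.symm]
      ring
    rw [Rf] at e4
    field_simp at e4 ⊢
    split_ifs at e4 ⊢ <;> linear_combination 2 * e4
  · rw [classInner, h.sum_split]
    have e1 : oddSum (fun y => phiFn z A k y * conj (1 : ℂ)) = 0 := by
      rw [oddSum_congr (F' := fun y => (0 : ℂ) * 1)
        (fun y hy => by rw [((hA.phiFn_values h k y).1 hy).1]; simp), oddSum_const_mul, zero_mul]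
    have e2 : oddSum (fun y => phiFn z A k (z * y) * conj (1 : ℂ)) =
        2 * oddSum (fun y => (A 0 + A k) y * conj (A 0 y)) := by
      rw [← oddSum_const_mul]
      refine oddSum_congr fun y hy => ?_
      rw [((hA.phiFn_values h k y).1 hy).2]
      simp only [Pi.add_apply, h0, map_one]
      ring
    have e3 : ∑ y, (if orderOf (tw y) = 4 then phiFn z A k y * conj (1 : ℂ) else 0) =
        2 * (Nat.card C : ℂ) / 4 := by
      rw [← h.sum_four_const]
      refine Finset.sum_congr rfl fun y _ => ?_
      split_ifs with hy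
      · rw [(hA.phiFn_values h k y).2 hy, map_one, mul_one]
      · rfl
    rw [e1, e2, e3]
    have e4 : Rf (A 0 + A k) (A 0) = 1 / 2 := by
      rw [Rf_add_left, hA.gram h, hA.gram h, if_pos rfl, if_neg hk]
      ring
    rw [Rf] at e4
    field_simp at e4 ⊢
    linear_combination 2 * e4
  · rw [classInner]
    have e : ∀ y, phiFn z A k y * conj (psiC y) = if orderOf (tw y) = 4 then (8 : ℂ) else 0 := by
      intro y
      unfold psiC
      split_ifs with hy
      · rw [(hA.phiFn_values h k y).2 hy, map_ofNat]; norm_num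
      · simp
    simp only [e, h.sum_four_const]
    field_simp
    norm_num

theorem IsLocalFamily.sum_one (hA : IsLocalFamily M z A) (h : Setup C z x) :
    ∑ i, A i 1 = 0 := by
  rw [hA.sum, psiC, (h.ev_of_odd (g := (1 : C)) (by rw [orderOf_one]; exact odd_one)).1,
    orderOf_one, if_neg (by norm_num)]

end Cfsg.Agent.Q8
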