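import Mathlib
import Cfsg.Agent.Lib.InvChar.Q8Local
import Cfsg.Agent.Lib.InvChar.BSQuaternionChar
import Cfsg.Agent.Lib.Blocks.Normal
import Cfsg.Agent.Lib.Blocks.SecondMain
import Cfsg.Agent.Lib.Invol.Isolated
import Cfsg.Agent.Lib.Basics.Cores
import Cfsg.Agent.Lib.ClassSum.Basic

/-!
# The Brauer-Suzuki theorem for a quaternion Sylow 2-subgroup of order 8
-/

set_option autoImplicit false
set_option linter.style.haveILetI false
set_option linter.unusedSectionVars false

namespace Cfsg.Agent.Q8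

open Cfsg Cfsg.Agent
open scoped ComplexConjugate

universe u

variable {G : Type u} [Group G] [Finite G]

/-- On the elements of odd order of the centralizer, a principal block character translated by
the centralized element is a combination of principal block characters. -/
theorem restrict_translate {M : Ideal AlgInt} (hM : IsPModular 2 M) {w : G}
    (hw : ∃ k : ℕ, w ^ 2 ^ k = 1) [hfin : Fintype (Subgroup.centralizer ({w} : Set G))]
    {χ : IrrCharacter G} (hχ : χ ∈ principalBlock M G)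
    {y : Subgroup.centralizer ({w} : Set G)} (hy : ¬ 2 ∣ orderOf y) :
    (χ : G → ℂ) (w * (y : G)) = ∑ᶠ ψ ∈ principalBlock M (Subgroup.centralizer ({w} : Set G)),
      classInner (fun c : Subgroup.centralizer ({w} : Set G) => (χ : G → ℂ) (w * (c : G)))
        (ψ : _ → ℂ) * (ψ : _ → ℂ) y := by
  classical
  haveI : Fact (Nat.Prime 2) := ⟨Nat.prime_two⟩
  haveI := hM.2.1.isPrime
  have hB : blockOf M (χ : G → ℂ) = principalBlock M G :=
    (Blocks.block_eq_blockOf Blocks.isPBlock_principalBlock hχ).symm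
  set θ : (Subgroup.centralizer ({w} : Set G)) → ℂ := fun c => (χ : G → ℂ) (w * (c : G)) with hθdef
  have hθ : IsClassFunction (Subgroup.centralizer ({w} : Set G)) θ := Blocks.isClassFunction_translate χ w
  have h0 : θ y = ∑ ψ : IrrCharacter (Subgroup.centralizer ({w} : Set G)), classInner θ (ψ : (Subgroup.centralizer ({w} : Set G)) → ℂ) * (ψ : (Subgroup.centralizer ({w} : Set G)) → ℂ) y := by
    conv_lhs => rw [CT.classFunction_eq_sum hθ]
    simp
  rw [show (χ : G → ℂ) (w * (y : G)) = θ y from rfl, h0, Blocks.finsum_mem_irr,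
    ← Finset.sum_fiberwise_of_maps_to
      (g := fun ψ : IrrCharacter (Subgroup.centralizer ({w} : Set G)) => blockOf M (ψ : (Subgroup.centralizer ({w} : Set G)) → ℂ))
      (t := Finset.univ.image fun ψ : IrrCharacter (Subgroup.centralizer ({w} : Set G)) => blockOf M (ψ : (Subgroup.centralizer ({w} : Set G)) → ℂ))
      (fun ψ _ => Finset.mem_image_of_mem _ (Finset.mem_univ ψ)),
    Finset.sum_eq_single (principalBlock M (Subgroup.centralizer ({w} : Set G)))]
  · rw [Finset.sum_filter]
    refine Finset.sum_congr rfl fun ψ _ => ?_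
    by_cases hψ : ψ ∈ principalBlock M (Subgroup.centralizer ({w} : Set G))
    · rw [if_pos hψ, if_pos (show blockOf M (ψ : (Subgroup.centralizer ({w} : Set G)) → ℂ) = principalBlock M (Subgroup.centralizer ({w} : Set G)) from
        (Blocks.block_eq_blockOf Blocks.isPBlock_principalBlock hψ).symm)]
    · rw [if_neg hψ, if_neg fun e => hψ (by rw [← e]; exact Blocks.self_mem_blockOf ψ)]
  · intro b hb hne
    obtain ⟨ψ₀, -, rfl⟩ := Finset.mem_image.mp hb
    have hb' : IsPBlock M (blockOf M (ψ₀ : (Subgroup.centralizer ({w} : Set G)) → ℂ)) := Blocks.isPBlock_blockOf ψ₀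
    have hnot : ¬ IsInducedBlock M (Subgroup.centralizer ({w} : Set G)) (blockOf M (ψ₀ : (Subgroup.centralizer ({w} : Set G)) → ℂ)) (blockOf M (χ : G → ℂ)) := by
      rw [hB]
      intro h
      exact hne ((Blocks.third_main hM ⟨_, h⟩).mp h)
    have h1 := Blocks.second_main_blockPart hM hw hb' hnot hy
    rw [show blockPart (blockOf M (ψ₀ : (Subgroup.centralizer ({w} : Set G)) → ℂ)) θ y = ∑ᶠ η ∈ blockOf M (ψ₀ : (Subgroup.centralizer ({w} : Set G)) → ℂ),
        classInner θ (η : (Subgroup.centralizer ({w} : Set G)) → ℂ) * (η : (Subgroup.centralizer ({w} : Set G)) → ℂ) y by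
          simp only [blockPart]
          rw [Subsingleton.elim (Fintype.ofFinite _) hfin],
      Blocks.finsum_mem_irr] at h1
    rw [Finset.sum_filter]
    refine Eq.trans (Finset.sum_congr rfl fun ψ _ => ?_) h1
    by_cases hψ : ψ ∈ blockOf M (ψ₀ : (Subgroup.centralizer ({w} : Set G)) → ℂ)
    · rw [if_pos hψ, if_pos (Blocks.block_eq_blockOf hb' hψ).symm]
    · rw [if_neg hψ, if_neg fun e => hψ (by rw [← e]; exact Blocks.self_mem_blockOf ψ)]
  · intro hni
    exact absurd (Finset.mem_image.mpr ⟨CT.trivIrr (Subgroup.centralizer ({w} : Set G)), Finset.mem_univ _, rfl⟩) hni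

/-- Without normal 2-complement, the elements of order 4 form one class. -/
theorem conj_four (S : Sylow 2 G) (e : (S : Subgroup G) ≃* QuaternionGroup 2)
    (hnc : ∀ N : Subgroup G, N.Normal → ¬ Subgroup.IsComplement' N (S : Subgroup G))
    {a b : G} (ha : orderOf a = 4) (hb : orderOf b = 4) : IsConj a b := by
  classical
  haveI : Fact (Nat.Prime 2) := ⟨Nat.prime_two⟩
  obtain ⟨-, -, htriple, x₀, hx₀, y₀, hy₀, hx4, hy4, hxy⟩ := facts S e
  have hp : ∀ t : G, orderOf t = 4 → ∃ k, t ^ 2 ^ k = 1 := fun t ht =>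
    ⟨2, orderOf_dvd_iff_pow_eq_one.mp (by rw [ht]; norm_num)⟩
  obtain ⟨c, hc⟩ := exists_conj_elem_into S (hp a ha)
  obtain ⟨d, hd⟩ := exists_conj_elem_into S (hp b hb)
  refine ((isConj_iff.mpr ⟨c, rfl⟩ : IsConj a (c * a * c⁻¹)).trans ?_).trans
    (isConj_iff.mpr ⟨d, rfl⟩ : IsConj b (d * b * d⁻¹)).symm
  have ha' : orderOf (c * a * c⁻¹) = 4 := by rw [Invol.orderOf_conj, ha]
  have hb' : orderOf (d * b * d⁻¹) = 4 := by rw [Invol.orderOf_conj, hb]
  revert ha' hb' hc hd
  generalize c * a * c⁻¹ = u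
  generalize d * b * d⁻¹ = v
  intro hu hv hu4 hv4
  obtain ⟨g, -, hg⟩ := exists_normalizer_conj S e hnc hu hv hu4 hv4
  refine (isConj_iff.mpr ⟨g, rfl⟩ : IsConj u (g * u * g⁻¹)).trans ?_
  obtain ⟨k, hk, hk'⟩ := (mem_zpowers_iff_mem_range_orderOf.mp hg : _) |> Finset.mem_image.mp
  rw [Finset.mem_range, hv4] at hk
  have ho : orderOf (g * u * g⁻¹) = 4 := by rw [Invol.orderOf_conj, hu4]
  interval_cases k
  · rw [← hk', pow_zero, orderOf_one] at ho; omega
  · rw [← hk', pow_one]
  · rw [← hk', orderOf_pow, hv4] at ho; norm_num at ho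
  · obtain ⟨y, hy, hy4', hyv⟩ : ∃ y ∈ (S : Subgroup G), orderOf y = 4 ∧ y ∉ Subgroup.zpowers v := by
      by_contra hcon
      push Not at hcon
      have hz : Subgroup.zpowers x₀ = Subgroup.zpowers v :=
        Subgroup.eq_of_le_of_card_ge (Subgroup.zpowers_le.mpr (hcon x₀ hx₀ hx4))
          (by rw [Nat.card_zpowers, Nat.card_zpowers, hx4, hv4])
      exact hxy (hz ▸ hcon y₀ hy₀ hy4)
    obtain ⟨-, hinv, -⟩ := htriple v hv y hy hv4 hy4' hyv
    refine (isConj_iff.mpr ⟨y, ?_⟩ : IsConj v (g * u * g⁻¹)).symm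
    rw [hinv, ← hk']
    exact (eq_inv_of_mul_eq_one_left
      (by rw [← pow_succ]; exact orderOf_dvd_iff_pow_eq_one.mp (by rw [hv4]))).symm

/-- Involutions are isolated. -/
theorem isolated_of_quat (S : Sylow 2 G) (e : (S : Subgroup G) ≃* QuaternionGroup 2) {z : G}
    (hz : orderOf z = 2) : IsIsolatedInvolution z :=
  ⟨hz, fun g hc => eq_of_commute_of_orderOf_two S e (by rw [Invol.orderOf_conj, hz]) hz hc.symm⟩

theorem setup_centralizer (S : Sylow 2 G) (e : (S : Subgroup G) ≃* QuaternionGroup 2)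
    (hnc : ∀ N : Subgroup G, N.Normal → ¬ Subgroup.IsComplement' N (S : Subgroup G))
    {x : G} (hx : x ∈ (S : Subgroup G)) (hx4 : orderOf x = 4) :
    ∃ (hzC : x * x ∈ Subgroup.centralizer ({x * x} : Set G))
      (hxC : x ∈ Subgroup.centralizer ({x * x} : Set G)),
      Setup (Subgroup.centralizer ({x * x} : Set G)) ⟨x * x, hzC⟩ ⟨x, hxC⟩ := by
  have hz : orderOf (x * x) = 2 := by rw [← pow_two, orderOf_pow, hx4]; rfl
  have hzC : x * x ∈ Subgroup.centralizer ({x * x} : Set G) :=
    Subgroup.mem_centralizer_singleton_iff.mpr rfl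
  have hxC : x ∈ Subgroup.centralizer ({x * x} : Set G) :=
    Subgroup.mem_centralizer_singleton_iff.mpr (mul_assoc x x x).symm
  refine ⟨hzC, hxC, ?_⟩
  obtain ⟨-, huniq, -, -⟩ := facts S e
  have hSC : (S : Subgroup G) ≤ Subgroup.centralizer ({x * x} : Set G) := fun s hs => by
    rw [Subgroup.mem_centralizer_singleton_iff]
    exact mul_inv_eq_iff_eq_mul.mp (huniq _ (mul_mem (mul_mem hs (mul_mem hx hx)) (inv_mem hs)) _
      (mul_mem hx hx) (by rw [Invol.orderOf_conj, hz]) hz)
  refine ⟨⟨S.subtype hSC, ⟨(MulEquiv.subgroupCongr (Sylow.coe_subtype S hSC)).trans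
      ((Subgroup.subgroupOfEquivOfLe hSC).trans e)⟩⟩,
    Subgroup.mem_center_iff.mpr fun g => Subtype.ext (Subgroup.mem_centralizer_singleton_iff.mp g.2),
    by rw [Subgroup.orderOf_mk, hz], by rw [Subgroup.orderOf_mk, hx4], ?_⟩
  rintro ⟨t, htC⟩ ht
  rw [Subgroup.orderOf_mk] at ht
  have htt : t * t = x * x := by
    refine eq_of_commute_of_orderOf_two S e (by rw [← pow_two, orderOf_pow, ht]; rfl) hz ?_
    have h := Subgroup.mem_centralizer_singleton_iff.mp htC
    exact Commute.mul_left h h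
  obtain ⟨c, hc⟩ := isConj_iff.mp (conj_four S e hnc hx4 ht)
  have hcC : c ∈ Subgroup.centralizer ({x * x} : Set G) := by
    rw [Subgroup.mem_centralizer_singleton_iff]
    apply mul_inv_eq_iff_eq_mul.mp
    have h2 : c * (x * x) * c⁻¹ = (c * x * c⁻¹) * (c * x * c⁻¹) := by group
    rw [h2, hc, htt]
  exact isConj_iff.mpr ⟨⟨c, hcC⟩, Subtype.ext hc⟩

/-- The exceptional character. -/
theorem exceptional (S : Sylow 2 G) (e : (S : Subgroup G) ≃* QuaternionGroup 2)
    (hnc : ∀ N : Subgroup G, N.Normal → ¬ Subgroup.IsComplement' N (S : Subgroup G))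
    {x : G} (hx : x ∈ (S : Subgroup G)) (hx4 : orderOf x = 4) :
    ∃ χ : IrrCharacter G, χ ≠ CT.trivIrr G ∧ (χ : G → ℂ) (x * x) = (χ : G → ℂ) 1 := by
  classical
  haveI : Fact (Nat.Prime 2) := ⟨Nat.prime_two⟩
  letI := Fintype.ofFinite G
  obtain ⟨M, hM⟩ := ClassSum.exists_modular 2 Nat.prime_two
  haveI := hM.2.1.isPrime
  obtain ⟨hzC, hxC, h⟩ := setup_centralizer S e hnc hx hx4
  set z := x * x with hzdef
  set C := Subgroup.centralizer ({z} : Set G) with hC
  letI := Fintype.ofFinite C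
  set zC : C := ⟨z, hzC⟩ with hzCdef
  set xC : C := ⟨x, hxC⟩ with hxCdef
  obtain ⟨A, hA⟩ := h.exists_family hM
  have hz : orderOf z = 2 := by rw [hzdef, ← pow_two, orderOf_pow, hx4]; rfl
  have hiso := isolated_of_quat S e hz
  set X : Set G := {u | u ∈ C ∧ 2 ∣ orderOf u} with hX
  have hTI : CT.IsTI C X := by
    intro g hg s hs hs'
    exfalso
    apply hg
    obtain ⟨k, hk⟩ := hs.2
    have hkpos : k ≠ 0 := by rintro rfl; exact absurd hk (orderOf_pos s).ne'
    have h2 : ∀ t : G, orderOf t = orderOf s → t ∈ C → t ^ k = z := by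
      intro t ht htC
      refine eq_of_commute_of_orderOf_two S e ?_ hz
        ((show Commute t z from Subgroup.mem_centralizer_singleton_iff.mp htC).pow_left k)
      rw [orderOf_pow' t hkpos, ht, hk, Nat.gcd_eq_right (Dvd.intro_left 2 rfl),
        Nat.mul_div_cancel _ (Nat.pos_of_ne_zero hkpos)]
    have e1 := h2 s rfl hs.1
    have e2 := h2 (g * s * g⁻¹) (Invol.orderOf_conj g s) hs'.1
    rw [conj_pow, e1] at e2
    exact Subgroup.mem_centralizer_singleton_iff.mpr (mul_inv_eq_iff_eq_mul.mp e2)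
  have hnotX : ∀ y : C, (y : G) ∉ X → tw y = 1 := fun y hy => by
    refine (h.ev_of_odd ?_).1
    rw [← Nat.not_even_iff_odd, even_iff_two_dvd, ← Subgroup.orderOf_coe]
    exact fun hd => hy ⟨y.2, hd⟩
  have hsψ : ∀ y : C, (y : G) ∉ X → psiC y = 0 := fun y hy => by
    rw [psiC, hnotX y hy, orderOf_one, if_neg (by norm_num)]
  have hsΦ : ∀ k, ∀ y : C, (y : G) ∉ X → phiFn zC A k y = 0 := fun k y hy =>
    ((hA.phiFn_values h k y).1 (hnotX y hy)).1
  have hψgen : IsGeneralizedCharacter C (psiC : C → ℂ) :=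
    (h.isGen_fns (A := 0) CT.isGen_zero (fun _ => rfl) (c := 0) (fun _ _ => by simp)).1
  -- part transfer
  have hppart : ∀ y : C, IsPPart 2 (y : G) ((tw y : C) : G) := by
    intro y
    obtain ⟨o, ho, hcom, ⟨k, hk⟩, hodd⟩ := h.isPPart y
    exact ⟨o, congrArg Subtype.val ho, congrArg Subtype.val hcom,
      ⟨k, by rw [Subgroup.orderOf_coe]; exact hk⟩, by rwa [Subgroup.orderOf_coe]⟩
  set ψG : G → ℂ := indFun C psiC with hψG
  have hψGgen : IsGeneralizedCharacter G ψG := CT.isGen_indFun C hψgen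
  have hψ1 : classInner ψG (fun _ : G => (1 : ℂ)) = 1 := by
    rw [hψG, CT.frobenius_reciprocity C psiC (χ := fun _ : G => (1 : ℂ)) (fun _ _ => rfl)]
    exact h.psiC_inner.2
  have hψn : classInner ψG ψG = 4 := by
    rw [hψG, CT.classInner_indFun_TI hTI isClassFunction_psiC hsψ hsψ
      (hsψ 1 (fun hm => by have := hm.2; rw [Subgroup.coe_one, orderOf_one] at this; norm_num at this))]
    exact h.psiC_inner.1
  have hψ4 : ∀ u w : G, IsPPart 2 u w → IsConj x w → ψG u = 4 := by
    intro u w hu hc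
    obtain ⟨c, hc⟩ := isConj_iff.mp hc
    have hu' : IsPPart 2 (c⁻¹ * u * c) x := by
      have := Blocks.ppart_conj hu c⁻¹
      rw [inv_inv, ← hc] at this
      rwa [show c⁻¹ * (c * x * c⁻¹) * c = x by group] at this
    obtain ⟨o, hxo, hcom, -, hodd⟩ := hu'
    have hoC : o ∈ C := Subgroup.mem_centralizer_singleton_iff.mpr
      (hcom.mul_left hcom).eq.symm
    have huC : c⁻¹ * u * c ∈ C := hxo ▸ mul_mem hxC hoC
    have htw : tw (⟨c⁻¹ * u * c, huC⟩ : C) = xC := by
      refine (h.parts_eq (o := (⟨o, hoC⟩ : C)) (Subtype.ext hxo) (Subtype.ext hcom.eq) ?_ ?_).1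
      · rw [h.hx]
      · rw [Subgroup.orderOf_mk, ← Nat.not_even_iff_odd, even_iff_two_dvd]; exact hodd
    have huX : c⁻¹ * u * c ∈ X := by
      by_contra hnX
      have := hnotX ⟨_, huC⟩ hnX
      rw [htw] at this
      have h4 := h.hx
      rw [this, orderOf_one] at h4
      omega
    rw [show ψG u = ψG (c⁻¹ * u * c) from CT.isClassFunction_isConj (CT.isClassFunction_indFun C psiC)
      (isConj_iff.mpr ⟨c⁻¹, by group⟩), hψG]
    have hne : (⟨c⁻¹ * u * c, huC⟩ : C) ≠ 1 := fun e1 => by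
      have := huX.2
      rw [show c⁻¹ * u * c = 1 from congrArg Subtype.val e1, orderOf_one] at this
      norm_num at this
    rw [CT.indFun_eq_on_TI hTI isClassFunction_psiC hsψ (t := ⟨_, huC⟩) huX hne, psiC, htw, h.hx,
      if_pos rfl]
  have hψ0 : ∀ u w : G, IsPPart 2 u w → ¬ IsConj x w → ψG u = 0 := by
    intro u w hu hc
    simp only [hψG, indFun]
    rw [Finset.sum_eq_zero, mul_zero]
    intro g _
    by_cases hm : g⁻¹ * u * g ∈ C
    · rw [CT.extendByZero_mem C psiC hm, psiC, if_neg]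
      intro h4
      apply hc
      have h1 := hppart ⟨_, hm⟩
      have h2 : IsPPart 2 (g⁻¹ * u * g) (g⁻¹ * w * g) := by
        have := Blocks.ppart_conj hu g⁻¹
        rwa [inv_inv] at this
      have h3 := Blocks.ppart_unique h1 h2
      obtain ⟨d, hd⟩ := isConj_iff.mp (h.conj _ h4)
      refine isConj_iff.mpr ⟨g * (d : G), ?_⟩
      have hd' : (d : G) * x * (d : G)⁻¹ = g⁻¹ * w * g := by
        rw [← h3, ← hd]; rfl
      calc g * (d : G) * x * (g * (d : G))⁻¹ = g * ((d : G) * x * (d : G)⁻¹) * g⁻¹ := by group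
        _ = w := by rw [hd']; group
    · rw [CT.extendByZero_not_mem C psiC hm]
  have hin := fun χ => inner_section_fn S e hM hx4 (CT.isClassFunction_indFun C psiC) hψ4 hψ0 hψ1 χ
  -- multiplicities
  obtain ⟨hcf, hm⟩ := CT.isGen_iff.mp hψGgen
  choose m hm using hm
  have hm1 : m (CT.trivIrr G) = 1 := by
    have := hm (CT.trivIrr G)
    rw [show ((CT.trivIrr G : IrrCharacter G) : G → ℂ) = fun _ => 1 from rfl, hψ1] at this
    exact_mod_cast this.symm
  have hmle : ∀ χ, χ ≠ CT.trivIrr G → m χ = -1 ∨ m χ = 0 ∨ m χ = 1 := by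
    intro χ hχ
    have hsum : ∑ η : IrrCharacter G, m η ^ 2 = 4 := by
      have := CT.classInner_eq_sum (f := ψG) hcf
      rw [hψn] at this
      simp only [hm, map_intCast, ← pow_two] at this
      exact_mod_cast this.symm
    have := Finset.sum_le_sum_of_subset_of_nonneg (f := fun η : IrrCharacter G => m η ^ 2)
      (Finset.subset_univ {CT.trivIrr G, χ}) (fun c _ _ => sq_nonneg (m c))
    rw [Finset.sum_pair hχ.symm, hsum, hm1] at this
    have a1 : m χ ≤ 1 := by nlinarith
    have a2 : -1 ≤ m χ := by nlinarith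
    omega
  -- the three differences
  set P : Fin 4 → G → ℂ := fun k => indFun C (phiFn zC A k) with hP
  have hPgen : ∀ k, IsGeneralizedCharacter G (P k) := fun k =>
    CT.isGen_indFun C (hA.isGen_phiFn h k)
  have hΦcf : ∀ k, IsClassFunction C (phiFn zC A k) := fun k =>
    CT.isClassFunction_of_isGen (hA.isGen_phiFn h k)
  have hone : ((1 : C) : G) ∉ X := fun hm => by
    have := hm.2
    rw [Subgroup.coe_one, orderOf_one] at this
    norm_num at this
  have hP0 : ∀ k, P k 1 = 0 := fun k => by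
    simp only [hP, CT.indFun_one_eval, hsΦ k 1 hone, mul_zero]
  have hdiff : ∀ k : Fin 4, k ≠ 0 → ∃ χ r : IrrCharacter G, ∃ ε : ℂ, (ε = 1 ∨ ε = -1) ∧
      χ ≠ CT.trivIrr G ∧ r ≠ CT.trivIrr G ∧ classInner ψG (χ : G → ℂ) = ε ∧
      classInner ψG (r : G → ℂ) = 0 ∧ (r : G → ℂ) 1 = (χ : G → ℂ) 1 + ε ∧
      P k = (fun _ => (1 : ℂ)) + ε • ((χ : G → ℂ) - (r : G → ℂ)) := by
    intro k hk
    obtain ⟨hn, hone', hpsi⟩ := hA.phiFn_inner h hk hk
    rw [if_pos rfl] at hn
    obtain ⟨χ₁, χ₂, h1, h2, hdeg, hf⟩ := BSQuaternion.exists_of_norm_three (hPgen k)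
      (by rw [hP, CT.classInner_indFun_TI hTI (hΦcf k) (hsΦ k) (hsΦ k) (hsΦ k 1 hone)]; exact hn)
      (by rw [hP, CT.frobenius_reciprocity C _ (χ := fun _ : G => (1 : ℂ)) (fun _ _ => rfl)]; exact hone')
      (hP0 k)
    have h12 : classInner (P k) ψG = 2 := by
      rw [hP, hψG, CT.classInner_indFun_TI hTI isClassFunction_psiC (hsΦ k) hsψ (hsΦ k 1 hone)]
      exact hpsi
    rw [hf, CT.classInner_sub_left, CT.classInner_add_left, ← CT.classInner_conj_symm ψG,
      ← CT.classInner_conj_symm ψG (χ₁ : G → ℂ), ← CT.classInner_conj_symm ψG (χ₂ : G → ℂ),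
      hψ1, hm, hm, map_one, map_intCast, map_intCast] at h12
    have hd : m χ₂ - m χ₁ = 1 := by
      have : ((m χ₂ - m χ₁ : ℤ) : ℂ) = ((1 : ℤ) : ℂ) := by push_cast; linear_combination h12
      exact_mod_cast this
    rcases hmle χ₂ h2 with a | a | a
    · rcases hmle χ₁ h1 with b | b | b <;> omega
    · refine ⟨χ₁, χ₂, -1, Or.inr rfl, h1, h2, ?_, by rw [hm, a, Int.cast_zero],
        by rw [hdeg]; ring, ?_⟩
      · rw [hm, show m χ₁ = -1 by omega]; push_cast; rfl
      · rw [hf]; funext g; simp only [Pi.add_apply, Pi.sub_apply, Pi.smul_apply, smul_eq_mul]; ring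
    · refine ⟨χ₂, χ₁, 1, Or.inl rfl, h2, h1, by rw [hm, a]; push_cast; rfl,
        by rw [hm, show m χ₁ = 0 by omega, Int.cast_zero], hdeg, ?_⟩
      rw [hf]; funext g; simp only [Pi.add_apply, Pi.sub_apply, Pi.smul_apply, smul_eq_mul]; ring
  obtain ⟨χ, r, ε, hε, hχt, hrt, heχ, her, hrdeg, hPdef⟩ := hdiff 1 (by decide)
  have hεne : ε ≠ 0 := by rcases hε with rfl | rfl <;> norm_num
  have hεc : conj ε = ε := by rcases hε with rfl | rfl <;> simp
  have hχB : χ ∈ principalBlock M G := by
    by_contra hb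
    exact hεne (heχ ▸ (hin χ).2 hb)
  have hχx : (χ : G → ℂ) x = ε := by
    have h1 := (hin χ).1 hχB
    rw [heχ] at h1
    rw [← Complex.conj_conj ((χ : G → ℂ) x), ← h1, hεc]
  have hPχ : ∀ k : Fin 4, k ≠ 0 → classInner (P k) (χ : G → ℂ) = if k = 1 then ε else 0 := by
    intro k hk
    obtain ⟨χ', r', ε', hε', hχt', hrt', heχ', her', -, hPdef'⟩ := hdiff k hk
    have hε'ne : ε' ≠ 0 := by rcases hε' with rfl | rfl <;> norm_num
    have hr'χ : r' ≠ χ := fun e' => hεne (by rw [← heχ, ← e', her'])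
    have hrχ' : r ≠ χ' := fun e' => hε'ne (by rw [← heχ', ← e', her])
    have e1 : classInner (P k) (χ : G → ℂ) = ε' * (if χ' = χ then 1 else 0) := by
      rw [hPdef', CT.classInner_add_left, CT.classInner_smul_left, CT.classInner_sub_left,
        CT.irr_inner_of_ne CT.isIrrCharacter_one χ.2 (fun e' => hχt (Subtype.ext e'.symm)),
        CT.irr_inner_subtype, CT.irr_inner_subtype, if_neg hr'χ, sub_zero, zero_add]
    rw [e1]
    by_cases hk1 : k = 1
    · subst hk1
      rw [if_pos rfl]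
      have hself : classInner (P 1) (χ : G → ℂ) = ε := by
        rw [hPdef, CT.classInner_add_left, CT.classInner_smul_left, CT.classInner_sub_left,
          CT.irr_inner_of_ne CT.isIrrCharacter_one χ.2 (fun e' => hχt (Subtype.ext e'.symm)),
          CT.irr_inner_subtype, CT.irr_inner_subtype, if_pos rfl,
          if_neg (fun e' : r = χ => hεne (by rw [← heχ, ← e', her])), sub_zero, mul_one, zero_add]
      rw [← e1, hself]
    · rw [if_neg hk1]
      have h11 : classInner (P k) (P 1) = 1 := by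
        rw [hP, CT.classInner_indFun_TI hTI (hΦcf 1) (hsΦ k) (hsΦ 1) (hsΦ k 1 hone),
          (hA.phiFn_inner h hk (by decide : (1 : Fin 4) ≠ 0)).1, if_neg hk1]
      have et : ∀ η : IrrCharacter G, η ≠ CT.trivIrr G →
          classInner (fun _ : G => (1 : ℂ)) (η : G → ℂ) = 0 ∧
            classInner (η : G → ℂ) (fun _ : G => (1 : ℂ)) = 0 := fun η hη =>
        ⟨CT.irr_inner_of_ne CT.isIrrCharacter_one η.2 (fun e' => hη (Subtype.ext e'.symm)),
          CT.irr_inner_of_ne η.2 CT.isIrrCharacter_one (fun e' => hη (Subtype.ext e'))⟩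
      rw [hPdef, hPdef'] at h11
      simp only [CT.classInner_add_left, CT.classInner_add_right, CT.classInner_smul_left,
        CT.classInner_smul_right, CT.classInner_sub_left, CT.classInner_sub_right,
        CT.irr_inner_subtype, et χ hχt, et r hrt, et χ' hχt', et r' hrt',
        CT.irr_inner_self CT.isIrrCharacter_one, hεc, if_neg hr'χ, if_neg hrχ'.symm] at h11
      by_cases hχ : χ' = χ
      · exfalso
        rw [if_pos hχ] at h11
        have hsum : ε' * ε * (1 + if r' = r then (1 : ℂ) else 0) = 0 := by linear_combination h11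
        rcases mul_eq_zero.mp hsum with h' | h'
        · exact (mul_ne_zero hε'ne hεne) h'
        · split_ifs at h' <;> norm_num at h'
      · rw [if_neg hχ, mul_zero]
  -- values of `χ` at `z`
  have hz2 : ∃ k : ℕ, z ^ 2 ^ k = 1 := ⟨1, orderOf_dvd_iff_pow_eq_one.mp (by rw [hz]; norm_num)⟩
  set θ : C → ℂ := fun y => (χ : G → ℂ) (z * (y : G)) with hθ
  set c : ℂ := A 1 1 with hcdef
  have hne1 : (1 : Fin 4) ≠ 0 := by decide
  set D : C → ℂ := θ - ε • A 1 with hD
  have hD1 : ∀ y, tw y = 1 → D y = ∑ᶠ ψ ∈ principalBlock M C,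
      (classInner θ (ψ : C → ℂ) - ε * classInner (A 1) (ψ : C → ℂ)) * (ψ : C → ℂ) y := by
    intro y hy
    have h2 : ¬ 2 ∣ orderOf y := by
      rw [← even_iff_two_dvd, Nat.not_even_iff_odd]; exact (odd_of_tw_one h hy).1
    have e1 : θ y = ∑ᶠ ψ ∈ principalBlock M C, classInner θ (ψ : C → ℂ) * (ψ : C → ℂ) y :=
      restrict_translate hM hz2 hχB h2
    have e2 : A 1 y = ∑ ψ : IrrCharacter C, classInner (A 1) (ψ : C → ℂ) * (ψ : C → ℂ) y := by
      conv_lhs => rw [CT.classFunction_eq_sum (CT.isClassFunction_of_isGen (hA.gen 1))]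
      simp
      congr!
    rw [hD, Pi.sub_apply, Pi.smul_apply, smul_eq_mul, e1, e2, Blocks.finsum_mem_irr,
      Blocks.finsum_mem_irr, Finset.mul_sum, ← Finset.sum_sub_distrib]
    refine Finset.sum_congr rfl fun ψ _ => ?_
    by_cases hψ : ψ ∈ principalBlock M C
    · simp only [if_pos hψ, hθ]; ring
    · simp [if_neg hψ, hA.supp 1 ψ hψ]
  have hRk : ∀ k : Fin 4, k ≠ 0 → Rf (A 0 + A k) D = 0 := by
    intro k hk
    have hN : (Nat.card C : ℂ) ≠ 0 := CT.card_ne_zero
    have e1 : Rf (A 0 + A k) θ = (if k = 1 then ε else 0) - ε / 2 := by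
      rw [← hPχ k hk, hP, CT.frobenius_reciprocity C _ (CT.isClassFunction_of_isIrr χ.2), classInner,
        h.sum_split]
      have a1 : oddSum (fun y : C => phiFn zC A k y * conj ((χ : G → ℂ) (y : G))) = 0 := by
        rw [oddSum_congr (F' := fun y => (0 : ℂ) * 1)
          (fun y hy => by rw [((hA.phiFn_values h k y).1 hy).1]; simp), oddSum_const_mul, zero_mul]
      have a2 : oddSum (fun y : C => phiFn zC A k (zC * y) * conj ((χ : G → ℂ) ((zC * y : C) : G))) =
          2 * oddSum (fun y => (A 0 + A k) y * conj (θ y)) := by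
        rw [← oddSum_const_mul]
        refine oddSum_congr fun y hy => ?_
        rw [((hA.phiFn_values h k y).1 hy).2, Subgroup.coe_mul]
        simp only [Pi.add_apply, hA.zero, hθ, hzCdef]
        ring
      have a3 : ∑ y : C, (if orderOf (tw y) = 4 then phiFn zC A k y * conj ((χ : G → ℂ) (y : G))
          else 0) = 2 * ε * (Nat.card C : ℂ) / 4 := by
        rw [← h.sum_four_const]
        refine Finset.sum_congr rfl fun y _ => ?_
        split_ifs with hy
        · have hc : IsConj x ((tw y : C) : G) := by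
            obtain ⟨d, hd⟩ := isConj_iff.mp (h.conj _ hy)
            exact isConj_iff.mpr ⟨(d : G), by rw [← hd]; rfl⟩
          rw [(hA.phiFn_values h k y).2 hy, const_on_section S e hM hx4 (hppart y) hc hχB, hχx, hεc]
        · rfl
      rw [a1, a2, a3, Rf]
      field_simp
      ring
    have e2 : Rf (A 0 + A k) (ε • A 1) = (if k = 1 then ε else 0) - ε / 2 := by
      rw [← Rf_conj, Rf_smul_left, map_mul, Rf_conj, hεc, Rf_add_left, hA.gram h, hA.gram h,
        if_neg hne1.symm]
      split_ifs <;> ring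
    have e3 : Rf (A 0 + A k) D + Rf (A 0 + A k) (ε • A 1) = Rf (A 0 + A k) θ := by
      rw [← Rf_add_right, hD, sub_add_cancel]
    rw [e1, e2] at e3
    linear_combination e3
  have hR : ∀ j, Rf D (A j) = 0 := by
    have hk : ∀ k : Fin 4, k ≠ 0 → Rf D (A 0) + Rf D (A k) = 0 := fun k hk => by
      rw [← Rf_add_right, ← Rf_conj, hRk k hk, map_zero]
    have hsum : Rf D (∑ i, A i) = 0 := by
      rw [← Rf_conj, Rf_congr_left (f' := (0 : C → ℂ)) D (fun y hy => ?_), ← zero_smul ℂ (A 0),
        Rf_smul_left, zero_mul, map_zero]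
      rw [Finset.sum_apply, hA.sum, psiC, hy, orderOf_one, if_neg (by norm_num), Pi.zero_apply]
    rw [Rf_sum_right, Fin.sum_univ_four] at hsum
    have h1 := hk 1 (by decide)
    have h2 := hk 2 (by decide)
    have h3 := hk 3 (by decide)
    intro j
    fin_cases j
    · show Rf D (A 0) = 0
      linear_combination (1 / 2 : ℂ) * (h1 + h2 + h3 - hsum)
    · show Rf D (A 1) = 0
      linear_combination h1 - (1 / 2 : ℂ) * (h1 + h2 + h3 - hsum)
    · show Rf D (A 2) = 0
      linear_combination h2 - (1 / 2 : ℂ) * (h1 + h2 + h3 - hsum)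
    · show Rf D (A 3) = 0
      linear_combination h3 - (1 / 2 : ℂ) * (h1 + h2 + h3 - hsum)
  have htw1 : tw (1 : C) = 1 := (h.ev_of_odd (by rw [orderOf_one]; exact odd_one)).1
  have hχz : (χ : G → ℂ) z = ε * c := by
    have h0 := hA.span h hM _ hD1 hR 1 htw1
    simp only [hD, Pi.sub_apply, Pi.smul_apply, smul_eq_mul, hθ, Subgroup.coe_one, mul_one] at h0
    exact sub_eq_zero.mp h0
  -- value of `r` at `z`
  have hPz : P 1 z = 2 * (1 + c) := by
    have hzne : zC ≠ 1 := Invol.ne_one_of_orderOf_two h.hz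
    have hzX : (zC : G) ∈ X := ⟨hzC, by rw [show orderOf (zC : G) = 2 from hz]⟩
    show indFun C (phiFn zC A 1) (zC : G) = _
    rw [CT.indFun_eq_on_TI hTI (hΦcf 1) (hsΦ 1) hzX hzne]
    have := ((hA.phiFn_values h 1 1).1 htw1).2
    rw [mul_one] at this
    exact this
  -- the class relation
  set c0 : ℂ := ∑ g, (ClassSum.classInd z g : ℂ) with hc0def
  have hc0 : c0 ≠ 0 := by
    have : c0 = ((Finset.univ.filter fun g => IsConj z g).card : ℂ) := by
      rw [hc0def, Finset.card_filter, Nat.cast_sum]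
      refine Finset.sum_congr rfl fun g _ => ?_
      by_cases hg : IsConj z g
      · rw [ClassSum.classInd_pos hg, if_pos hg]; simp
      · rw [ClassSum.classInd_neg hg, if_neg hg]; simp
    rw [this, Nat.cast_ne_zero]
    exact Finset.card_ne_zero.mpr ⟨z, Finset.mem_filter.mpr ⟨Finset.mem_univ _, IsConj.refl z⟩⟩
  have hrel : ∀ η : IrrCharacter G, ∑ g, (ClassSum.classInd z g : ℂ) * (η : G → ℂ) (z * g) =
      c0 * ((η : G → ℂ) z ^ 2 / (η : G → ℂ) 1) := by
    intro η
    rw [← ClassSum.char_mul_omega η.2 (ClassSum.classInd_isClassWeight z) z, ClassSum.omega]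
    have e1 : ∑ g, (ClassSum.classInd z g : ℂ) * (η : G → ℂ) g = c0 * (η : G → ℂ) z := by
      rw [hc0def, Finset.sum_mul]
      refine Finset.sum_congr rfl fun g _ => ?_
      by_cases hg : IsConj z g
      · rw [CT.isClassFunction_isConj (CT.isClassFunction_of_isIrr η.2) hg]
      · rw [ClassSum.classInd_neg hg]; simp
    rw [e1]; ring
  have hkey : 1 + ε * ((χ : G → ℂ) z ^ 2 / (χ : G → ℂ) 1 - (r : G → ℂ) z ^ 2 / (r : G → ℂ) 1) = 0 := by
    have h0 : ∑ g, (ClassSum.classInd z g : ℂ) * P 1 (z * g) = 0 := by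
      refine Finset.sum_eq_zero fun g _ => ?_
      by_cases hg : IsConj z g
      · have hodd := Invol.isolated_odd_mul hiso hg
        have hzero : P 1 (z * g) = 0 := by
          simp only [hP, indFun]
          rw [Finset.sum_eq_zero, mul_zero]
          intro w _
          by_cases hm : w⁻¹ * (z * g) * w ∈ C
          · rw [CT.extendByZero_mem C _ hm]
            refine hsΦ 1 _ fun hX' => ?_
            have h2 := hX'.2
            have e1 : orderOf (w⁻¹ * (z * g) * w) = orderOf (z * g) := by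
              rw [show w⁻¹ * (z * g) * w = w⁻¹ * (z * g) * w⁻¹⁻¹ by group, Invol.orderOf_conj]
            rw [show ((⟨_, hm⟩ : C) : G) = w⁻¹ * (z * g) * w from rfl, e1, ← even_iff_two_dvd] at h2
            exact Nat.not_even_iff_odd.mpr hodd h2
          · rw [CT.extendByZero_not_mem C _ hm]
        rw [hzero, mul_zero]
      · rw [ClassSum.classInd_neg hg]; simp
    have h1 : ∑ g, (ClassSum.classInd z g : ℂ) * P 1 (z * g) =
        c0 + ε * ((∑ g, (ClassSum.classInd z g : ℂ) * (χ : G → ℂ) (z * g)) -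
          ∑ g, (ClassSum.classInd z g : ℂ) * (r : G → ℂ) (z * g)) := by
      rw [hc0def, hPdef, mul_sub, Finset.mul_sum, Finset.mul_sum, ← Finset.sum_sub_distrib,
        ← Finset.sum_add_distrib]
      refine Finset.sum_congr rfl fun g _ => ?_
      simp only [Pi.add_apply, Pi.smul_apply, Pi.sub_apply, smul_eq_mul]
      ring
    rw [h0, hrel, hrel] at h1
    refine (mul_eq_zero.mp ?_).resolve_left hc0
    linear_combination -h1
  have hrz : (r : G → ℂ) z = -ε * (1 + c) := by
    have h1 := hPz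
    rw [hPdef] at h1
    simp only [Pi.add_apply, Pi.smul_apply, Pi.sub_apply, smul_eq_mul, hχz] at h1
    rcases hε with rfl | rfl
    · linear_combination -h1
    · linear_combination h1
  refine ⟨χ, hχt, ?_⟩
  have hf := CT.irr_one_ne_zero χ.2
  have hfr := CT.irr_one_ne_zero r.2
  have h2 : (χ : G → ℂ) 1 * (r : G → ℂ) 1 + ε * ((χ : G → ℂ) z ^ 2 * (r : G → ℂ) 1 -
      (r : G → ℂ) z ^ 2 * (χ : G → ℂ) 1) = 0 := by
    have h3 : (1 + ε * ((χ : G → ℂ) z ^ 2 / (χ : G → ℂ) 1 - (r : G → ℂ) z ^ 2 / (r : G → ℂ) 1)) *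
        ((χ : G → ℂ) 1 * (r : G → ℂ) 1) = 0 := by rw [hkey, zero_mul]
    rw [← h3]
    field_simp
  rw [hχz, hrz, hrdeg] at h2
  rw [hχz]
  rcases hε with rfl | rfl
  · have : ((χ : G → ℂ) 1 - c) ^ 2 = 0 := by linear_combination h2
    linear_combination -(sub_eq_zero.mp (pow_eq_zero_iff two_ne_zero |>.mp this))
  · have : ((χ : G → ℂ) 1 + c) ^ 2 = 0 := by linear_combination h2
    linear_combination -(pow_eq_zero_iff two_ne_zero |>.mp this)

theorem z_mem_center : ∀ (n : ℕ) (G : Type u) [Group G] [Finite G], Nat.card G = n →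
    ∀ (S : Sylow 2 G), Nonempty ((S : Subgroup G) ≃* QuaternionGroup 2) →
      (∀ N : Subgroup G, N.Normal → Odd (Nat.card N) → N = ⊥) →
        ∀ z : G, orderOf z = 2 → z ∈ Subgroup.center G := by
  intro n
  induction n using Nat.strong_induction_on with
  | _ n ih =>
  intro G _ _ hn S hS hO z hz
  classical
  haveI : Fact (Nat.Prime 2) := ⟨Nat.prime_two⟩
  obtain ⟨e⟩ := hS
  obtain ⟨hdvd, huniq, htriple, x, hx, y₀, hy₀, hx4, hy4, hxy⟩ := facts S e
  -- it suffices to treat the involution `x * x`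
  have hw : orderOf (x * x) = 2 := by rw [← pow_two, orderOf_pow, hx4]; rfl
  suffices hcen : x * x ∈ Subgroup.center G by
    rw [eq_of_commute_of_orderOf_two S e hz hw (Subgroup.mem_center_iff.mp hcen z)]
    exact hcen
  clear hz z
  have hiso := isolated_of_quat S e hw
  by_cases hnc : ∀ N : Subgroup G, N.Normal → ¬ Subgroup.IsComplement' N (S : Subgroup G)
  swap
  · push Not at hnc
    obtain ⟨N, hN, hNS⟩ := hnc
    have hNbot : N = ⊥ := hO N hN (by
      rw [← Nat.not_even_iff_odd, even_iff_two_dvd, ← hNS.index_eq_card]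
      exact S.not_dvd_index)
    have hStop : (S : Subgroup G) = ⊤ := Subgroup.eq_top_of_card_eq _ (by
      rw [← hNS.card_mul, hNbot, Subgroup.card_bot, one_mul])
    refine Subgroup.mem_center_iff.mpr fun g => ?_
    have hg : g ∈ (S : Subgroup G) := hStop ▸ Subgroup.mem_top g
    exact mul_inv_eq_iff_eq_mul.mp (huniq _ (mul_mem (mul_mem hg (mul_mem hx hx)) (inv_mem hg)) _
      (mul_mem hx hx) (by rw [Invol.orderOf_conj, hw]) hw)
  obtain ⟨χ, hχt, hχz⟩ := exceptional S e hnc hx hx4
  have hχc := CT.isCharacter_of_isIrr χ.2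
  set N := CT.kerChar (χ : G → ℂ) with hN
  have hNn : N.Normal := ⟨fun a ha g => (CT.mem_kerChar_iff hχc).mpr (by
    rw [CT.isClassFunction_of_isIrr χ.2]; exact (CT.mem_kerChar_iff hχc).mp ha)⟩
  haveI := hNn
  have hzN : x * x ∈ N := (CT.mem_kerChar_iff hχc).mpr hχz
  have hNtop : N ≠ ⊤ := by
    intro htop
    letI := Fintype.ofFinite G
    have hconst : (χ : G → ℂ) = fun _ => (χ : G → ℂ) 1 := funext fun g =>
      (CT.mem_kerChar_iff hχc).mp (show g ∈ N by rw [htop]; exact Subgroup.mem_top g)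
    have h0 := CT.irr_inner_of_ne χ.2 CT.isIrrCharacter_one fun e' => hχt (Subtype.ext e')
    rw [hconst, classInner] at h0
    simp only [map_one, mul_one, Finset.sum_const, Finset.card_univ, nsmul_eq_mul] at h0
    rw [← Nat.card_eq_fintype_card, ← mul_assoc, inv_mul_cancel₀ CT.card_ne_zero, one_mul] at h0
    exact CT.irr_one_ne_zero χ.2 h0
  have hcoreN : ∀ K : Subgroup N, K.Normal → Odd (Nat.card K) → K = ⊥ := by
    intro K hK hodd
    have hle : K ≤ pPrimeCore 2 N := by
      haveI := hK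
      exact Basics.le_pPrimeCore ((Nat.coprime_two_right).mpr hodd)
    have hbot : (pPrimeCore 2 N).map N.subtype = ⊥ := hO _ inferInstance (by
      rw [Subgroup.card_map_of_injective Subtype.val_injective, ← Nat.not_even_iff_odd,
        even_iff_two_dvd]
      exact Basics.not_dvd_card_pPrimeCore 2)
    rw [Subgroup.map_eq_bot_iff_of_injective _ Subtype.val_injective] at hbot
    exact le_bot_iff.mp (hbot ▸ hle)
  -- the involution is central in `N`
  have hzcN : ∀ g ∈ N, g * (x * x) = x * x * g := by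
    by_cases hxN : x ∈ N
    · have hSN : (S : Subgroup G) ≤ N := by
        intro s hs
        by_cases h4 : orderOf s = 4
        · obtain ⟨c, rfl⟩ := isConj_iff.mp (conj_four S e hnc hx4 h4)
          exact hNn.conj_mem x hxN c
        · by_cases h1 : s = 1
          · rw [h1]; exact one_mem _
          · have h2 : orderOf s = 2 := by
              refine Invol.orderOf_two_of_mul_self ?_ h1
              by_contra hh
              exact h4 (orderOf_eq_four (hdvd s hs) hh)
            rw [huniq s hs _ (mul_mem hx hx) h2 hw]; exact hzN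
      have hlt : Nat.card N < n := by
        rw [← hn]
        exact lt_of_le_of_ne (Subgroup.card_le_card_group N) fun h' =>
          hNtop (Subgroup.eq_top_of_card_eq N h')
      have := ih _ hlt N rfl (S.subtype hSN)
        ⟨(MulEquiv.subgroupCongr (Sylow.coe_subtype S hSN)).trans
          ((Subgroup.subgroupOfEquivOfLe hSN).trans e)⟩ hcoreN ⟨x * x, hzN⟩
        (by rw [Subgroup.orderOf_mk]; exact hw)
      intro g hg
      exact congrArg Subtype.val (Subgroup.mem_center_iff.mp this ⟨g, hg⟩)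
    · -- the Sylow 2-subgroups of `N` have order 2
      set zN : N := ⟨x * x, hzN⟩ with hzNdef
      have hp : IsPGroup 2 (Subgroup.zpowers zN) := IsPGroup.of_card (n := 1) (by
        rw [Nat.card_zpowers, pow_one, Subgroup.orderOf_mk]; exact hw)
      obtain ⟨P, hP⟩ := hp.exists_le_sylow
      have hPz : (P : Subgroup N) = Subgroup.zpowers zN := by
        refine le_antisymm (fun t ht => ?_) hP
        obtain ⟨c, hc⟩ := exists_conj_into S (P := (P : Subgroup N).map N.subtype) (P.2.map _)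
        have hct := hc (t : G) ⟨t, ht, rfl⟩
        have hcz := hc (x * x) ⟨zN, hP (Subgroup.mem_zpowers zN), rfl⟩
        have h4 : orderOf (t : G) ≠ 4 := fun h4 => by
          obtain ⟨d, hd⟩ := isConj_iff.mp (conj_four S e hnc h4 hx4)
          exact hxN (hd ▸ hNn.conj_mem _ t.2 d)
        by_cases h1 : t = 1
        · rw [h1]; exact one_mem _
        have h2 : orderOf (t : G) = 2 := by
          refine Invol.orderOf_two_of_mul_self ?_ (fun e' => h1 (Subtype.ext e'))
          by_contra hh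
          have hd4 := hdvd _ hct
          rw [Invol.orderOf_conj] at hd4
          exact h4 (orderOf_eq_four hd4 hh)
        have e' := huniq _ hct _ hcz (by rw [Invol.orderOf_conj, h2]) (by rw [Invol.orderOf_conj, hw])
        rw [show t = zN from Subtype.ext (mul_left_cancel (mul_right_cancel e'))]
        exact Subgroup.mem_zpowers zN
      have hcyc : IsCyclic (P : Subgroup N) := by rw [hPz]; infer_instance
      have hmin : (Nat.card N).minFac = 2 := by
        rw [Nat.minFac_eq_two_iff]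
        have := orderOf_dvd_natCard zN
        rwa [Subgroup.orderOf_mk, hw] at this
      obtain ⟨Q, K, hK, hQK⟩ : HasNormalPComplement 2 N :=
        Transfer.hasNormalPComplement_of_normalizer_le P (hcyc.normalizer_le_centralizer hmin)
      have hK1 : K = ⊥ := hcoreN K hK (by
        rw [← hQK.index_eq_card, ← Nat.not_even_iff_odd, even_iff_two_dvd]
        exact Q.not_dvd_index)
      have hPtop : (P : Subgroup N) = ⊤ := Subgroup.eq_top_of_card_eq _ (by
        rw [← hQK.card_mul, hK1, Subgroup.card_bot, one_mul]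
        exact Nat.card_congr (Sylow.equiv P Q).toEquiv)
      intro g hg
      have hmem : (⟨g, hg⟩ : N) ∈ Subgroup.zpowers zN := hPz ▸ hPtop ▸ Subgroup.mem_top _
      obtain ⟨k, hk⟩ := hmem
      have := ((Commute.refl zN).zpow_right k).eq
      simp only at hk
      rw [hk] at this
      exact (congrArg Subtype.val this).symm
  refine Subgroup.mem_center_iff.mpr fun g => ?_
  exact mul_inv_eq_iff_eq_mul.mp
    (hiso.2 g (hzcN _ (hNn.conj_mem _ hzN g)).symm)

/-- Brauer-Suzuki for a quaternion Sylow 2-subgroup of order 8. -/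
theorem center_card_two (S : Sylow 2 G) (e : (S : Subgroup G) ≃* QuaternionGroup 2)
    (hO : ∀ N : Subgroup G, N.Normal → Odd (Nat.card N) → N = ⊥) :
    Nat.card (Subgroup.center G) = 2 := by
  classical
  haveI : Fact (Nat.Prime 2) := ⟨Nat.prime_two⟩
  obtain ⟨hdvd, huniq, htriple, x, hx, y₀, hy₀, hx4, hy4, hxy⟩ := facts S e
  have hw : orderOf (x * x) = 2 := by rw [← pow_two, orderOf_pow, hx4]; rfl
  have hcen := z_mem_center _ G rfl S ⟨e⟩ hO _ hw
  suffices Subgroup.center G = Subgroup.zpowers (x * x) by rw [this, Nat.card_zpowers, hw]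
  refine le_antisymm (fun w hw' => ?_) (Subgroup.zpowers_le.mpr hcen)
  have hnormal : ∀ K : Subgroup G, K ≤ Subgroup.center G → K.Normal := fun K hK =>
    ⟨fun a ha g => by rwa [Subgroup.mem_center_iff.mp (hK ha) g, mul_inv_cancel_right]⟩
  obtain ⟨t, ht, -⟩ := Blocks.exists_isPPart (p := 2) w
  obtain ⟨o, hto, hcom, ⟨k, hk⟩, hodd⟩ := ht
  have hpart : IsPPart 2 w t := ⟨o, hto, hcom, ⟨k, hk⟩, hodd⟩
  have htc : t ∈ Subgroup.center G :=
    Subgroup.zpowers_le.mpr hw' (Blocks.ppart_mem_zpowers hpart)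
  have hoc : o ∈ Subgroup.center G := by
    have : o = t⁻¹ * w := by rw [← hto, inv_mul_cancel_left]
    rw [this]; exact mul_mem (inv_mem htc) hw'
  have ho1 : o = 1 := by
    have := hO _ (hnormal _ (Subgroup.zpowers_le.mpr hoc)) (by
      rw [Nat.card_zpowers, ← Nat.not_even_iff_odd, even_iff_two_dvd]; exact hodd)
    rwa [Subgroup.zpowers_eq_bot] at this
  rw [← hto, ho1, mul_one]
  obtain ⟨c, hc⟩ := exists_conj_elem_into S (t := t) ⟨k, by rw [← hk]; exact pow_orderOf_eq_one t⟩
  rw [Subgroup.mem_center_iff.mp htc c, mul_inv_cancel_right] at hc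
  by_cases h1 : t = 1
  · rw [h1]; exact one_mem _
  by_cases h4 : orderOf t = 4
  · exfalso
    obtain ⟨y, hy, hy4', hyt⟩ : ∃ y ∈ (S : Subgroup G), orderOf y = 4 ∧ y ∉ Subgroup.zpowers t := by
      by_contra hcon
      push Not at hcon
      have hz : Subgroup.zpowers x = Subgroup.zpowers t :=
        Subgroup.eq_of_le_of_card_ge (Subgroup.zpowers_le.mpr (hcon x hx hx4))
          (by rw [Nat.card_zpowers, Nat.card_zpowers, hx4, h4])
      exact hxy (hz ▸ hcon y₀ hy₀ hy4)
    obtain ⟨-, hinv, -⟩ := htriple t hc y hy h4 hy4' hyt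
    rw [Subgroup.mem_center_iff.mp htc y, mul_inv_cancel_right, eq_inv_iff_mul_eq_one, ← pow_two]
      at hinv
    have := Nat.le_of_dvd two_pos (orderOf_dvd_of_pow_eq_one hinv)
    omega
  · have h2 : orderOf t = 2 := by
      refine Invol.orderOf_two_of_mul_self ?_ h1
      by_contra hh
      exact h4 (orderOf_eq_four (hdvd t hc) hh)
    rw [huniq t hc _ (mul_mem hx hx) h2 hw]
    exact Subgroup.mem_zpowers _

end Cfsg.Agent.Q8
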