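import Mathlib
import Cfsg.Agent.Lib.InvChar.Q8Center
import Cfsg.Agent.Lib.Blocks.ZStar

/-!
# The Brauer-Suzuki theorem and Glauberman's Z* theorem, unconditionally
-/

set_option autoImplicit false

namespace Cfsg.Agent.InvChar

open Cfsg Cfsg.Agent

universe u

theorem brauerSuzukiEight : Blocks.BrauerSuzukiEight.{u} :=
  fun _ _ _ S he hO => he.elim fun e => Q8.center_card_two S e hO

/-- The Brauer-Suzuki theorem. -/
theorem brauerSuzuki : BrauerSuzuki.{u} := Blocks.brauerSuzuki_of_eight brauerSuzukiEight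

/-- Glauberman's Z* theorem in commutator form. -/
theorem zstarHyp : Invol.ZStarHyp.{u} := Blocks.zstarHyp_of_eight brauerSuzukiEight

/-- Glauberman's Z* theorem in Sylow form. -/
theorem zstarSylow {G : Type u} [Group G] [Finite G]
    (P : Sylow 2 G) (t : G) (ht : orderOf t = 2) (htP : t ∈ P)
    (hiso : ∀ g : G, g * t * g⁻¹ ∈ P → g * t * g⁻¹ = t) :
    ∃ N : Subgroup G, N.Normal ∧ Odd (Nat.card N) ∧ ∀ g : G, (t * g * t⁻¹ * g⁻¹) ∈ N :=
  Blocks.zstar_sylow_of_eight brauerSuzukiEight P t ht htP hiso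

end Cfsg.Agent.InvChar
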