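import Cfsg.Agent.Lib.InvChar.TwoSL2
import Cfsg.Agent.Lib.LinearGroups.Basic

/-!
# The outer action on a central product of two `SL(2, q)`, `q` odd
-/

set_option autoImplicit false
set_option linter.style.haveILetI false
set_option linter.unusedSectionVars false

namespace Cfsg.Agent.InvChar

open Matrix Cfsg.Agent

section Mat

variable {F : Type*} [Field F] [Fintype F]

/-- The upper transvection. -/
def sl2U (a : F) : SpecialLinearGroup (Fin 2) F := ⟨!![1, a; 0, 1], by rw [det_fin_two_of]; ring⟩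

/-- The lower transvection. -/
def sl2V (a : F) : SpecialLinearGroup (Fin 2) F := ⟨!![1, 0; a, 1], by rw [det_fin_two_of]; ring⟩

@[simp] theorem sl2U_coe (a : F) : ((sl2U a : SpecialLinearGroup (Fin 2) F) : Matrix (Fin 2) (Fin 2) F) = !![1, a; 0, 1] := rfl

@[simp] theorem sl2V_coe (a : F) : ((sl2V a : SpecialLinearGroup (Fin 2) F) : Matrix (Fin 2) (Fin 2) F) = !![1, 0; a, 1] := rfl

theorem sl2U_inv (t : F) : ((sl2U t)⁻¹ : SpecialLinearGroup (Fin 2) F) = sl2U (-t) := by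
  refine inv_eq_of_mul_eq_one_right (Subtype.ext ?_)
  show !![(1 : F), t; 0, 1] * !![1, -t; 0, 1] = 1
  ext i j
  fin_cases i <;> fin_cases j <;> simp [Matrix.mul_apply, Fin.sum_univ_two]

theorem sl2V_inv (t : F) : ((sl2V t)⁻¹ : SpecialLinearGroup (Fin 2) F) = sl2V (-t) := by
  refine inv_eq_of_mul_eq_one_right (Subtype.ext ?_)
  show !![(1 : F), 0; t, 1] * !![1, 0; -t, 1] = 1
  ext i j
  fin_cases i <;> fin_cases j <;> simp [Matrix.mul_apply, Fin.sum_univ_two]

theorem sl2_mul_ext {x y : SpecialLinearGroup (Fin 2) F} (h : x * y = y * x) :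
    (x.1 * y.1) 0 0 = (y.1 * x.1) 0 0 ∧ (x.1 * y.1) 0 1 = (y.1 * x.1) 0 1 ∧
      (x.1 * y.1) 1 0 = (y.1 * x.1) 1 0 ∧ (x.1 * y.1) 1 1 = (y.1 * x.1) 1 1 := by
  have h' : x.1 * y.1 = y.1 * x.1 := congrArg Subtype.val h
  rw [h']
  exact ⟨rfl, rfl, rfl, rfl⟩

theorem sl2_scalar_sq {x : SpecialLinearGroup (Fin 2) F} (h1 : x.1 0 1 = 0) (h2 : x.1 1 0 = 0)
    (h3 : x.1 0 0 = x.1 1 1) : x * x = 1 := by
  have hd := x.2
  rw [det_fin_two, h1, h2, h3, mul_zero, sub_zero] at hd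
  apply Subtype.ext
  show x.1 * x.1 = 1
  ext i j
  fin_cases i <;> fin_cases j <;> simp [Matrix.mul_apply, Fin.sum_univ_two, h1, h2, h3, hd]

theorem sl2_commute_uv {x : SpecialLinearGroup (Fin 2) F} (hu : Commute x (sl2U 1)) (hv : Commute x (sl2V 1)) :
    x * x = 1 := by
  obtain ⟨u00, u01, -, -⟩ := sl2_mul_ext hu.eq
  obtain ⟨v00, -, v10, -⟩ := sl2_mul_ext hv.eq
  simp [Matrix.mul_apply, Matrix.vecMul, dotProduct, Fin.sum_univ_two] at u00 u01
  simp [Matrix.mul_apply, Matrix.vecMul, dotProduct, Fin.sum_univ_two] at v00 v10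
  refine sl2_scalar_sq ?_ ?_ ?_
  · linear_combination v00
  · linear_combination u00
  · linear_combination u01

theorem sl2_commute_conjugates (hF : Odd (Fintype.card F)) {a b : SpecialLinearGroup (Fin 2) F}
    (h : ∀ g : SpecialLinearGroup (Fin 2) F, Commute b (g * a * g⁻¹)) : a * a = 1 ∨ b * b = 1 := by
  have h2 := sl2_two_ne_zero hF
  have h0 : Commute b a := by simpa using h 1
  obtain ⟨c00, c01, c10, c11⟩ := sl2_mul_ext h0.eq
  have hU := sl2U_inv (F := F)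
  have hV := sl2V_inv (F := F)
  have hp := sl2_mul_ext (h (sl2U 1)).eq
  have hn := sl2_mul_ext (h (sl2U (-1))).eq
  have hq := sl2_mul_ext (h (sl2V 1)).eq
  have hm := sl2_mul_ext (h (sl2V (-1))).eq
  rw [hU] at hp hn
  rw [hV] at hq hm
  simp [Matrix.mul_apply, Matrix.vecMul, dotProduct, Fin.sum_univ_two] at hp hn hq hm c00 c01 c10 c11
  obtain ⟨p00, p01, p10, p11⟩ := hp
  obtain ⟨n00, n01, n10, n11⟩ := hn
  obtain ⟨q00, q01, q10, q11⟩ := hq
  obtain ⟨m00, m01, m10, m11⟩ := hm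
  set p := a.1 0 0
  set r := a.1 0 1
  set s := a.1 1 0
  set w := a.1 1 1
  set x := b.1 0 0
  set y := b.1 0 1
  set z := b.1 1 0
  set v := b.1 1 1
  by_cases hs : s = 0
  · by_cases hr : r = 0
    · by_cases hpw : p = w
      · exact Or.inl (sl2_scalar_sq hr hs hpw)
      · right
        have hne : w - p ≠ 0 := fun e => hpw (sub_eq_zero.mp e).symm
        refine sl2_scalar_sq ((mul_eq_zero.mp (show (w - p) * y = 0 from ?_)).resolve_left hne)
          ((mul_eq_zero.mp (show (w - p) * z = 0 from ?_)).resolve_left hne)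
          (sub_eq_zero.mp ((mul_eq_zero.mp (show (w - p) * (x - v) = 0 from ?_)).resolve_left hne))
        · linear_combination c01 - (x - v) * hr
        · linear_combination -1 * c10 - (x - v) * hs
        · linear_combination p01 - c01 + (2 * y + x - v) * hs
    · right
      have hne : 2 * r ≠ 0 := mul_ne_zero h2 hr
      have hy : 2 * r * y = 0 := by linear_combination -(q00 + m00 - 2 * c00)
      have hxv : 2 * r * (x - v) = 0 := by linear_combination q10 + m10 - 2 * c10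
      have hy0 := (mul_eq_zero.mp hy).resolve_left hne
      have hx0 := sub_eq_zero.mp ((mul_eq_zero.mp hxv).resolve_left hne)
      have hz : r * z = 0 := by linear_combination -1 * c00 + s * hy0
      exact sl2_scalar_sq hy0 ((mul_eq_zero.mp hz).resolve_left hr) hx0
  · right
    have hne : 2 * s ≠ 0 := mul_ne_zero h2 hs
    have hz : 2 * s * z = 0 := by linear_combination p00 + n00 - 2 * c00
    have hxv : 2 * s * (x - v) = 0 := by linear_combination -(p01 + n01 - 2 * c01)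
    have hz0 := (mul_eq_zero.mp hz).resolve_left hne
    have hx0 := sub_eq_zero.mp ((mul_eq_zero.mp hxv).resolve_left hne)
    have hy : s * y = 0 := by linear_combination c00 + r * hz0
    exact sl2_scalar_sq ((mul_eq_zero.mp hy).resolve_left hs) hz0 hx0

theorem sl2_anti (hF : Odd (Fintype.card F)) {y : SpecialLinearGroup (Fin 2) F}
    (h : ∀ g : SpecialLinearGroup (Fin 2) F, g * y * g⁻¹ = y ∨ g * y * g⁻¹ = -y) : y * y = 1 := by
  have h2 := sl2_two_ne_zero hF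
  have hU := sl2U_inv (F := F)
  have hV := sl2V_inv (F := F)
  have hd := y.2
  rw [det_fin_two] at hd
  refine sl2_commute_uv ?_ ?_
  · rcases h (sl2U 1) with he | he
    · exact (mul_inv_eq_iff_eq_mul.mp he).symm
    · exfalso
      rw [hU] at he
      have e := fun i j => congrFun (congrFun (congrArg Subtype.val he) i) j
      have e00 := e 0 0
      have e01 := e 0 1
      have e10 := e 1 0
      have e11 := e 1 1
      simp [Matrix.mul_apply, Matrix.vecMul, dotProduct, Fin.sum_univ_two] at e00 e01 e10 e11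
      have hz : y.1 1 0 = 0 := (mul_eq_zero.mp (show (2 : F) * y.1 1 0 = 0 by linear_combination e10)).resolve_left h2
      have hx : y.1 0 0 = 0 := (mul_eq_zero.mp (show (2 : F) * y.1 0 0 = 0 by linear_combination e00 - hz)).resolve_left h2
      exact zero_ne_one (α := F) (by linear_combination hd - y.1 1 1 * hx + y.1 0 1 * hz)
  · rcases h (sl2V 1) with he | he
    · exact (mul_inv_eq_iff_eq_mul.mp he).symm
    · exfalso
      rw [hV] at he
      have e := fun i j => congrFun (congrFun (congrArg Subtype.val he) i) j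
      have e00 := e 0 0
      have e01 := e 0 1
      have e10 := e 1 0
      have e11 := e 1 1
      simp [Matrix.mul_apply, Matrix.vecMul, dotProduct, Fin.sum_univ_two] at e00 e01 e10 e11
      have hz : y.1 0 1 = 0 := (mul_eq_zero.mp (show (2 : F) * y.1 0 1 = 0 by linear_combination e01)).resolve_left h2
      have hx : y.1 1 1 = 0 := (mul_eq_zero.mp (show (2 : F) * y.1 1 1 = 0 by linear_combination e11 - hz)).resolve_left h2
      exact zero_ne_one (α := F) (by linear_combination hd - y.1 0 0 * hx + y.1 1 0 * hz)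

theorem card_sl2 : (Nat.card (SpecialLinearGroup (Fin 2) F)) =
    Fintype.card F * (Fintype.card F * Fintype.card F - 1) := by
  have h := LinGrp.natCard_SL_mul (F := F) 2 (by norm_num)
  have hq := Fintype.one_lt_card (α := F)
  obtain ⟨c, hc⟩ : ∃ c, Fintype.card F = c + 2 := ⟨Fintype.card F - 2, by omega⟩
  rw [Fin.prod_univ_two, hc] at h
  simp only [Fin.val_zero, Fin.val_one, pow_zero, pow_one] at h
  rw [hc]
  have h1 : (c + 2) ^ 2 - (c + 2) = (c + 1) * (c + 2) := by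
    rw [pow_two, ← Nat.sub_one_mul]; rfl
  rw [h1, show c + 2 - 1 = c + 1 by omega] at h
  refine Nat.eq_of_mul_eq_mul_left (show 0 < c + 1 by omega) ?_
  rw [h, pow_two]; ring

end Mat

section Group

variable {G : Type*} [Group G] [Finite G]

theorem exists_mul_of_mem_sup {L₁ L₂ : Subgroup G} (hc : ∀ x ∈ L₁, ∀ y ∈ L₂, x * y = y * x)
    {m : G} (hm : m ∈ L₁ ⊔ L₂) : ∃ a ∈ L₁, ∃ b ∈ L₂, a * b = m := by
  rw [← Subgroup.closure_eq L₁, ← Subgroup.closure_eq L₂, ← Subgroup.closure_union] at hm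
  induction hm using Subgroup.closure_induction with
  | mem g hg =>
    rcases hg with h | h
    · exact ⟨g, h, 1, one_mem _, mul_one g⟩
    · exact ⟨1, one_mem _, g, h, one_mul g⟩
  | one => exact ⟨1, one_mem _, 1, one_mem _, mul_one 1⟩
  | mul u v _ _ ihu ihv =>
    obtain ⟨a, ha, b, hb, rfl⟩ := ihu
    obtain ⟨a', ha', b', hb', rfl⟩ := ihv
    exact ⟨a * a', mul_mem ha ha', b * b', mul_mem hb hb',
      (Commute.mul_mul_mul_comm (show Commute a' b from hc a' ha' b hb) a b').trans rfl⟩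
  | inv u _ ihu =>
    obtain ⟨a, ha, b, hb, rfl⟩ := ihu
    exact ⟨a⁻¹, inv_mem ha, b⁻¹, inv_mem hb, by rw [_root_.mul_inv_rev, hc _ (inv_mem ha) _ (inv_mem hb)]⟩

variable {F : Type*} [Field F] [Fintype F] (hF : Odd (Fintype.card F)) (L : Subgroup G)
  (e : ↥L ≃* SpecialLinearGroup (Fin 2) F) {j : G} (hjL : j ∈ L) (hn : e ⟨j, hjL⟩ = -1)

include hF hn

/-- Commuting subgroups invariant under `L`, one of them noncentral. -/
theorem le_pair_of_commuting {A B : Subgroup G} (hA : ∀ g ∈ L, ∀ a ∈ A, g * a * g⁻¹ ∈ A)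
    (hAB : ∀ a ∈ A, ∀ b ∈ B, a * b = b * a) :
    (∀ a ∈ A, a ∈ L → a = 1 ∨ a = j) ∨ (∀ b ∈ B, b ∈ L → b = 1 ∨ b = j) := by
  by_contra h
  push Not at h
  obtain ⟨⟨a, ha, haL, ha1, haj⟩, b, hb, hbL, hb1, hbj⟩ := h
  rcases sl2_commute_conjugates hF (a := e ⟨a, haL⟩) (b := e ⟨b, hbL⟩) (fun g => by
      obtain ⟨⟨g, hg⟩, rfl⟩ := e.surjective g
      rw [← map_inv, ← map_mul, ← map_mul]
      refine Commute.map ?_ e
      exact Subtype.ext (hAB _ (hA g hg a ha) b hb).symm) with h | h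
  · rw [← map_mul, ← map_one e] at h
    rcases iso_sq_one hF L e hjL hn a haL (congrArg Subtype.val (e.injective h)) with h | h
    · exact ha1 h
    · exact haj h
  · rw [← map_mul, ← map_one e] at h
    rcases iso_sq_one hF L e hjL hn b hbL (congrArg Subtype.val (e.injective h)) with h | h
    · exact hb1 h
    · exact hbj h

theorem central_of_anti {y : G} (hy : y ∈ L) (h : ∀ g ∈ L, g * y * g⁻¹ * y⁻¹ = 1 ∨ g * y * g⁻¹ * y⁻¹ = j) :
    y = 1 ∨ y = j := by
  refine iso_sq_one hF L e hjL hn y hy (congrArg Subtype.val (e.injective (a₁ := ⟨y, hy⟩ * ⟨y, hy⟩) (a₂ := 1) ?_))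
  rw [map_mul, map_one]
  refine sl2_anti hF fun g => ?_
  obtain ⟨⟨g, hg⟩, rfl⟩ := e.surjective g
  rw [← map_inv, ← map_mul, ← map_mul]
  rcases h g hg with h | h
  · left
    exact congrArg e (Subtype.ext (mul_inv_eq_one.mp h))
  · right
    rw [← neg_one_mul, ← hn, ← map_mul]
    exact congrArg e (Subtype.ext (mul_inv_eq_iff_eq_mul.mp h))

omit hn hjL in
theorem not_le_pair (e' : ↥L ≃* SpecialLinearGroup (Fin 2) F) : ¬ ∀ y ∈ L, y = 1 ∨ y = j := by
  intro h
  classical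
  have h1 : Nat.card L ≤ 2 := by
    have hs : (L : Set G) ⊆ ({1, j} : Finset G) := fun y hy => by simpa using h y hy
    calc Nat.card L = (L : Set G).ncard := Nat.card_coe_set_eq _
      _ ≤ (({1, j} : Finset G) : Set G).ncard := Set.ncard_le_ncard hs
      _ ≤ 2 := by rw [Set.ncard_coe_finset]; exact Finset.card_le_two
  rw [Nat.card_congr e'.toEquiv, card_sl2] at h1
  have h2 := Fintype.one_lt_card (α := F)
  have h3 : 3 ≤ Fintype.card F * Fintype.card F - 1 := by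
    have := Nat.mul_le_mul h2 h2; omega
  have := Nat.mul_le_mul h2 h3
  omega

end Group

theorem sl2_pair_outer {G : Type*} [Group G] [Finite G]
    {F₁ : Type*} [Field F₁] [Fintype F₁] {F₂ : Type*} [Field F₂] [Fintype F₂]
    (hF₁ : Odd (Fintype.card F₁)) (hF₂ : Odd (Fintype.card F₂)) (L₁ L₂ : Subgroup G)
    (e₁ : ↥L₁ ≃* SpecialLinearGroup (Fin 2) F₁) (e₂ : ↥L₂ ≃* SpecialLinearGroup (Fin 2) F₂)
    (hc : ∀ x ∈ L₁, ∀ y ∈ L₂, x * y = y * x) (j : G) (hj : orderOf j = 2) (hm : L₁ ⊓ L₂ = Subgroup.zpowers j)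
    (hle : L₁ ⊔ L₂ ≤ Subgroup.centralizer ({j} : Set G))
    (hi : (L₁ ⊔ L₂).relIndex (Subgroup.centralizer ({j} : Set G)) = 2) (n : G)
    (hn : n ∈ Subgroup.centralizer ({j} : Set G)) (hn' : n ∉ L₁ ⊔ L₂) :
    (L₁.map (MulAut.conj n).toMonoidHom = L₁ ∧ L₂.map (MulAut.conj n).toMonoidHom = L₂) ∨
      (L₁.map (MulAut.conj n).toMonoidHom = L₂ ∧ Fintype.card F₁ = Fintype.card F₂ ∧
        ∃ n' ∈ Subgroup.centralizer ({j} : Set G), n' ∉ L₁ ⊔ L₂ ∧
          L₁.map (MulAut.conj n').toMonoidHom = L₂ ∧ n' ^ 2 ∈ Subgroup.zpowers j) := by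
  classical
  have hj2 := Invol.mul_self_of_orderOf_two hj
  have hj1 := Invol.ne_one_of_orderOf_two hj
  have hjm : j ∈ L₁ ⊓ L₂ := hm ▸ Subgroup.mem_zpowers j
  have hn1 := iso_neg hF₁ L₁ e₁ hj2 hj1 hjm.1
  have hn2 := iso_neg hF₂ L₂ e₂ hj2 hj1 hjm.2
  have hmemj : ∀ g, g ∈ L₁ → g ∈ L₂ → g = 1 ∨ g = j := fun g h1 h2 => by
    have h : g ∈ Subgroup.zpowers j := hm ▸ ⟨h1, h2⟩
    obtain ⟨i, rfl⟩ := h
    rcases Int.even_or_odd i with ⟨k, rfl⟩ | ⟨k, rfl⟩
    · left; show j ^ (k + k) = 1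
      rw [_root_.zpow_add, ← (Commute.refl j).mul_zpow, hj2, _root_.one_zpow]
    · right; show j ^ (2 * k + 1) = j
      rw [_root_.zpow_add, _root_.zpow_mul, zpow_two, hj2, _root_.one_zpow, one_mul, zpow_one]
  set M := L₁ ⊔ L₂ with hM
  set f := (MulAut.conj n).toMonoidHom with hf
  have hnM : ∀ x, x ∈ M → n * x * n⁻¹ ∈ M := fun x hx => by
    have hN := Subgroup.normal_of_index_eq_two (H := M.subgroupOf (Subgroup.centralizer ({j} : Set G))) hi
    exact hN.conj_mem ⟨x, hle hx⟩ hx ⟨n, hn⟩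
  set A := L₁.map f with hA
  set B := L₂.map f with hB
  have hMf : M.map f = M := by
    refine Subgroup.eq_of_le_of_card_ge ?_ (Nat.card_congr (M.equivMapOfInjective f (MulAut.conj n).injective).toEquiv).le
    rintro _ ⟨x, hx, rfl⟩
    exact hnM x hx
  have hAM : A ≤ M := (Subgroup.map_mono le_sup_left).trans hMf.le
  have hBM : B ≤ M := (Subgroup.map_mono le_sup_right).trans hMf.le
  have hAB : ∀ a ∈ A, ∀ b ∈ B, a * b = b * a := by
    rintro _ ⟨a, ha, rfl⟩ _ ⟨b, hb, rfl⟩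
    rw [← map_mul, hc a ha b hb, map_mul]
  have hAn : ∀ g ∈ M, ∀ a ∈ A, g * a * g⁻¹ ∈ A := by
    intro g hg
    rw [← hMf] at hg
    obtain ⟨g, hg, rfl⟩ := hg
    obtain ⟨p, hp, q, hq, rfl⟩ := exists_mul_of_mem_sup hc hg
    rintro _ ⟨a, ha, rfl⟩
    refine ⟨p * a * p⁻¹, mul_mem (mul_mem hp ha) (inv_mem hp), ?_⟩
    rw [← map_inv, ← map_mul, ← map_mul]
    refine congrArg f ?_
    rw [show p * q * a = p * a * q by rw [mul_assoc, ← hc a ha q hq, ← mul_assoc]]
    group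
  have hBn : ∀ g ∈ M, ∀ b ∈ B, g * b * g⁻¹ ∈ B := by
    intro g hg
    rw [← hMf] at hg
    obtain ⟨g, hg, rfl⟩ := hg
    obtain ⟨p, hp, q, hq, rfl⟩ := exists_mul_of_mem_sup hc hg
    rintro _ ⟨b, hb, rfl⟩
    refine ⟨q * b * q⁻¹, mul_mem (mul_mem hq hb) (inv_mem hq), ?_⟩
    rw [← map_inv, ← map_mul, ← map_mul]
    refine congrArg f ?_
    have h1 := hc p hp _ (mul_mem (mul_mem hq hb) (inv_mem hq))
    calc q * b * q⁻¹ = (q * b * q⁻¹ * p) * p⁻¹ := by group
      _ = (p * (q * b * q⁻¹)) * p⁻¹ := by rw [h1]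
      _ = _ := by group
  -- a subgroup meeting `L₁` centrally lies in `L₂`
  have key1 : ∀ C : Subgroup G, C ≤ M → (∀ g ∈ M, ∀ c ∈ C, g * c * g⁻¹ ∈ C) →
      (∀ c ∈ C, c ∈ L₁ → c = 1 ∨ c = j) → C ≤ L₂ := by
    intro C hCM hCn h c hcC
    obtain ⟨x, hx, y, hy, rfl⟩ := exists_mul_of_mem_sup hc (hCM hcC)
    rcases central_of_anti hF₁ L₁ e₁ hjm.1 hn1 hx (fun g hg => by
      refine h _ ?_ (mul_mem (mul_mem (mul_mem hg hx) (inv_mem hg)) (inv_mem hx))
      have h1 := mul_mem (hCn g (Subgroup.mem_sup_left hg) _ hcC) (inv_mem hcC)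
      rwa [show g * (x * y) * g⁻¹ * (x * y)⁻¹ = g * x * g⁻¹ * x⁻¹ by
        rw [show g * (x * y) * g⁻¹ = g * x * g⁻¹ * y by
          rw [mul_assoc (g * x) g⁻¹ y, hc _ (inv_mem hg) y hy]; group]
        group] at h1) with rfl | rfl
    · rwa [one_mul]
    · exact mul_mem hjm.2 hy
  have key2 : ∀ C : Subgroup G, C ≤ M → (∀ g ∈ M, ∀ c ∈ C, g * c * g⁻¹ ∈ C) →
      (∀ c ∈ C, c ∈ L₂ → c = 1 ∨ c = j) → C ≤ L₁ := by
    intro C hCM hCn h c hcC
    obtain ⟨x, hx, y, hy, rfl⟩ := exists_mul_of_mem_sup hc (hCM hcC)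
    rcases central_of_anti hF₂ L₂ e₂ hjm.2 hn2 hy (fun g hg => by
      refine h _ ?_ (mul_mem (mul_mem (mul_mem hg hy) (inv_mem hg)) (inv_mem hy))
      have h1 := mul_mem (hCn g (Subgroup.mem_sup_right hg) _ hcC) (inv_mem hcC)
      rwa [show g * (x * y) * g⁻¹ * (x * y)⁻¹ = g * y * g⁻¹ * y⁻¹ by
        calc g * (x * y) * g⁻¹ * (x * y)⁻¹ = (g * x) * y * g⁻¹ * y⁻¹ * x⁻¹ := by group
          _ = (x * g) * y * g⁻¹ * y⁻¹ * x⁻¹ := by rw [hc x hx g hg]
          _ = x * (g * y * g⁻¹ * y⁻¹) * x⁻¹ := by group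
          _ = g * y * g⁻¹ * y⁻¹ := by
            rw [hc x hx _ (mul_mem (mul_mem (mul_mem hg hy) (inv_mem hg)) (inv_mem hy)),
              mul_inv_cancel_right]] at h1) with rfl | rfl
    · rwa [mul_one]
    · exact mul_mem hx hjm.1
  have hnoA : ¬ ∀ a ∈ A, a = 1 ∨ a = j := fun h => not_le_pair (j := j) hF₁ L₁ e₁ fun y hy => by
    rcases h _ ⟨y, hy, rfl⟩ with h | h
    · exact Or.inl (conj_eq_one_iff.mp h)
    · right
      refine (MulAut.conj n).injective (h.trans ?_)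
      show j = n * j * n⁻¹
      rw [Subgroup.mem_centralizer_singleton_iff.mp hn, mul_inv_cancel_right]
  have hnoB : ¬ ∀ a ∈ B, a = 1 ∨ a = j := fun h => not_le_pair (j := j) hF₂ L₂ e₂ fun y hy => by
    rcases h _ ⟨y, hy, rfl⟩ with h | h
    · exact Or.inl (conj_eq_one_iff.mp h)
    · right
      refine (MulAut.conj n).injective (h.trans ?_)
      show j = n * j * n⁻¹
      rw [Subgroup.mem_centralizer_singleton_iff.mp hn, mul_inv_cancel_right]
  have hcA : Nat.card A = Nat.card L₁ := (Nat.card_congr (L₁.equivMapOfInjective f (MulAut.conj n).injective).toEquiv).symm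
  have hcB : Nat.card B = Nat.card L₂ := (Nat.card_congr (L₂.equivMapOfInjective f (MulAut.conj n).injective).toEquiv).symm
  have hdich : (A ≤ L₁ ∧ B ≤ L₂) ∨ (A ≤ L₂ ∧ B ≤ L₁) := by
    rcases le_pair_of_commuting hF₁ L₁ e₁ hjm.1 hn1
      (fun g hg => hAn g (Subgroup.mem_sup_left hg)) hAB with h | h
    · have hA2 := key1 A hAM hAn h
      right
      refine ⟨hA2, key2 B hBM hBn ?_⟩
      exact (le_pair_of_commuting hF₂ L₂ e₂ hjm.2 hn2 (fun g hg => hAn g (Subgroup.mem_sup_right hg)) hAB).resolve_left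
        fun h' => hnoA fun a ha => h' a ha (hA2 ha)
    · have hB2 := key1 B hBM hBn h
      left
      refine ⟨key2 A hAM hAn ?_, hB2⟩
      exact (le_pair_of_commuting hF₂ L₂ e₂ hjm.2 hn2 (fun g hg => hAn g (Subgroup.mem_sup_right hg)) hAB).resolve_right
        fun h' => hnoB fun b hb => h' b hb (hB2 hb)
  rcases hdich with ⟨h1, h2⟩ | ⟨h1, h2⟩
  · exact Or.inl ⟨Subgroup.eq_of_le_of_card_ge h1 hcA.ge, Subgroup.eq_of_le_of_card_ge h2 hcB.ge⟩
  right
  have hle1 : Nat.card L₁ ≤ Nat.card L₂ := hcA.ge.trans (Subgroup.card_le_of_le h1)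
  have hle2 : Nat.card L₂ ≤ Nat.card L₁ := hcB.ge.trans (Subgroup.card_le_of_le h2)
  have hA2 : A = L₂ := Subgroup.eq_of_le_of_card_ge h1 (hle2.trans hcA.ge)
  have hB1 : B = L₁ := Subgroup.eq_of_le_of_card_ge h2 (hle1.trans hcB.ge)
  refine ⟨hA2, ?_, ?_⟩
  · have heq := le_antisymm hle1 hle2
    rw [Nat.card_congr e₁.toEquiv, Nat.card_congr e₂.toEquiv, card_sl2, card_sl2] at heq
    have q1 := Fintype.one_lt_card (α := F₁)
    have q2 := Fintype.one_lt_card (α := F₂)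
    rcases lt_trichotomy (Fintype.card F₁) (Fintype.card F₂) with h | h | h
    · exfalso
      have h' := Nat.mul_lt_mul'' h h
      have hp : Fintype.card F₁ * Fintype.card F₁ - 1 < Fintype.card F₂ * Fintype.card F₂ - 1 := by
        have := Nat.mul_le_mul q1 q1; omega
      exact absurd heq (Nat.mul_lt_mul'' h hp).ne
    · exact h
    · exfalso
      have h' := Nat.mul_lt_mul'' h h
      have hp : Fintype.card F₂ * Fintype.card F₂ - 1 < Fintype.card F₁ * Fintype.card F₁ - 1 := by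
        have := Nat.mul_le_mul q2 q2; omega
      exact absurd heq (Nat.mul_lt_mul'' h hp).ne'
  have hinv : ∀ x ∈ L₂, n⁻¹ * x * n ∈ L₁ := fun x hx => by
    rw [← hA2] at hx
    obtain ⟨y, hy, rfl⟩ := hx
    show n⁻¹ * (n * y * n⁻¹) * n ∈ L₁
    simpa [mul_assoc] using hy
  have hinv' : ∀ x ∈ L₁, n⁻¹ * x * n ∈ L₂ := fun x hx => by
    rw [← hB1] at hx
    obtain ⟨y, hy, rfl⟩ := hx
    show n⁻¹ * (n * y * n⁻¹) * n ∈ L₂
    simpa [mul_assoc] using hy
  have hn2M : n * n ∈ M := Subgroup.mul_self_mem_of_index_two (H := M.subgroupOf (Subgroup.centralizer ({j} : Set G))) hi ⟨n, hn⟩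
  obtain ⟨a, ha, b, hb, hab⟩ := exists_mul_of_mem_sup hc hn2M
  set a' := n⁻¹ * a * n with ha'
  set b' := n⁻¹ * b * n with hb'
  have ha'2 : a' ∈ L₂ := hinv' a ha
  have hb'1 : b' ∈ L₁ := hinv b hb
  have hfix : a' * b' = a * b := by
    rw [ha', hb']
    calc n⁻¹ * a * n * (n⁻¹ * b * n) = n⁻¹ * (a * b) * n := by group
      _ = a * b := by rw [hab]; group
  have hkey : b * a'⁻¹ ∈ Subgroup.zpowers j := by
    rw [← hm]
    refine ⟨?_, L₂.mul_mem hb (L₂.inv_mem ha'2)⟩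
    have : b * a'⁻¹ = b' * a⁻¹ := by
      calc b * a'⁻¹ = a'⁻¹ * (a' * (a⁻¹ * (a * b))) * a'⁻¹ := by group
        _ = a'⁻¹ * (a⁻¹ * a' * (a' * b')) * a'⁻¹ := by
          rw [hfix, ← mul_assoc a' a⁻¹ _, hc _ (inv_mem ha) a' ha'2]
        _ = a'⁻¹ * (a' * a⁻¹ * (a' * b')) * a'⁻¹ := by rw [hc _ (inv_mem ha) a' ha'2]
        _ = a⁻¹ * ((a' * b') * a'⁻¹) := by group
        _ = a⁻¹ * b' := by rw [← hc _ hb'1 a' ha'2, mul_inv_cancel_right]
        _ = b' * a⁻¹ := by
          have h1 : b' * a = a * b' := by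
            have h3 : (a * b) * a = a * (a * b) := by rw [mul_assoc, ← hc a ha b hb]
            rw [← hfix] at h3
            rw [mul_assoc, ← mul_assoc a a' b', hc a ha a' ha'2, mul_assoc a' a b'] at h3
            exact mul_left_cancel h3
          calc a⁻¹ * b' = a⁻¹ * (b' * a) * a⁻¹ := by group
            _ = a⁻¹ * (a * b') * a⁻¹ := by rw [h1]
            _ = b' * a⁻¹ := by group
    rw [this]; exact L₁.mul_mem hb'1 (L₁.inv_mem ha)
  refine ⟨n * a⁻¹, mul_mem hn (inv_mem (hle (Subgroup.mem_sup_left ha))), fun h => hn' ?_, ?_, ?_⟩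
  · have := mul_mem h (Subgroup.mem_sup_left (T := L₂) ha)
    rwa [inv_mul_cancel_right] at this
  · rw [map_mul]
    show L₁.map ((MulAut.conj n).toMonoidHom.comp (MulAut.conj a⁻¹).toMonoidHom) = L₂
    rw [← Subgroup.map_map, show L₁.map (MulAut.conj a⁻¹).toMonoidHom = L₁ from ?_, ← hf, ← hA, hA2]
    refine Subgroup.eq_of_le_of_card_ge ?_ (Nat.card_congr (L₁.equivMapOfInjective _ (MulAut.conj a⁻¹).injective).toEquiv).le
    rintro _ ⟨x, hx, rfl⟩
    exact mul_mem (mul_mem (inv_mem ha) hx) (inv_mem (inv_mem ha))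
  · have hc2 : n⁻¹ * a⁻¹ * n ∈ L₂ := hinv' _ (inv_mem ha)
    have e : (n * a⁻¹) ^ 2 = b * a'⁻¹ := by
      rw [pow_two]
      calc n * a⁻¹ * (n * a⁻¹) = n * n * (n⁻¹ * a⁻¹ * n) * a⁻¹ := by group
        _ = a * (b * (n⁻¹ * a⁻¹ * n) * a⁻¹) := by rw [← hab]; group
        _ = a * (a⁻¹ * (b * (n⁻¹ * a⁻¹ * n))) := by rw [← hc _ (inv_mem ha) _ (mul_mem hb hc2)]
        _ = b * a'⁻¹ := by rw [ha']; group
    rw [e]; exact hkey

end Cfsg.Agent.InvChar
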