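import Mathlib
import Cfsg.Agent.Lib.Invol.Basic

/-!
# Involutions in a central product of two `SL(2, q)`, `q` odd
-/

set_option autoImplicit false
set_option linter.style.haveILetI false

namespace Cfsg.Agent.InvChar

open Matrix Cfsg.Agent

variable {F : Type*} [Field F] [Fintype F]

theorem sl2_two_ne_zero (hF : Odd (Fintype.card F)) : (2 : F) ≠ 0 :=
  Ring.two_ne_zero fun h => by
    have h2 := FiniteField.even_card_of_char_two h
    rw [Nat.odd_iff] at hF
    omega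

/-- The only involution of `SL(2, q)` is `-1`. -/
theorem sl2_sq_one (hF : Odd (Fintype.card F)) (s : SpecialLinearGroup (Fin 2) F) (hs : s * s = 1) :
    s = 1 ∨ s = -1 := by
  have h2 := sl2_two_ne_zero hF
  have hdet := s.2
  rw [det_fin_two] at hdet
  have hm : (s : Matrix (Fin 2) (Fin 2) F) * s = 1 := congrArg Subtype.val hs
  have e : ∀ i j, ((s : Matrix (Fin 2) (Fin 2) F) * s) i j = (1 : Matrix (Fin 2) (Fin 2) F) i j :=
    fun i j => congrFun (congrFun hm i) j
  have e00 := e 0 0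
  have e01 := e 0 1
  have e10 := e 1 0
  have e11 := e 1 1
  simp only [Matrix.mul_apply, Fin.sum_univ_two, Matrix.one_apply_eq,
    Matrix.one_apply_ne (show (0 : Fin 2) ≠ 1 by decide),
    Matrix.one_apply_ne (show (1 : Fin 2) ≠ 0 by decide)] at e00 e01 e10 e11
  set p := s.1 0 0
  set q := s.1 0 1
  set r := s.1 1 0
  set t := s.1 1 1
  have hpt : (p + t) * (p + t) = 4 := by linear_combination e00 + e11 + 2 * hdet
  have hne : p + t ≠ 0 := fun h => by
    rw [h, zero_mul] at hpt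
    exact mul_ne_zero h2 h2 (by linear_combination -hpt)
  have hq : q = 0 := (mul_eq_zero.mp (show (p + t) * q = 0 by linear_combination e01)).resolve_left hne
  have hr : r = 0 := (mul_eq_zero.mp (show (p + t) * r = 0 by linear_combination e10)).resolve_left hne
  have hp : p * p = 1 := by rw [hq] at e00; linear_combination e00
  have ht : p = t := by
    rcases mul_eq_zero.mp (show (p - t) * (p + t) = 0 by linear_combination e00 - e11) with h | h
    · exact sub_eq_zero.mp h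
    · exact absurd h hne
  rcases mul_self_eq_one_iff.mp hp with h | h
  · left
    ext i j
    fin_cases i <;> fin_cases j <;> simp [p, q, r, t] at hq hr ht h ⊢ <;> simp_all
  · right
    ext i j
    fin_cases i <;> fin_cases j <;> simp [p, q, r, t] at hq hr ht h ⊢ <;> simp_all

/-- The standard element with square `-1`. -/
def sl2J : SpecialLinearGroup (Fin 2) F := ⟨!![0, -1; 1, 0], by rw [det_fin_two_of]; ring⟩

theorem sl2J_sq : (sl2J : SpecialLinearGroup (Fin 2) F) * sl2J = -1 := by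
  apply Subtype.ext
  show !![(0 : F), -1; 1, 0] * !![0, -1; 1, 0] = -(1 : Matrix (Fin 2) (Fin 2) F)
  ext i j
  fin_cases i <;> fin_cases j <;> simp [Matrix.mul_apply, Fin.sum_univ_two]

theorem exists_conj_sl2J (hF : Odd (Fintype.card F)) (s : SpecialLinearGroup (Fin 2) F)
    (hs : s * s = -1) : ∃ g : SpecialLinearGroup (Fin 2) F, g * sl2J = s * g := by
  have h2 := sl2_two_ne_zero hF
  have hdet := s.2
  rw [det_fin_two] at hdet
  have hm : (s : Matrix (Fin 2) (Fin 2) F) * s = -1 := congrArg Subtype.val hs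
  have e : ∀ i j, ((s : Matrix (Fin 2) (Fin 2) F) * s) i j = (-1 : Matrix (Fin 2) (Fin 2) F) i j :=
    fun i j => congrFun (congrFun hm i) j
  have e00 := e 0 0
  have e01 := e 0 1
  have e10 := e 1 0
  have e11 := e 1 1
  simp only [Matrix.mul_apply, Fin.sum_univ_two, Matrix.neg_apply, Matrix.one_apply_eq,
    Matrix.one_apply_ne (show (0 : Fin 2) ≠ 1 by decide),
    Matrix.one_apply_ne (show (1 : Fin 2) ≠ 0 by decide), neg_zero] at e00 e01 e10 e11
  set a := s.1 0 0 with ha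
  set b := s.1 0 1 with hb
  set c := s.1 1 0 with hc
  set d := s.1 1 1 with hd
  have hd' : d = -a := by
    have h0 : (a + d) * (a + d) = 0 := by linear_combination e00 + e11 + 2 * hdet
    exact eq_neg_of_add_eq_zero_right (mul_self_eq_zero.mp h0)
  obtain ⟨x, y, hxy⟩ : ∃ x y : F, c * x * x - 2 * a * x * y - b * y * y = 1 := by
    by_cases hc0 : c = 0
    · have ha0 : a ≠ 0 := fun h => by
        rw [hc0, h, zero_mul, mul_zero, sub_zero] at hdet
        exact zero_ne_one hdet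
      exact ⟨-(1 + b) / (2 * a), 1, by rw [hc0]; field_simp; ring⟩
    · obtain ⟨u, v, huv⟩ := FiniteField.exists_root_sum_quadratic
        (f := Polynomial.C (c * c) * Polynomial.X ^ 2) (g := Polynomial.X ^ 2 - Polynomial.C c)
        (Polynomial.degree_C_mul_X_pow 2 (mul_ne_zero hc0 hc0)) (Polynomial.degree_X_pow_sub_C (by norm_num) c)
        (Nat.odd_iff.mp hF)
      simp only [Polynomial.eval_mul, Polynomial.eval_C, Polynomial.eval_pow, Polynomial.eval_X,
        Polynomial.eval_sub] at huv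
      refine ⟨u + a * v / c, v, ?_⟩
      field_simp
      linear_combination huv + v ^ 2 * hdet - (a * v ^ 2) * hd'
  refine ⟨⟨!![x, a * x + b * y; y, c * x + d * y], by
    rw [det_fin_two_of, hd']; linear_combination hxy⟩, ?_⟩
  apply Subtype.ext
  show !![x, a * x + b * y; y, c * x + d * y] * !![(0 : F), -1; 1, 0] =
    (s : Matrix (Fin 2) (Fin 2) F) * !![x, a * x + b * y; y, c * x + d * y]
  ext i j
  fin_cases i <;> fin_cases j <;> simp [Matrix.mul_apply, Fin.sum_univ_two, ← ha, ← hb, ← hc, ← hd]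
  · linear_combination (-x) * e00 - y * e01
  · linear_combination (-x) * e10 - y * e11

theorem iso_neg {G : Type*} [Group G] {F : Type*} [Field F] [Fintype F] (hF : Odd (Fintype.card F))
    (L : Subgroup G) (e : ↥L ≃* SpecialLinearGroup (Fin 2) F) {j : G} (hj2 : j * j = 1) (hj1 : j ≠ 1)
    (hjL : j ∈ L) : e ⟨j, hjL⟩ = -1 := by
  rcases sl2_sq_one hF (e ⟨j, hjL⟩)
    (by rw [← map_mul]; exact (congrArg e (Subtype.ext hj2)).trans (map_one e)) with h | h
  · exact absurd (congrArg Subtype.val (e.injective (h.trans (map_one e).symm))) hj1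
  · exact h

theorem iso_sq_one {G : Type*} [Group G] {F : Type*} [Field F] [Fintype F] (hF : Odd (Fintype.card F))
    (L : Subgroup G) (e : ↥L ≃* SpecialLinearGroup (Fin 2) F) {j : G}
    (hjL : j ∈ L) (hn : e ⟨j, hjL⟩ = -1) (c : G) (hcL : c ∈ L) (hcc : c * c = 1) : c = 1 ∨ c = j := by
  rcases sl2_sq_one hF (e ⟨c, hcL⟩)
    (by rw [← map_mul]; exact (congrArg e (Subtype.ext hcc)).trans (map_one e)) with h | h
  · exact Or.inl (congrArg Subtype.val (e.injective (h.trans (map_one e).symm)))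
  · exact Or.inr (congrArg Subtype.val (e.injective (h.trans hn.symm)))

theorem two_classes {G : Type*} [Group G] [Finite G]
    {F₁ : Type*} [Field F₁] [Fintype F₁] {F₂ : Type*} [Field F₂] [Fintype F₂]
    (hF₁ : Odd (Fintype.card F₁)) (hF₂ : Odd (Fintype.card F₂)) (L₁ L₂ : Subgroup G)
    (e₁ : ↥L₁ ≃* SpecialLinearGroup (Fin 2) F₁) (e₂ : ↥L₂ ≃* SpecialLinearGroup (Fin 2) F₂)
    (hc : ∀ x ∈ L₁, ∀ y ∈ L₂, x * y = y * x) (j : G) (hj : orderOf j = 2)
    (hm : L₁ ⊓ L₂ = Subgroup.zpowers j) :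
    ∃ x ∈ L₁ ⊔ L₂, orderOf x = 2 ∧ x ≠ j ∧
      ∀ y ∈ L₁ ⊔ L₂, orderOf y = 2 → y = j ∨ ∃ g ∈ L₁ ⊔ L₂, g * x * g⁻¹ = y := by
  have hjm : j ∈ L₁ ⊓ L₂ := hm ▸ Subgroup.mem_zpowers j
  have hj2 := Invol.mul_self_of_orderOf_two hj
  have hj1 := Invol.ne_one_of_orderOf_two hj
  have n1 := iso_neg hF₁ L₁ e₁ hj2 hj1 hjm.1
  have n2 := iso_neg hF₂ L₂ e₂ hj2 hj1 hjm.2
  set a₀ := e₁.symm sl2J with ha₀
  set b₀ := e₂.symm sl2J with hb₀
  have ha₀2 : (a₀ : G) * a₀ = j := by
    have h : a₀ * a₀ = ⟨j, hjm.1⟩ := e₁.injective (by rw [map_mul, ha₀, e₁.apply_symm_apply, n1, sl2J_sq])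
    exact congrArg Subtype.val h
  have hb₀2 : (b₀ : G) * b₀ = j := by
    have h : b₀ * b₀ = ⟨j, hjm.2⟩ := e₂.injective (by rw [map_mul, hb₀, e₂.apply_symm_apply, n2, sl2J_sq])
    exact congrArg Subtype.val h
  have hmem : (a₀ : G) * b₀ ∈ L₁ ⊔ L₂ :=
    mul_mem (Subgroup.mem_sup_left a₀.2) (Subgroup.mem_sup_right b₀.2)
  have hab : Commute (a₀ : G) b₀ := hc _ a₀.2 _ b₀.2
  have hmemj : ∀ g ∈ L₁ ⊓ L₂, g = 1 ∨ g = j := by
    intro g hg
    rw [hm] at hg
    obtain ⟨i, rfl⟩ := hg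
    rcases Int.even_or_odd i with ⟨k, rfl⟩ | ⟨k, rfl⟩
    · left; show j ^ (k + k) = 1
      rw [_root_.zpow_add, ← (Commute.refl j).mul_zpow, hj2, _root_.one_zpow]
    · right; show j ^ (2 * k + 1) = j
      rw [_root_.zpow_add, _root_.zpow_mul, zpow_two, hj2, _root_.one_zpow, one_mul, zpow_one]
  have hnL : ∀ g, g = 1 ∨ g = j → (a₀ : G) * b₀ ≠ g := by
    intro g hg h
    have ha : (a₀ : G) ∈ L₁ ⊓ L₂ := by
      refine ⟨a₀.2, ?_⟩
      rw [show (a₀ : G) = g * (b₀ : G)⁻¹ by rw [← h]; group]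
      exact L₂.mul_mem (by rcases hg with rfl | rfl; exacts [L₂.one_mem, hjm.2]) (L₂.inv_mem b₀.2)
    rcases hmemj _ ha with h1 | h1 <;> rw [h1] at ha₀2
    · rw [one_mul] at ha₀2; exact hj1 ha₀2.symm
    · exact hj1 (ha₀2.symm.trans hj2)
  refine ⟨(a₀ : G) * b₀, hmem, Invol.orderOf_two_of_mul_self ?_ (hnL 1 (Or.inl rfl)), hnL j (Or.inr rfl), ?_⟩
  · rw [hab.symm.mul_mul_mul_comm, ha₀2, hb₀2, hj2]
  intro y hy hy2
  obtain ⟨a, ha, b, hb, rfl⟩ : ∃ a ∈ L₁, ∃ b ∈ L₂, a * b = y := by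
    rw [← Subgroup.closure_eq L₁, ← Subgroup.closure_eq L₂, ← Subgroup.closure_union] at hy
    clear hy2
    induction hy using Subgroup.closure_induction with
    | mem g hg =>
      rcases hg with h | h
      · exact ⟨g, h, 1, one_mem _, mul_one g⟩
      · exact ⟨1, one_mem _, g, h, one_mul g⟩
    | one => exact ⟨1, one_mem _, 1, one_mem _, mul_one 1⟩
    | mul u v _ _ ihu ihv =>
      obtain ⟨a, ha, b, hb, rfl⟩ := ihu
      obtain ⟨a', ha', b', hb', rfl⟩ := ihv
      exact ⟨a * a', mul_mem ha ha', b * b', mul_mem hb hb',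
        (Commute.mul_mul_mul_comm (show Commute a' b from hc a' ha' b hb) a b').trans rfl⟩
    | inv u _ ihu =>
      obtain ⟨a, ha, b, hb, rfl⟩ := ihu
      exact ⟨a⁻¹, inv_mem ha, b⁻¹, inv_mem hb, by rw [_root_.mul_inv_rev, hc _ (inv_mem ha) _ (inv_mem hb)]⟩
  have hy2' := Invol.mul_self_of_orderOf_two hy2
  rw [(show Commute b a from (hc a ha b hb).symm).mul_mul_mul_comm] at hy2'
  have hbb : b * b = (a * a)⁻¹ := eq_inv_of_mul_eq_one_right hy2'
  have haa : a * a ∈ L₁ ⊓ L₂ := ⟨mul_mem ha ha, by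
    rw [eq_inv_of_mul_eq_one_left hy2']; exact L₂.inv_mem (L₂.mul_mem hb hb)⟩
  rcases hmemj _ haa with h | h
  · -- `a * b` is `1` or `j`
    left
    rw [h, inv_one] at hbb
    rcases iso_sq_one hF₁ L₁ e₁ hjm.1 n1 a ha h with rfl | rfl <;>
      rcases iso_sq_one hF₂ L₂ e₂ hjm.2 n2 b hb hbb with rfl | rfl
    · simp [orderOf_one] at hy2
    · rw [one_mul]
    · rw [mul_one]
    · rw [hj2, orderOf_one] at hy2; omega
  · right
    rw [h, inv_eq_of_mul_eq_one_right hj2] at hbb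
    have hA : e₁ ⟨a, ha⟩ * e₁ ⟨a, ha⟩ = -1 := by
      rw [← map_mul, ← n1]; exact congrArg e₁ (Subtype.ext h)
    have hB : e₂ ⟨b, hb⟩ * e₂ ⟨b, hb⟩ = -1 := by
      rw [← map_mul, ← n2]; exact congrArg e₂ (Subtype.ext hbb)
    obtain ⟨g, hg⟩ := exists_conj_sl2J hF₁ _ hA
    obtain ⟨k, hk⟩ := exists_conj_sl2J hF₂ _ hB
    set g' := e₁.symm g
    set k' := e₂.symm k
    have hg' : (g' : G) * a₀ = a * g' := by
      have : g' * a₀ = ⟨a, ha⟩ * g' := e₁.injective (by simpa [g', a₀] using hg)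
      exact congrArg Subtype.val this
    have hk' : (k' : G) * b₀ = b * k' := by
      have : k' * b₀ = ⟨b, hb⟩ * k' := e₂.injective (by simpa [k', b₀] using hk)
      exact congrArg Subtype.val this
    refine ⟨(g' : G) * k', mul_mem (Subgroup.mem_sup_left g'.2) (Subgroup.mem_sup_right k'.2), ?_⟩
    rw [mul_inv_eq_iff_eq_mul]
    calc (g' : G) * k' * ((a₀ : G) * b₀) = ((g' : G) * a₀) * ((k' : G) * b₀) :=
          Commute.mul_mul_mul_comm (show Commute (k' : G) a₀ from (hc _ a₀.2 _ k'.2).symm) _ _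
      _ = a * b * ((g' : G) * k') := by
          rw [hg', hk']
          exact Commute.mul_mul_mul_comm (show Commute (g' : G) b from hc _ g'.2 _ hb) _ _

end Cfsg.Agent.InvChar
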