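import Mathlib
import Cfsg.Prelude.Def_CaseTheorems
import Cfsg.Prelude.Def_Transfer
import Cfsg.Agent.Lib.Basics.SchurZassenhaus

/-!
A group of order `2^9` with a self-centralizing elementary abelian subgroup of index eight whose
elements outside have small centralizers in it.
-/

set_option autoImplicit false
set_option linter.style.haveILetI false

namespace Cfsg.Agent.InvChar.Ab64

/-- The conclusion: small centres of maximal subgroups, a unique abelian subgroup of order 64. -/
def Good (S : Type*) [Group S] : Prop :=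
  (∀ M : Subgroup S, IsCoatom M → Nat.card ↥(Subgroup.center ↥M) ≤ 8) ∧
    (∃ A : Subgroup S, Cfsg.IsElementaryAbelian 2 A ∧ Nat.card ↥A = 64) ∧
    ∀ A B : Subgroup S, IsMulCommutative ↥A → Nat.card ↥A = 64 → IsMulCommutative ↥B →
      Nat.card ↥B = 64 → A = B

/-- The hypotheses. -/
structure Hyp (S : Type*) [Group S] where
  A : Subgroup S
  u : Fin 8 → S
  normal : A.Normal
  elem : Cfsg.IsElementaryAbelian 2 A
  cardA : Nat.card A = 64
  cardS : Nat.card S = 512
  inj : ∀ i j, (u i)⁻¹ * u j ∈ A → i = j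
  mem0 : u 0 ∈ A
  one : ∀ i, i ≠ 0 → Nat.card {a : A // Commute (u i) (a : S)} < 32
  two : ∀ i j, i ≠ 0 → j ≠ 0 → i ≠ j →
    Nat.card {a : A // Commute (u i) (a : S) ∧ Commute (u j) (a : S)} < 16
  all : Nat.card {a : A // ∀ i, Commute (u i) (a : S)} ≤ 4

variable {S : Type*} [Group S] [Finite S]

theorem commA (h : Hyp S) {a b : S} (ha : a ∈ h.A) (hb : b ∈ h.A) : Commute a b :=
  congrArg Subtype.val (h.elem.1.is_comm.comm (⟨a, ha⟩ : h.A) ⟨b, hb⟩)

theorem Hyp.cover (h : Hyp S) (x : S) : ∃ i, ∃ a ∈ h.A, x = h.u i * a := by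
  haveI := h.normal
  have hc : Nat.card (S ⧸ h.A) = 8 := by
    have h1 := h.A.card_eq_card_quotient_mul_card_subgroup
    rw [h.cardS, h.cardA] at h1
    omega
  have hinj : Function.Injective (fun i => (QuotientGroup.mk (h.u i) : S ⧸ h.A)) := fun i j e =>
    h.inj i j (QuotientGroup.eq.mp e)
  have hb := (Nat.bijective_iff_injective_and_card _).mpr ⟨hinj, by rw [hc, Nat.card_fin]⟩
  obtain ⟨i, hi⟩ := hb.2 (QuotientGroup.mk x)
  exact ⟨i, _, QuotientGroup.eq.mp hi, by group⟩

theorem Hyp.commute_iff (h : Hyp S) {i : Fin 8} {a : S} (ha : a ∈ h.A) {b : S} (hb : b ∈ h.A) :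
    Commute (h.u i * a) b → Commute (h.u i) b := by
  intro hc
  have h1 := hc.mul_left ((commA h ha hb).inv_left)
  rwa [mul_inv_cancel_right] at h1

/-- A subgroup of `A` centralized by an element outside `A` is small. -/
theorem Hyp.small (h : Hyp S) {D : Subgroup S} (hD : D ≤ h.A) {x : S} (hx : x ∉ h.A)
    (hc : ∀ d ∈ D, Commute x d) : Nat.card D < 32 := by
  obtain ⟨i, a, ha, rfl⟩ := h.cover x
  have hi : i ≠ 0 := by rintro rfl; exact hx (mul_mem h.mem0 ha)
  refine lt_of_le_of_lt ?_ (h.one i hi)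
  exact Nat.card_le_card_of_injective
    (fun d : D => (⟨⟨d, hD d.2⟩, h.commute_iff ha (hD d.2) (hc d d.2)⟩ : {a : h.A // Commute (h.u i) (a : S)}))
    (fun d e hde => Subtype.ext (congrArg (fun t : {a : h.A // Commute (h.u i) (a : S)} => ((t : h.A) : S)) hde))

theorem Hyp.centralizer_le (h : Hyp S) {x : S} (hc : ∀ a ∈ h.A, Commute x a) : x ∈ h.A := by
  by_contra hx
  have := h.small le_rfl hx hc
  rw [h.cardA] at this
  omega

theorem Hyp.isPGroup (h : Hyp S) : IsPGroup 2 S := IsPGroup.of_card (n := 9) (by rw [h.cardS]; norm_num)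

/-- Two independent elements outside `A`. -/
theorem Hyp.small_two (h : Hyp S) {D : Subgroup S} (hD : D ≤ h.A) {x y : S} (hx : x ∉ h.A)
    (hy : y ∉ h.A) (hxy : x⁻¹ * y ∉ h.A) (hcx : ∀ d ∈ D, Commute x d) (hcy : ∀ d ∈ D, Commute y d) :
    Nat.card D < 16 := by
  haveI := h.normal
  obtain ⟨i, a, ha, rfl⟩ := h.cover x
  obtain ⟨j, b, hb, rfl⟩ := h.cover y
  have hi : i ≠ 0 := by rintro rfl; exact hx (mul_mem h.mem0 ha)
  have hj : j ≠ 0 := by rintro rfl; exact hy (mul_mem h.mem0 hb)
  have hij : i ≠ j := by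
    rintro rfl
    apply hxy
    rw [show (h.u i * a)⁻¹ * (h.u i * b) = a⁻¹ * b by group]
    exact mul_mem (inv_mem ha) hb
  refine lt_of_le_of_lt ?_ (h.two i j hi hj hij)
  exact Nat.card_le_card_of_injective
    (fun d : D => (⟨⟨d, hD d.2⟩, h.commute_iff ha (hD d.2) (hcx d d.2),
      h.commute_iff hb (hD d.2) (hcy d d.2)⟩ :
      {a : h.A // Commute (h.u i) (a : S) ∧ Commute (h.u j) (a : S)}))
    (fun d e hde => Subtype.ext (congrArg
      (fun t : {a : h.A // Commute (h.u i) (a : S) ∧ Commute (h.u j) (a : S)} => ((t : h.A) : S)) hde))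

theorem Hyp.small_all (h : Hyp S) {D X : Subgroup S} (hD : D ≤ h.A) (hX : X ⊔ h.A = ⊤)
    (hc : ∀ x ∈ X, ∀ d ∈ D, Commute x d) : Nat.card D ≤ 4 := by
  haveI := h.normal
  refine le_trans ?_ h.all
  refine Nat.card_le_card_of_injective
    (fun d : D => (⟨⟨d, hD d.2⟩, fun i => ?_⟩ : {a : h.A // ∀ i, Commute (h.u i) (a : S)}))
    (fun d e hde => Subtype.ext (congrArg
      (fun t : {a : h.A // ∀ i, Commute (h.u i) (a : S)} => ((t : h.A) : S)) hde))
  have hu : h.u i ∈ ((X ⊔ h.A : Subgroup S) : Set S) := by rw [hX]; exact Subgroup.mem_top _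
  rw [Subgroup.mul_normal] at hu
  obtain ⟨x, hx, a, ha, he⟩ := hu
  rw [← he]
  exact (hc x hx d d.2).mul_left (commA h ha (hD d.2))

theorem Hyp.unique (h : Hyp S) (B : Subgroup S) (hB : IsMulCommutative ↥B) (hBc : Nat.card B = 64) :
    B = h.A := by
  haveI := h.normal
  set π := QuotientGroup.mk' h.A
  have hmem : ∀ x, π x = 1 ↔ x ∈ h.A := fun x => QuotientGroup.eq_one_iff x
  have hcomm : ∀ x ∈ B, ∀ d ∈ B ⊓ h.A, Commute x d := fun x hx d hd =>
    congrArg Subtype.val (hB.is_comm.comm (⟨x, hx⟩ : B) ⟨d, hd.1⟩)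
  have hprod := Basics.card_map_mul_card_inf_ker π B
  rw [QuotientGroup.ker_mk', hBc] at hprod
  have hq : Nat.card (S ⧸ h.A) = 8 := by
    have h1 := h.A.card_eq_card_quotient_mul_card_subgroup
    rw [h.cardS, h.cardA] at h1
    omega
  have hr : Nat.card (B.map π) ∣ 2 ^ 3 := by
    have := Subgroup.card_subgroup_dvd_card (B.map π)
    rw [hq] at this
    exact this
  obtain ⟨k, hk, hk'⟩ := (Nat.dvd_prime_pow Nat.prime_two).mp hr
  rw [hk'] at hprod
  interval_cases k
  · have hle : B ≤ h.A := by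
      intro x hx
      rw [← hmem]
      have := Subgroup.card_eq_one.mp (by rw [hk']; rfl : Nat.card (B.map π) = 1)
      have hxm : π x ∈ B.map π := ⟨x, hx, rfl⟩
      rw [this] at hxm
      exact Subgroup.mem_bot.mp hxm
    exact Subgroup.eq_of_le_of_card_ge hle (by rw [hBc, h.cardA])
  · exfalso
    obtain ⟨x, hx, hxA⟩ : ∃ x ∈ B, x ∉ h.A := by
      by_contra hno
      push Not at hno
      have : B.map π = ⊥ := by
        rw [eq_bot_iff]
        rintro _ ⟨x, hx, rfl⟩
        exact Subgroup.mem_bot.mpr ((hmem x).mpr (hno x hx))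
      rw [this, Subgroup.card_bot] at hk'
      norm_num at hk'
    have := h.small inf_le_right hxA (fun d hd => hcomm x hx d hd)
    omega
  · exfalso
    obtain ⟨x, hx, hxA⟩ : ∃ x ∈ B, x ∉ h.A := by
      by_contra hno
      push Not at hno
      have : B.map π = ⊥ := by
        rw [eq_bot_iff]
        rintro _ ⟨x, hx, rfl⟩
        exact Subgroup.mem_bot.mpr ((hmem x).mpr (hno x hx))
      rw [this, Subgroup.card_bot] at hk'
      norm_num at hk'
    obtain ⟨y, hy, hyA, hxy⟩ : ∃ y ∈ B, y ∉ h.A ∧ x⁻¹ * y ∉ h.A := by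
      by_contra hno
      push Not at hno
      have hle : B.map π ≤ Subgroup.zpowers (π x) := by
        rintro _ ⟨y, hy, rfl⟩
        by_cases hyA : y ∈ h.A
        · rw [(hmem y).mpr hyA]; exact one_mem _
        · have h2 := (hmem _).mpr (hno y hy hyA)
          rw [map_mul π, map_inv π, inv_mul_eq_one] at h2
          rw [← h2]
          exact Subgroup.mem_zpowers _
      have h2 : π x ^ 2 = 1 := by
        rw [← map_pow, hmem]
        by_contra hx2
        have h3 := hno (x ^ 2) (pow_mem hx 2) hx2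
        rw [show x⁻¹ * x ^ 2 = x by group] at h3
        exact hxA h3
      have hle2 := Subgroup.card_le_of_le hle
      rw [hk', Nat.card_zpowers] at hle2
      have := Nat.le_of_dvd two_pos (orderOf_dvd_of_pow_eq_one h2)
      omega
    have := h.small_two inf_le_right hxA hyA hxy (fun d hd => hcomm x hx d hd)
      (fun d hd => hcomm y hy d hd)
    omega
  · exfalso
    have htop : B.map π = ⊤ := Subgroup.eq_top_of_card_eq _ (by rw [hk', hq]; rfl)
    have hX : B ⊔ h.A = ⊤ := by
      have h1 := congrArg (Subgroup.comap π) htop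
      rwa [Subgroup.comap_map_eq, Subgroup.comap_top, QuotientGroup.ker_mk'] at h1
    have := h.small_all inf_le_right hX (fun x hx d hd => hcomm x hx d hd)
    omega

theorem Hyp.center_maximal (h : Hyp S) (M : Subgroup S) (hM : IsCoatom M) :
    Nat.card ↥(Subgroup.center ↥M) ≤ 8 := by
  haveI := h.normal
  haveI : Fact (Nat.Prime 2) := ⟨Nat.prime_two⟩
  set Z := (Subgroup.center ↥M).map M.subtype with hZ
  have hZc : Nat.card Z = Nat.card (Subgroup.center ↥M) :=
    Subgroup.card_map_of_injective (Subgroup.subtype_injective _)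
  have hZM : Z ≤ M := Subgroup.map_subtype_le _
  have hcomm : ∀ z ∈ Z, ∀ m ∈ M, Commute m z := by
    rintro _ ⟨z, hz, rfl⟩ m hm
    exact congrArg Subtype.val (Subgroup.mem_center_iff.mp hz ⟨m, hm⟩)
  obtain ⟨k, hk⟩ := IsPGroup.iff_card.mp (h.isPGroup.to_subgroup Z)
  suffices Nat.card Z < 16 by
    rw [← hZc, hk]
    rw [hk] at this
    exact le_trans (Nat.pow_le_pow_right (by norm_num)
      (show k ≤ 3 by
        by_contra h4
        have := Nat.pow_le_pow_right (show 0 < 2 by norm_num) (show 4 ≤ k by omega)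
        omega)) (by norm_num)
  have hidx : M.index = 2 := by
    haveI := h.isPGroup.isNilpotent
    haveI : M.Normal := Subgroup.NormalizerCondition.normal_of_coatom M normalizerCondition_of_isNilpotent hM
    haveI : Nontrivial (S ⧸ M) := QuotientGroup.nontrivial_iff.mpr hM.1
    obtain ⟨x, hx⟩ := exists_prime_orderOf_dvd_card' (G := S ⧸ M) 2 (by
      obtain ⟨j, hj0, hj⟩ := (h.isPGroup.to_quotient M).nontrivial_iff_card.mp inferInstance
      rw [hj]; exact dvd_pow_self 2 (by omega))
    have h1 : (Subgroup.zpowers x).comap (QuotientGroup.mk' M) = ⊤ := by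
      refine hM.2 _ (lt_of_le_of_ne (fun m hm => ?_) fun he => ?_)
      · rw [Subgroup.mem_comap, QuotientGroup.mk'_apply, (QuotientGroup.eq_one_iff m).mpr hm]
        exact one_mem _
      · obtain ⟨y, rfl⟩ := QuotientGroup.mk'_surjective M x
        have hy : y ∈ M := by rw [he]; exact Subgroup.mem_zpowers _
        rw [QuotientGroup.mk'_apply, (QuotientGroup.eq_one_iff y).mpr hy, orderOf_one] at hx
        omega
    have h2 := congrArg (Subgroup.map (QuotientGroup.mk' M)) h1
    rw [Subgroup.map_comap_eq_self_of_surjective (QuotientGroup.mk'_surjective M),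
      Subgroup.map_top_of_surjective _ (QuotientGroup.mk'_surjective M)] at h2
    show Nat.card (S ⧸ M) = 2
    rw [← Subgroup.card_top (G := S ⧸ M), ← h2, Nat.card_zpowers, hx]
  have hMc : Nat.card M = 256 := by
    have := M.card_mul_index
    rw [hidx, h.cardS] at this
    omega
  by_cases hAM : h.A ≤ M
  · have hZA : Z ≤ h.A := fun z hz => h.centralizer_le fun a ha => (hcomm z hz a (hAM ha)).symm
    obtain ⟨x, hx, hxA⟩ : ∃ x ∈ M, x ∉ h.A := by
      by_contra hno
      push Not at hno
      have := Subgroup.card_le_of_le (show M ≤ h.A from hno)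
      rw [hMc, h.cardA] at this
      omega
    obtain ⟨y, hy, hyA, hxy⟩ : ∃ y ∈ M, y ∉ h.A ∧ x⁻¹ * y ∉ h.A := by
      by_contra hno
      push Not at hno
      have hsq : x ^ 2 ∈ h.A := by
        by_contra hx2
        have h3 := hno (x ^ 2) (pow_mem hx 2) hx2
        rw [show x⁻¹ * x ^ 2 = x by group] at h3
        exact hxA h3
      set π := QuotientGroup.mk' h.A
      have hle : M.map π ≤ Subgroup.zpowers (π x) := by
        rintro _ ⟨y, hy, rfl⟩
        by_cases hyA : y ∈ h.A
        · rw [show π y = 1 from (QuotientGroup.eq_one_iff y).mpr hyA]; exact one_mem _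
        · have h2 : π (x⁻¹ * y) = 1 := (QuotientGroup.eq_one_iff _).mpr (hno y hy hyA)
          rw [map_mul π, map_inv π, inv_mul_eq_one] at h2
          rw [← h2]
          exact Subgroup.mem_zpowers _
      have h1 := Subgroup.card_le_of_le hle
      rw [Nat.card_zpowers] at h1
      have h2 := Nat.le_of_dvd two_pos (orderOf_dvd_of_pow_eq_one
        (show π x ^ 2 = 1 by rw [← map_pow]; exact (QuotientGroup.eq_one_iff _).mpr hsq))
      have h3 := Basics.card_map_mul_card_inf_ker π M
      rw [QuotientGroup.ker_mk', inf_eq_right.mpr hAM, hMc, h.cardA] at h3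
      omega
    exact h.small_two hZA hxA hyA hxy (fun d hd => hcomm d hd x hx) (fun d hd => hcomm d hd y hy)
  · have htop : M ⊔ h.A = ⊤ := hM.2 _ (lt_of_le_of_ne le_sup_left fun he => hAM (he ▸ le_sup_right))
    haveI : M.Normal := Subgroup.normal_of_index_eq_two hidx
    have h32 : 32 ≤ Nat.card (h.A ⊓ M : Subgroup S) := by
      have h3 := Basics.card_map_mul_card_inf_ker (QuotientGroup.mk' M) h.A
      rw [QuotientGroup.ker_mk', h.cardA] at h3
      have h4 := Subgroup.card_le_card_group (h.A.map (QuotientGroup.mk' M))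
      rw [show Nat.card (S ⧸ M) = 2 from hidx] at h4
      have h5 := Nat.mul_le_mul_right (Nat.card (h.A ⊓ M : Subgroup S)) h4
      omega
    have hZA : Z ≤ h.A := by
      intro z hz
      by_contra hzA
      have := h.small inf_le_left hzA (fun d hd => (hcomm z hz d hd.2).symm)
      omega
    have := h.small_all hZA htop (fun x hx d hd => hcomm d hd x hx)
    omega

theorem Hyp.good (h : Hyp S) : Good S :=
  ⟨h.center_maximal, ⟨h.A, h.elem, h.cardA⟩,
    fun A B hA hAc hB hBc => (h.unique A hA hAc).trans (h.unique B hB hBc).symm⟩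

theorem Good.of_equiv {T : Type*} [Group T] [Finite T] (e : S ≃* T) (h : Good S) : Good T := by
  obtain ⟨h1, ⟨A, hA, hAc⟩, h3⟩ := h
  have hcomm : ∀ B : Subgroup T, IsMulCommutative ↥B → IsMulCommutative ↥(B.comap e.toMonoidHom) :=
    fun B hB => ⟨⟨fun a b => by
      apply Subtype.ext
      apply e.injective
      rw [Subgroup.coe_mul, Subgroup.coe_mul, map_mul, map_mul]
      exact congrArg Subtype.val (hB.is_comm.comm (⟨e a, a.2⟩ : B) ⟨e b, b.2⟩)⟩⟩
  have hcard : ∀ B : Subgroup T, Nat.card (B.comap e.toMonoidHom) = Nat.card B := fun B => by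
    rw [← Subgroup.card_map_of_injective (f := e.toMonoidHom) e.injective,
      Subgroup.map_comap_eq_self_of_surjective e.surjective]
  refine ⟨fun M hM => ?_, ⟨A.map e.toMonoidHom, ?_, ?_⟩, fun B C hB hBc hC hCc => ?_⟩
  · have hco : IsCoatom (M.comap e.toMonoidHom) := by
      have := (e.comapSubgroup.isCoatom_iff M).mpr hM
      exact this
    have e1 : ↥(M.comap e.toMonoidHom) ≃* ↥M :=
      (e.subgroupMap (M.comap e.toMonoidHom)).trans
        (MulEquiv.subgroupCongr (Subgroup.map_comap_eq_self_of_surjective e.surjective M))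
    rw [← Nat.card_congr (Subgroup.centerCongr e1).toEquiv]
    exact h1 _ hco
  · refine ⟨⟨⟨fun a b => ?_⟩⟩, ?_⟩
    · obtain ⟨_, a, ha, rfl⟩ := a
      obtain ⟨_, b, hb, rfl⟩ := b
      apply Subtype.ext
      show e a * e b = e b * e a
      simpa using congrArg (fun t : A => e (t : S)) (hA.1.is_comm.comm (⟨a, ha⟩ : A) ⟨b, hb⟩)
    · rintro _ ⟨a, ha, rfl⟩
      rw [← map_pow, hA.2 a ha, map_one]
  · rw [Subgroup.card_map_of_injective (f := e.toMonoidHom) e.injective, hAc]
  · exact Subgroup.comap_injective e.surjective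
      (h3 _ _ (hcomm B hB) (by rw [hcard, hBc]) (hcomm C hC) (by rw [hcard, hCc]))

end Cfsg.Agent.InvChar.Ab64
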