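import Mathlib
import Cfsg.Agent.Lib.CT.Integral

/-!
The stabilizer of an anisotropic pair of quadratic functions on an elementary abelian 2-group is
solvable.
-/

set_option autoImplicit false
set_option linter.style.haveILetI false

namespace Cfsg.Agent.InvChar.AnisoPair

variable {V : Type*} [AddCommGroup V]

theorem eq_zero_of_ne_one : ∀ a : ZMod 2, a ≠ 1 → a = 0 := by decide

/-- The cubic identity of a quadratic function. -/
def IsQuad (q : V → ZMod 2) : Prop :=
  ∀ x y z, q (x + y + z) + q (x + y) + q (x + z) + q (y + z) + q x + q y + q z = 0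

theorem IsQuad.add {q q' : V → ZMod 2} (h : IsQuad q) (h' : IsQuad q') :
    IsQuad (fun x => q x + q' x) := by
  intro x y z
  linear_combination h x y z + h' x y z

theorem IsQuad.zero {q : V → ZMod 2} (h : IsQuad q) : q 0 = 0 := by
  have h7 := h 0 0 0
  simp only [add_zero] at h7
  revert h7
  generalize q 0 = a
  revert a
  decide

/-- The nontrivial character of the group of order two. -/
def chi (a : ZMod 2) : ℤ := if a = 0 then 1 else -1

theorem chi_add (a b : ZMod 2) : chi (a + b) = chi a * chi b := by revert a b; decide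

theorem chi_mul_self (a : ZMod 2) : chi a * chi a = 1 := by revert a; decide

theorem IsQuad.card_dvd_sq [Fintype V] {q : V → ZMod 2} (h : IsQuad q) :
    (Fintype.card V : ℤ) ∣ (∑ x, chi (q x)) ^ 2 := by
  classical
  let β : V → V → ZMod 2 := fun y x => q (x + y) + q x + q y
  have hadd : ∀ y a b, β y (a + b) = β y a + β y b := by
    intro y a b
    have h2 : ∀ e f g i j k l : ZMod 2, e + f + g + i + j + k + l = 0 →
        e + f + l = (g + j + l) + (i + k + l) := by decide
    exact h2 _ _ _ _ _ _ _ (h a b y)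
  have key : ∀ y, (Fintype.card V : ℤ) ∣ ∑ x, chi (β y x) := by
    intro y
    by_cases h1 : ∀ x, β y x = 0
    · simp [h1, chi]
    · push Not at h1
      obtain ⟨a, ha⟩ := h1
      have ha1 : ∀ c : ZMod 2, c ≠ 0 → c = 1 := by decide
      have hsum : ∑ x, chi (β y (x + a)) = ∑ x, chi (β y x) :=
        Fintype.sum_equiv (Equiv.addRight a) _ _ (fun _ => rfl)
      simp only [hadd, chi_add, ha1 _ ha, show chi 1 = -1 from rfl, mul_neg, mul_one,
        Finset.sum_neg_distrib] at hsum
      rw [show ∑ x, chi (β y x) = 0 by linarith]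
      exact dvd_zero _
  have he : (∑ x, chi (q x)) ^ 2 = ∑ y, chi (q y) * ∑ x, chi (β y x) := by
    rw [pow_two, Finset.sum_mul_sum]
    calc ∑ x, ∑ y, chi (q x) * chi (q y) = ∑ x, ∑ y, chi (q x) * chi (q (x + y)) := by
          refine Finset.sum_congr rfl fun x _ => ?_
          exact (Fintype.sum_equiv (Equiv.addLeft x) _ _ (fun _ => rfl)).symm
      _ = ∑ y, ∑ x, chi (q x) * chi (q (x + y)) := Finset.sum_comm
      _ = _ := by
          refine Finset.sum_congr rfl fun y _ => ?_
          rw [Finset.mul_sum]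
          refine Finset.sum_congr rfl fun x _ => ?_
          show _ = chi (q y) * chi (q (x + y) + q x + q y)
          rw [chi_add, chi_add]
          linear_combination -(chi (q (x + y)) * chi (q x)) * chi_mul_self (q y)
  rw [he]
  exact Finset.dvd_sum fun y _ => (key y).mul_left _

/-- A quadratic function takes the value one an even number of times. -/
theorem IsQuad.even_ones [Fintype V] {q : V → ZMod 2} (h : IsQuad q) (h8 : 8 ∣ Fintype.card V) :
    2 ∣ (Finset.univ.filter fun x => q x = 1).card := by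
  classical
  set n := (Finset.univ.filter fun x => q x = 1).card with hn
  have hchi : ∀ a : ZMod 2, chi a = 1 - 2 * (if a = 1 then 1 else 0) := by decide
  have hsum : ∑ x, chi (q x) = (Fintype.card V : ℤ) - 2 * n := by
    simp only [hchi, Finset.sum_sub_distrib, ← Finset.mul_sum, Finset.sum_boole, hn]
    simp
  have hd := h.card_dvd_sq
  rw [hsum] at hd
  have h8' : (8 : ℤ) ∣ Fintype.card V := by exact_mod_cast h8
  have hz : (((Fintype.card V : ℤ) - 2 * n) ^ 2 : ℤ) = ((0 : ℤ) : ZMod 8) := by
    rw [Int.cast_zero, ZMod.intCast_zmod_eq_zero_iff_dvd]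
    exact dvd_trans h8' hd
  have hc : ((Fintype.card V : ℤ) : ZMod 8) = 0 := (ZMod.intCast_zmod_eq_zero_iff_dvd _ 8).mpr h8'
  push_cast at hz hc
  rw [hc] at hz
  have hd8 : ∀ a : ZMod 8, (0 - 2 * a) ^ 2 = 0 → ∃ b, a = 2 * b := by decide
  obtain ⟨b, hb⟩ := hd8 _ hz
  have h2 : ((n : ZMod 8).val) % 2 = 0 := by
    have h2b : ∀ b : ZMod 8, (2 * b).val % 2 = 0 := by decide
    rw [hb]; exact h2b b
  rw [ZMod.val_natCast] at h2
  omega

variable [Finite V]

/-- The data: an anisotropic pair, or one quadratic function with at most one singular vector. -/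
structure Data (G : Type*) [Group G] [DistribMulAction G V] (q₁ q₂ : V → ZMod 2) : Prop where
  two : ∀ x : V, x + x = 0
  quad₁ : IsQuad q₁
  quad₂ : IsQuad q₂
  inv₁ : ∀ (g : G) x, q₁ (g • x) = q₁ x
  inv₂ : ∀ (g : G) x, q₂ (g • x) = q₂ x
  aniso : (∀ x, x ≠ 0 → q₁ x = 1 ∨ q₂ x = 1) ∨
    ((∀ x, q₂ x = 0) ∧ ∀ x y, x ≠ 0 → y ≠ 0 → q₁ x = 0 → q₁ y = 0 → x = y)

theorem exists_card_eq (two : ∀ x : V, x + x = 0) : ∃ k, Nat.card V = 2 ^ k := by
  haveI : Fact (Nat.Prime 2) := ⟨Nat.prime_two⟩
  have hp : IsPGroup 2 (Multiplicative V) := fun x => ⟨1, by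
    rw [pow_one, pow_two]; exact two (Multiplicative.toAdd x)⟩
  obtain ⟨k, hk⟩ := hp.exists_card_eq
  exact ⟨k, hk⟩

theorem exists_subgroup_card (two : ∀ x : V, x + x = 0) (W : AddSubgroup V) {j : ℕ}
    (hj : 2 ^ j ≤ Nat.card W) : ∃ U : AddSubgroup V, U ≤ W ∧ Nat.card U = 2 ^ j := by
  haveI : Fact (Nat.Prime 2) := ⟨Nat.prime_two⟩
  obtain ⟨k, hk⟩ := exists_card_eq (V := W) fun x => Subtype.ext (two x)
  rw [hk] at hj
  obtain ⟨K, hK⟩ := Sylow.exists_subgroup_card_pow_prime (G := Multiplicative W) 2 (n := j)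
    (by rw [show Nat.card (Multiplicative W) = Nat.card W from rfl, hk]
        exact pow_dvd_pow 2 ((Nat.pow_le_pow_iff_right (by norm_num)).mp hj))
  refine ⟨(Subgroup.toAddSubgroup' K).map W.subtype, AddSubgroup.map_le_iff_le_comap.mpr
    (fun x _ => x.2), ?_⟩
  rw [AddSubgroup.card_map_of_injective (AddSubgroup.subtype_injective W)]
  exact hK

/-- Among eight elements forming a subgroup, an anisotropic function is not constant. -/
theorem not_const [Fintype V] {q : V → ZMod 2} (h : IsQuad q) (U : AddSubgroup V)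
    (hU : Nat.card U = 8) (h1 : ∀ x ∈ U, x ≠ 0 → q x = 1) : False := by
  classical
  have hq : IsQuad (fun x : U => q x) := fun x y z => h x y z
  have h2 := hq.even_ones (dvd_of_eq (by rw [← hU, Nat.card_eq_fintype_card]))
  have he : (Finset.univ.filter fun x : U => q x = 1) = Finset.univ.erase 0 := by
    ext x
    simp only [Finset.mem_filter, Finset.mem_univ, true_and, Finset.mem_erase, and_true]
    constructor
    · intro hx hx0
      rw [hx0, AddSubgroup.coe_zero, h.zero] at hx
      exact zero_ne_one hx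
    · intro hx
      exact h1 x x.2 (fun he => hx (Subtype.ext he))
  rw [he, Finset.card_erase_of_mem (Finset.mem_univ _), Finset.card_univ,
    ← Nat.card_eq_fintype_card, hU] at h2
  omega

variable {G : Type*} [Group G] [DistribMulAction G V] {q₁ q₂ : V → ZMod 2}

theorem Data.zero₁ (d : Data G q₁ q₂) : q₁ 0 = 0 := d.quad₁.zero
theorem Data.zero₂ (d : Data G q₁ q₂) : q₂ 0 = 0 := d.quad₂.zero

theorem Data.card_dvd (d : Data G q₁ q₂) : Nat.card V ∣ 16 := by
  classical
  cases nonempty_fintype V
  obtain ⟨k, hk⟩ := exists_card_eq d.two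
  rw [hk]
  suffices k ≤ 4 from pow_dvd_pow 2 this
  by_contra hk5
  rcases d.aniso with hA | ⟨h2, huniq⟩
  · obtain ⟨U, -, hU⟩ := exists_subgroup_card d.two (⊤ : AddSubgroup V) (j := 5)
      (by rw [AddSubgroup.card_top, hk]; exact Nat.pow_le_pow_right (by norm_num) (by omega))
    set p₁ : U → ZMod 2 := fun x => q₁ x with hp₁
    set p₂ : U → ZMod 2 := fun x => q₂ x with hp₂
    have e₁ : IsQuad p₁ := fun x y z => d.quad₁ x y z
    have e₂ : IsQuad p₂ := fun x y z => d.quad₂ x y z
    have hc : (Fintype.card U : ℤ) = 32 := by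
      rw [← Nat.card_eq_fintype_card, hU]; norm_num
    have e : ∀ {p : U → ZMod 2}, IsQuad p → (((∑ x, chi (p x)) ^ 2 : ℤ) : ZMod 32) = 0 := by
      intro p hp
      rw [ZMod.intCast_zmod_eq_zero_iff_dvd]
      have := hp.card_dvd_sq
      rw [hc] at this
      exact_mod_cast this
    have hid : ∀ a b : ZMod 2, 1 + chi a + chi b + chi (a + b) = if a = 0 ∧ b = 0 then 4 else 0 := by
      decide
    have hsum : (32 : ℤ) + ∑ x, chi (p₁ x) + ∑ x, chi (p₂ x) + ∑ x, chi (p₁ x + p₂ x) = 4 := by
      rw [← hc]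
      calc (Fintype.card U : ℤ) + ∑ x, chi (p₁ x) + ∑ x, chi (p₂ x) + ∑ x, chi (p₁ x + p₂ x)
          = ∑ x, (1 + chi (p₁ x) + chi (p₂ x) + chi (p₁ x + p₂ x)) := by
            simp [Finset.sum_add_distrib]
        _ = ∑ x : U, if x = 0 then 4 else 0 := by
            refine Finset.sum_congr rfl fun x _ => ?_
            rw [hid]
            by_cases hx : x = 0
            · subst hx
              simp [p₁, p₂, d.zero₁, d.zero₂]
            · rw [if_neg hx, if_neg]
              rintro ⟨a, b⟩
              rcases hA x (fun he => hx (Subtype.ext he)) with h | h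
              · exact zero_ne_one (a.symm.trans h)
              · exact zero_ne_one (b.symm.trans h)
        _ = 4 := by simp
    have hd : ∀ a : ZMod 32, a ^ 2 = 0 → 4 * a = 0 := by decide
    have c1 := hd ((∑ x, chi (p₁ x) : ℤ) : ZMod 32) (by rw [← Int.cast_pow]; exact e e₁)
    have c2 := hd ((∑ x, chi (p₂ x) : ℤ) : ZMod 32) (by rw [← Int.cast_pow]; exact e e₂)
    have c3 := hd ((∑ x, chi (p₁ x + p₂ x) : ℤ) : ZMod 32) (by
      rw [← Int.cast_pow]; exact e (e₁.add e₂))
    have h4 := congrArg (fun t : ℤ => 4 * (t : ZMod 32)) hsum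
    simp only [Int.cast_add, mul_add] at h4
    rw [c1, c2, c3] at h4
    revert h4
    norm_num
    decide
  · have hv : ∃ v : V, ∀ x, x ≠ 0 → q₁ x = 0 → x = v := by
      by_cases hex : ∃ v, v ≠ 0 ∧ q₁ v = 0
      · obtain ⟨v, hv0, hv⟩ := hex
        exact ⟨v, fun x hx hx' => huniq x v hx hv0 hx' hv⟩
      · push Not at hex
        exact ⟨0, fun x hx hx' => absurd hx' (hex x hx)⟩
    obtain ⟨v, hv⟩ := hv
    haveI : Fact (Nat.Prime 2) := ⟨Nat.prime_two⟩
    letI : Module (ZMod 2) V := AddCommGroup.zmodModule fun x => by rw [two_nsmul]; exact d.two x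
    obtain ⟨C, hC⟩ := Submodule.exists_isCompl (ZMod 2 ∙ v)
    have hcard : Nat.card V = Nat.card (ZMod 2 ∙ v) * Nat.card C := by
      rw [← Nat.card_prod]
      exact (Nat.card_congr (Submodule.prodEquivOfIsCompl _ _ hC).toEquiv).symm
    have hsp : Nat.card (ZMod 2 ∙ v) ≤ 2 := by
      have hs : Function.Surjective (fun a : ZMod 2 => (⟨a • v,
          Submodule.smul_mem _ a (Submodule.mem_span_singleton_self v)⟩ : (ZMod 2 ∙ v))) := by
        rintro ⟨x, hx⟩
        obtain ⟨a, rfl⟩ := Submodule.mem_span_singleton.mp hx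
        exact ⟨a, rfl⟩
      simpa using Nat.card_le_card_of_surjective _ hs
    have hC8 : 2 ^ 3 ≤ Nat.card C.toAddSubgroup := by
      show 2 ^ 3 ≤ Nat.card C
      have h32 : 2 ^ 5 ≤ Nat.card V := by
        rw [hk]; exact Nat.pow_le_pow_right (by norm_num) (by omega)
      have := Nat.mul_le_mul_right (Nat.card C) hsp
      omega
    obtain ⟨U, hUC, hU⟩ := exists_subgroup_card d.two C.toAddSubgroup hC8
    refine not_const d.quad₁ U (by rw [hU]; norm_num) fun x hx hx0 => ?_
    by_contra hne
    obtain rfl := hv x hx0 (eq_zero_of_ne_one _ hne)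
    exact hx0 (Submodule.disjoint_def.mp hC.disjoint x (Submodule.mem_span_singleton_self x) (hUC hx))

/-- The elements fixed by `g`. -/
def fixedBy (g : G) : AddSubgroup V where
  carrier := {x | g • x = x}
  zero_mem' := smul_zero g
  add_mem' := fun {a b} ha hb => by
    show g • (a + b) = a + b
    rw [smul_add, ha, hb]
  neg_mem' := fun {a} ha => by
    show g • -a = -a
    rw [smul_neg, ha]

theorem card_fixedBy [Fintype V] [DecidableEq V] (g : G) :
    (Finset.univ.filter fun x : V => g • x = x).card = Nat.card (fixedBy g : AddSubgroup V) := by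
  rw [← Fintype.card_subtype, ← Nat.card_eq_fintype_card]
  rfl

theorem modEq_fixed (g : G) {p : ℕ} [Fact p.Prime] (hg : g ^ p = 1) (S : Finset V)
    (hS : ∀ x ∈ S, g • x ∈ S) [DecidableEq V] :
    S.card % p = (S.filter fun x => g • x = x).card % p := by
  classical
  let f : Function.End S := fun x => ⟨g • (x : V), hS x x.2⟩
  have hf : ∀ n : ℕ, ∀ x : S, ((f ^ n) x : V) = g ^ n • (x : V) := by
    intro n
    induction n with
    | zero => intro x; simp; rfl
    | succ n ih =>
      intro x
      rw [pow_succ', pow_succ', mul_smul, ← ih x]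
      rfl
  have h1 : f ^ p ^ 1 = 1 := by
    funext x
    apply Subtype.ext
    rw [pow_one, hf, hg, one_smul]
    rfl
  have h2 := Equiv.Perm.card_fixedPoints_modEq h1
  rw [Fintype.card_coe] at h2
  rw [h2]
  congr 1
  refine (Fintype.card_congr ?_).trans (Fintype.card_coe _)
  exact
    { toFun := fun x => ⟨x.1.1, Finset.mem_filter.mpr ⟨x.1.2, congrArg Subtype.val x.2⟩⟩
      invFun := fun x => ⟨⟨x.1, (Finset.mem_filter.mp x.2).1⟩,
        Subtype.ext (Finset.mem_filter.mp x.2).2⟩
      left_inv := fun _ => rfl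
      right_inv := fun _ => rfl }

variable [FaithfulSMul G V]

theorem Data.no_seven (d : Data G q₁ q₂) {g : G} (hg : orderOf g = 7) : False := by
  classical
  cases nonempty_fintype V
  haveI : Fact (Nat.Prime 7) := ⟨by norm_num⟩
  have g7 : g ^ 7 = 1 := orderOf_dvd_iff_pow_eq_one.mp (dvd_of_eq hg)
  have g1 : g ≠ 1 := by intro h; rw [h, orderOf_one] at hg; omega
  let f : V →+ V :=
    { toFun := fun x => g • x + x
      map_zero' := by rw [smul_zero, add_zero]
      map_add' := fun a b => by rw [smul_add]; abel }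
  have hker : f.ker = fixedBy g := by
    ext x
    show g • x + x = 0 ↔ g • x = x
    constructor
    · intro h; rw [← add_zero (g • x), ← d.two x, ← add_assoc, h, zero_add]
    · intro h; rw [h, d.two]
  have hprod : Nat.card f.range * Nat.card (fixedBy g : AddSubgroup V) = Nat.card V := by
    rw [← hker, ← AddSubgroup.index_ker, AddSubgroup.index_mul_card]
  set n := Nat.card (fixedBy g : AddSubgroup V) with hn
  have hn' : (Finset.univ.filter fun x : V => g • x = x).card = n := by
    exact card_fixedBy _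
  have hmod := modEq_fixed g g7 (Finset.univ : Finset V) (fun x _ => Finset.mem_univ _)
  rw [Finset.card_univ, ← Nat.card_eq_fintype_card (α := V), hn'] at hmod
  obtain ⟨a, ha⟩ := exists_card_eq (V := fixedBy (V := V) g) fun x => Subtype.ext (d.two x)
  rw [← hn] at ha
  have hlt : n < Nat.card V := by
    rw [← Nat.card_congr (AddSubgroup.topEquiv (G := V)).toEquiv, hn]
    refine Nat.lt_of_le_of_ne (AddSubgroup.card_le_of_le le_top) fun he => g1 ?_
    have := AddSubgroup.eq_of_le_of_card_ge (le_top : (fixedBy g : AddSubgroup V) ≤ ⊤) he.ge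
    exact FaithfulSMul.eq_of_smul_eq_smul fun x : V => by
      rw [one_smul]; exact (this ▸ AddSubgroup.mem_top x : x ∈ fixedBy g)
  obtain ⟨k, hk4, hk⟩ := (Nat.dvd_prime_pow Nat.prime_two).mp
    (show Nat.card V ∣ 2 ^ 4 from d.card_dvd)
  rw [hk] at hmod hlt hprod
  rw [ha] at hmod hlt hprod
  have ha4 : a ≤ 4 := (Nat.pow_le_pow_iff_right (by norm_num)).mp
    (hlt.le.trans (Nat.pow_le_pow_right (by norm_num) hk4))
  have hW8 : Nat.card f.range = 8 := by
    revert hmod hlt hprod
    generalize Nat.card f.range = R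
    interval_cases k <;> interval_cases a <;> norm_num <;> omega
  set S := Finset.univ.filter fun x : V => x ∈ f.range ∧ x ≠ 0 with hS
  have hS7 : S.card = 7 := by
    have h1 : S = (Finset.univ.filter fun x : V => x ∈ f.range).erase 0 := by
      ext x; simp [hS, and_comm]
    rw [h1, Finset.card_erase_of_mem (Finset.mem_filter.mpr ⟨Finset.mem_univ _, zero_mem _⟩),
      ← Fintype.card_subtype, ← Nat.card_eq_fintype_card,
      hW8]
  have hSinv : ∀ x ∈ S, g • x ∈ S := by
    intro x hx
    simp only [hS, Finset.mem_filter, Finset.mem_univ, true_and] at hx ⊢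
    obtain ⟨⟨y, rfl⟩, hx0⟩ := hx
    refine ⟨⟨g • y, ?_⟩, fun h => hx0 ((smul_eq_zero_iff_eq g).mp h)⟩
    show g • g • y + g • y = g • (g • y + y)
    rw [smul_add]
  have hmodS := modEq_fixed g g7 S hSinv
  rw [hS7] at hmodS
  have hle1 : (S.filter fun x => g • x = x).card < n := by
    have h0 : (0 : V) ∉ S.filter fun x => g • x = x := by simp [hS]
    calc (S.filter fun x => g • x = x).card
        < (insert 0 (S.filter fun x => g • x = x)).card := by
          rw [Finset.card_insert_of_notMem h0]; omega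
      _ ≤ n := by
          rw [← hn']
          refine Finset.card_le_card fun x hx => ?_
          rcases Finset.mem_insert.mp hx with rfl | hx
          · simp
          · simpa using (Finset.mem_filter.mp hx).2
  have hn2 : n ≤ 2 := by
    rw [ha]
    rw [hW8] at hprod
    have h2k := Nat.pow_le_pow_right (show 0 < 2 by norm_num) hk4
    omega
  have hfree : (S.filter fun x => g • x = x) = ∅ := by
    rw [← Finset.card_eq_zero]
    omega
  obtain ⟨x₀, hx₀⟩ := Finset.card_pos.mp (by omega : 0 < S.card)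
  have hmem : ∀ i : ℕ, g ^ i • x₀ ∈ S := by
    intro i
    induction i with
    | zero => simpa using hx₀
    | succ i ih => rw [pow_succ', mul_smul]; exact hSinv _ ih
  have horb : ∀ y ∈ S, ∃ i : ℕ, y = g ^ i • x₀ := by
    intro y hy
    let T := (Finset.range 7).image fun i => g ^ i • x₀
    have hT : T.card = 7 := by
      rw [Finset.card_image_of_injOn, Finset.card_range]
      intro i hi j hj he
      simp only [Finset.coe_range, Set.mem_Iio] at hi hj
      by_contra hne
      have hfix : g ^ (i + (7 - j)) • x₀ = x₀ := by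
        rw [add_comm, pow_add, mul_smul]
        simp only at he
        rw [he, ← mul_smul, ← pow_add, Nat.sub_add_cancel hj.le, g7, one_smul]
      have hcop : Nat.Coprime (i + (7 - j)) 7 := by
        rw [Nat.coprime_comm, Nat.Prime.coprime_iff_not_dvd (by norm_num)]
        omega
      obtain ⟨m, hm⟩ := exists_pow_eq_self_of_coprime
        (show Nat.Coprime (i + (7 - j)) (orderOf g) by rw [hg]; exact hcop)
      have hgx : g • x₀ = x₀ := by
        have h2 : ∀ m : ℕ, (g ^ (i + (7 - j))) ^ m • x₀ = x₀ := by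
          intro m
          induction m with
          | zero => simp
          | succ m ih => rw [pow_succ, mul_smul, hfix, ih]
        rw [← hm]; exact h2 m
      exact Finset.notMem_empty x₀ (hfree ▸ Finset.mem_filter.mpr ⟨hx₀, hgx⟩)
    have hTS : T = S := Finset.eq_of_subset_of_card_le (fun z hz => by
      obtain ⟨i, -, rfl⟩ := Finset.mem_image.mp hz
      exact hmem i) (by omega)
    rw [← hTS] at hy
    obtain ⟨i, -, rfl⟩ := Finset.mem_image.mp hy
    exact ⟨i, rfl⟩
  have hconst : ∀ {q : V → ZMod 2}, (∀ (g : G) x, q (g • x) = q x) → q x₀ = 1 →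
      ∀ x ∈ f.range, x ≠ 0 → q x = 1 := by
    intro q hq h1 x hx hx0
    obtain ⟨i, rfl⟩ := horb x (Finset.mem_filter.mpr ⟨Finset.mem_univ _, hx, hx0⟩)
    rw [hq, h1]
  have hx₀0 : x₀ ≠ 0 := (Finset.mem_filter.mp hx₀).2.2
  have h01 : ∀ a : ZMod 2, a = 0 ∨ a = 1 := by decide
  rcases h01 (q₁ x₀) with h1 | h1
  · rcases d.aniso with hA | ⟨h2, huniq⟩
    · rcases hA x₀ hx₀0 with h | h
      · rw [h1] at h; exact zero_ne_one h
      · exact not_const d.quad₂ f.range hW8 (hconst d.inv₂ h)
    · have hgx : g • x₀ = x₀ :=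
        huniq _ _ (fun h => hx₀0 ((smul_eq_zero_iff_eq g).mp h)) hx₀0 (by rw [d.inv₁, h1]) h1
      exact Finset.notMem_empty x₀ (hfree ▸ Finset.mem_filter.mpr ⟨hx₀, hgx⟩)
  · exact not_const d.quad₁ f.range hW8 (hconst d.inv₁ h1)

theorem Data.prime_le (d : Data G q₁ q₂) {p : ℕ} [Fact p.Prime] {g : G} (hg : orderOf g = p) :
    p ∣ 30 := by
  classical
  cases nonempty_fintype V
  have hp : p.Prime := Fact.out
  have gp : g ^ p = 1 := orderOf_dvd_iff_pow_eq_one.mp (dvd_of_eq hg)
  have g1 : g ≠ 1 := by intro h; rw [h, orderOf_one] at hg; exact hp.one_lt.ne hg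
  have hmod := modEq_fixed g gp (Finset.univ : Finset V) (fun x _ => Finset.mem_univ _)
  have hn' : (Finset.univ.filter fun x : V => g • x = x).card = Nat.card (fixedBy g : AddSubgroup V) := by
    exact card_fixedBy _
  rw [Finset.card_univ, ← Nat.card_eq_fintype_card (α := V), hn'] at hmod
  obtain ⟨a, ha⟩ := exists_card_eq (V := fixedBy (V := V) g) fun x => Subtype.ext (d.two x)
  have hne : Nat.card (fixedBy g : AddSubgroup V) ≠ Nat.card V := by
    intro he
    apply g1
    have := AddSubgroup.eq_top_of_card_eq _ he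
    exact FaithfulSMul.eq_of_smul_eq_smul fun x : V => by
      rw [one_smul]; exact (this ▸ AddSubgroup.mem_top x : x ∈ fixedBy g)
  obtain ⟨k, hk4, hk⟩ := (Nat.dvd_prime_pow Nat.prime_two).mp
    (show Nat.card V ∣ 2 ^ 4 from d.card_dvd)
  have hle : Nat.card (fixedBy g : AddSubgroup V) ≤ Nat.card V :=
    Nat.le_of_dvd Nat.card_pos (AddSubgroup.card_addSubgroup_dvd_card _)
  rw [hk, ha] at hmod hle hne
  have hd : p ∣ 2 ^ k - 2 ^ a := (Nat.modEq_iff_dvd' hle).mp hmod.symm
  have hak : a < k := lt_of_le_of_ne ((Nat.pow_le_pow_iff_right (by norm_num)).mp hle)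
    (fun h => hne (by rw [h]))
  have hp7 : p ≠ 7 := by rintro rfl; exact d.no_seven hg
  have hfac : 2 ^ k - 2 ^ a = 2 ^ a * (2 ^ (k - a) - 1) := by
    rw [Nat.mul_sub, ← pow_add, mul_one, Nat.add_sub_cancel' hak.le]
  rw [hfac] at hd
  rcases hp.dvd_mul.mp hd with h | h
  · exact (hp.dvd_of_dvd_pow h).trans (by norm_num)
  · obtain ⟨e, he4, he⟩ : ∃ e, (1 ≤ e ∧ e ≤ 4) ∧ k - a = e := ⟨_, ⟨by omega, by omega⟩, rfl⟩
    rw [he] at h
    obtain ⟨h1, h4⟩ := he4
    interval_cases e
    · exact absurd h (by norm_num; exact hp.one_lt.ne')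
    · exact (show p ∣ 3 by simpa using h).trans (by norm_num)
    · exact absurd ((Nat.prime_dvd_prime_iff_eq hp (by norm_num)).mp (show p ∣ 7 by simpa using h)) hp7
    · exact (show p ∣ 15 by simpa using h).trans (by norm_num)

theorem Data.no_three_five (d : Data G q₁ q₂) {h k : G} (hh : orderOf h = 5) (hk : orderOf k = 3) :
    False := by
  classical
  cases nonempty_fintype V
  haveI : Fact (Nat.Prime 5) := ⟨by norm_num⟩
  haveI : Fact (Nat.Prime 3) := ⟨by norm_num⟩
  have h5 : h ^ 5 = 1 := orderOf_dvd_iff_pow_eq_one.mp (dvd_of_eq hh)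
  have k3 : k ^ 3 = 1 := orderOf_dvd_iff_pow_eq_one.mp (dvd_of_eq hk)
  have h1 : h ≠ 1 := by intro e; rw [e, orderOf_one] at hh; omega
  have k1 : k ≠ 1 := by intro e; rw [e, orderOf_one] at hk; omega
  obtain ⟨m, hm4, hm⟩ := (Nat.dvd_prime_pow Nat.prime_two).mp
    (show Nat.card V ∣ 2 ^ 4 from d.card_dvd)
  set n := Nat.card (fixedBy h : AddSubgroup V) with hn
  have hn' : (Finset.univ.filter fun x : V => h • x = x).card = n := by
    exact card_fixedBy _
  have hmod := modEq_fixed h h5 (Finset.univ : Finset V) (fun x _ => Finset.mem_univ _)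
  rw [Finset.card_univ, ← Nat.card_eq_fintype_card (α := V), hn', hm] at hmod
  obtain ⟨a, ha⟩ := exists_card_eq (V := fixedBy (V := V) h) fun x => Subtype.ext (d.two x)
  rw [← hn] at ha
  have hne : n ≠ Nat.card V := by
    intro he
    apply h1
    have := AddSubgroup.eq_top_of_card_eq _ he
    exact FaithfulSMul.eq_of_smul_eq_smul fun x : V => by
      rw [one_smul]; exact (this ▸ AddSubgroup.mem_top x : x ∈ fixedBy h)
  have hle : n ≤ Nat.card V := Nat.le_of_dvd Nat.card_pos (AddSubgroup.card_addSubgroup_dvd_card _)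
  rw [hm, ha] at hne hle
  rw [ha] at hmod hn'
  have ha4 : a ≤ m := (Nat.pow_le_pow_iff_right (by norm_num)).mp hle
  have hma : m = 4 ∧ a = 0 := by
    revert hmod hne
    interval_cases m <;> interval_cases a <;> norm_num
  obtain ⟨rfl, rfl⟩ := hma
  have hV : Nat.card V = 16 := by rw [hm]; norm_num
  have hfix : ∀ x : V, h • x = x → x = 0 := by
    intro x hx
    rw [pow_zero] at hn'
    exact Finset.card_le_one.mp hn'.le x (by simp [hx]) 0 (by simp)
  have hA : ∀ x : V, x ≠ 0 → q₁ x = 1 ∨ q₂ x = 1 := by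
    rcases d.aniso with hA | ⟨h2, huniq⟩
    · exact hA
    intro x hx
    by_contra hc
    have h01 : ∀ a : ZMod 2, a ≠ 1 → a = 0 := by decide
    have hq : q₁ x = 0 := h01 _ (fun e => hc (Or.inl e))
    exact hx (hfix x (huniq _ _ (fun e => hx ((smul_eq_zero_iff_eq h).mp e)) hx (by rw [d.inv₁, hq]) hq))
  have h8 : 8 ∣ Fintype.card V := by rw [← Nat.card_eq_fintype_card, hV]; norm_num
  let Z : (V → ZMod 2) → Finset V := fun q => Finset.univ.filter fun x => x ≠ 0 ∧ q x = 0
  have hZ : ∀ {q : V → ZMod 2}, IsQuad q → (∀ (g : G) x, q (g • x) = q x) →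
      (Z q).card % 2 = 1 ∧ (Z q).card % 5 = 0 ∧
        (Z q).card % 3 = ((Z q).filter fun x => k • x = x).card % 3 := by
    intro q hq hqi
    have hinv : ∀ (g : G) x, x ∈ Z q → g • x ∈ Z q := by
      intro g x hx
      simp only [Z, Finset.mem_filter, Finset.mem_univ, true_and] at hx ⊢
      exact ⟨fun e => hx.1 ((smul_eq_zero_iff_eq g).mp e), by rw [hqi, hx.2]⟩
    refine ⟨?_, ?_, modEq_fixed k k3 (Z q) (hinv k)⟩
    · have he := hq.even_ones h8
      have hsplit := Finset.card_filter_add_card_filter_not (s := (Finset.univ : Finset V))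
        (fun x => q x = 1)
      have hnot : (Finset.univ.filter fun x : V => ¬ q x = 1) = insert 0 (Z q) := by
        have h01 : ∀ a : ZMod 2, ¬ a = 1 ↔ a = 0 := by decide
        ext x
        simp only [Z, Finset.mem_filter, Finset.mem_univ, true_and, Finset.mem_insert, h01]
        by_cases hx : x = 0
        · subst hx; simp [hq.zero]
        · simp [hx]
      rw [hnot, Finset.card_insert_of_notMem (by simp [Z]), Finset.card_univ,
        ← Nat.card_eq_fintype_card, hV] at hsplit
      omega
    · rw [modEq_fixed h h5 (Z q) (hinv h)]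
      have he : (Z q).filter (fun x => h • x = x) = ∅ := by
        rw [Finset.filter_eq_empty_iff]
        intro x hx hxx
        exact (Finset.mem_filter.mp hx).2.1 (hfix x hxx)
      rw [he]; rfl
  obtain ⟨a1, b1, c1⟩ := hZ d.quad₁ d.inv₁
  obtain ⟨a2, b2, c2⟩ := hZ d.quad₂ d.inv₂
  obtain ⟨a3, b3, c3⟩ := hZ (d.quad₁.add d.quad₂) (fun g x => by rw [d.inv₁, d.inv₂])
  have hid : ∀ x : V, x ≠ 0 → (if q₁ x = 0 then 1 else 0) + (if q₂ x = 0 then 1 else 0) +
      (if q₁ x + q₂ x = 0 then 1 else 0) = (1 : ℕ) := by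
    intro x hx
    have h4 : ∀ a b : ZMod 2, (a = 1 ∨ b = 1) → (if a = 0 then 1 else 0) + (if b = 0 then 1 else 0) +
      (if a + b = 0 then 1 else 0) = (1 : ℕ) := by decide
    exact h4 _ _ (hA x hx)
  have hcount : ∀ (P : V → Prop) [DecidablePred P],
      (((Z q₁).filter P).card + ((Z q₂).filter P).card +
        ((Z fun x => q₁ x + q₂ x).filter P).card) =
      (Finset.univ.filter fun x => x ≠ 0 ∧ P x).card := by
    intro P _
    simp only [Z, Finset.filter_filter, Finset.card_filter, ← Finset.sum_add_distrib]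
    refine Finset.sum_congr rfl fun x _ => ?_
    by_cases hx : x = 0
    · simp [hx]
    · by_cases hP : P x
      · simpa [hx, hP] using hid x hx
      · simp [hx, hP]
  have htot := hcount (fun _ => True)
  simp only [Finset.filter_true_of_mem (fun _ _ => trivial), and_true] at htot
  have h15 : (Finset.univ.filter fun x : V => x ≠ 0).card = 15 := by
    rw [Finset.filter_ne', Finset.card_erase_of_mem (Finset.mem_univ _), Finset.card_univ,
      ← Nat.card_eq_fintype_card, hV]
  rw [h15] at htot
  have hf := hcount (fun x => k • x = x)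
  have hF : Nat.card (fixedBy k : AddSubgroup V) ≥ 7 := by
    have e := card_fixedBy (V := V) k
    rw [← e]
    have hi : insert 0 (Finset.univ.filter fun x : V => x ≠ 0 ∧ k • x = x) ⊆
        Finset.univ.filter fun x : V => k • x = x := by
      intro x hx
      rcases Finset.mem_insert.mp hx with rfl | hx
      · simp
      · simpa using (Finset.mem_filter.mp hx).2.2
    have := Finset.card_le_card hi
    rw [Finset.card_insert_of_notMem (by simp), ← hf] at this
    have z1 : (Z q₁).card = 5 := by omega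
    have z2 : (Z q₂).card = 5 := by omega
    have z3 : (Z fun x => q₁ x + q₂ x).card = 5 := by omega
    rw [z1] at c1
    rw [z2] at c2
    rw [z3] at c3
    omega
  let f : V →+ V :=
    { toFun := fun x => k • x + x
      map_zero' := by rw [smul_zero, add_zero]
      map_add' := fun a b => by rw [smul_add]; abel }
  have hker : f.ker = fixedBy k := by
    ext x
    show k • x + x = 0 ↔ k • x = x
    constructor
    · intro h'; rw [← add_zero (k • x), ← d.two x, ← add_assoc, h', zero_add]
    · intro h'; rw [h', d.two]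
  have hprod : Nat.card f.range * Nat.card (fixedBy k : AddSubgroup V) = 16 := by
    rw [← hker, ← AddSubgroup.index_ker, AddSubgroup.index_mul_card, hV]
  have hR : Nat.card f.range ≤ 2 := by
    by_contra h3
    have := Nat.mul_le_mul (show 3 ≤ Nat.card f.range by omega) hF
    omega
  apply k1
  refine FaithfulSMul.eq_of_smul_eq_smul fun x : V => ?_
  rw [one_smul]
  have hc : k • f x = f x := by
    by_cases h0 : f x = 0
    · rw [h0, smul_zero]
    have hm' : k • f x ∈ f.range := ⟨k • x, by
      show k • k • x + k • x = k • (k • x + x)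
      rw [smul_add]⟩
    by_contra hne
    have h3 : ({0, f x, k • f x} : Finset V).card = 3 := by
      rw [Finset.card_insert_of_notMem, Finset.card_pair (Ne.symm hne)]
      simp only [Finset.mem_insert, Finset.mem_singleton, not_or]
      exact ⟨Ne.symm h0, fun e => h0 ((smul_eq_zero_iff_eq k).mp e.symm)⟩
    have hs : ({0, f x, k • f x} : Finset V) ⊆ Finset.univ.filter fun y => y ∈ f.range := by
      intro y hy
      simp only [Finset.mem_insert, Finset.mem_singleton] at hy
      simp only [Finset.mem_filter, Finset.mem_univ, true_and]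
      rcases hy with rfl | rfl | rfl
      · exact zero_mem _
      · exact ⟨x, rfl⟩
      · exact hm'
    have := Finset.card_le_card hs
    rw [h3, ← Fintype.card_subtype, ← Nat.card_eq_fintype_card] at this
    exact absurd (this.trans hR) (by norm_num)
  have h2 : k • k • x = x := by
    have hkx : k • x = f x + x := by
      show k • x = k • x + x + x
      rw [add_assoc, d.two, add_zero]
    rw [hkx, smul_add, hc, hkx, ← add_assoc, d.two, zero_add]
  calc k • x = k • (k • k • x) := by rw [h2]
    _ = x := by rw [← mul_smul, ← mul_smul, show k * k * k = k ^ 3 from (pow_three' k).symm, k3, one_smul]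

/-- A group preserving such data acts solvably. -/
theorem Data.solvable [Finite G] (d : Data G q₁ q₂) : Group.IsSolvable G := by
  have hpr : ∀ p ∈ (Nat.card G).primeFactors, p = 2 ∨ p = 3 ∨ p = 5 := by
    intro p hp
    obtain ⟨hpp, hpd, -⟩ := Nat.mem_primeFactors.mp hp
    haveI := Fact.mk hpp
    obtain ⟨g, hg⟩ := exists_prime_orderOf_dvd_card' p hpd
    have h30 := d.prime_le hg
    have := Nat.le_of_dvd (by norm_num) h30
    interval_cases p <;> first | omega | (norm_num at hpp) | norm_num
  obtain ⟨q, hq, hsub⟩ : ∃ q, (q = 3 ∨ q = 5) ∧ (Nat.card G).primeFactors ⊆ {2, q} := by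
    by_cases h5 : 5 ∈ (Nat.card G).primeFactors
    · refine ⟨5, Or.inr rfl, fun p hp => ?_⟩
      rcases hpr p hp with rfl | rfl | rfl
      · simp
      · exfalso
        obtain ⟨hp5, hd5, -⟩ := Nat.mem_primeFactors.mp h5
        obtain ⟨hp3, hd3, -⟩ := Nat.mem_primeFactors.mp hp
        haveI := Fact.mk hp5
        haveI := Fact.mk hp3
        obtain ⟨h, hh⟩ := exists_prime_orderOf_dvd_card' 5 hd5
        obtain ⟨k, hk⟩ := exists_prime_orderOf_dvd_card' 3 hd3
        exact d.no_three_five hh hk
      · simp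
    · refine ⟨3, Or.inl rfl, fun p hp => ?_⟩
      rcases hpr p hp with rfl | rfl | rfl
      · simp
      · simp
      · exact absurd hp h5
  have hqp : q.Prime := by rcases hq with rfl | rfl <;> norm_num
  have hq2 : (2 : ℕ) ≠ q := by omega
  refine CT.isSolvable_of_card_two_primes Nat.prime_two hqp (Nat.card G) G
    ((Nat.card G).factorization 2) ((Nat.card G).factorization q) rfl ?_
  have hs : (Nat.card G).factorization.support ⊆ {2, q} := by
    rw [Nat.support_factorization]; exact hsub
  conv_lhs => rw [← Nat.prod_factorization_pow_eq_self (Nat.card_pos (α := G)).ne']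
  rw [Finsupp.prod_of_support_subset _ hs _ (fun i _ => pow_zero i), Finset.prod_pair hq2]

end Cfsg.Agent.InvChar.AnisoPair
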