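import Cfsg.Agent.Lib.InvChar.ParityPush
import Cfsg.Agent.Lib.ClassK.Extraspecial
import Cfsg.Agent.Lib.Monster.ExtraBound
import Cfsg.Agent.Lib.Basics.Frattini
import Cfsg.Agent.Lib.Basics.Cores
import Cfsg.Agent.Lib.Invol.Basic
import Cfsg.Agent.Lib.Invol.IndexTwo

/-!
# Transfer to the centralizer of an involution with a large extraspecial subgroup
-/

set_option autoImplicit false
set_option linter.style.haveILetI false
set_option linter.unusedSectionVars false

namespace Cfsg.Agent.InvChar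

open Cfsg Cfsg.Agent

universe u

variable {G : Type u} [Group G] [Finite G]

/-- `E` is extraspecial, normal in the centralizer of `z` and contains its own centralizer. -/
structure ExtraPair (z : G) (E : Subgroup G) : Prop where
  hz : orderOf z = 2
  hzE : z ∈ E
  hEC : E ≤ Subgroup.centralizer ({z} : Set G)
  hnorm : ∀ h ∈ Subgroup.centralizer ({z} : Set G), ∀ e ∈ E, h * e * h⁻¹ ∈ E
  hext : IsExtraspecial 2 ↥E
  hCE : Subgroup.centralizer (E : Set G) ≤ E

theorem extraPair_of_core {z : G} (hz : orderOf z = 2) {E : Subgroup G}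
    (hE : E = (pCore 2 ↥(Subgroup.centralizer ({z} : Set G))).map (Subgroup.centralizer ({z} : Set G)).subtype)
    (hext : IsExtraspecial 2 ↥E) (hcent : Subgroup.centralizer (E : Set G) ≤ E) : ExtraPair z E := by
  haveI : Fact (Nat.Prime 2) := ⟨Nat.prime_two⟩
  have hle : E ≤ Subgroup.centralizer ({z} : Set G) := hE ▸ Subgroup.map_subtype_le _
  refine ⟨hz, hcent ?_, hle, ?_, hext, hcent⟩
  · show z ∈ Subgroup.centralizer (E : Set G)
    rw [Subgroup.mem_centralizer_iff]
    intro e he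
    exact Subgroup.mem_centralizer_singleton_iff.mp (hle he)
  · intro h hh e he
    rw [hE] at he ⊢
    obtain ⟨c, hc, rfl⟩ := he
    exact ⟨⟨h, hh⟩ * c * ⟨h, hh⟩⁻¹, (inferInstance : (pCore 2 _).Normal).conj_mem c hc _, rfl⟩

variable {z : G} {E : Subgroup G}

theorem ExtraPair.cen_two (X : ExtraPair z E) {c : G} (hc : c ∈ E) (hcc : ∀ f ∈ E, c * f = f * c) :
    c = 1 ∨ c = z := by
  classical
  have hzc : (⟨z, X.hzE⟩ : E) ∈ Subgroup.center ↥E := Subgroup.mem_center_iff.mpr fun f =>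
    Subtype.ext (Subgroup.mem_centralizer_singleton_iff.mp (X.hEC f.2))
  have hcc' : (⟨c, hc⟩ : E) ∈ Subgroup.center ↥E := Subgroup.mem_center_iff.mpr fun f =>
    Subtype.ext (hcc f f.2).symm
  by_contra hcon
  push Not at hcon
  haveI := Fintype.ofFinite (Subgroup.center ↥E)
  have hz1 := Invol.ne_one_of_orderOf_two X.hz
  have h3 : ({1, ⟨_, hzc⟩, ⟨_, hcc'⟩} : Finset (Subgroup.center ↥E)).card = 3 := by
    rw [Finset.card_insert_of_notMem, Finset.card_insert_of_notMem, Finset.card_singleton] <;>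
      simp [Subtype.ext_iff, Ne.symm hz1, Ne.symm hcon.1, Ne.symm hcon.2]
  have := Finset.card_le_univ ({1, ⟨_, hzc⟩, ⟨_, hcc'⟩} : Finset (Subgroup.center ↥E))
  rw [h3, ← Nat.card_eq_fintype_card, X.hext.2] at this
  omega

theorem ExtraPair.of_center (X : ExtraPair z E) {c : E} (hc : c ∈ Subgroup.center ↥E) :
    (c : G) = 1 ∨ (c : G) = z :=
  X.cen_two c.2 fun f hf => (congrArg Subtype.val (Subgroup.mem_center_iff.mp hc ⟨f, hf⟩)).symm

theorem ExtraPair.sq (X : ExtraPair z E) {e : G} (he : e ∈ E) : e * e = 1 ∨ e * e = z := by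
  haveI : Fact (Nat.Prime 2) := ⟨Nat.prime_two⟩
  have h : (⟨e, he⟩ : E) * ⟨e, he⟩ ∈ Subgroup.center ↥E := by
    rw [← X.hext.1.2.1, ← pow_two]
    exact Basics.pow_mem_frattini X.hext.1.1 _
  exact X.of_center h

theorem ExtraPair.comm (X : ExtraPair z E) {e f : G} (he : e ∈ E) (hf : f ∈ E) :
    e * f = f * e ∨ e * f = f * e * z := by
  rcases X.of_center (ClassK.commutator_mem_center_of_special X.hext.1 ⟨e, he⟩ ⟨f, hf⟩) with h | h <;>
    simp only [Subgroup.coe_mul, Subgroup.coe_inv] at h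
  · left
    calc e * f = e * f * e⁻¹ * f⁻¹ * (f * e) := by group
      _ = f * e := by rw [h, one_mul]
  · right
    calc e * f = e * f * e⁻¹ * f⁻¹ * (f * e) := by group
      _ = f * e * z := by
        rw [h]
        exact (Subgroup.mem_centralizer_singleton_iff.mp (X.hEC (mul_mem hf he))).symm

theorem ExtraPair.exists_noncommuting (X : ExtraPair z E) {W : Subgroup G} (hW : W ≤ E)
    (h : ¬ ∀ a ∈ W, ∀ b ∈ W, a * b = b * a) : ∃ a ∈ W, ∃ b ∈ W, a * b = b * a * z := by
  push Not at h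
  obtain ⟨a, ha, b, hb, hne⟩ := h
  exact ⟨a, ha, b, hb, (X.comm (hW ha) (hW hb)).resolve_left hne⟩

theorem ExtraPair.card_sq_le (X : ExtraPair z E) {W : Subgroup G} (hW : W ≤ E)
    (h : ∀ a ∈ W, ∀ b ∈ W, a * b = b * a) : Nat.card W * Nat.card W ≤ 2 * Nat.card E := by
  have h1 := Monster.card_mul_centralizer_le X.hext (W.subgroupOf E)
  have hle : W.subgroupOf E ≤ Subgroup.centralizer (W.subgroupOf E : Set ↥E) := fun a ha b hb =>
    Subtype.ext (h (b : G) hb (a : G) ha)
  have hc : Nat.card (W.subgroupOf E) = Nat.card W := Nat.card_congr (Subgroup.subgroupOfEquivOfLe hW).toEquiv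
  calc Nat.card W * Nat.card W ≤ Nat.card (W.subgroupOf E) *
        Nat.card (Subgroup.centralizer (W.subgroupOf E : Set ↥E)) := by
        rw [← hc]; exact Nat.mul_le_mul_left _ (Subgroup.card_le_of_le hle)
    _ ≤ _ := h1

/-- An involution centralizing a hyperplane of `E` lies in `E`. -/
theorem ExtraPair.mem_of_index_two (X : ExtraPair z E) {t : G} (ht : t * t = 1) (hzt : Commute z t)
    (h : (E ⊓ Subgroup.centralizer ({t} : Set G)).relIndex E = 2) : t ∈ E := by
  have htH : t ∈ Subgroup.centralizer ({z} : Set G) := Subgroup.mem_centralizer_singleton_iff.mpr hzt.symm.eq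
  have hti : t⁻¹ = t := inv_eq_of_mul_eq_one_right ht
  let α : ↥E ≃* ↥E :=
    { toFun := fun e => ⟨t * e * t⁻¹, X.hnorm t htH _ e.2⟩
      invFun := fun e => ⟨t * e * t⁻¹, X.hnorm t htH _ e.2⟩
      left_inv := fun e => Subtype.ext (show t * (t * e * t⁻¹) * t⁻¹ = e by
        rw [hti]
        calc t * (t * e * t) * t = (t * t) * e * (t * t) := by group
          _ = e := by rw [ht, one_mul, mul_one])
      right_inv := fun e => Subtype.ext (show t * (t * e * t⁻¹) * t⁻¹ = e by
        rw [hti]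
        calc t * (t * e * t) * t = (t * t) * e * (t * t) := by group
          _ = e := by rw [ht, one_mul, mul_one])
      map_mul' := fun a b => Subtype.ext (show t * (a * b : G) * t⁻¹ = t * a * t⁻¹ * (t * b * t⁻¹) by group) }
  obtain ⟨c, hc⟩ := ClassK.exists_inner_of_index_two X.hext α (fun e => α.left_inv e)
    (R := (E ⊓ Subgroup.centralizer ({t} : Set G)).subgroupOf E) h
    (fun r hr => Subtype.ext (show t * (r : G) * t⁻¹ = r by
      rw [show t * (r : G) = r * t from (Subgroup.mem_centralizer_singleton_iff.mp hr.2).symm,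
        mul_inv_cancel_right]))
    (fun q hq => ⟨q.2, Subgroup.mem_centralizer_singleton_iff.mpr
      (mul_inv_eq_iff_eq_mul.mp (congrArg Subtype.val hq)).symm⟩)
  have h1 : (c : G)⁻¹ * t ∈ Subgroup.centralizer (E : Set G) := fun e he => by
    have h2 : t * e * t⁻¹ = (c : G) * e * (c : G)⁻¹ := congrArg Subtype.val (hc ⟨e, he⟩)
    calc e * ((c : G)⁻¹ * t) = (c : G)⁻¹ * ((c : G) * e * (c : G)⁻¹) * t := by group
      _ = (c : G)⁻¹ * (t * e * t⁻¹) * t := by rw [h2]
      _ = (c : G)⁻¹ * t * e := by group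
  have := mul_mem c.2 (X.hCE h1)
  rwa [mul_inv_cancel_left] at this

theorem ExtraPair.isPGroup (X : ExtraPair z E) : IsPGroup 2 E := X.hext.1.1

/-- The relative index is a power of two, bigger than one away from the base. -/
theorem ExtraPair.two_dvd_relIndex (X : ExtraPair z E) {g : G} (hg : g ∉ Subgroup.centralizer ({z} : Set G))
    (hzc : Commute z (g * z * g⁻¹)) :
    ∃ k : ℕ, 1 ≤ k ∧ (E ⊓ Subgroup.centralizer ({g * z * g⁻¹} : Set G)).relIndex E = 2 ^ k := by
  haveI : Fact (Nat.Prime 2) := ⟨Nat.prime_two⟩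
  obtain ⟨k, hk⟩ := X.isPGroup.index ((E ⊓ Subgroup.centralizer ({g * z * g⁻¹} : Set G)).subgroupOf E)
  refine ⟨k, Nat.pos_of_ne_zero fun hk0 => hg ?_, hk⟩
  rw [hk0, pow_zero] at hk
  have hle : E ≤ Subgroup.centralizer ({g * z * g⁻¹} : Set G) :=
    (Subgroup.relIndex_eq_one.mp hk).trans inf_le_right
  have hmem : g * z * g⁻¹ ∈ E := X.hCE fun e he => Subgroup.mem_centralizer_singleton_iff.mp (hle he)
  rcases X.cen_two hmem (fun f hf => (Subgroup.mem_centralizer_singleton_iff.mp (hle hf)).symm) with h | h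
  · exact absurd (conj_eq_one_iff.mp h) (Invol.ne_one_of_orderOf_two X.hz)
  · exact Subgroup.mem_centralizer_singleton_iff.mpr (mul_inv_eq_iff_eq_mul.mp h)

theorem ExtraPair.two_pow_dvd {a b : ℕ} (h : 2 ^ a ≤ 2 ^ b) : 2 ^ a ∣ 2 ^ b :=
  pow_dvd_pow 2 ((Nat.pow_le_pow_iff_right (by norm_num)).mp h)

private theorem z2_sq : ∀ u : Multiplicative (ZMod 2), u ^ 2 = 1 := by decide

private theorem z2_shift : ∀ u v w : ZMod 2, v + u = w + v → w = u := by decide

private theorem z2_conj : ∀ i q t o : ZMod 2, o = i + t → o = o + o → i + q + t = q := by decide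

private theorem z2_comm : ∀ u v w : ZMod 2, u + v = v + u + w → w = 0 := by decide

/-- The evaluation of the transfer to `H / K`. -/
theorem kappa_zero (hres : pResidual 2 G = ⊤) (X : ExtraPair z E) (κ : G → ZMod 2)
    (hadd : ∀ a ∈ Subgroup.centralizer ({z} : Set G), ∀ b ∈ Subgroup.centralizer ({z} : Set G),
      κ (a * b) = κ a + κ b)
    (P : Subgroup G) (hPH : P ≤ Subgroup.centralizer ({z} : Set G)) (hP2 : IsPGroup 2 P) (hEP : E ≤ P)
    (hcond : ∀ g : G, g ∉ Subgroup.centralizer ({z} : Set G) → Commute z (g * z * g⁻¹) →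
      (κ (g⁻¹ * z * g) = 0 ∧ (4 ∣ (E ⊓ Subgroup.centralizer ({g * z * g⁻¹} : Set G)).relIndex E ∨
          ∀ w ∈ E ⊓ Subgroup.centralizer ({g * z * g⁻¹} : Set G), κ (g⁻¹ * w * g) = 0)) ∨
        8 ∣ (E ⊓ Subgroup.centralizer ({g * z * g⁻¹} : Set G)).relIndex E ∨
        (P ≤ E ∧ (4 ∣ (E ⊓ Subgroup.centralizer ({g * z * g⁻¹} : Set G)).relIndex E ∨
          κ (g⁻¹ * z * g) = 0))) :
    ∀ p ∈ P, κ p = 0 := by
  classical
  haveI : Fact (Nat.Prime 2) := ⟨Nat.prime_two⟩
  set H := Subgroup.centralizer ({z} : Set G) with hH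
  set T : G ⧸ H → G := fun c => Quotient.out c with hT
  have hTc : ∀ c, (QuotientGroup.mk (T c) : G ⧸ H) = c := fun c => Quotient.out_eq c
  have hmemH : ∀ (a : G) c, (T (a • c))⁻¹ * a * T c ∈ H := by
    intro a c
    rw [mul_assoc, ← QuotientGroup.eq, hTc]
    show a • c = QuotientGroup.mk (a * T c)
    conv_lhs => rw [← hTc c]
    rfl
  let D : TCocycle G (G ⧸ H) := ⟨fun a c => κ ((T (a • c))⁻¹ * a * T c), fun a b c => by
    rw [← hadd _ (hmemH a (b • c)) _ (hmemH b c)]
    congr 1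
    rw [mul_smul]
    group⟩
  haveI : Fintype (G ⧸ H) := Fintype.ofFinite _
  -- the transfer is trivial
  have htot : ∀ a : G, ∑ c, D.fn a c = 0 := by
    have hmul : ∀ a b : G, ∑ c, D.fn (a * b) c = (∑ c, D.fn a c) + ∑ c, D.fn b c := by
      intro a b
      simp only [D.map_mul, Finset.sum_add_distrib]
      congr 1
      exact Equiv.sum_comp (MulAction.toPerm b) (fun c => D.fn a c)
    let V : G →* Multiplicative (ZMod 2) :=
      MonoidHom.mk' (fun a => Multiplicative.ofAdd (∑ c, D.fn a c)) (fun a b => by rw [hmul]; rfl)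
    have hV : V.ker = ⊤ := by
      rw [eq_top_iff, ← hres]
      refine (Subgroup.closure_le _).mpr fun a ha => ?_
      have h2 : orderOf (V a) ∣ 2 := by
        rw [orderOf_dvd_iff_pow_eq_one]
        exact z2_sq _
      exact orderOf_eq_one_iff.mp (Nat.eq_one_of_dvd_coprimes ha (orderOf_map_dvd V a) h2)
    intro a
    exact Multiplicative.ofAdd.injective ((MonoidHom.mem_ker.mp (hV ▸ Subgroup.mem_top a)).trans rfl)
  -- the points away from the base
  set base : G ⧸ H := QuotientGroup.mk 1 with hbase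
  have hfixbase : ∀ p : P, p • base = base := fun p => QuotientGroup.eq.mpr (by
    show ((p : G) * 1)⁻¹ * 1 ∈ H
    simpa using hPH p.2)
  let Y : SubMulAction P (G ⧸ H) :=
    { carrier := {c | c ≠ base}
      smul_mem' := fun p c hc hpc => hc (MulAction.injective p (hpc.trans (hfixbase p).symm)) }
  haveI : Fintype Y := Fintype.ofFinite _
  let dP : TCocycle P Y := ⟨fun p c => D.fn (p : G) c.1, fun p q c => D.map_mul _ _ _⟩
  -- the orbits of `E`
  set E' := E.subgroupOf P with hE'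
  have hE'n : E'.Normal := ⟨fun e he p => X.hnorm _ (hPH p.2) _ he⟩
  let s : Setoid Y := MulAction.orbitRel E' Y
  let Ω := Quotient s
  letI actΩ : MulAction P Ω :=
    { smul := fun p => Quotient.map (fun c => p • c) (by
        rintro c c' ⟨⟨e, he⟩, rfl⟩
        refine ⟨⟨p * e * p⁻¹, hE'n.conj_mem e he p⟩, ?_⟩
        show (p * e * p⁻¹) • p • c' = p • e • c'
        rw [mul_smul, mul_smul, inv_smul_smul])
      one_smul := by rintro ⟨c⟩; exact congrArg (Quotient.mk _) (one_smul _ c)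
      mul_smul := fun p q => by rintro ⟨c⟩; exact congrArg (Quotient.mk _) (mul_smul p q c) }
  let π : Y → Ω := Quotient.mk s
  have hπ : ∀ (p : P) c, π (p • c) = p • π c := fun p c => rfl
  haveI : Fintype Ω := Fintype.ofFinite _
  haveI : ∀ y, Fintype (fibreSub π hπ y) := fun y => Fintype.ofFinite _
  have hY : ∀ p : P, ∑ c, dP.fn p c = 0 := by
    refine sum_eq_zero_of_fibres dP π hπ fun y => ?_
    obtain ⟨x₀, rfl⟩ := Quotient.mk_surjective y
    set St := MulAction.stabilizer P (π x₀)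
    set Fib := fibreSub π hπ (π x₀)
    set d := dP.onFibre π hπ (π x₀)
    set E'' := E'.subgroupOf St
    intro st
    have hEst : ∀ e : P, e ∈ E' → e ∈ St := by
      intro e he
      show e • π x₀ = π x₀
      rw [← hπ]
      exact Quotient.sound ⟨⟨e, he⟩, rfl⟩
    have hzP : z ∈ P := hEP X.hzE
    set z'' : St := ⟨⟨z, hzP⟩, hEst _ X.hzE⟩
    have hStp : IsPGroup 2 St := hP2.to_subgroup _
    have S : TSetting E'' z'' Fib := by
      refine ⟨hE'n.comap _, X.hzE, fun q => ?_, ?_, fun e he => ?_, fun e he f hf => ?_, fun a b => ?_⟩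
      · exact Subtype.ext (Subtype.ext (Subgroup.mem_centralizer_singleton_iff.mp (hPH (q : P).2)))
      · exact Subtype.ext (Subtype.ext (Invol.mul_self_of_orderOf_two X.hz))
      · rcases X.sq (show ((e : P) : G) ∈ E from he) with h | h
        · exact Or.inl (Subtype.ext (Subtype.ext h))
        · exact Or.inr (Subtype.ext (Subtype.ext h))
      · rcases X.comm (show ((e : P) : G) ∈ E from he) (show ((f : P) : G) ∈ E from hf) with h | h
        · exact Or.inl (Subtype.ext (Subtype.ext h))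
        · exact Or.inr (Subtype.ext (Subtype.ext h))
      · obtain ⟨⟨e, he⟩, hee⟩ := Quotient.exact (b.2.trans a.2.symm)
        exact ⟨⟨e, hEst e he⟩, he, Subtype.ext hee⟩
    -- data at a point
    have hval : ∀ (x : Fib) (w : St), w • x = x →
        d.fn w x = κ ((T x.1.1)⁻¹ * ((w : P) : G) * T x.1.1) := by
      intro x w hw
      show κ ((T (((w : P) : G) • x.1.1))⁻¹ * ((w : P) : G) * T x.1.1) = _
      rw [show ((w : P) : G) • x.1.1 = x.1.1 from congrArg (fun v : Fib => v.1.1) hw]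
    have hfixiff : ∀ (x : Y) (a : G), a • x.1 = x.1 ↔ Commute a (T x.1 * z * (T x.1)⁻¹) := by
      intro x a
      have h1 : a • x.1 = x.1 ↔ (T x.1)⁻¹ * a * T x.1 ∈ H := by
        constructor
        · intro h; have := hmemH a x.1; rwa [h] at this
        · intro h
          rw [← hTc x.1]
          show (QuotientGroup.mk (a * T x.1) : G ⧸ H) = QuotientGroup.mk (T x.1)
          exact (QuotientGroup.eq.mpr (by rwa [← mul_assoc])).symm
      rw [h1]
      show (T x.1)⁻¹ * a * T x.1 ∈ Subgroup.centralizer ({z} : Set G) ↔ _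
      rw [Subgroup.mem_centralizer_singleton_iff]
      constructor
      · intro h
        show a * (T x.1 * z * (T x.1)⁻¹) = T x.1 * z * (T x.1)⁻¹ * a
        calc a * (T x.1 * z * (T x.1)⁻¹) = T x.1 * ((T x.1)⁻¹ * a * T x.1 * z) * (T x.1)⁻¹ := by group
          _ = T x.1 * (z * ((T x.1)⁻¹ * a * T x.1)) * (T x.1)⁻¹ := by rw [h]
          _ = T x.1 * z * (T x.1)⁻¹ * a := by group
      · intro h
        calc (T x.1)⁻¹ * a * T x.1 * z = (T x.1)⁻¹ * (a * (T x.1 * z * (T x.1)⁻¹)) * T x.1 := by group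
          _ = (T x.1)⁻¹ * (T x.1 * z * (T x.1)⁻¹ * a) * T x.1 := by rw [h.eq]
          _ = z * ((T x.1)⁻¹ * a * T x.1) := by group
    have hnotH : ∀ x : Y, T x.1 ∉ H := fun x h => x.2 (by
      rw [← hTc x.1, hbase]; exact QuotientGroup.eq.mpr (by simpa using h))
    -- the size of a fibre
    have hcard : ∀ x : Fib, Nat.card Fib =
        (E ⊓ Subgroup.centralizer ({T x.1.1 * z * (T x.1.1)⁻¹} : Set G)).relIndex E := by
      intro x
      have hstab : (E ⊓ Subgroup.centralizer ({T x.1.1 * z * (T x.1.1)⁻¹} : Set G)).subgroupOf E =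
          MulAction.stabilizer E x.1.1 := by
        ext e
        rw [MulAction.mem_stabilizer_iff, Subgroup.mem_subgroupOf, Subgroup.mem_inf,
          Subgroup.mem_centralizer_singleton_iff]
        exact ⟨fun h => (hfixiff x.1 (e : G)).mpr h.2, fun h => ⟨e.2, ((hfixiff x.1 (e : G)).mp h).eq⟩⟩
      rw [Subgroup.relIndex, hstab, MulAction.index_stabilizer, ← Nat.card_coe_set_eq]
      refine Nat.card_eq_of_bijective (fun v : Fib => (⟨v.1.1, by
        obtain ⟨e, he, hev⟩ := S.trans x v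
        exact ⟨⟨((e : P) : G), he⟩, congrArg (fun v : Fib => v.1.1) hev⟩⟩ :
        MulAction.orbit E x.1.1)) ⟨?_, ?_⟩
      · intro a b h
        have h' : ((a.1 : Y) : G ⧸ H) = b.1.1 := congrArg (fun v : MulAction.orbit E x.1.1 => v.1) h
        exact Subtype.ext (Subtype.ext h')
      · rintro ⟨c, e, rfl⟩
        exact ⟨(⟨⟨(e : G), hEP e.2⟩, hEst _ e.2⟩ : St) • x, rfl⟩
    have hfib : ∀ x : Fib, π x.1 = π x₀ := fun x => x.2
    by_cases hz0 : ∀ x : Fib, z'' • x = x
    swap
    · push Not at hz0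
      obtain ⟨x, hx⟩ := hz0
      exact sum_zero_of_z_moves d S hx st
    let x₁ : Fib := ⟨x₀, rfl⟩
    have hzc : Commute z (T x₀.1 * z * (T x₀.1)⁻¹) :=
      (hfixiff x₀ z).mp (congrArg (fun v : Fib => v.1.1) (hz0 x₁))
    obtain ⟨k, hk1, hk⟩ := X.two_dvd_relIndex (hnotH x₀) hzc
    have hc2 : 2 ∣ Nat.card Fib := by rw [hcard x₁, hk]; exact dvd_pow_self 2 (by omega)
    have hzconst : ∀ x : Fib, d.fn z'' x = d.fn z'' x₁ := by
      intro x
      obtain ⟨e, he, rfl⟩ := S.trans x₁ x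
      have h1 := d.map_mul z'' e x₁
      rw [← S.zcen e, d.map_mul, hz0] at h1
      exact z2_shift _ _ _ h1
    have hζ : d.fn z'' x₁ = κ ((T x₀.1)⁻¹ * z * T x₀.1) := hval x₁ z'' (hz0 x₁)
    rcases hcond _ (hnotH x₀) hzc with ⟨hz00, h4⟩ | h8 | ⟨hPE, h4⟩
    · refine sum_zero_of_value_zero d hStp S hz0 (fun x => by rw [hzconst, hζ, hz00]) hc2 ?_ st
      rcases h4 with h4 | h4
      · left; rw [hcard x₁]; exact h4
      · right
        intro w hw hwfix x
        obtain ⟨e, he, rfl⟩ := S.trans x₁ x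
        have hx1 : d.fn w x₁ = 0 := by
          rw [hval x₁ w (hwfix x₁)]
          exact h4 _ ⟨hw, Subgroup.mem_centralizer_singleton_iff.mpr
            ((hfixiff x₀ _).mp (congrArg (fun v : Fib => v.1.1) (hwfix x₁))).eq⟩
        rcases fn_const d S hw hz0 hwfix x₁ he with h | h <;> rw [h, hx1]
        rw [hζ, hz00, add_zero]
    · exact sum_zero_of_eight d hStp S hz0 (by rw [hcard x₁]; exact h8) st
    · refine sum_zero_of_mem d S hz0 hc2 ?_ (hPE (st : P).2)
      rcases h4 with h4 | h4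
      · left; rw [hcard x₁]; exact h4
      · right; intro x; rw [hzconst, hζ, h4]
  -- evaluation
  intro p hp
  have h1 := htot p
  rw [← Finset.sum_erase_add _ _ (Finset.mem_univ base)] at h1
  have h2 : ∑ c ∈ Finset.univ.erase base, D.fn p c = 0 := by
    rw [← hY ⟨p, hp⟩]
    exact Finset.sum_subtype _ (fun c => by simp only [Finset.mem_erase, Finset.mem_univ, and_true]; rfl) (fun c => D.fn p c)
  rw [h2, zero_add] at h1
  have h3 : D.fn p base = κ p := by
    show κ ((T ((p : G) • base))⁻¹ * p * T base) = κ p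
    rw [show (p : G) • base = base from hfixbase ⟨p, hp⟩]
    have ht : T base ∈ H := by
      have := QuotientGroup.eq.mp (hTc base)
      simpa using this
    rw [hadd _ (mul_mem (inv_mem ht) (hPH hp)) _ ht, hadd _ (inv_mem ht) _ (hPH hp)]
    have h4 := hadd _ (inv_mem ht) _ ht
    rw [inv_mul_cancel] at h4
    have h5 := hadd 1 (one_mem H) 1 (one_mem H)
    rw [mul_one] at h5
    exact z2_conj _ _ _ _ h4 h5
  rwa [h3] at h1

open scoped Classical in
/-- The indicator of a subgroup of index two. -/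
theorem kappa_add {H K : Subgroup G} (hKH : K ≤ H) (hK : K.relIndex H = 2) :
    ∀ a ∈ H, ∀ b ∈ H, (if a * b ∈ K then (0 : ZMod 2) else 1) =
      (if a ∈ K then 0 else 1) + (if b ∈ K then 0 else 1) := by
  intro a ha b hb
  have h := Subgroup.mul_mem_iff_of_index_two (H := K.subgroupOf H) hK (a := ⟨a, ha⟩) (b := ⟨b, hb⟩)
  simp only [Subgroup.mem_subgroupOf, Subgroup.coe_mul] at h
  by_cases h1 : a ∈ K <;> by_cases h2 : b ∈ K <;> simp [h, h1, h2] <;> rfl

/-- The value on a conjugate of `z` that is a commutator. -/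
theorem kappa_comm {H : Subgroup G} (κ : G → ZMod 2) (hadd : ∀ a ∈ H, ∀ b ∈ H, κ (a * b) = κ a + κ b)
    {a b c : G} (ha : a ∈ H) (hb : b ∈ H) (hc : c ∈ H) (h : a * b = b * a * c) : κ c = 0 := by
  have h1 := congrArg κ h
  rw [hadd _ ha _ hb, hadd _ (mul_mem hb ha) _ hc, hadd _ hb _ ha] at h1
  exact z2_comm _ _ _ h1

theorem ExtraPair.conj_mem (X : ExtraPair z E) {g w : G}
    (hw : w ∈ E ⊓ Subgroup.centralizer ({g * z * g⁻¹} : Set G)) :
    g⁻¹ * w * g ∈ Subgroup.centralizer ({z} : Set G) := by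
  rw [Subgroup.mem_centralizer_singleton_iff]
  calc g⁻¹ * w * g * z = g⁻¹ * (w * (g * z * g⁻¹)) * g := by group
    _ = g⁻¹ * (g * z * g⁻¹ * w) * g := by rw [Subgroup.mem_centralizer_singleton_iff.mp hw.2]
    _ = z * (g⁻¹ * w * g) := by group

theorem ExtraPair.z_conj_mem (X : ExtraPair z E) {g : G} (h : Commute z (g * z * g⁻¹)) :
    g⁻¹ * z * g ∈ Subgroup.centralizer ({z} : Set G) :=
  X.conj_mem ⟨X.hzE, Subgroup.mem_centralizer_singleton_iff.mpr h.eq⟩

theorem ExtraPair.abelian_index (X : ExtraPair z E) {g : G} (k n : ℕ) (hcard : Nat.card E = 2 ^ (2 * n + 1))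
    (hab : ∀ a ∈ E ⊓ Subgroup.centralizer ({g * z * g⁻¹} : Set G),
      ∀ b ∈ E ⊓ Subgroup.centralizer ({g * z * g⁻¹} : Set G), a * b = b * a)
    (hk : (E ⊓ Subgroup.centralizer ({g * z * g⁻¹} : Set G)).relIndex E = 2 ^ k) : n ≤ k := by
  set W := E ⊓ Subgroup.centralizer ({g * z * g⁻¹} : Set G) with hW
  have h1 := X.card_sq_le inf_le_left hab
  have h2 : Nat.card W * 2 ^ k = 2 ^ (2 * n + 1) := by
    rw [← hk, ← hcard, ← Subgroup.relIndex_bot_left W, ← Subgroup.relIndex_bot_left E]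
    exact Subgroup.relIndex_mul_relIndex _ _ _ bot_le inf_le_left
  by_contra hlt
  push Not at hlt
  have h3 : Nat.card W * 2 ^ k * (Nat.card W * 2 ^ k) ≤ 2 * Nat.card E * (2 ^ k * 2 ^ k) := by
    calc Nat.card W * 2 ^ k * (Nat.card W * 2 ^ k) = Nat.card W * Nat.card W * (2 ^ k * 2 ^ k) := by ring
      _ ≤ _ := Nat.mul_le_mul_right _ h1
  rw [h2, hcard, ← pow_add, ← pow_add, ← pow_succ', ← pow_add,
    Nat.pow_le_pow_iff_right (by norm_num)] at h3
  omega

theorem extra_le_of_index_two (hres : pResidual 2 G = ⊤) (X : ExtraPair z E) (n : ℕ) (hn : 2 ≤ n)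
    (hcard : Nat.card E = 2 ^ (2 * n + 1)) (K : Subgroup G) (hKH : K ≤ Subgroup.centralizer ({z} : Set G))
    (hKi : K.relIndex (Subgroup.centralizer ({z} : Set G)) = 2) : E ≤ K := by
  classical
  have hadd := kappa_add hKH hKi
  have hz := kappa_zero hres X (fun g => if g ∈ K then (0 : ZMod 2) else 1) hadd E X.hEC X.isPGroup le_rfl
    (fun g hg hzc => Or.inr (Or.inr ⟨le_rfl, ?_⟩))
  · intro e he
    have := hz e he
    by_contra h
    simp [h] at this
  · obtain ⟨k, hk1, hk⟩ := X.two_dvd_relIndex hg hzc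
    by_cases hab : ∀ a ∈ E ⊓ Subgroup.centralizer ({g * z * g⁻¹} : Set G),
        ∀ b ∈ E ⊓ Subgroup.centralizer ({g * z * g⁻¹} : Set G), a * b = b * a
    · left
      rw [hk]
      exact pow_dvd_pow 2 (show 2 ≤ k from hn.trans (X.abelian_index k n hcard hab hk))
    · right
      obtain ⟨a, ha, b, hb, hzab⟩ := X.exists_noncommuting inf_le_left hab
      refine kappa_comm (fun g => if g ∈ K then (0 : ZMod 2) else 1) hadd (X.conj_mem ha) (X.conj_mem hb) (X.z_conj_mem hzc) ?_
      calc g⁻¹ * a * g * (g⁻¹ * b * g) = g⁻¹ * (a * b) * g := by group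
        _ = g⁻¹ * (b * a * z) * g := by rw [hzab]
        _ = _ := by group

theorem extra_exists_fused (hres : pResidual 2 G = ⊤) (X : ExtraPair z E) (n : ℕ) (hn : 3 ≤ n)
    (hcard : Nat.card E = 2 ^ (2 * n + 1)) (K : Subgroup G) (hKH : K ≤ Subgroup.centralizer ({z} : Set G))
    (hKi : K.relIndex (Subgroup.centralizer ({z} : Set G)) = 2) :
    ∃ g : G, g * z * g⁻¹ ∈ E ∧ g * z * g⁻¹ ≠ z := by
  classical
  haveI : Fact (Nat.Prime 2) := ⟨Nat.prime_two⟩
  by_contra hcon
  push Not at hcon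
  have hadd := kappa_add hKH hKi
  set H := Subgroup.centralizer ({z} : Set G) with hH
  -- a Sylow 2-subgroup of `H` containing `E`
  obtain ⟨S, hS⟩ := (X.isPGroup.comap_subtype (K := H)).exists_le_sylow
  have hSE : E ≤ (S : Subgroup H).map H.subtype := fun e he => ⟨⟨e, X.hEC he⟩, hS he, rfl⟩
  have hz := kappa_zero hres X (fun g => if g ∈ K then (0 : ZMod 2) else 1) hadd _ (Subgroup.map_subtype_le _)
    (S.2.map _) hSE ?_
  · have hSK : (S : Subgroup H) ≤ K.subgroupOf H := by
      intro s hs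
      have := hz _ ⟨s, hs, rfl⟩
      by_contra h
      rw [Subgroup.mem_subgroupOf] at h
      simp [h] at this
    exact S.not_dvd_index (dvd_trans (dvd_of_eq hKi.symm) (Subgroup.index_dvd_of_le hSK))
  · intro g hg hzc
    obtain ⟨k, hk1, hk⟩ := X.two_dvd_relIndex hg hzc
    have hk2 : 2 ≤ k := by
      by_contra h
      obtain rfl : k = 1 := by omega
      have hmem := X.mem_of_index_two (t := g * z * g⁻¹)
        (by rw [conj_mul, Invol.mul_self_of_orderOf_two X.hz, mul_one, mul_inv_cancel]) hzc (by simpa using hk)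
      exact hg (Subgroup.mem_centralizer_singleton_iff.mpr (mul_inv_eq_iff_eq_mul.mp (hcon g hmem)))
    by_cases hab : ∀ a ∈ E ⊓ Subgroup.centralizer ({g * z * g⁻¹} : Set G),
        ∀ b ∈ E ⊓ Subgroup.centralizer ({g * z * g⁻¹} : Set G), a * b = b * a
    · refine Or.inr (Or.inl ?_)
      rw [hk]
      exact pow_dvd_pow 2 (show 3 ≤ k from hn.trans (X.abelian_index k n hcard hab hk))
    · refine Or.inl ⟨?_, Or.inl (by rw [hk]; exact pow_dvd_pow 2 hk2)⟩
      obtain ⟨a, ha, b, hb, hzab⟩ := X.exists_noncommuting inf_le_left hab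
      refine kappa_comm (fun g => if g ∈ K then (0 : ZMod 2) else 1) hadd (X.conj_mem ha) (X.conj_mem hb) (X.z_conj_mem hzc) ?_
      calc g⁻¹ * a * g * (g⁻¹ * b * g) = g⁻¹ * (a * b) * g := by group
        _ = g⁻¹ * (b * a * z) * g := by rw [hzab]
        _ = _ := by group

theorem extra_abelianization (hres : pResidual 2 G = ⊤) (X : ExtraPair z E) :
    ∀ q : Abelianization ↥(Subgroup.centralizer ({z} : Set G)), (∃ k : ℕ, orderOf q = 2 ^ k) → q ^ 2 = 1 := by
  classical
  haveI : Fact (Nat.Prime 2) := ⟨Nat.prime_two⟩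
  set H := Subgroup.centralizer ({z} : Set G) with hH
  intro q hq
  by_contra hne
  obtain ⟨k, hk⟩ := hq
  haveI : Finite (Abelianization ↥H) := inferInstanceAs (Finite (↥H ⧸ commutator ↥H))
  -- the elements with square one
  let sq : Abelianization ↥H →* Abelianization ↥H := powMonoidHom 2
  set R := sq.range with hR
  have hR2 : 2 ∣ Nat.card R := by
    refine dvd_trans ?_ (Subgroup.orderOf_dvd_natCard R (⟨q, rfl⟩ : q ^ 2 ∈ R))
    obtain ⟨j, -, hj⟩ := (Nat.dvd_prime_pow Nat.prime_two).mp (hk ▸ orderOf_pow_dvd 2 : orderOf (q ^ 2) ∣ 2 ^ k)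
    rw [hj]
    refine dvd_pow_self 2 fun e => hne ?_
    rw [e, pow_zero, orderOf_eq_one_iff] at hj
    exact hj
  -- a subgroup of index two containing all elements of square one
  obtain ⟨K₀, hK₀⟩ : ∃ K₀ : Subgroup R, K₀.index = 2 := by
    let f : R →* R := powMonoidHom 2
    have hns : f.range ≠ ⊤ := by
      intro h
      have hinj : Function.Injective f :=
        Finite.injective_iff_surjective.mpr (MonoidHom.range_eq_top.mp h)
      obtain ⟨c, hc⟩ := exists_prime_orderOf_dvd_card' (G := R) 2 hR2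
      have : c = 1 := hinj (show c ^ 2 = 1 ^ 2 by rw [one_pow, ← hc, pow_orderOf_eq_one])
      rw [this, orderOf_one] at hc
      omega
    haveI : Nontrivial (R ⧸ f.range) := QuotientGroup.nontrivial_iff.mpr hns
    have hp : IsPGroup 2 (R ⧸ f.range) := fun x => ⟨1, by
      obtain ⟨x, rfl⟩ := QuotientGroup.mk_surjective x
      rw [pow_one, ← QuotientGroup.mk_pow, QuotientGroup.eq_one_iff]
      exact ⟨x, rfl⟩⟩
    exact Invol.exists_index_two_of_surjective hp inferInstance (QuotientGroup.mk' _)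
      (QuotientGroup.mk'_surjective _)
  let φ : ↥H →* R := sq.rangeRestrict.comp Abelianization.of
  have hφ : Function.Surjective φ := sq.rangeRestrict_surjective.comp (QuotientGroup.mk'_surjective _)
  set K := (K₀.comap φ).map H.subtype with hK
  have hKH : K ≤ H := Subgroup.map_subtype_le _
  have hKi : K.relIndex H = 2 := by
    rw [hK, Subgroup.relIndex, Subgroup.subgroupOf,
      Subgroup.comap_map_eq_self_of_injective H.subtype_injective, Subgroup.index_comap_of_surjective _ hφ, hK₀]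
  set κ : G → ZMod 2 := fun g => if g ∈ K then 0 else 1 with hκ
  have hadd := kappa_add hKH hKi
  -- elements whose square is a commutator
  have hsmall : ∀ (w : G) (hw : w ∈ H), Abelianization.of (⟨w, hw⟩ * ⟨w, hw⟩ : ↥H) = 1 → κ w = 0 := by
    intro w hw h
    refine if_pos ⟨⟨w, hw⟩, ?_, rfl⟩
    show φ ⟨w, hw⟩ ∈ K₀
    rw [show φ ⟨w, hw⟩ = 1 from Subtype.ext (show Abelianization.of (⟨w, hw⟩ : ↥H) ^ 2 = 1 by
      rw [pow_two, ← map_mul, h])]
    exact one_mem _
  obtain ⟨S, hS⟩ := (X.isPGroup.comap_subtype (K := H)).exists_le_sylow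
  have hSE : E ≤ (S : Subgroup H).map H.subtype := fun e he => ⟨⟨e, X.hEC he⟩, hS he, rfl⟩
  have hz := kappa_zero hres X κ hadd _ (Subgroup.map_subtype_le _) (S.2.map _) hSE ?_
  · have hSK : (S : Subgroup H) ≤ K.subgroupOf H := by
      intro s hs
      have := hz _ ⟨s, hs, rfl⟩
      by_contra h
      rw [Subgroup.mem_subgroupOf] at h
      simp [hκ, h] at this
    exact S.not_dvd_index (dvd_trans (dvd_of_eq hKi.symm) (Subgroup.index_dvd_of_le hSK))
  intro g hg hzc
  have hz2 := Invol.mul_self_of_orderOf_two X.hz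
  have hzH := X.z_conj_mem hzc
  have hz00 : κ (g⁻¹ * z * g) = 0 := by
    refine hsmall _ hzH ?_
    rw [show (⟨g⁻¹ * z * g, hzH⟩ * ⟨g⁻¹ * z * g, hzH⟩ : ↥H) = 1 from Subtype.ext (by
      show g⁻¹ * z * g * (g⁻¹ * z * g) = 1
      calc g⁻¹ * z * g * (g⁻¹ * z * g) = g⁻¹ * (z * z) * g := by group
        _ = 1 := by rw [hz2]; group), map_one]
  obtain ⟨k', hk1, hk'⟩ := X.two_dvd_relIndex hg hzc
  refine Or.inl ⟨hz00, ?_⟩
  by_cases hk2 : 2 ≤ k'
  · left; rw [hk']; exact pow_dvd_pow 2 hk2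
  right
  obtain rfl : k' = 1 := by omega
  set W := E ⊓ Subgroup.centralizer ({g * z * g⁻¹} : Set G) with hW
  intro w hw
  refine hsmall _ (X.conj_mem hw) ?_
  have hsqw : g⁻¹ * w * g * (g⁻¹ * w * g) = g⁻¹ * (w * w) * g := by group
  rcases X.sq hw.1 with h | h
  · rw [show (⟨_, X.conj_mem hw⟩ * ⟨_, X.conj_mem hw⟩ : ↥H) = 1 from Subtype.ext (by
      show g⁻¹ * w * g * (g⁻¹ * w * g) = 1
      rw [hsqw, h]; group), map_one]
  by_cases hab : ∀ a ∈ W, ∀ b ∈ W, a * b = b * a
  · -- abelian: four involutions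
    exfalso
    set t := g * z * g⁻¹ with ht
    have ht2 : t * t = 1 := by rw [ht, conj_mul, hz2, mul_one, mul_inv_cancel]
    have htE := X.mem_of_index_two ht2 hzc (by simpa using hk')
    have htW : t ∈ W := ⟨htE, Subgroup.mem_centralizer_singleton_iff.mpr rfl⟩
    have hzW : z ∈ W := ⟨X.hzE, Subgroup.mem_centralizer_singleton_iff.mpr hzc.eq⟩
    have h1 := X.card_sq_le inf_le_left hab
    have h2 : Nat.card W * 2 = Nat.card E := by
      rw [← pow_one 2, ← hk', ← Subgroup.relIndex_bot_left W, ← Subgroup.relIndex_bot_left E]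
      exact Subgroup.relIndex_mul_relIndex _ _ _ bot_le inf_le_left
    have hW4 : Nat.card W ≤ 4 := by
      have h3 : Nat.card W * Nat.card W ≤ 4 * Nat.card W := by rw [← h2] at h1; linarith
      exact Nat.le_of_mul_le_mul_right h3 Nat.card_pos
    haveI := Fintype.ofFinite W
    have hz1 := Invol.ne_one_of_orderOf_two X.hz
    have ht1 : t ≠ 1 := fun e => hz1 (conj_eq_one_iff.mp e)
    have htz : t ≠ z := fun e => hg (Subgroup.mem_centralizer_singleton_iff.mpr (mul_inv_eq_iff_eq_mul.mp e))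
    have hw1 : w ≠ 1 := fun e => hz1 (by rw [← h, e, one_mul])
    have hwz : w ≠ z := fun e => hz1 (by rw [← h, e, hz2])
    have hwt : w ≠ t := fun e => hz1 (by rw [← h, e, ht2])
    have htz1 : t * z ≠ 1 := fun e => htz (by
      rw [eq_inv_of_mul_eq_one_left e, inv_eq_of_mul_eq_one_right hz2])
    have hwtz : w ≠ t * z := fun e => hz1 (by
      rw [← h, e, (show Commute z t from hzc).mul_mul_mul_comm, ht2, hz2, one_mul])
    let s : Finset W := {⟨1, one_mem _⟩, ⟨z, hzW⟩, ⟨t, htW⟩, ⟨t * z, mul_mem htW hzW⟩, ⟨w, hw⟩}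
    have hs : s.card = 5 := by
      simp only [s]
      rw [Finset.card_insert_of_notMem, Finset.card_insert_of_notMem,
        Finset.card_insert_of_notMem, Finset.card_insert_of_notMem, Finset.card_singleton] <;>
        simp [Subtype.ext_iff, Ne.symm hz1, Ne.symm ht1, Ne.symm htz1, htz.symm, hwz.symm, hwt.symm,
          hwtz.symm, Ne.symm hw1, hz1, ht1]
    have := Finset.card_le_univ s
    rw [hs, ← Nat.card_eq_fintype_card] at this
    omega
  · obtain ⟨a, ha, b, hb, hzab⟩ := X.exists_noncommuting inf_le_left hab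
    have hA := X.conj_mem ha
    have hB := X.conj_mem hb
    have e : (⟨_, X.conj_mem hw⟩ * ⟨_, X.conj_mem hw⟩ : ↥H) =
        (⟨_, hB⟩ * ⟨_, hA⟩ : ↥H)⁻¹ * (⟨_, hA⟩ * ⟨_, hB⟩) := Subtype.ext (by
      show g⁻¹ * w * g * (g⁻¹ * w * g) = (g⁻¹ * b * g * (g⁻¹ * a * g))⁻¹ * (g⁻¹ * a * g * (g⁻¹ * b * g))
      calc g⁻¹ * w * g * (g⁻¹ * w * g) = g⁻¹ * z * g := by rw [hsqw, h]
        _ = g⁻¹ * ((b * a)⁻¹ * (a * b)) * g := by rw [hzab, inv_mul_cancel_left]
        _ = _ := by group)
    rw [e, map_mul, map_inv, map_mul, map_mul, mul_comm (Abelianization.of (⟨_, hB⟩ : ↥H)), inv_mul_cancel]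

end Cfsg.Agent.InvChar
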