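import Cfsg.Agent.Lib.CoverL34.Main
import Cfsg.Agent.Lib.Enum.F4
import Cfsg.Agent.Lib.Invol.Basic
import Cfsg.Agent.Lib.Basics.Frattini

/-!
# Groups of order 64 with a fixed-point-free automorphism of order three
-/

set_option autoImplicit false
set_option linter.style.haveILetI false

namespace Cfsg.Agent.InvChar.FPF64

open Cfsg.Agent

theorem fpf_commute {T : Type*} [Group T] [Finite T] {σ : MulAut T} (h3 : ∀ y, σ (σ (σ y)) = y)
    (hfp : ∀ y, σ y = y → y = 1) (y : T) : y * σ y * σ (σ y) = 1 ∧ Commute y (σ y) := by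
  have key : ∀ (τ : MulAut T), (∀ y, τ (τ (τ y)) = y) → (∀ y, τ y = y → y = 1) → ∀ y, y * τ y * τ (τ y) = 1 := by
    intro τ h3 hfp y
    have hinj : Function.Injective fun w : T => w⁻¹ * τ w := fun a b e => by
      simp only at e
      refine mul_inv_eq_one.mp (hfp (a * b⁻¹) ?_)
      have e' : τ a = a * (b⁻¹ * τ b) := by rw [← e, mul_inv_cancel_left]
      rw [map_mul, map_inv, e']
      group
    obtain ⟨w, rfl⟩ := Finite.surjective_of_injective hinj y
    simp only [map_mul, map_inv, h3]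
    group
  have h1 := key σ h3 hfp
  have h2 := key (σ * σ) (fun w => by simp only [MulAut.mul_apply, h3]) (fun w hw => hfp w (by
    simp only [MulAut.mul_apply] at hw
    conv_lhs => rw [← hw]
    rw [h3])) y
  simp only [MulAut.mul_apply, h3] at h2
  refine ⟨h1 y, ?_⟩
  have e1 : σ (σ y) = (y * σ y)⁻¹ := eq_inv_of_mul_eq_one_right (h1 y)
  have e2 : σ (σ y) = (σ y * y)⁻¹ := by
    refine eq_inv_of_mul_eq_one_left ?_
    calc σ (σ y) * (σ y * y) = y⁻¹ * (y * σ (σ y) * σ y) * y := by group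
      _ = 1 := by rw [h2]; group
  exact inv_injective (e1.symm.trans e2)

/-- An invariant set without fixed points outside the identity. -/
theorem card_fix_mod {A : Type*} [Finite A] (f : A → A) (h3 : ∀ a, f (f (f a)) = a) (a₀ : A)
    (h0 : f a₀ = a₀) (hfp : ∀ a, f a = a → a = a₀) : Nat.card A % 3 = 1 := by
  classical
  haveI := Fintype.ofFinite A
  haveI : Fact (Nat.Prime 3) := ⟨Nat.prime_three⟩
  let e : Equiv.Perm A := ⟨f, fun a => f (f a), h3, h3⟩
  have he : e ^ 3 ^ 1 = 1 := Equiv.ext fun a => by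
    rw [pow_one, pow_succ, pow_two]; exact h3 a
  have h := Equiv.Perm.card_compl_support_modEq (p := 3) (n := 1) (σ := e) he
  have hs : e.supportᶜ = {a₀} := by
    ext a
    simp only [Finset.mem_compl, Equiv.Perm.mem_support, not_not, Finset.mem_singleton]
    exact ⟨hfp a, fun e' => e' ▸ h0⟩
  rw [hs, Finset.card_singleton] at h
  rw [Nat.card_eq_fintype_card]
  exact h.symm

theorem card_subgroup {T : Type*} [Group T] [Finite T] (hT : Nat.card T = 64) {σ : MulAut T}
    (h3 : ∀ y, σ (σ (σ y)) = y) (hfp : ∀ y, σ y = y → y = 1) (H : Subgroup T) (hH : ∀ y ∈ H, σ y ∈ H) :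
    Nat.card H = 1 ∨ Nat.card H = 4 ∨ Nat.card H = 16 ∨ Nat.card H = 64 := by
  have h := card_fix_mod (fun a : H => (⟨σ a, hH a a.2⟩ : H)) (fun a => Subtype.ext (h3 a)) 1
    (Subtype.ext (map_one σ)) (fun a e => Subtype.ext (hfp a (congrArg Subtype.val e)))
  have hd := Subgroup.card_subgroup_dvd_card H
  rw [hT, show 64 = 2 ^ 6 by norm_num] at hd
  obtain ⟨k, hk, e⟩ := (Nat.dvd_prime_pow Nat.prime_two).mp hd
  rw [e] at h ⊢
  interval_cases k <;> simp_all

theorem structure_64 {T : Type*} [Group T] [Finite T] (hT : Nat.card T = 64) (hna : ¬ IsMulCommutative T)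
    {σ : MulAut T} (h3 : ∀ y, σ (σ (σ y)) = y) (hfp : ∀ y, σ y = y → y = 1) :
    Nat.card (Subgroup.center T) = 4 ∧ (∀ a b : T, a * b * a⁻¹ * b⁻¹ ∈ Subgroup.center T) ∧
      ∀ a : T, a * a ∈ Subgroup.center T := by
  classical
  haveI : Fact (Nat.Prime 2) := ⟨Nat.prime_two⟩
  haveI : Nontrivial T := Finite.one_lt_card_iff_nontrivial.mp (by omega)
  have hp : IsPGroup 2 T := IsPGroup.of_card (n := 6) (by rw [hT]; norm_num)
  have hcomm := fun y => (fpf_commute h3 hfp y).2
  -- two commuting elements modulo an invariant subgroup do not generate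
  have hgen : ∀ H : Subgroup T, H ≤ Subgroup.center T → ∀ u : T, H ⊔ Subgroup.closure {u, σ u} ≠ ⊤ := by
    intro H hH u h
    refine hna ⟨⟨fun a b => ?_⟩⟩
    have hc : H ⊔ Subgroup.closure {u, σ u} ≤ Subgroup.centralizer ({u, σ u} : Set T) := by
      refine sup_le (fun x hx => Subgroup.mem_centralizer_iff.mpr fun y _ => (Subgroup.mem_center_iff.mp (hH hx) y)) ?_
      rw [Subgroup.closure_le]
      intro x hx
      refine Subgroup.mem_centralizer_iff.mpr fun y hy => ?_
      rcases hx with rfl | rfl <;> rcases hy with rfl | rfl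
      · rfl
      · exact (hcomm x).eq.symm
      · exact (hcomm y).eq
      · rfl
    rw [h] at hc
    have hcu : H ⊔ Subgroup.closure {u, σ u} ≤ Subgroup.center T := by
      refine sup_le hH ((Subgroup.closure_le _).mpr fun x hx => Subgroup.mem_center_iff.mpr fun y => ?_)
      exact (Subgroup.mem_centralizer_iff.mp (hc (Subgroup.mem_top y)) x hx).symm
    rw [h] at hcu
    exact (Subgroup.mem_center_iff.mp (hcu (Subgroup.mem_top b)) a)
  set Z := Subgroup.center T with hZ
  have hinv : ∀ y ∈ Z, σ y ∈ Z := fun y hy => Subgroup.mem_center_iff.mpr fun w => by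
    obtain ⟨w, rfl⟩ := σ.surjective w
    rw [← map_mul, ← map_mul, Subgroup.mem_center_iff.mp hy w]
  -- invariant subgroups containing `u`
  have hjoin : ∀ H : Subgroup T, (∀ y ∈ H, σ y ∈ H) → ∀ u : T,
      ∀ y ∈ H ⊔ Subgroup.closure {u, σ u}, σ y ∈ H ⊔ Subgroup.closure {u, σ u} := by
    intro H hH u y hy
    have hle : H ⊔ Subgroup.closure {u, σ u} ≤ (H ⊔ Subgroup.closure {u, σ u}).comap σ.toMonoidHom := by
      refine sup_le (fun x hx => Subgroup.mem_sup_left (hH x hx)) ((Subgroup.closure_le _).mpr ?_)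
      rintro x (rfl | rfl)
      · exact Subgroup.mem_sup_right (Subgroup.subset_closure (Or.inr rfl))
      · refine Subgroup.mem_sup_right ?_
        show σ (σ u) ∈ _
        rw [eq_inv_of_mul_eq_one_right (fpf_commute h3 hfp u).1]
        exact inv_mem (mul_mem (Subgroup.subset_closure (Or.inl rfl)) (Subgroup.subset_closure (Or.inr rfl)))
    exact hle hy
  have hlt : ∀ H : Subgroup T, H ≤ Z → (∀ y ∈ H, σ y ∈ H) → ∀ u : T, u ∉ H →
      4 * Nat.card H ≤ Nat.card ↥(H ⊔ Subgroup.closure {u, σ u}) ∧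
        Nat.card ↥(H ⊔ Subgroup.closure {u, σ u}) ≤ 16 := by
    intro H hle hH u hu
    have h1 := card_subgroup hT h3 hfp _ hH
    have h2 := card_subgroup hT h3 hfp _ (hjoin H hH u)
    have h4 : Nat.card H < Nat.card ↥(H ⊔ Subgroup.closure {u, σ u}) := by
      by_contra hcon
      exact hu ((Subgroup.eq_of_le_of_card_ge le_sup_left (not_lt.mp hcon)).ge
        (Subgroup.mem_sup_right (Subgroup.subset_closure (Or.inl rfl))))
    have h5 : Nat.card ↥(H ⊔ Subgroup.closure {u, σ u}) ≠ 64 := fun e =>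
      hgen H hle u (Subgroup.eq_top_of_card_eq _ (e.trans hT.symm))
    omega
  have hcard : Nat.card Z = 4 := by
    have hne : Z ≠ ⊥ := by
      haveI := hp.center_nontrivial
      exact (Subgroup.nontrivial_iff_ne_bot _).mp this
    have hne' : Z ≠ ⊤ := fun e => hna ⟨⟨fun a b => Subgroup.mem_center_iff.mp (e.ge (Subgroup.mem_top b)) a⟩⟩
    obtain ⟨u, hu⟩ : ∃ u, u ∉ Z := by
      by_contra hcon
      push Not at hcon
      exact hne' (eq_top_iff.mpr fun x _ => hcon x)
    obtain ⟨h1, h2⟩ := hlt Z le_rfl hinv u hu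
    have h3' := card_subgroup hT h3 hfp Z hinv
    have h4 : Nat.card Z ≠ 1 := fun e => hne ((Subgroup.card_eq_one).mp e)
    omega
  -- the quotient
  let π := QuotientGroup.mk' Z
  let f : T ⧸ Z → T ⧸ Z := QuotientGroup.map Z Z σ.toMonoidHom fun y hy => hinv y hy
  have hf : ∀ y : T, f (π y) = π (σ y) := fun y => rfl
  have hfcard : Nat.card (T ⧸ Z) = 16 := by
    have := Subgroup.card_eq_card_quotient_mul_card_subgroup Z
    rw [hT, hcard] at this
    omega
  have hff : ∀ a, f a = a → a = 1 := by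
    intro a ha
    obtain ⟨y, rfl⟩ := QuotientGroup.mk'_surjective Z a
    by_contra hne
    have hy : y ∉ Z := fun h => hne ((QuotientGroup.eq_one_iff y).mpr h)
    let S := {w : T // π w = π y}
    have hS : ∀ w : S, π (σ w.1) = π y := fun w => by rw [← hf, w.2]; exact ha
    obtain ⟨w, hw⟩ : ∃ w : S, σ w.1 = w.1 := by
      by_contra hcon
      push Not at hcon
      classical
      haveI := Fintype.ofFinite S
      haveI : Fact (Nat.Prime 3) := ⟨Nat.prime_three⟩
      let e : Equiv.Perm S := ⟨fun w => ⟨σ w.1, hS w⟩, fun w => ⟨σ (σ w.1), by rw [← hf, hS]; exact ha⟩,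
        fun w => Subtype.ext (h3 w.1), fun w => Subtype.ext (h3 w.1)⟩
      have he : e ^ 3 ^ 1 = 1 := Equiv.ext fun w => by
        rw [pow_one, pow_succ, pow_two]; exact Subtype.ext (h3 w.1)
      have h := Equiv.Perm.card_compl_support_modEq (p := 3) (n := 1) (σ := e) he
      have hs : e.supportᶜ = ∅ := by
        ext w
        simp only [Finset.mem_compl, Equiv.Perm.mem_support, not_not, Finset.notMem_empty, iff_false]
        exact fun e' => hcon w (congrArg Subtype.val e')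
      have hSc : Fintype.card S = 4 := by
        rw [← Nat.card_eq_fintype_card, ← hcard]
        refine Nat.card_congr ⟨fun w => ⟨y⁻¹ * w.1, (QuotientGroup.eq.mp w.2.symm)⟩,
          fun v => ⟨y * v.1, (QuotientGroup.eq.mpr (by rw [inv_mul_cancel_left]; exact v.2)).symm⟩,
          fun w => Subtype.ext (mul_inv_cancel_left _ _), fun v => Subtype.ext (inv_mul_cancel_left _ _)⟩
      rw [hs, Finset.card_empty, hSc] at h
      exact absurd h (by decide)
    exact hne (by rw [← w.2, hfp _ hw, map_one])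
  -- commutators
  have hab : ∀ a b : T ⧸ Z, a * b = b * a := by
    by_contra hcon
    have hq : IsPGroup 2 (T ⧸ Z) := hp.to_quotient Z
    haveI : Nontrivial (T ⧸ Z) := Finite.one_lt_card_iff_nontrivial.mp (by omega)
    set W := Subgroup.center (T ⧸ Z) with hW
    have hWinv : ∀ y ∈ W.comap π, σ y ∈ W.comap π := by
      intro y hy
      refine Subgroup.mem_comap.mpr (Subgroup.mem_center_iff.mpr fun w => ?_)
      obtain ⟨w, rfl⟩ := QuotientGroup.mk'_surjective Z w
      obtain ⟨w, rfl⟩ := σ.surjective w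
      have := Subgroup.mem_center_iff.mp (Subgroup.mem_comap.mp hy) (π w)
      rw [← hf, ← hf]
      let F := QuotientGroup.map Z Z σ.toMonoidHom fun y hy => hinv y hy
      show F (π w) * F (π y) = F (π y) * F (π w)
      rw [← map_mul F, ← map_mul F, this]
    have hWc := card_subgroup hT h3 hfp _ hWinv
    have hWne : W ≠ ⊥ := by
      haveI := hq.center_nontrivial
      exact (Subgroup.nontrivial_iff_ne_bot _).mp this
    have hWne' : W ≠ ⊤ := fun e => hcon fun a b => Subgroup.mem_center_iff.mp (e.ge (Subgroup.mem_top b)) a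
    have hmap : (W.comap π).index = W.index := Subgroup.index_comap_of_surjective _ (QuotientGroup.mk'_surjective Z)
    have h1 := Subgroup.card_mul_index (W.comap π)
    have h2 := Subgroup.card_mul_index W
    rw [hmap, hT] at h1
    rw [hfcard] at h2
    have h4 : Nat.card W ≠ 1 := fun e => hWne ((Subgroup.card_eq_one).mp e)
    have h5 : W.index ≠ 1 := fun e => hWne' (Subgroup.index_eq_one.mp e)
    have hWi : W.index = 4 := by
      rcases hWc with e | e | e | e <;> rw [e] at h1 <;> first | omega | (exfalso; apply h4; nlinarith)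
    -- the quotient by the centre is generated by two commuting elements
    obtain ⟨u, hu⟩ : ∃ u, π u ∉ W := by
      by_contra h
      push Not at h
      exact hWne' (eq_top_iff.mpr fun x _ => by obtain ⟨y, rfl⟩ := QuotientGroup.mk'_surjective Z x; exact h y)
    have h6 := card_subgroup hT h3 hfp _ (hjoin _ hWinv u)
    have h7 : Nat.card ↥(W.comap π) < Nat.card ↥(W.comap π ⊔ Subgroup.closure {u, σ u}) := by
      by_contra h
      exact hu ((Subgroup.eq_of_le_of_card_ge le_sup_left (not_lt.mp h)).ge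
        (Subgroup.mem_sup_right (Subgroup.subset_closure (Or.inl rfl))))
    have h8 : W.comap π ⊔ Subgroup.closure {u, σ u} = ⊤ :=
      Subgroup.eq_top_of_card_eq _ (by rw [hWi] at h1; omega)
    have h9 := congrArg (Subgroup.map π) h8
    rw [Subgroup.map_sup, Subgroup.map_comap_eq_self_of_surjective (QuotientGroup.mk'_surjective Z),
      Subgroup.map_top_of_surjective _ (QuotientGroup.mk'_surjective Z), MonoidHom.map_closure, Set.image_pair] at h9
    have hcu : ∀ g ∈ ({π u, π (σ u)} : Set (T ⧸ Z)), W ⊔ Subgroup.closure {π u, π (σ u)} ≤ Subgroup.centralizer {g} := by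
      intro g hg
      refine sup_le (fun x hx => Subgroup.mem_centralizer_singleton_iff.mpr (Subgroup.mem_center_iff.mp hx g).symm)
        ((Subgroup.closure_le _).mpr fun x hx => Subgroup.mem_centralizer_singleton_iff.mpr ?_)
      have hc : π u * π (σ u) = π (σ u) * π u := ((hcomm u).map π).eq
      rcases hx with rfl | rfl <;> rcases hg with rfl | rfl <;> first | rfl | exact hc | exact hc.symm
    rw [h9] at hcu
    refine hWne' (eq_top_iff.mpr (h9.ge.trans (sup_le le_rfl ((Subgroup.closure_le _).mpr fun g hg => ?_))))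
    exact Subgroup.mem_center_iff.mpr fun w =>
      Subgroup.mem_centralizer_singleton_iff.mp (hcu g hg (Subgroup.mem_top w))
  refine ⟨hcard, fun a b => (QuotientGroup.eq_one_iff _).mp ?_, ?_⟩
  · show π (a * b * a⁻¹ * b⁻¹) = 1
    simp only [map_mul, map_inv]
    rw [hab (π a) (π b)]; group
  -- squares
  let s : T ⧸ Z →* T ⧸ Z := MonoidHom.mk' (fun a => a * a) fun a b => by
    show a * b * (a * b) = a * a * (b * b)
    rw [mul_assoc a b, ← mul_assoc b, hab b a]; group
  have hs : ∀ H : Subgroup T, Z ≤ H → (H.map π).comap π = H := fun H hH =>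
    Subgroup.comap_map_eq_self (by rw [QuotientGroup.ker_mk']; exact hH)
  intro a
  by_contra ha
  set R := s.range.comap π with hR
  have hRinv : ∀ y ∈ R, σ y ∈ R := by
    intro y hy
    obtain ⟨w, hw⟩ := Subgroup.mem_comap.mp hy
    refine Subgroup.mem_comap.mpr ⟨f w, ?_⟩
    rw [← hf, ← hw]
    exact (map_mul (QuotientGroup.map Z Z σ.toMonoidHom fun y hy => hinv y hy) w w).symm
  have hRc := card_subgroup hT h3 hfp _ hRinv
  have hZR : Z ≤ R := fun y hy => Subgroup.mem_comap.mpr (by rw [show π y = 1 from (QuotientGroup.eq_one_iff y).mpr hy]; exact one_mem _)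
  have h2a : a * a ∈ R := Subgroup.mem_comap.mpr ⟨π a, (map_mul π a a).symm⟩
  have hRlt : Nat.card Z < Nat.card R := by
    by_contra h
    exact ha ((Subgroup.eq_of_le_of_card_ge hZR (not_lt.mp h)).ge h2a)
  have hRne : Nat.card R ≠ 64 := by
    intro e
    have htop : s.range = ⊤ := by
      have := congrArg (Subgroup.map π) (Subgroup.eq_top_of_card_eq R (e.trans hT.symm))
      rwa [hR, Subgroup.map_comap_eq_self_of_surjective (QuotientGroup.mk'_surjective Z),
        Subgroup.map_top_of_surjective _ (QuotientGroup.mk'_surjective Z)] at this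
    have hinjs : Function.Injective s :=
      Finite.injective_iff_surjective.mpr (MonoidHom.range_eq_top.mp htop)
    have hq : IsPGroup 2 (T ⧸ Z) := hp.to_quotient Z
    obtain ⟨w, hw⟩ := exists_prime_orderOf_dvd_card' (G := T ⧸ Z) 2 (by rw [hfcard]; norm_num)
    have := @hinjs w 1 (by
      show w * w = 1 * 1
      rw [one_mul]; exact Invol.mul_self_of_orderOf_two hw)
    exact Invol.ne_one_of_orderOf_two hw this
  have hR16 : Nat.card R = 16 := by rw [hcard] at hRlt; omega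
  obtain ⟨u, hu⟩ : ∃ u : T, u ∉ R := by
    by_contra h
    push Not at h
    have := Subgroup.eq_top_iff' R |>.mpr h
    rw [this, Subgroup.card_top, hT] at hR16
    omega
  -- `u` and its image generate
  have hM := card_subgroup hT h3 hfp _ (hjoin R hRinv u)
  have hM' : Nat.card R < Nat.card ↥(R ⊔ Subgroup.closure {u, σ u}) := by
    by_contra h
    exact hu ((Subgroup.eq_of_le_of_card_ge le_sup_left (not_lt.mp h)).ge
      (Subgroup.mem_sup_right (Subgroup.subset_closure (Or.inl rfl))))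
  have htop : R ⊔ Subgroup.closure {u, σ u} = ⊤ := Subgroup.eq_top_of_card_eq _ (by omega)
  set L := (Z ⊔ Subgroup.closure {u, σ u}).map π with hL
  have h1 : s.range ⊔ L = ⊤ := by
    rw [hL, Subgroup.map_sup, QuotientGroup.map_mk'_self, bot_sup_eq]
    have := congrArg (Subgroup.map π) htop
    rwa [Subgroup.map_sup, hR, Subgroup.map_comap_eq_self_of_surjective (QuotientGroup.mk'_surjective Z),
      Subgroup.map_top_of_surjective _ (QuotientGroup.mk'_surjective Z)] at this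
  have hfr : ∀ M : Subgroup (T ⧸ Z), s.range ⊔ M = ⊤ → M = ⊤ := by
    intro M hM
    haveI : Group.IsNilpotent (T ⧸ Z) := (hp.to_quotient Z).isNilpotent
    refine frattini_nongenerating (eq_top_iff.mpr (hM.ge.trans (sup_le ?_ le_sup_left)))
    rintro _ ⟨w, rfl⟩
    refine Subgroup.mem_sup_right ?_
    show w * w ∈ _
    rw [← pow_two]
    exact Basics.pow_mem_frattini (hp.to_quotient Z) w
  have h2 := congrArg (Subgroup.comap π) (hfr L h1)
  rw [hL, hs _ le_sup_left, Subgroup.comap_top] at h2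
  exact hgen Z le_rfl u h2

/-- Commutators are biadditive when central. -/
theorem comm_mul_left {T : Type*} [Group T] (hcen : ∀ a b : T, a * b * a⁻¹ * b⁻¹ ∈ Subgroup.center T) (u u' v : T) :
    (u * u') * v * (u * u')⁻¹ * v⁻¹ = (u * v * u⁻¹ * v⁻¹) * (u' * v * u'⁻¹ * v⁻¹) := by
  set q := u' * v * u'⁻¹ * v⁻¹ with hq
  have hq' : ∀ w, w * q = q * w := fun w => Subgroup.mem_center_iff.mp (hcen u' v) w
  calc (u * u') * v * (u * u')⁻¹ * v⁻¹ = (u * q) * (v * u⁻¹ * v⁻¹) := by rw [hq]; group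
    _ = q * (u * v * u⁻¹ * v⁻¹) := by rw [hq']; group
    _ = _ := (hq' _).symm

theorem comm_mul_right {T : Type*} [Group T] (hcen : ∀ a b : T, a * b * a⁻¹ * b⁻¹ ∈ Subgroup.center T) (u v v' : T) :
    u * (v * v') * u⁻¹ * (v * v')⁻¹ = (u * v * u⁻¹ * v⁻¹) * (u * v' * u⁻¹ * v'⁻¹) := by
  set q := u * v' * u⁻¹ * v'⁻¹ with hq
  have hq' : ∀ w, w * q = q * w := fun w => Subgroup.mem_center_iff.mp (hcen u v') w
  calc u * (v * v') * u⁻¹ * (v * v')⁻¹ = (u * v * u⁻¹) * q * v⁻¹ := by rw [hq]; group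
    _ = q * (u * v * u⁻¹) * v⁻¹ := by rw [hq']
    _ = q * (u * v * u⁻¹ * v⁻¹) := by group
    _ = _ := (hq' _).symm

/-- An element of order two generating the centre. -/
theorem center_facts {T : Type*} [Group T] [Finite T] (hT : Nat.card T = 64) (hna : ¬ IsMulCommutative T)
    {σ : MulAut T} (h3 : ∀ y, σ (σ (σ y)) = y) (hfp : ∀ y, σ y = y → y = 1) :
    ∀ w ∈ Subgroup.center T, w * w = 1 := by
  classical
  obtain ⟨hcard, hcen, hsq⟩ := structure_64 hT hna h3 hfp
  obtain ⟨a, b, hab⟩ : ∃ a b : T, a * b * a⁻¹ * b⁻¹ ≠ 1 := by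
    by_contra h
    push Not at h
    refine hna ⟨⟨fun a b => ?_⟩⟩
    exact mul_inv_eq_iff_eq_mul.mp (mul_inv_eq_one.mp (h a b))
  -- squares of commutators vanish
  have h1 : ∀ a b : T, (a * b * a⁻¹ * b⁻¹) * (a * b * a⁻¹ * b⁻¹) = 1 := fun a b => by
    rw [← comm_mul_left hcen, ← (Subgroup.mem_center_iff.mp (hsq a) b)]
    group
  set c := a * b * a⁻¹ * b⁻¹ with hc
  have hcz : c ∈ Subgroup.center T := hcen a b
  have hσz : ∀ y : T, y ∈ Subgroup.center T → σ y ∈ Subgroup.center T := fun y hy => Subgroup.mem_center_iff.mpr fun w => by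
    obtain ⟨w, rfl⟩ := σ.surjective w
    rw [← map_mul, ← map_mul, Subgroup.mem_center_iff.mp hy w]
  haveI := Fintype.ofFinite (Subgroup.center T)
  let S : Finset (Subgroup.center T) := {1, ⟨c, hcz⟩, ⟨σ c, hσz c hcz⟩, ⟨σ (σ c), hσz _ (hσz c hcz)⟩}
  have hn1 : σ c ≠ 1 := fun e => hab (σ.injective (e.trans (map_one σ).symm))
  have hn2 : σ (σ c) ≠ 1 := fun e => hn1 (σ.injective (e.trans (map_one σ).symm))
  have hn3 : σ c ≠ c := fun e => hab (hfp c e)
  have hn4 : σ (σ c) ≠ σ c := fun e => hn1 (hfp _ e)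
  have hn5 : σ (σ c) ≠ c := fun e => hn2 (hfp _ ((h3 c).trans e.symm))
  have hS : S.card = 4 := by
    simp only [S]
    rw [Finset.card_insert_of_notMem, Finset.card_insert_of_notMem, Finset.card_insert_of_notMem,
      Finset.card_singleton] <;>
      simp [Subtype.ext_iff, Ne.symm hab, Ne.symm hn1, Ne.symm hn2, Ne.symm hn3, Ne.symm hn4, Ne.symm hn5]
  have hSu : S = Finset.univ := Finset.eq_univ_of_card S (by rw [hS, ← Nat.card_eq_fintype_card, hcard])
  intro w hw
  have hm : (⟨w, hw⟩ : Subgroup.center T) ∈ S := hSu ▸ Finset.mem_univ _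
  simp only [S, Finset.mem_insert, Finset.mem_singleton, Subtype.ext_iff, Subgroup.coe_one] at hm
  rcases hm with rfl | rfl | rfl | rfl
  · exact one_mul 1
  · exact h1 a b
  · rw [← map_mul, h1 a b, map_one]
  · rw [← map_mul, ← map_mul, h1 a b, map_one, map_one]

theorem exists_hom {A : Type*} [Monoid A] (g h : A) (hg : g * g = 1) (hh : h * h = 1) (hgh : g * h = h * g) :
    ∃ φ : Enum.F4 → A, φ 0 = 1 ∧ φ 1 = g ∧ φ ⟨2⟩ = h ∧ φ ⟨3⟩ = g * h ∧ ∀ x y, φ (x + y) = φ x * φ y := by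
  refine ⟨fun x => ![1, g, h, g * h] x.val, rfl, rfl, rfl, rfl, ?_⟩
  rintro ⟨x⟩ ⟨y⟩
  have h1 : g * (g * h) = h := by rw [← mul_assoc, hg, one_mul]
  have h2 : h * (g * h) = g := by rw [hgh, ← mul_assoc, hh, one_mul]
  have h3 : g * h * g = h := by rw [hgh, mul_assoc, hg, mul_one]
  have h4 : g * h * h = g := by rw [mul_assoc, hh, mul_one]
  have h5 : g * h * (g * h) = 1 := by rw [← mul_assoc, h3, hh]
  fin_cases x <;> fin_cases y <;>
    first
      | exact (one_mul _).symm | exact (mul_one _).symm | exact hg.symm | exact hh.symm | exact h1.symm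
      | exact h2.symm | exact h3.symm | exact h4.symm | exact h5.symm | exact rfl | exact hgh

/-- The presentation. -/
theorem exists_coords {T : Type*} [Group T] [Finite T] (hT : Nat.card T = 64) (hna : ¬ IsMulCommutative T)
    {σ : MulAut T} (h3 : ∀ y, σ (σ (σ y)) = y) (hfp : ∀ y, σ y = y → y = 1) {a b : T}
    (ha : a * a = 1) (hb : b * b = 1) (hc1 : a * b * a⁻¹ * b⁻¹ ≠ 1) :
    ∃ f : Enum.F4 × Enum.F4 × Enum.F4 → T, Function.Bijective f ∧
      ∀ x y, f x * f y = f (x.1 + y.1, x.2.1 + y.2.1, x.2.2 + y.2.2 + x.1 * y.2.1) := by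
  classical
  obtain ⟨-, hcen, -⟩ := structure_64 hT hna h3 hfp
  have hz2 := center_facts hT hna h3 hfp
  set c := a * b * a⁻¹ * b⁻¹ with hc
  have hcz : c ∈ Subgroup.center T := hcen a b
  have hcomm : ∀ w ∈ Subgroup.center T, ∀ g, w * g = g * w := fun w hw g => (Subgroup.mem_center_iff.mp hw g).symm
  have hσz : ∀ y : T, y ∈ Subgroup.center T → σ y ∈ Subgroup.center T := fun y hy => Subgroup.mem_center_iff.mpr fun w => by
    obtain ⟨w, rfl⟩ := σ.surjective w
    rw [← map_mul, ← map_mul, Subgroup.mem_center_iff.mp hy w]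
  have hsig : ∀ g : T, g * g = 1 → σ (σ g) = g * σ g := fun g h => by
    have h' : σ g * σ g = 1 := by rw [← map_mul, h, map_one]
    rw [eq_inv_of_mul_eq_one_right (fpf_commute h3 hfp g).1, mul_inv_rev, Invol.inv_eq_self_of_mul_self h,
      Invol.inv_eq_self_of_mul_self h']
    exact (fpf_commute h3 hfp g).2.eq.symm
  set d := σ (σ c) with hd
  have hdz : d ∈ Subgroup.center T := hσz _ (hσz c hcz)
  set E₁ := σ a * b * (σ a)⁻¹ * b⁻¹ with hE₁
  set E₂ := a * σ b * a⁻¹ * (σ b)⁻¹ with hE₂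
  have hD : σ a * σ b * (σ a)⁻¹ * (σ b)⁻¹ = σ c := by rw [hc]; simp only [map_mul, map_inv]
  have r1 : σ E₁ = E₂ * σ c := by
    conv_lhs => rw [hE₁]
    simp only [map_mul, map_inv]
    rw [hsig a ha, comm_mul_left hcen, hD, ← hE₂]
  have r2 : σ E₂ = E₁ * σ c := by
    conv_lhs => rw [hE₂]
    simp only [map_mul, map_inv]
    rw [hsig b hb, comm_mul_right hcen, hD, ← hE₁]
  have h12 : E₁ = E₂ := by
    have h : σ (E₁ * E₂) = E₁ * E₂ := by
      rw [map_mul, r1, r2]
      calc E₂ * σ c * (E₁ * σ c) = E₂ * (σ c * (E₁ * σ c)) := mul_assoc _ _ _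
        _ = E₂ * (E₁ * σ c * σ c) := by rw [hcomm _ (hσz c hcz)]
        _ = E₂ * E₁ := by rw [mul_assoc E₁, hz2 _ (hσz c hcz), mul_one]
        _ = _ := hcomm _ (hcen _ _) _
    exact (eq_inv_of_mul_eq_one_left (hfp _ h)).trans (Invol.inv_eq_self_of_mul_self (hz2 _ (hcen _ _)))
  have hE1 : E₁ = d := by
    have h : σ (E₁ * d) = E₁ * d := by
      rw [map_mul, r1, ← h12, hd, h3, hsig c (hz2 c hcz)]
      exact (mul_assoc E₁ _ _).trans (congrArg _ (hcomm _ (hσz c hcz) c))
    exact (eq_inv_of_mul_eq_one_left (hfp _ h)).trans (Invol.inv_eq_self_of_mul_self (hz2 _ hdz))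
  have hE2 : E₂ = d := h12 ▸ hE1
  have hcd : c * d = σ c := by rw [hd, hsig c (hz2 c hcz), ← mul_assoc, hz2 c hcz, one_mul]
  have hσ1 : ∀ g : T, g * g = 1 → σ g * σ g = 1 := fun g h => by rw [← map_mul, h, map_one]
  obtain ⟨A, hA0, hA1, hA2, hA3, hAadd⟩ := exists_hom a (σ a) ha (hσ1 a ha) (fpf_commute h3 hfp a).2.eq
  obtain ⟨B, hB0, hB1, hB2, hB3, hBadd⟩ := exists_hom b (σ b) hb (hσ1 b hb) (fpf_commute h3 hfp b).2.eq
  obtain ⟨Z, hZ0, hZ1, hZ2, hZ3, hZadd⟩ := exists_hom c d (hz2 c hcz) (hz2 d hdz) (hcomm c hcz d)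
  have hZc : ∀ x g, Z x * g = g * Z x := by
    rintro ⟨x⟩ g
    fin_cases x
    · show Z 0 * g = g * Z 0; rw [hZ0, one_mul, mul_one]
    · show Z 1 * g = g * Z 1; rw [hZ1]; exact hcomm c hcz g
    · show Z ⟨2⟩ * g = g * Z ⟨2⟩; rw [hZ2]; exact hcomm d hdz g
    · show Z ⟨3⟩ * g = g * Z ⟨3⟩; rw [hZ3]; exact hcomm _ (mul_mem hcz hdz) g
  -- the exchange rule
  have hswap0 : ∀ u v w : T, u * v * u⁻¹ * v⁻¹ = w → w ∈ Subgroup.center T → u * v = v * u * w := fun u v w h hw => by
    rw [← hcomm w hw, ← h]; group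
  have e11 : a * b = b * a * Z 1 := by rw [hZ1]; exact hswap0 _ _ _ hc.symm hcz
  have e21 : σ a * b = b * σ a * Z ⟨2⟩ := by rw [hZ2]; exact hswap0 _ _ _ hE1 hdz
  have e12 : a * σ b = σ b * a * Z ⟨2⟩ := by rw [hZ2]; exact hswap0 _ _ _ hE2 hdz
  have e22 : σ a * σ b = σ b * σ a * Z ⟨3⟩ := by rw [hZ3, hcd]; exact hswap0 _ _ _ hD (hσz c hcz)
  let P : Enum.F4 → Enum.F4 → Prop := fun x y => A x * B y = B y * A x * Z (x * y)
  have hPr : ∀ x y y', P x y → P x y' → P x (y + y') := fun x y y' p q => by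
    show A x * B (y + y') = B (y + y') * A x * Z (x * (y + y'))
    rw [mul_add, hZadd, hBadd]
    calc A x * (B y * B y') = (A x * B y) * B y' := (mul_assoc _ _ _).symm
      _ = B y * A x * (Z (x * y) * B y') := by rw [p]; group
      _ = B y * (A x * B y') * Z (x * y) := by rw [hZc]; group
      _ = B y * B y' * A x * (Z (x * y') * Z (x * y)) := by rw [q]; group
      _ = _ := by rw [hZc (x * y') (Z (x * y))]
  have hPl : ∀ x x' y, P x y → P x' y → P (x + x') y := fun x x' y p q => by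
    show A (x + x') * B y = B y * A (x + x') * Z ((x + x') * y)
    rw [add_mul, hZadd, hAadd]
    calc A x * A x' * B y = A x * (A x' * B y) := mul_assoc _ _ _
      _ = (A x * B y) * A x' * Z (x' * y) := by rw [q]; group
      _ = B y * A x * (Z (x * y) * A x') * Z (x' * y) := by rw [p]; group
      _ = _ := by rw [hZc]; group
  have hP : ∀ x y, P x y := by
    have hy : ∀ x, P x 1 → P x ⟨2⟩ → ∀ y, P x y := by
      rintro x p q ⟨y⟩
      fin_cases y
      · show A x * B 0 = B 0 * A x * Z (x * 0); rw [mul_zero, hB0, hZ0, one_mul, mul_one]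
      · exact p
      · exact q
      · exact hPr x 1 ⟨2⟩ p q
    have h1 : ∀ y, P 1 y := hy 1 (by show A 1 * B 1 = _; rw [one_mul, hA1, hB1]; exact e11)
      (by show A 1 * B ⟨2⟩ = _; rw [one_mul, hA1, hB2]; exact e12)
    have h2 : ∀ y, P ⟨2⟩ y := hy ⟨2⟩ (by show A ⟨2⟩ * B 1 = _; rw [mul_one ((⟨2⟩ : Enum.F4)), hA2, hB1]; exact e21)
      (by show A ⟨2⟩ * B ⟨2⟩ = _; rw [show (⟨2⟩ : Enum.F4) * ⟨2⟩ = ⟨3⟩ by decide, hA2, hB2]; exact e22)
    rintro ⟨x⟩ y
    fin_cases x
    · show A 0 * B y = B y * A 0 * Z (0 * y); rw [zero_mul, hA0, hZ0, one_mul, mul_one, mul_one]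
    · exact h1 y
    · exact h2 y
    · exact hPl 1 ⟨2⟩ y (h1 y) (h2 y)
  let f : Enum.F4 × Enum.F4 × Enum.F4 → T := fun x => B x.2.1 * A x.1 * Z x.2.2
  have hmul : ∀ x y, f x * f y = f (x.1 + y.1, x.2.1 + y.2.1, x.2.2 + y.2.2 + x.1 * y.2.1) := by
    intro x y
    show B x.2.1 * A x.1 * Z x.2.2 * (B y.2.1 * A y.1 * Z y.2.2) =
      B (x.2.1 + y.2.1) * A (x.1 + y.1) * Z (x.2.2 + y.2.2 + x.1 * y.2.1)
    rw [hBadd, hAadd, hZadd, hZadd]
    calc _ = B x.2.1 * A x.1 * (Z x.2.2 * (B y.2.1 * A y.1)) * Z y.2.2 := by group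
      _ = B x.2.1 * (A x.1 * B y.2.1) * A y.1 * (Z x.2.2 * Z y.2.2) := by rw [hZc]; group
      _ = B x.2.1 * B y.2.1 * A x.1 * (Z (x.1 * y.2.1) * A y.1) * (Z x.2.2 * Z y.2.2) := by rw [hP]; group
      _ = B x.2.1 * B y.2.1 * (A x.1 * A y.1) * (Z (x.1 * y.2.1) * (Z x.2.2 * Z y.2.2)) := by rw [hZc]; group
      _ = _ := by rw [hZc (x.1 * y.2.1)]
  have hZinj : ∀ x, Z x = 1 → x = 0 := by
    have hn : c ≠ 1 := hc1
    have hnd : d ≠ 1 := fun e => hn (by rw [hd] at e; exact σ.injective (σ.injective (by rw [e, map_one, map_one])))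
    rintro ⟨x⟩ hx
    fin_cases x
    · rfl
    · exact absurd (hZ1.symm.trans hx) hn
    · exact absurd (hZ2.symm.trans hx) hnd
    · refine absurd (hZ3.symm.trans hx) fun e => hn ?_
      rw [hcd] at e
      exact σ.injective (e.trans (map_one σ).symm)
  have hker : ∀ x, f x = 1 → x = 0 := by
    rintro ⟨p, q, r⟩ e
    have k1 := hmul ⟨p, q, r⟩ (1, 0, 0)
    have k2 := hmul (1, 0, 0) ⟨p, q, r⟩
    have k3 := hmul ⟨p, q, r⟩ (0, 1, 0)
    have k4 := hmul (0, 1, 0) ⟨p, q, r⟩
    rw [e, one_mul] at k1 k3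
    rw [e, mul_one] at k2 k4
    simp only [f, mul_zero, zero_mul, mul_one, one_mul, add_zero, zero_add, hZadd, hAadd, hBadd, hA0, hB0, hZ0] at k1 k2 k3 k4
    simp only [f] at e
    have hq : q = 0 := by
      apply hZinj
      have h' := k2
      rw [show B q * (A 1 * A p) * (Z r * Z q) = (B q * (A 1 * A p) * Z r) * Z q by group] at h'
      have e1 : B q * (A 1 * A p) * Z r = A 1 := by
        rw [← hAadd, add_comm, hAadd]
        calc B q * (A p * A 1) * Z r = B q * A p * (A 1 * Z r) := by group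
          _ = B q * A p * Z r * A 1 := by rw [← hZc]; group
          _ = A 1 := by rw [e, one_mul]
      rw [e1] at h'
      exact mul_left_cancel (h'.symm.trans (mul_one _).symm)
    subst hq
    have hp : p = 0 := by
      apply hZinj
      have h' := k3
      rw [hB0, one_mul, ← mul_assoc] at h'
      have e1 : B 1 * A p * Z r = B 1 := by
        rw [hB0, one_mul] at e
        rw [mul_assoc, e, mul_one]
      rw [e1] at h'
      exact mul_left_cancel (h'.symm.trans (mul_one _).symm)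
    subst hp
    rw [hB0, hA0, one_mul, one_mul] at e
    rw [hZinj r e]; rfl
  have hinj : Function.Injective f := by
    intro x y e
    have hinv : f (y.1, y.2.1, y.2.2 + y.1 * y.2.1) * f y = 1 := by
      rw [hmul]
      have h0 : ∀ t : Enum.F4, t + t = 0 := by decide
      show f (y.1 + y.1, y.2.1 + y.2.1, y.2.2 + y.1 * y.2.1 + y.2.2 + y.1 * y.2.1) = 1
      rw [show y.2.2 + y.1 * y.2.1 + y.2.2 + y.1 * y.2.1 = (y.2.2 + y.2.2) + (y.1 * y.2.1 + y.1 * y.2.1) by ring,
        h0, h0, h0, h0, add_zero]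
      show B 0 * A 0 * Z 0 = 1
      rw [hB0, hA0, hZ0, one_mul, one_mul]
    rw [← e, hmul] at hinv
    have h := hker _ hinv
    simp only [Prod.ext_iff, Prod.fst_zero, Prod.snd_zero] at h
    obtain ⟨h1, h2, h3'⟩ := h
    have h0 : ∀ s t : Enum.F4, s + t = 0 → t = s := by decide
    have e1 := h0 _ _ h1
    have e2 := h0 _ _ h2
    refine Prod.ext e1 (Prod.ext e2 (h0 _ _ ?_))
    rw [e2] at h3'
    linear_combination h3' - (show ∀ t : Enum.F4, t + t = 0 by decide) (y.1 * y.2.1)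
  refine ⟨f, (Nat.bijective_iff_injective_and_card f).mpr ⟨hinj, ?_⟩, hmul⟩
  rw [hT, Nat.card_eq_fintype_card]
  rfl

/-- The commutator pairing is determined by one value. -/
theorem pairing {T : Type*} [Group T] [Finite T] (hT : Nat.card T = 64) (hna : ¬ IsMulCommutative T)
    {σ : MulAut T} (h3 : ∀ y, σ (σ (σ y)) = y) (hfp : ∀ y, σ y = y → y = 1) (p q : T) :
    σ p * q * (σ p)⁻¹ * q⁻¹ = σ (σ (p * q * p⁻¹ * q⁻¹)) ∧
    p * σ q * p⁻¹ * (σ q)⁻¹ = σ (σ (p * q * p⁻¹ * q⁻¹)) ∧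
    p * σ (σ q) * p⁻¹ * (σ (σ q))⁻¹ = σ (p * q * p⁻¹ * q⁻¹) := by
  obtain ⟨-, hcen, -⟩ := structure_64 hT hna h3 hfp
  have hz2 := center_facts hT hna h3 hfp
  have hcomm : ∀ w ∈ Subgroup.center T, ∀ g, w * g = g * w := fun w hw g => (Subgroup.mem_center_iff.mp hw g).symm
  have hσz : ∀ y : T, y ∈ Subgroup.center T → σ y ∈ Subgroup.center T := fun y hy => Subgroup.mem_center_iff.mpr fun w => by
    obtain ⟨w, rfl⟩ := σ.surjective w
    rw [← map_mul, ← map_mul, Subgroup.mem_center_iff.mp hy w]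
  have hinv : ∀ w ∈ Subgroup.center T, w⁻¹ = w := fun w hw => Invol.inv_eq_self_of_mul_self (hz2 w hw)
  have hl : ∀ u v : T, u⁻¹ * v * u⁻¹⁻¹ * v⁻¹ = u * v * u⁻¹ * v⁻¹ := fun u v => by
    have h := comm_mul_left hcen u u⁻¹ v
    simp only [mul_inv_cancel, one_mul, inv_one, mul_one] at h
    rw [eq_inv_of_mul_eq_one_right h.symm]
    exact hinv _ (hcen u v)
  have hr : ∀ u v : T, u * v⁻¹ * u⁻¹ * v⁻¹⁻¹ = u * v * u⁻¹ * v⁻¹ := fun u v => by
    have h := comm_mul_right hcen u v v⁻¹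
    simp only [mul_inv_cancel, mul_one, inv_one] at h
    rw [eq_inv_of_mul_eq_one_right h.symm]
    exact hinv _ (hcen u v)
  have h2 : ∀ g : T, σ (σ g) = (g * σ g)⁻¹ := fun g => eq_inv_of_mul_eq_one_right (fpf_commute h3 hfp g).1
  set c := p * q * p⁻¹ * q⁻¹ with hc
  set E₁ := σ p * q * (σ p)⁻¹ * q⁻¹ with hE₁
  set E₂ := p * σ q * p⁻¹ * (σ q)⁻¹ with hE₂
  have hD : σ p * σ q * (σ p)⁻¹ * (σ q)⁻¹ = σ c := by rw [hc]; simp only [map_mul, map_inv]
  have r1 : σ E₁ = E₂ * σ c := by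
    conv_lhs => rw [hE₁]
    simp only [map_mul, map_inv]
    rw [h2 p, hl, comm_mul_left hcen, hD, ← hE₂]
  have r2 : σ E₂ = E₁ * σ c := by
    conv_lhs => rw [hE₂]
    simp only [map_mul, map_inv]
    rw [h2 q, hr, comm_mul_right hcen, hD, ← hE₁]
  have hcz : c ∈ Subgroup.center T := hcen p q
  have hE1z : E₁ ∈ Subgroup.center T := hcen _ _
  have hE2z : E₂ ∈ Subgroup.center T := hcen _ _
  have h12 : E₁ = E₂ := by
    have h : σ (E₁ * E₂) = E₁ * E₂ := by
      rw [map_mul, r1, r2]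
      calc E₂ * σ c * (E₁ * σ c) = E₂ * (σ c * (E₁ * σ c)) := mul_assoc _ _ _
        _ = E₂ * (E₁ * σ c * σ c) := by rw [hcomm _ (hσz c hcz)]
        _ = E₂ * E₁ := by rw [mul_assoc E₁, hz2 _ (hσz c hcz), mul_one]
        _ = _ := hcomm _ hE2z _
    exact (eq_inv_of_mul_eq_one_left (hfp _ h)).trans (hinv _ hE2z)
  have hdz : σ (σ c) ∈ Subgroup.center T := hσz _ (hσz c hcz)
  have hE1 : E₁ = σ (σ c) := by
    have h : σ (E₁ * σ (σ c)) = E₁ * σ (σ c) := by
      rw [map_mul, r1, ← h12, h3, h2 c, hinv _ (mul_mem hcz (hσz c hcz))]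
      exact (mul_assoc E₁ _ _).trans (congrArg _ (hcomm _ (hσz c hcz) c))
    exact (eq_inv_of_mul_eq_one_left (hfp _ h)).trans (hinv _ hdz)
  have hE2 : E₂ = σ (σ c) := h12 ▸ hE1
  refine ⟨hE1, hE2, ?_⟩
  rw [h2 q, hr, comm_mul_right hcen, ← hE₂, ← hc, hE2, h2 c, hinv _ (mul_mem hcz (hσz c hcz)), ← mul_assoc,
    hz2 c hcz, one_mul]

end Cfsg.Agent.InvChar.FPF64
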