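import Mathlib
import Cfsg.Agent.Lib.InvChar.BrauerSuzuki
import Cfsg.Agent.Lib.Invol.Isolated

/-!
# Simple groups with an involution centralizer containing at most three involutions
-/

set_option autoImplicit false
set_option linter.style.haveILetI false
set_option linter.unusedSectionVars false

namespace Cfsg.Agent.InvChar

open Cfsg Cfsg.Agent

universe u

variable {G : Type u} [Group G] [Finite G]

theorem orderOf_mul_invol {a b : G} (ha : orderOf a = 2) (hb : orderOf b = 2) (h : Commute a b)
    (hne : a ≠ b) : orderOf (a * b) = 2 := by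
  refine Invol.orderOf_two_of_mul_self ?_ fun h1 => hne ?_
  · rw [h.symm.mul_mul_mul_comm, Invol.mul_self_of_orderOf_two ha,
      Invol.mul_self_of_orderOf_two hb, one_mul]
  · rw [eq_inv_of_mul_eq_one_left h1, Invol.inv_of_orderOf_two hb]

/-- The involutions of a centralizer with at most three involutions. -/
theorem mem_three {x : G} (hx : orderOf x = 2)
    (h3 : Nat.card {u : ↥(Subgroup.centralizer ({x} : Set G)) // orderOf u = 2} ≤ 3)
    {b : G} (hb : orderOf b = 2) (hbx : Commute b x) (hne : b ≠ x)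
    {u : G} (hu : orderOf u = 2) (hux : Commute u x) : u = x ∨ u = b ∨ u = x * b := by
  classical
  by_contra hcon
  push Not at hcon
  obtain ⟨h1, h2, h3'⟩ := hcon
  have hbne : x * b ≠ x := fun h => Invol.ne_one_of_orderOf_two hb (mul_eq_left.mp h)
  have hxne : x * b ≠ b := fun h => Invol.ne_one_of_orderOf_two hx (mul_eq_right.mp h)
  have hp := orderOf_mul_invol hx hb hbx.symm hne.symm
  let f : Fin 4 → {u : ↥(Subgroup.centralizer ({x} : Set G)) // orderOf u = 2} :=
    ![⟨⟨x, Subgroup.mem_centralizer_singleton_iff.mpr rfl⟩, by rw [Subgroup.orderOf_mk]; exact hx⟩,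
      ⟨⟨b, Subgroup.mem_centralizer_singleton_iff.mpr hbx⟩, by rw [Subgroup.orderOf_mk]; exact hb⟩,
      ⟨⟨x * b, Subgroup.mem_centralizer_singleton_iff.mpr ((Commute.refl x).mul_left hbx)⟩,
        by rw [Subgroup.orderOf_mk]; exact hp⟩,
      ⟨⟨u, Subgroup.mem_centralizer_singleton_iff.mpr hux⟩, by rw [Subgroup.orderOf_mk]; exact hu⟩]
  have hf : Function.Injective f := by
    intro i j h
    have h' : (((f i : {u : ↥(Subgroup.centralizer ({x} : Set G)) // orderOf u = 2}) : ↥(Subgroup.centralizer ({x} : Set G))) : G) = ((f j).1 : G) := by rw [h]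
    fin_cases i <;> fin_cases j <;> simp [f] at h' <;>
      first
      | rfl
      | exact absurd h' hne | exact absurd h'.symm hne
      | exact absurd h' hbne | exact absurd h'.symm hbne
      | exact absurd h' hxne | exact absurd h'.symm hxne
      | exact absurd h' h1 | exact absurd h'.symm h1
      | exact absurd h' h2 | exact absurd h'.symm h2
      | exact absurd h' h3' | exact absurd h'.symm h3'
      | exact absurd h' (Invol.ne_one_of_orderOf_two hb) | exact absurd h'.symm (Invol.ne_one_of_orderOf_two hb)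
      | exact absurd h' (Invol.ne_one_of_orderOf_two hx) | exact absurd h'.symm (Invol.ne_one_of_orderOf_two hx)
  have := Nat.card_le_card_of_injective f hf
  rw [Nat.card_fin] at this
  omega

variable [IsSimpleGroup G]

/-- In a simple group an involution is central or not isolated. -/
theorem isolated_mem_center {z : G} (hz : IsIsolatedInvolution z) : z ∈ Subgroup.center G := by
  haveI : Fact (Nat.Prime 2) := ⟨Nat.prime_two⟩
  rcases (Basics.pPrimeCore_normal (G := G) 2).eq_bot_or_eq_top with h | h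
  · rw [Subgroup.mem_center_iff]
    intro g
    have hc : z * g * z⁻¹ * g⁻¹ ∈ pPrimeCore 2 G := zstarHyp G z hz g
    rw [h, Subgroup.mem_bot, mul_inv_eq_one, mul_inv_eq_iff_eq_mul] at hc
    exact hc.symm
  · exfalso
    have hdvd : 2 ∣ Nat.card G := hz.1 ▸ orderOf_dvd_natCard z
    have := Basics.not_dvd_card_pPrimeCore (G := G) 2
    rw [h, Subgroup.card_top] at this
    exact this hdvd

theorem not_mem_center_of_ne {z w : G} (hz : orderOf z = 2) (hw : orderOf w = 2) (hne : w ≠ z) :
    z ∉ Subgroup.center G := by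
  intro hc
  have hn : (Subgroup.zpowers z).Normal := ⟨fun a ha g => by
    rwa [Subgroup.mem_center_iff.mp ((Subgroup.zpowers_le.mpr hc) ha) g, mul_inv_cancel_right]⟩
  rcases hn.eq_bot_or_eq_top with h | h
  · exact Invol.ne_one_of_orderOf_two hz (Subgroup.zpowers_eq_bot.mp h)
  · have hmem : w ∈ Subgroup.zpowers z := h ▸ Subgroup.mem_top w
    obtain ⟨k, hk⟩ := hmem
    simp only at hk
    rcases Int.even_or_odd k with ⟨j, rfl⟩ | ⟨j, rfl⟩
    · rw [← two_mul, zpow_mul, zpow_two, Invol.mul_self_of_orderOf_two hz, one_zpow] at hk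
      exact Invol.ne_one_of_orderOf_two hw hk.symm
    · rw [zpow_add_one, zpow_mul, zpow_two, Invol.mul_self_of_orderOf_two hz, one_zpow, one_mul] at hk
      exact hne hk.symm

/-- The first part: `x` is 2-central. -/
theorem exists_sylow_le_centralizer {x : G} (hx : orderOf x = 2)
    (h3 : Nat.card {u : ↥(Subgroup.centralizer ({x} : Set G)) // orderOf u = 2} ≤ 3) :
    ∃ S : Sylow 2 G, (S : Subgroup G) ≤ Subgroup.centralizer ({x} : Set G) := by
  classical
  haveI : Fact (Nat.Prime 2) := ⟨Nat.prime_two⟩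
  set C := Subgroup.centralizer ({x} : Set G) with hC
  obtain ⟨S₀⟩ := (inferInstance : Nonempty (Sylow 2 C))
  obtain ⟨S, hS⟩ := (S₀.2.map C.subtype).exists_le_sylow
  have hxS₀ : x ∈ (S₀ : Subgroup C).map C.subtype := by
    have hxC : x ∈ C := Subgroup.mem_centralizer_singleton_iff.mpr rfl
    have hn : (Subgroup.zpowers (⟨x, hxC⟩ : C)).Normal := ⟨fun a ha g => by
      have hc : (⟨x, hxC⟩ : C) ∈ Subgroup.center C := Subgroup.mem_center_iff.mpr fun g =>
        Subtype.ext (Subgroup.mem_centralizer_singleton_iff.mp g.2)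
      rwa [Subgroup.mem_center_iff.mp ((Subgroup.zpowers_le.mpr hc) ha) g, mul_inv_cancel_right]⟩
    haveI := hn
    have hp : IsPGroup 2 (Subgroup.zpowers (⟨x, hxC⟩ : C)) := IsPGroup.of_card (n := 1) (by
      rw [Nat.card_zpowers, Subgroup.orderOf_mk, hx, pow_one])
    exact ⟨⟨x, hxC⟩, ((Basics.le_pCore hp).trans (Basics.pCore_le_sylow 2 S₀))
      (Subgroup.mem_zpowers _), rfl⟩
  have hxS : x ∈ (S : Subgroup G) := hS hxS₀
  -- a central involution
  haveI : Nontrivial (S : Subgroup G) :=
    ⟨⟨⟨x, hxS⟩, 1, fun h => Invol.ne_one_of_orderOf_two hx (congrArg Subtype.val h)⟩⟩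
  haveI := S.2.center_nontrivial
  obtain ⟨k, hk⟩ := (S.2.to_subgroup (Subgroup.center (S : Subgroup G))).exists_card_eq
  have hk0 : k ≠ 0 := by
    rintro rfl
    rw [pow_zero] at hk
    exact Finite.one_lt_card.ne' hk
  obtain ⟨z₀, hz₀⟩ := exists_prime_orderOf_dvd_card' (G := Subgroup.center (S : Subgroup G)) 2
    (hk ▸ dvd_pow_self 2 hk0)
  set z : G := ((z₀ : (S : Subgroup G)) : G) with hzdef
  have hzS : z ∈ (S : Subgroup G) := (z₀ : (S : Subgroup G)).2
  have hz : orderOf z = 2 := by rw [hzdef, Subgroup.orderOf_coe, Subgroup.orderOf_coe]; exact hz₀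
  have hzc : ∀ s ∈ (S : Subgroup G), s * z = z * s := fun s hs =>
    congrArg Subtype.val (Subgroup.mem_center_iff.mp z₀.2 ⟨s, hs⟩)
  by_cases hzx : z = x
  · exact ⟨S, fun s hs => Subgroup.mem_centralizer_singleton_iff.mpr (hzx ▸ hzc s hs)⟩
  have hzxc : Commute z x := (hzc x hxS).symm
  have hV := fun u (hu : orderOf u = 2) (hux : Commute u x) => mem_three hx h3 hz hzxc hzx hu hux
  by_cases hSC : (S : Subgroup G) ≤ C
  · exact ⟨S, hSC⟩
  -- `x` is conjugate to `z`
  suffices hconj : IsConj x z by
    obtain ⟨g, hg⟩ := isConj_iff.mp hconj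
    refine ⟨MulAut.conj g⁻¹ • S, fun s hs => ?_⟩
    obtain ⟨s₀, hs₀, rfl⟩ := (Subgroup.mem_smul_pointwise_iff_exists s (MulAut.conj g⁻¹)
      (S : Subgroup G)).mp hs
    rw [hC, Subgroup.mem_centralizer_singleton_iff, MulAut.smul_def, MulAut.conj_apply, inv_inv]
    have h0 := hzc s₀ hs₀
    rw [← hg] at h0
    calc g⁻¹ * s₀ * g * x = g⁻¹ * (s₀ * (g * x * g⁻¹)) * g := by group
      _ = g⁻¹ * (g * x * g⁻¹ * s₀) * g := by rw [h0]
      _ = x * (g⁻¹ * s₀ * g) := by group
  by_contra hnc
  -- an element swapping `x` and `x * z`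
  obtain ⟨s, hs, hsx⟩ : ∃ s ∈ (S : Subgroup G), s * x * s⁻¹ = x * z := by
    set D := C.subgroupOf (S : Subgroup G) with hD
    have hlt : D < ⊤ := lt_of_le_of_ne le_top fun h => hSC (Subgroup.subgroupOf_eq_top.mp h)
    haveI : Group.IsNilpotent (S : Subgroup G) := S.2.isNilpotent
    obtain ⟨s, hsn, hsD⟩ := SetLike.exists_of_lt (normalizerCondition_of_isNilpotent D hlt)
    have hmem : (s : G) * x * (s : G)⁻¹ ∈ C :=
      ((Subgroup.mem_normalizer_iff.mp hsn) ⟨x, hxS⟩).mp
        (show x ∈ C from Subgroup.mem_centralizer_singleton_iff.mpr rfl)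
    rcases hV _ (by rw [Invol.orderOf_conj, hx]) (Subgroup.mem_centralizer_singleton_iff.mp hmem)
      with h | h | h
    · exact absurd (show s ∈ D from Subgroup.mem_centralizer_singleton_iff.mpr
        (mul_inv_eq_iff_eq_mul.mp h)) hsD
    · exfalso
      exact hnc (isConj_iff.mpr ⟨(s : G), h⟩)
    · exact ⟨s, s.2, h⟩
  -- all conjugates of `z` commute with `z`
  have hcomm : ∀ g : G, Commute (g * z * g⁻¹) z := by
    intro g
    set x' := g * x * g⁻¹ with hx'
    set w := g * z * g⁻¹ with hw
    have hx'2 : orderOf x' = 2 := by rw [hx', Invol.orderOf_conj, hx]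
    have hw2 : orderOf w = 2 := by rw [hw, Invol.orderOf_conj, hz]
    have hV' : ∀ v : G, orderOf v = 2 → Commute v x' → v = x' ∨ v = w ∨ v = x' * w := by
      intro v hv hvx
      have hc := hvx.map (MulAut.conj g⁻¹).toMonoidHom
      simp only [MulEquiv.toMonoidHom_eq_coe, MonoidHom.coe_coe, MulAut.conj_apply, inv_inv, hx'] at hc
      rw [show g⁻¹ * (g * x * g⁻¹) * g = x by group] at hc
      have e1 : g⁻¹ * v * g = g⁻¹ * v * g⁻¹⁻¹ := by group
      rcases hV (g⁻¹ * v * g) (by rw [e1, Invol.orderOf_conj, hv]) hc with h | h | h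
      · left; rw [hx', ← h]; group
      · right; left; rw [hw, ← h]; group
      · right; right
        calc v = g * (g⁻¹ * v * g) * g⁻¹ := by group
          _ = g * (x * z) * g⁻¹ := by rw [h]
          _ = x' * w := by rw [hx', hw]; group
    have hnc' : ¬ IsConj x' z := fun h => hnc ((isConj_iff.mpr ⟨g, rfl⟩ : IsConj x x').trans h)
    obtain ⟨v, -, hv, hvx', hvz⟩ := Invol.exists_commuting_involution_of_not_isConj
      (Invol.mul_self_of_orderOf_two hx'2) (Invol.mul_self_of_orderOf_two hz) hnc'
    rcases hV' v hv hvx' with rfl | rfl | rfl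
    · rcases hV' z hz hvz.symm with h | h | h
      · exact absurd (h ▸ IsConj.refl _) hnc'
      · rw [← h]
      · rw [h]
        have hxw : Commute x' w := by
          have := hzxc.symm.map (MulAut.conj g).toMonoidHom
          simpa [hx', hw] using this
        exact hxw.symm.mul_right (Commute.refl w)
    · exact hvz
    · -- `x' * w` is the conjugate of `x` by `g * s`
      set g' := g * s with hg'
      have ex : g' * x * g'⁻¹ = x' * w := by
        calc g' * x * g'⁻¹ = g * (s * x * s⁻¹) * g⁻¹ := by rw [hg']; group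
          _ = g * (x * z) * g⁻¹ := by rw [hsx]
          _ = x' * w := by rw [hx', hw]; group
      have ez : g' * z * g'⁻¹ = w := by
        calc g' * z * g'⁻¹ = g * (s * z * s⁻¹) * g⁻¹ := by rw [hg']; group
          _ = w := by rw [hzc s hs, mul_inv_cancel_right]
      have hc := hvz.map (MulAut.conj g'⁻¹).toMonoidHom
      simp only [MulEquiv.toMonoidHom_eq_coe, MonoidHom.coe_coe, MulAut.conj_apply, inv_inv] at hc
      rw [← ex, show g'⁻¹ * (g' * x * g'⁻¹) * g' = x by group] at hc
      have e1 : g'⁻¹ * z * g' = g'⁻¹ * z * g'⁻¹⁻¹ := by group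
      rcases hV _ (by rw [e1, Invol.orderOf_conj, hz]) hc.symm with h | h | h
      · exfalso
        exact hnc (isConj_iff.mpr ⟨g', by rw [← h]; group⟩)
      · have : z = w := by rw [← ez]; nth_rw 2 [← h]; group
        rw [← this]
      · have : z = g' * x * g'⁻¹ * (g' * z * g'⁻¹) := by
          rw [show g' * x * g'⁻¹ * (g' * z * g'⁻¹) = g' * (x * z) * g'⁻¹ by group, ← h]; group
        rw [ex, ez, mul_assoc, Invol.mul_self_of_orderOf_two hw2, mul_one] at this
        exact absurd (this.symm ▸ IsConj.refl z : IsConj x' z) hnc'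
  refine not_mem_center_of_ne hz hx (Ne.symm hzx) ?_
  rw [Subgroup.mem_center_iff]
  have hle : Subgroup.normalClosure ({z} : Set G) ≤ Subgroup.centralizer ({z} : Set G) := by
    refine (Subgroup.closure_le _).mpr ?_
    intro a ha
    obtain ⟨b, hb, hab⟩ := Group.mem_conjugatesOfSet_iff.mp ha
    rw [Set.mem_singleton_iff] at hb
    subst hb
    obtain ⟨g, rfl⟩ := isConj_iff.mp hab
    exact Subgroup.mem_centralizer_singleton_iff.mpr (hcomm g)
  rcases (Subgroup.normalClosure_normal (s := ({z} : Set G))).eq_bot_or_eq_top with h | h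
  · exfalso
    have := Subgroup.subset_normalClosure (Set.mem_singleton z)
    rw [h] at this
    exact Invol.ne_one_of_orderOf_two hz this
  · intro g
    exact Subgroup.mem_centralizer_singleton_iff.mp (hle (h ▸ Subgroup.mem_top g))

/-- The second part: one class of involutions. -/
theorem isConj_of_three {x : G} (hx : orderOf x = 2)
    (h3 : Nat.card {u : ↥(Subgroup.centralizer ({x} : Set G)) // orderOf u = 2} ≤ 3)
    {u : G} (hu : orderOf u = 2) : IsConj x u := by
  classical
  haveI : Fact (Nat.Prime 2) := ⟨Nat.prime_two⟩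
  by_cases hcen : x ∈ Subgroup.center G
  · by_contra hne
    exact not_mem_center_of_ne hx hu (fun h => hne (h ▸ IsConj.refl u)) hcen
  obtain ⟨S, hS⟩ := exists_sylow_le_centralizer hx h3
  have hxS : x ∈ (S : Subgroup G) := by
    have hp : IsPGroup 2 (Subgroup.zpowers x) :=
      IsPGroup.of_card (n := 1) (by rw [Nat.card_zpowers, hx, pow_one])
    have hsup : IsPGroup 2 ((Subgroup.zpowers x ⊔ (S : Subgroup G) : Subgroup G)) := by
      refine IsPGroup.to_sup_of_normal_left' hp S.2 ?_
      intro s hs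
      have hsc : s * x = x * s := Subgroup.mem_centralizer_singleton_iff.mp (hS hs)
      refine Subgroup.centralizer_le_normalizer _ (Subgroup.mem_centralizer_iff.mpr ?_)
      rintro _ ⟨k, rfl⟩
      exact ((show Commute x s from hsc.symm).zpow_left k).eq
    have := S.3 hsup le_sup_right
    exact this ▸ (le_sup_left (b := (S : Subgroup G)) (Subgroup.mem_zpowers x))
  obtain ⟨y, hy, hyS, hyx⟩ : ∃ y, orderOf y = 2 ∧ y ∈ (S : Subgroup G) ∧ y ≠ x := by
    by_contra hcon
    push Not at hcon
    refine hcen (isolated_mem_center (Invol.isolated_of_sylow S hx hxS fun g hg => ?_))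
    exact hcon _ (by rw [Invol.orderOf_conj, hx]) hg
  have hyc : Commute y x := Subgroup.mem_centralizer_singleton_iff.mp (hS hyS)
  have hV := fun v (hv : orderOf v = 2) (hvx : Commute v x) => mem_three hx h3 hy hyc hyx hv hvx
  have hp2 := orderOf_mul_invol hx hy hyc.symm hyx.symm
  have hVS : ∀ g w : G, orderOf w = 2 → g * w * g⁻¹ ∈ (S : Subgroup G) →
      g * w * g⁻¹ = x ∨ g * w * g⁻¹ = y ∨ g * w * g⁻¹ = x * y := fun g w hw hmem =>
    hV _ (by rw [Invol.orderOf_conj, hw]) (Subgroup.mem_centralizer_singleton_iff.mp (hS hmem))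
  have hxy1 : x * y ≠ x := fun h => Invol.ne_one_of_orderOf_two hy (mul_eq_left.mp h)
  have hxy2 : x * y ≠ y := fun h => Invol.ne_one_of_orderOf_two hx (mul_eq_right.mp h)
  -- all three are conjugate to `x`
  have hall : IsConj x y ∧ IsConj x (x * y) := by
    by_cases h1 : IsConj x y
    · refine ⟨h1, ?_⟩
      by_contra h2
      refine not_mem_center_of_ne hp2 hx hxy1.symm (isolated_mem_center
        (Invol.isolated_of_sylow S hp2 (mul_mem hxS hyS) fun g hg => ?_))
      rcases hVS g _ hp2 hg with h | h | h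
      · exact absurd (isConj_iff.mpr ⟨g, h⟩).symm h2
      · exact absurd (h1.trans (isConj_iff.mpr ⟨g, h⟩).symm) h2
      · exact h
    · exfalso
      by_cases h2 : IsConj x (x * y)
      · refine not_mem_center_of_ne hy hx hyx.symm (isolated_mem_center
          (Invol.isolated_of_sylow S hy hyS fun g hg => ?_))
        rcases hVS g _ hy hg with h | h | h
        · exact absurd (isConj_iff.mpr ⟨g, h⟩).symm h1
        · exact h
        · exact absurd (h2.trans (isConj_iff.mpr ⟨g, h⟩).symm) h1
      · refine hcen (isolated_mem_center (Invol.isolated_of_sylow S hx hxS fun g hg => ?_))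
        rcases hVS g _ hx hg with h | h | h
        · exact h
        · exact absurd (isConj_iff.mpr ⟨g, h⟩) h1
        · exact absurd (isConj_iff.mpr ⟨g, h⟩) h2
  by_contra hne
  obtain ⟨v, -, hv, hvx, hvu⟩ := Invol.exists_commuting_involution_of_not_isConj
    (Invol.mul_self_of_orderOf_two hx) (Invol.mul_self_of_orderOf_two hu) hne
  have hvconj : IsConj x v := by
    rcases hV v hv hvx with rfl | rfl | rfl
    · exact IsConj.refl _
    · exact hall.1
    · exact hall.2
  obtain ⟨g, hg⟩ := isConj_iff.mp hvconj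
  have hc := hvu.map (MulAut.conj g⁻¹).toMonoidHom
  simp only [MulEquiv.toMonoidHom_eq_coe, MonoidHom.coe_coe, MulAut.conj_apply, inv_inv] at hc
  rw [← hg, show g⁻¹ * (g * x * g⁻¹) * g = x by group] at hc
  have e1 : g⁻¹ * u * g = g⁻¹ * u * g⁻¹⁻¹ := by group
  have hbase : IsConj x (g⁻¹ * u * g) := by
    rcases hV _ (by rw [e1, Invol.orderOf_conj, hu]) hc.symm with h | h | h <;> rw [h]
    · exact hall.1
    · exact hall.2
  exact hne (hbase.trans (isConj_iff.mpr ⟨g, by group⟩))

end Cfsg.Agent.InvChar
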