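import Mathlib
import Cfsg.Agent.Lib.InvChar.Q8Block
import Cfsg.Agent.Lib.InvChar.ThreeInvol
import Cfsg.Agent.Lib.ClassSum.Basic

/-!
# Groups in which a four group contains all involutions commuting with one of its involutions
-/

set_option autoImplicit false
set_option linter.style.haveILetI false
set_option linter.unusedSectionVars false

namespace Cfsg.Agent.FourCent

open Cfsg Cfsg.Agent
open scoped ComplexConjugate

universe u

variable {G : Type u} [Group G] [Finite G]

/-- The set-up. -/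
structure Setup (G : Type u) [Group G] [Finite G] (x : G) (V : Subgroup G) : Prop where
  hx : orderOf x = 2
  mem : x ∈ V
  card : Nat.card V = 4
  exp : ∀ v ∈ V, v * v = 1
  cent : ∀ v ∈ V, v ≠ 1 →
    Subgroup.centralizer ({v} : Set G) = Subgroup.centralizer ({x} : Set G)
  invol : ∀ u : G, orderOf u = 2 → Commute u x → u ∈ V
  sylow : ∃ S : Sylow 2 G, (S : Subgroup G) = V
  oneClass : ∀ u : G, orderOf u = 2 → IsConj x u

variable {x : G} {V : Subgroup G}

theorem Setup.le_cent (h : Setup G x V) : V ≤ Subgroup.centralizer ({x} : Set G) := by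
  intro v hv
  by_cases h1 : v = 1
  · rw [h1]; exact one_mem _
  · rw [← h.cent v hv h1]; exact Subgroup.mem_centralizer_singleton_iff.mpr rfl

theorem Setup.commute (h : Setup G x V) {v c : G} (hv : v ∈ V)
    (hc : c ∈ Subgroup.centralizer ({x} : Set G)) : Commute c v := by
  by_cases h1 : v = 1
  · rw [h1]; exact Commute.one_right _
  · rw [← h.cent v hv h1] at hc
    exact Subgroup.mem_centralizer_singleton_iff.mp hc

/-- The structure of the centralizer. -/
theorem Setup.decomp (h : Setup G x V) :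
    (∀ c ∈ Subgroup.centralizer ({x} : Set G), ∀ w, IsPPart 2 c w → w ∈ V) ∧
    ∃ N : Subgroup (Subgroup.centralizer ({x} : Set G)), N.Normal ∧ N.index = 4 ∧
      ¬ 2 ∣ Nat.card N ∧
      ∀ c : Subgroup.centralizer ({x} : Set G), ¬ 2 ∣ orderOf c → c ∈ N := by
  haveI : Fact (Nat.Prime 2) := ⟨Nat.prime_two⟩
  set C := Subgroup.centralizer ({x} : Set G) with hC
  obtain ⟨S, hS⟩ := h.sylow
  have hVC := h.le_cent
  refine ⟨fun c hc w hw => ?_, ?_⟩
  · have hwC : w ∈ C := Subgroup.zpowers_le.mpr hc (Blocks.ppart_mem_zpowers hw)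
    obtain ⟨o, -, -, ⟨k, hk⟩, -⟩ := hw
    have hp : IsPGroup 2 (Subgroup.zpowers w) := IsPGroup.of_card (n := k) (by rw [Nat.card_zpowers, hk])
    have hsup : IsPGroup 2 ((Subgroup.zpowers w ⊔ V : Subgroup G)) := by
      refine IsPGroup.to_sup_of_normal_left' hp (hS ▸ S.2) ?_
      intro v hv
      refine Subgroup.centralizer_le_normalizer _ (Subgroup.mem_centralizer_iff.mpr ?_)
      rintro _ ⟨j, rfl⟩
      exact ((h.commute hv hwC).zpow_left j).eq
    have := S.3 hsup (hS ▸ le_sup_right)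
    rw [← hS, ← this]
    exact le_sup_left (b := V) (Subgroup.mem_zpowers w)
  · set P := (S.subtype (hS ▸ hVC) : Sylow 2 C) with hP
    have hcent : Subgroup.normalizer ((P : Subgroup C) : Set C) ≤
        Subgroup.centralizer ((P : Subgroup C) : Set C) := by
      intro c _
      rw [Subgroup.mem_centralizer_iff]
      intro p hp
      exact Subtype.ext (h.commute (hS ▸ hp) c.2).eq.symm
    obtain ⟨Q, N, hN, hNQ⟩ := Transfer.hasNormalPComplement_of_normalizer_le P hcent
    have hodd : ¬ 2 ∣ Nat.card N := by rw [← hNQ.index_eq_card]; exact Q.not_dvd_index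
    have hidx : N.index = 4 := by
      rw [hNQ.symm.index_eq_card, Nat.card_congr (Sylow.equiv Q P).toEquiv, ← h.card]
      exact Nat.card_congr (((MulEquiv.subgroupCongr (Sylow.coe_subtype S (hS ▸ hVC))).trans
        (Subgroup.subgroupOfEquivOfLe (hS ▸ hVC))).trans (MulEquiv.subgroupCongr hS)).toEquiv
    refine ⟨N, hN, hidx, hodd, fun c hc => ?_⟩
    haveI := hN
    obtain ⟨j, hj⟩ := exists_pow_eq_self_of_coprime (x := c) (n := N.index) (by
      rw [hidx, show (4 : ℕ) = 2 ^ 2 by norm_num]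
      exact ((Nat.Prime.coprime_iff_not_dvd Nat.prime_two).mpr hc).pow_left 2)
    rw [← hj]
    exact Subgroup.pow_mem _ (Subgroup.pow_index_mem N c) j

theorem Setup.card_fiber (h : Setup G x V) {w : G} (hw : ∃ a : G, a⁻¹ * x * a = w) :
    Nat.card {a : G // a⁻¹ * x * a = w} = Nat.card (Subgroup.centralizer ({x} : Set G)) := by
  obtain ⟨a₀, ha₀⟩ := hw
  refine Nat.card_congr
    { toFun := fun a => ⟨(a : G) * a₀⁻¹, ?_⟩
      invFun := fun c => ⟨(c : G) * a₀, ?_⟩
      left_inv := fun a => Subtype.ext (inv_mul_cancel_right _ _)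
      right_inv := fun c => Subtype.ext (mul_inv_cancel_right _ _) }
  · rw [Subgroup.mem_centralizer_singleton_iff]
    have e : (a : G)⁻¹ * x * (a : G) = a₀⁻¹ * x * a₀ := a.2.trans ha₀.symm
    calc (a : G) * a₀⁻¹ * x = (a : G) * (a₀⁻¹ * x * a₀) * a₀⁻¹ := by group
      _ = (a : G) * ((a : G)⁻¹ * x * (a : G)) * a₀⁻¹ := by rw [e]
      _ = x * ((a : G) * a₀⁻¹) := by group
  · have hc : (c : G) * x = x * (c : G) := Subgroup.mem_centralizer_singleton_iff.mp c.2
    calc ((c : G) * a₀)⁻¹ * x * ((c : G) * a₀) = a₀⁻¹ * ((c : G)⁻¹ * (x * (c : G))) * a₀ := by group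
      _ = a₀⁻¹ * x * a₀ := by rw [← hc]; group
      _ = w := ha₀

theorem Setup.exists_conj (h : Setup G x V) {v : G} (hv : v ∈ V) (h1 : v ≠ 1) :
    ∃ a : G, a⁻¹ * x * a = v := by
  obtain ⟨a, ha⟩ := isConj_iff.mp (h.oneClass v (Invol.orderOf_two_of_mul_self (h.exp v hv) h1))
  exact ⟨a⁻¹, by rw [inv_inv]; exact ha⟩

/-- The normalizer of `V` contains the centralizer with index three. -/
theorem Setup.card_normalizer (h : Setup G x V) :
    Nat.card (Subgroup.normalizer (V : Set G)) =
      3 * Nat.card (Subgroup.centralizer ({x} : Set G)) := by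
  classical
  set C := Subgroup.centralizer ({x} : Set G) with hC
  have hconjmem : ∀ a : G, a⁻¹ * x * a ∈ V → a ∈ Subgroup.normalizer (V : Set G) := by
    intro a ha
    have hne : a⁻¹ * x * a ≠ 1 := fun h1 => Invol.ne_one_of_orderOf_two h.hx (by
      calc x = a * (a⁻¹ * x * a) * a⁻¹ := by group
        _ = 1 := by rw [h1]; group)
    have hsub : ∀ v ∈ V, a⁻¹ * v * a ∈ V := by
      intro v hv
      by_cases h1 : v = 1
      · rw [h1]; simp
      have hc : Commute (a⁻¹ * v * a) (a⁻¹ * x * a) := by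
        have := (h.commute hv (Subgroup.mem_centralizer_singleton_iff.mpr rfl : x ∈ C)).symm.map
          (MulAut.conj a⁻¹).toMonoidHom
        simpa using this
      have hmem : a⁻¹ * v * a ∈ C := by
        rw [hC, ← h.cent _ ha hne]; exact Subgroup.mem_centralizer_singleton_iff.mpr hc.eq
      refine h.invol _ ?_ (Subgroup.mem_centralizer_singleton_iff.mp hmem)
      rw [show a⁻¹ * v * a = a⁻¹ * v * a⁻¹⁻¹ by group, Invol.orderOf_conj]
      exact Invol.orderOf_two_of_mul_self (h.exp v hv) h1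
    have hle : V.map (MulAut.conj a⁻¹).toMonoidHom ≤ V := by
      rintro _ ⟨v, hv, rfl⟩
      simpa using hsub v hv
    have heq : V.map (MulAut.conj a⁻¹).toMonoidHom = V := Subgroup.eq_of_le_of_card_ge hle
      (Subgroup.card_map_of_injective (MulAut.conj a⁻¹).injective).ge
    have : a⁻¹ ∈ Subgroup.normalizer (V : Set G) := by
      rw [Subgroup.mem_normalizer_iff]
      intro v
      constructor
      · intro hv; rw [inv_inv]; exact hsub v hv
      · intro hv
        have : a⁻¹ * v * a⁻¹⁻¹ ∈ V.map (MulAut.conj a⁻¹).toMonoidHom := heq.symm ▸ hv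
        obtain ⟨v', hv', he⟩ := this
        simp only [MulEquiv.toMonoidHom_eq_coe, MonoidHom.coe_coe, MulAut.conj_apply] at he
        rwa [← mul_left_cancel (mul_right_cancel he)]
    exact inv_inv a ▸ inv_mem this
  let W := {v : G // v ∈ V ∧ v ≠ 1}
  have hW : Nat.card W = 3 := by
    have e : W ≃ {v : V // v ≠ 1} :=
      { toFun := fun v => ⟨⟨v.1, v.2.1⟩, fun h1 => v.2.2 (congrArg Subtype.val h1)⟩
        invFun := fun v => ⟨(v.1 : G), v.1.2, fun h1 => v.2 (Subtype.ext h1)⟩
        left_inv := fun v => rfl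
        right_inv := fun v => rfl }
    haveI := Fintype.ofFinite V
    rw [Nat.card_congr e, Nat.card_eq_fintype_card, Fintype.card_subtype_compl,
      Fintype.card_subtype_eq, ← Nat.card_eq_fintype_card, h.card]
  have e : Subgroup.normalizer (V : Set G) ≃ Σ v : W, {a : G // a⁻¹ * x * a = v.1} :=
    { toFun := fun a => ⟨⟨(a : G)⁻¹ * x * (a : G), by
          have := ((Subgroup.mem_normalizer_iff.mp (inv_mem a.2)) x).mp h.mem
          rwa [inv_inv] at this, fun h1 => Invol.ne_one_of_orderOf_two h.hx (by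
          calc x = (a : G) * ((a : G)⁻¹ * x * (a : G)) * (a : G)⁻¹ := by group
            _ = 1 := by rw [h1]; group)⟩, ⟨(a : G), rfl⟩⟩
      invFun := fun p => ⟨p.2.1, hconjmem _ (by rw [p.2.2]; exact p.1.2.1)⟩
      left_inv := fun a => rfl
      right_inv := fun p => Sigma.subtype_ext (Subtype.ext p.2.2) rfl }
  haveI := Fintype.ofFinite W
  rw [Nat.card_congr e, Nat.card_sigma, Finset.sum_congr rfl fun v _ =>
    h.card_fiber (h.exists_conj v.2.1 v.2.2), Finset.sum_const, Finset.card_univ,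
    ← Nat.card_eq_fintype_card, hW, smul_eq_mul]

/-- A class function that is 4 on the section of `x` and zero elsewhere lies in the principal
block, if principal block characters are constant on that section. -/
theorem inner_section_fn' [Fintype G]
    {M : Ideal AlgInt} (hM : IsPModular 2 M) {f : G → ℂ} (hf : IsClassFunction G f)
    (hconst : ∀ u w, IsPPart 2 u w → IsConj x w →
      ∀ ψ ∈ principalBlock M G, ((ψ : IrrCharacter G) : G → ℂ) u = (ψ : G → ℂ) x)
    (h4 : ∀ u w, IsPPart 2 u w → IsConj x w → f u = 4)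
    (h0 : ∀ u w, IsPPart 2 u w → ¬ IsConj x w → f u = 0) (h1 : classInner f (fun _ => 1) = 1)
    (χ : IrrCharacter G) :
    (χ ∈ principalBlock M G → classInner f (χ : G → ℂ) = conj ((χ : G → ℂ) x)) ∧
      (χ ∉ principalBlock M G → classInner f (χ : G → ℂ) = 0) := by
  classical
  haveI : Fact (Nat.Prime 2) := ⟨Nat.prime_two⟩
  haveI := hM.2.1.isPrime
  have hin : ∀ ψ : IrrCharacter G, ψ ∈ principalBlock M G →
      classInner f (ψ : G → ℂ) = conj ((ψ : G → ℂ) x) := by
    intro ψ hψ
    have : ∀ u, f u * conj ((ψ : G → ℂ) u) = f u * conj ((ψ : G → ℂ) x) := by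
      intro u
      obtain ⟨w, hw, -⟩ := Blocks.exists_isPPart (p := 2) u
      by_cases hc : IsConj x w
      · rw [hconst u w hw hc ψ hψ]
      · rw [h0 u w hw hc, zero_mul, zero_mul]
    have h1' : (Nat.card G : ℂ)⁻¹ * ∑ u, f u = 1 := by
      simpa [classInner] using h1
    rw [classInner]
    simp only [this, ← Finset.sum_mul]
    rw [← mul_assoc, h1', one_mul]
  refine ⟨hin χ, fun hχ => ?_⟩
  set c : IrrCharacter G → ℂ := fun ψ =>
    if ψ ∈ principalBlock M G then classInner f (ψ : G → ℂ) else 0 with hc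
  set P : G → ℂ := ∑ ψ : IrrCharacter G, c ψ • (ψ : G → ℂ) with hP
  have hPapply : ∀ u, P u = ∑ ψ : IrrCharacter G, c ψ * (ψ : G → ℂ) u := fun u => by
    simp [hP, Finset.sum_apply]
  have hPblock : ∀ u, P u = blockPart (principalBlock M G) f u := by
    intro u
    rw [hPapply, blockPart, Blocks.finsum_mem_irr]
    refine Finset.sum_congr rfl fun ψ _ => ?_
    by_cases hψ : ψ ∈ principalBlock M G
    · simp only [hc, if_pos hψ]
      congr 2
      exact Subsingleton.elim _ _
    · simp only [hc, if_neg hψ, zero_mul]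
  have hPf : P = (P x / 4) • f := by
    funext u
    obtain ⟨w, hw, -⟩ := Blocks.exists_isPPart (p := 2) u
    rw [Pi.smul_apply, smul_eq_mul]
    by_cases hcw : IsConj x w
    · rw [h4 u w hw hcw, hPapply, hPapply, div_mul_cancel₀ _ (by norm_num : (4 : ℂ) ≠ 0)]
      refine Finset.sum_congr rfl fun ψ _ => ?_
      by_cases hψ : ψ ∈ principalBlock M G
      · rw [hconst u w hw hcw ψ hψ]
      · simp only [hc, if_neg hψ, zero_mul]
    · rw [h0 u w hw hcw, mul_zero, hPblock]
      have hk : ∃ k : ℕ, orderOf w = 2 ^ k := by obtain ⟨o, -, -, hk, -⟩ := hw; exact hk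
      exact ((Cfsg.Agent.S0925.result 2 M hM).1 f hf w hk
        (fun u' z' hu' hz' => h0 u' z' hu' fun hc' => hcw (hc'.trans hz'.symm))
        _ ⟨CT.trivIrr G, rfl⟩ u w hw (IsConj.refl w))
  have hinner : ∀ ψ : IrrCharacter G, classInner P (ψ : G → ℂ) = c ψ := by
    intro ψ
    rw [hP, CT.classInner_sum_left]
    simp only [CT.classInner_smul_left, CT.irr_inner_subtype, mul_ite, mul_one, mul_zero,
      Finset.sum_ite_eq', Finset.mem_univ, if_true]
  have hK : P x / 4 = 1 := by
    have h2 := hinner (CT.trivIrr G)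
    rw [hPf, CT.classInner_smul_left] at h2
    simp only [hc, if_pos (Blocks.trivIrr_mem_principalBlock (M := M) (G := G))] at h2
    rw [show ((CT.trivIrr G : IrrCharacter G) : G → ℂ) = fun _ => 1 from rfl, h1, mul_one] at h2
    exact h2
  rw [hK, one_smul] at hPf
  rw [← hPf, hinner, hc]
  exact if_neg hχ

/-- The arithmetic of the class relation. -/
theorem bound_arith {n f₁ f₂ f₃ e₁ e₂ e₃ : ℤ} (hn : 0 < n) (h1 : 3 ≤ f₁) (h2 : 3 ≤ f₂) (h3 : 3 ≤ f₃)
    (he1 : e₁ = 1 ∨ e₁ = -1) (he2 : e₂ = 1 ∨ e₂ = -1) (he3 : e₃ = 1 ∨ e₃ = -1)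
    (hdeg : 1 + e₁ * f₁ + e₂ * f₂ + e₃ * f₃ = 0)
    (hrel : n * (f₁ * f₂ * f₃ + e₁ * (f₂ * f₃) + e₂ * (f₁ * f₃) + e₃ * (f₁ * f₂)) =
      8 * (f₁ * f₂ * f₃)) : n ≤ 15 := by
  have p23 : 0 < f₂ * f₃ := by positivity
  have p13 : 0 < f₁ * f₃ := by positivity
  have p12 : 0 < f₁ * f₂ := by positivity
  have p : 0 < f₁ * f₂ * f₃ := by positivity
  have key : 8 * (f₁ * f₂ * f₃) ≤
      15 * (f₁ * f₂ * f₃ + e₁ * (f₂ * f₃) + e₂ * (f₁ * f₃) + e₃ * (f₁ * f₂)) := by
    rcases he1 with rfl | rfl <;> rcases he2 with rfl | rfl <;> rcases he3 with rfl | rfl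
    · nlinarith
    · nlinarith
    · nlinarith
    · have : f₁ = f₂ + f₃ - 1 := by linarith
      subst this
      nlinarith [mul_nonneg (sub_nonneg.mpr h2) (sub_nonneg.mpr h3),
        mul_nonneg (mul_nonneg (sub_nonneg.mpr h2) (sub_nonneg.mpr h3)) (sub_nonneg.mpr h2),
        mul_nonneg (mul_nonneg (sub_nonneg.mpr h2) (sub_nonneg.mpr h3)) (sub_nonneg.mpr h3)]
    · nlinarith
    · have : f₂ = f₁ + f₃ - 1 := by linarith
      subst this
      nlinarith [mul_nonneg (sub_nonneg.mpr h1) (sub_nonneg.mpr h3),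
        mul_nonneg (mul_nonneg (sub_nonneg.mpr h1) (sub_nonneg.mpr h3)) (sub_nonneg.mpr h1),
        mul_nonneg (mul_nonneg (sub_nonneg.mpr h1) (sub_nonneg.mpr h3)) (sub_nonneg.mpr h3)]
    · have : f₃ = f₁ + f₂ - 1 := by linarith
      subst this
      nlinarith [mul_nonneg (sub_nonneg.mpr h1) (sub_nonneg.mpr h2),
        mul_nonneg (mul_nonneg (sub_nonneg.mpr h1) (sub_nonneg.mpr h2)) (sub_nonneg.mpr h1),
        mul_nonneg (mul_nonneg (sub_nonneg.mpr h1) (sub_nonneg.mpr h2)) (sub_nonneg.mpr h2)]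
    · exfalso; linarith
  have : n * (8 * (f₁ * f₂ * f₃)) ≤ 15 * (8 * (f₁ * f₂ * f₃)) := by
    calc n * (8 * (f₁ * f₂ * f₃)) ≤
          n * (15 * (f₁ * f₂ * f₃ + e₁ * (f₂ * f₃) + e₂ * (f₁ * f₃) + e₃ * (f₁ * f₂))) :=
        mul_le_mul_of_nonneg_left key hn.le
      _ = 15 * (8 * (f₁ * f₂ * f₃)) := by rw [← hrel]; ring
  exact le_of_mul_le_mul_right this (by positivity)

/-- The index of the normalizer is at most five. -/
theorem Setup.index_le_five (h : Setup G x V)
    (hlin : ∀ χ : IrrCharacter G, (χ : G → ℂ) 1 = 1 → χ = CT.trivIrr G) :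
    (Subgroup.normalizer (V : Set G)).index ≤ 5 := by
  classical
  haveI : Fact (Nat.Prime 2) := ⟨Nat.prime_two⟩
  letI := Fintype.ofFinite G
  obtain ⟨M, hM⟩ := ClassSum.exists_modular 2 Nat.prime_two
  haveI := hM.2.1.isPrime
  set C := Subgroup.centralizer ({x} : Set G) with hC
  letI := Fintype.ofFinite C
  obtain ⟨hpart, N, hN, hNidx, hNodd, hNmem⟩ := h.decomp
  haveI := hN
  have hxC : x ∈ C := Subgroup.mem_centralizer_singleton_iff.mpr rfl
  have hVC := h.le_cent
  have hne := Invol.ne_one_of_orderOf_two h.hx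
  set L : Subgroup C := (Subgroup.zpowers (QuotientGroup.mk' N ⟨x, hxC⟩)).comap (QuotientGroup.mk' N)
    with hL
  -- elements of `V` in `L`
  have hVN : ∀ c : C, c ∈ N → (c : G) ∈ V → (c : G) = 1 := by
    intro c hcN hcV
    by_contra h1
    have h2 := Invol.orderOf_two_of_mul_self (h.exp _ hcV) h1
    rw [Subgroup.orderOf_coe] at h2
    have := orderOf_dvd_natCard (⟨c, hcN⟩ : N)
    rw [Subgroup.orderOf_mk, h2] at this
    exact hNodd this
  have hxN : QuotientGroup.mk' N (⟨x, hxC⟩ : C) ≠ 1 := fun h1 =>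
    hne (hVN _ ((QuotientGroup.eq_one_iff _).mp h1) h.mem)
  have hxq2 : orderOf (QuotientGroup.mk' N (⟨x, hxC⟩ : C)) = 2 := by
    refine Invol.orderOf_two_of_mul_self ?_ hxN
    rw [← map_mul, show (⟨x, hxC⟩ : C) * ⟨x, hxC⟩ = 1 from Subtype.ext (h.exp x h.mem), map_one]
  have hLidx : L.index = 2 := by
    rw [hL, Subgroup.index_comap_of_surjective _ (QuotientGroup.mk'_surjective N)]
    have h4 := (Subgroup.zpowers (QuotientGroup.mk' N (⟨x, hxC⟩ : C))).card_mul_index
    rw [Nat.card_zpowers, hxq2, ← Subgroup.index_eq_card N, hNidx] at h4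
    omega
  have hNL : N ≤ L := fun c hc => by
    rw [hL, Subgroup.mem_comap, show QuotientGroup.mk' N c = 1 from (QuotientGroup.eq_one_iff _).mpr hc]
    exact one_mem _
  have hxL : (⟨x, hxC⟩ : C) ∈ L := Subgroup.mem_zpowers _
  have hLV : ∀ (c : C) (w : G), IsPPart 2 (c : G) w → (c ∈ L ↔ w = 1 ∨ w = x) := by
    intro c w hw
    have hwV := hpart c c.2 w hw
    obtain ⟨o, hwo, hcom, -, hodd⟩ := hw
    have hoC : o ∈ C := by
      have : o = w⁻¹ * (c : G) := by rw [← hwo, inv_mul_cancel_left]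
      rw [this]; exact mul_mem (inv_mem (hVC hwV)) c.2
    have hoN : (⟨o, hoC⟩ : C) ∈ N := hNmem _ (by rwa [Subgroup.orderOf_mk])
    have hc : c = ⟨w, hVC hwV⟩ * ⟨o, hoC⟩ := Subtype.ext hwo.symm
    rw [hc, Subgroup.mul_mem_cancel_right _ (hNL hoN)]
    constructor
    · intro hwL
      rw [hL, Subgroup.mem_comap] at hwL
      obtain ⟨k, hk⟩ := hwL
      simp only at hk
      rw [← map_zpow] at hk
      have hmem : (⟨x, hxC⟩ : C) ^ (-k) * ⟨w, hVC hwV⟩ ∈ N := by
        rw [zpow_neg]
        exact QuotientGroup.eq.mp hk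
      have h1 := hVN _ hmem (mul_mem (by rw [Subgroup.coe_zpow]; exact Subgroup.zpow_mem _ h.mem _) hwV)
      rw [Subgroup.coe_mul, Subgroup.coe_zpow, zpow_neg] at h1
      have hw' : w = x ^ k := (inv_mul_eq_one.mp h1).symm
      rcases Int.even_or_odd k with ⟨j, rfl⟩ | ⟨j, rfl⟩
      · left
        rw [hw', ← two_mul, zpow_mul, zpow_two, h.exp x h.mem, one_zpow]
      · right
        rw [hw', zpow_add_one, zpow_mul, zpow_two, h.exp x h.mem, one_zpow, one_mul]
    · rintro (rfl | rfl)
      · exact one_mem L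
      · exact hxL
  -- the function
  let μ : C →* ℂˣ := MonoidHom.mk' (fun c => if c ∈ L then 1 else -1) (by
    intro p q
    by_cases hp : p ∈ L <;> by_cases hq : q ∈ L <;>
      simp [Subgroup.mul_mem_iff_of_index_two hLidx, hp, hq])
  set θ : C → ℂ := fun c => (1 : ℂ) - (μ c : ℂ) with hθ
  have hθval : ∀ c, θ c = if c ∈ L then 0 else 2 := by
    intro c
    simp only [hθ, μ, MonoidHom.mk'_apply]
    split_ifs <;> norm_num
  have hθgen : IsGeneralizedCharacter C θ :=
    CT.isGen_sub (CT.isGen_of_isCharacter CT.isCharacter_one) (CT.isGen_of_isCharacter (CT.isCharacter_lin μ))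
  set g : G → ℂ := indFun C θ with hg
  have hggen : IsGeneralizedCharacter G g := CT.isGen_indFun C hθgen
  have hgcf : IsClassFunction G g := CT.isClassFunction_indFun C θ
  have hcardL : ((Finset.univ.filter fun c : C => c ∉ L).card : ℂ) = (Nat.card C : ℂ) / 2 := by
    have h1 := L.card_mul_index
    rw [hLidx] at h1
    have h2 : (Finset.univ.filter fun c : C => c ∈ L).card = Nat.card L := by
      rw [Nat.card_eq_fintype_card, Fintype.card_subtype]
    have h3 := Finset.card_filter_add_card_filter_not (fun c : C => c ∈ L) (s := Finset.univ)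
    rw [h2, Finset.card_univ, ← Nat.card_eq_fintype_card, ← h1] at h3
    have h4 : (Finset.univ.filter fun c : C => c ∉ L).card = Nat.card L := by omega
    rw [h4, ← h1]; push_cast; ring
  -- values
  have hg0 : ∀ u w : G, IsPPart 2 u w → ¬ IsConj x w → g u = 0 := by
    intro u w hu hw
    simp only [hg, indFun]
    rw [Finset.sum_eq_zero, mul_zero]
    intro a _
    by_cases hm : a⁻¹ * u * a ∈ C
    · rw [CT.extendByZero_mem C θ hm, hθval, if_pos]
      have hp : IsPPart 2 (a⁻¹ * u * a) (a⁻¹ * w * a) := by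
        have := Blocks.ppart_conj hu a⁻¹
        rwa [inv_inv] at this
      rw [hLV ⟨_, hm⟩ _ hp]
      left
      by_contra h1
      apply hw
      have hV' := hpart _ hm _ hp
      exact (h.oneClass _ (Invol.orderOf_two_of_mul_self (h.exp _ hV') h1)).trans
        (isConj_iff.mpr ⟨a, by group⟩)
    · rw [CT.extendByZero_not_mem C θ hm]
  obtain ⟨y, hyV, hy1, hyx⟩ : ∃ y ∈ V, y ≠ 1 ∧ y ≠ x := by
    by_contra hcon
    push Not at hcon
    have hle : V ≤ Subgroup.zpowers x := fun v hv => by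
      by_cases h1 : v = 1
      · rw [h1]; exact one_mem _
      · rw [hcon v hv h1]; exact Subgroup.mem_zpowers x
    have := Subgroup.card_le_of_le hle
    rw [h.card, Nat.card_zpowers, h.hx] at this
    omega
  have hxyV : x * y ∈ V := mul_mem h.mem hyV
  have hxy1 : x * y ≠ 1 := fun e => hyx (by
    rw [eq_inv_of_mul_eq_one_right e, Invol.inv_of_orderOf_two h.hx])
  have hxyx : x * y ≠ x := fun e => hy1 (mul_eq_left.mp e)
  have hxyy : x * y ≠ y := fun e => hne (mul_eq_right.mp e)
  have hVfour : ∀ v ∈ V, v = 1 ∨ v = x ∨ v = y ∨ v = x * y := by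
    intro v hv
    by_contra hcon
    push Not at hcon
    obtain ⟨a1, a2, a3, a4⟩ := hcon
    let F : Fin 5 → V := ![1, ⟨x, h.mem⟩, ⟨y, hyV⟩, ⟨x * y, hxyV⟩, ⟨v, hv⟩]
    have hF : Function.Injective F := by
      intro i j hij
      have h' : ((F i : V) : G) = (F j : G) := by rw [hij]
      fin_cases i <;> fin_cases j <;> simp [F] at h' <;>
        first
        | rfl
        | exact absurd h' hne | exact absurd h'.symm hne
        | exact absurd h' hy1 | exact absurd h'.symm hy1
        | exact absurd h' hyx | exact absurd h'.symm hyx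
        | exact absurd h' hxy1 | exact absurd h'.symm hxy1
        | exact absurd h' hxyx | exact absurd h'.symm hxyx
        | exact absurd h' hxyy | exact absurd h'.symm hxyy
        | exact absurd h' a1 | exact absurd h'.symm a1
        | exact absurd h' a2 | exact absurd h'.symm a2
        | exact absurd h' a3 | exact absurd h'.symm a3
        | exact absurd h' a4 | exact absurd h'.symm a4
    have := Nat.card_le_card_of_injective F hF
    rw [Nat.card_fin, h.card] at this
    omega
  have hg4 : ∀ u w : G, IsPPart 2 u w → IsConj x w → g u = 4 := by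
    intro u w hu hw
    obtain ⟨b, hb⟩ := isConj_iff.mp hw
    set u' := b⁻¹ * u * b with hu'
    have hpu : IsPPart 2 u' x := by
      have := Blocks.ppart_conj hu b⁻¹
      rw [inv_inv, ← hb, show b⁻¹ * (b * x * b⁻¹) * b = x by group] at this
      exact this
    rw [show g u = g u' from CT.isClassFunction_isConj hgcf (isConj_iff.mpr ⟨b⁻¹, by rw [hu']; group⟩)]
    simp only [hg, indFun]
    have hterm : ∀ a : G, extendByZero C θ (a⁻¹ * u' * a) =
        if a⁻¹ * x * a = y ∨ a⁻¹ * x * a = x * y then (2 : ℂ) else 0 := by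
      intro a
      have hp : IsPPart 2 (a⁻¹ * u' * a) (a⁻¹ * x * a) := by
        have := Blocks.ppart_conj hpu a⁻¹
        rwa [inv_inv] at this
      by_cases hm : a⁻¹ * u' * a ∈ C
      · have hV' := hpart _ hm _ hp
        rw [CT.extendByZero_mem C θ hm, hθval]
        by_cases hy' : a⁻¹ * x * a = y ∨ a⁻¹ * x * a = x * y
        · rw [if_pos hy', if_neg]
          rw [hLV ⟨_, hm⟩ _ hp]
          rintro (h1 | h1)
          · rcases hy' with h2 | h2 <;> rw [h2] at h1
            · exact hy1 h1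
            · exact hxy1 h1
          · rcases hy' with h2 | h2 <;> rw [h2] at h1
            · exact hyx h1
            · exact hxyx h1
        · rw [if_neg hy', if_pos]
          rw [hLV ⟨_, hm⟩ _ hp]
          rcases hVfour _ hV' with h1 | h1 | h1 | h1
          · exact Or.inl h1
          · exact Or.inr h1
          · exact absurd (Or.inl h1) hy'
          · exact absurd (Or.inr h1) hy'
      · rw [CT.extendByZero_not_mem C θ hm, if_neg]
        intro hy'
        apply hm
        have hmem : a⁻¹ * x * a ∈ V ∧ a⁻¹ * x * a ≠ 1 := by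
          rcases hy' with h2 | h2 <;> rw [h2]
          · exact ⟨hyV, hy1⟩
          · exact ⟨hxyV, hxy1⟩
        rw [hC, ← h.cent _ hmem.1 hmem.2, Subgroup.mem_centralizer_singleton_iff]
        obtain ⟨o, ho, hcom, -, -⟩ := hp
        rw [← ho]
        exact ((Commute.refl _).mul_left hcom.symm).eq
    simp only [hterm]
    rw [Finset.sum_ite, Finset.sum_const_zero, add_zero, Finset.sum_const, nsmul_eq_mul,
      Finset.filter_or, Finset.card_union_of_disjoint (Finset.disjoint_filter.mpr fun a _ h1 h2 =>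
        hxyy (h2.symm.trans h1))]
    have hc : ∀ v, v ∈ V → v ≠ 1 →
        ((Finset.univ.filter fun a : G => a⁻¹ * x * a = v).card) = Nat.card C := by
      intro v hv hv1
      rw [← h.card_fiber (h.exists_conj hv hv1), Nat.card_eq_fintype_card, Fintype.card_subtype]
    rw [hc y hyV hy1, hc (x * y) hxyV hxy1]
    have : (Nat.card C : ℂ) ≠ 0 := CT.card_ne_zero
    push_cast
    field_simp
    norm_num
  have hg1 : classInner g (fun _ : G => (1 : ℂ)) = 1 := by
    rw [hg, CT.frobenius_reciprocity C θ (χ := fun _ : G => (1 : ℂ)) (fun _ _ => rfl), classInner]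
    simp only [hθval, map_one, mul_one]
    rw [Finset.sum_ite, Finset.sum_const_zero, zero_add, Finset.sum_const, nsmul_eq_mul, hcardL]
    field_simp
  have hgn : classInner g g = 4 := by
    nth_rw 1 [hg]
    rw [CT.frobenius_reciprocity C θ hgcf, classInner]
    have e : ∀ c : C, θ c * conj (g c) = if c ∈ L then 0 else 8 := by
      intro c
      rw [hθval]
      split_ifs with hc
      · rw [zero_mul]
      · obtain ⟨w, hw, -⟩ := Blocks.exists_isPPart (p := 2) (c : G)
        have hwV := hpart c c.2 w hw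
        have hw1 : w ≠ 1 := fun e1 => hc ((hLV c w hw).mpr (Or.inl e1))
        rw [hg4 _ w hw (h.oneClass _ (Invol.orderOf_two_of_mul_self (h.exp _ hwV) hw1)), map_ofNat]
        norm_num
    simp only [e]
    rw [Finset.sum_ite, Finset.sum_const_zero, zero_add, Finset.sum_const, nsmul_eq_mul, hcardL]
    field_simp
    norm_num
  have hgone : g 1 = 0 := hg0 1 1 (Blocks.isPPart_one (by rw [orderOf_one]; norm_num)) fun hc =>
    hne (isConj_one_left.mp hc)
  -- principal block
  have hconst : ∀ u w, IsPPart 2 u w → IsConj x w →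
      ∀ ψ ∈ principalBlock M G, ((ψ : IrrCharacter G) : G → ℂ) u = (ψ : G → ℂ) x := by
    intro u w hu hw ψ hψ
    obtain ⟨b, hb⟩ := isConj_iff.mp hw
    have hpu : IsPPart 2 (b⁻¹ * u * b) x := by
      have := Blocks.ppart_conj hu b⁻¹
      rw [inv_inv, ← hb, show b⁻¹ * (b * x * b⁻¹) * b = x by group] at this
      exact this
    obtain ⟨o, hxo, hcom, -, hodd⟩ := hpu
    have hoC : o ∈ C := Subgroup.mem_centralizer_singleton_iff.mpr hcom.eq.symm
    have ho : o ∈ centralizerPPrimeCore 2 x :=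
      ⟨⟨o, hoC⟩, (Basics.le_pPrimeCore (Nat.prime_two.coprime_iff_not_dvd.mpr hNodd).symm :
        N ≤ pPrimeCore 2 C) (hNmem _ (by rwa [Subgroup.orderOf_mk])), rfl⟩
    rw [← Cfsg.Agent.S0942.result 2 M hM x ⟨1, by rw [h.hx, pow_one]⟩ o ho ψ hψ, hxo]
    exact CT.isClassFunction_isConj (CT.isClassFunction_of_isIrr ψ.2)
      (isConj_iff.mpr ⟨b⁻¹, by group⟩)
  have hin := fun χ => inner_section_fn' hM hgcf hconst hg4 hg0 hg1 χ
  obtain ⟨-, hm⟩ := CT.isGen_iff.mp hggen
  choose m hm using hm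
  have hexp := CT.classFunction_eq_sum hgcf
  simp only [hm] at hexp
  have hm1 : m (CT.trivIrr G) = 1 := by
    have := hm (CT.trivIrr G)
    rw [show ((CT.trivIrr G : IrrCharacter G) : G → ℂ) = fun _ => 1 from rfl, hg1] at this
    exact_mod_cast this.symm
  have hsum : ∑ χ : IrrCharacter G, m χ ^ 2 = 4 := by
    have := CT.classInner_eq_sum (f := g) hgcf
    rw [hgn] at this
    simp only [hm, map_intCast, ← pow_two] at this
    exact_mod_cast this.symm
  set s := (Finset.univ.erase (CT.trivIrr G)).filter fun χ => m χ ≠ 0 with hs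
  have hsplit : ∑ χ ∈ Finset.univ.erase (CT.trivIrr G), m χ ^ 2 = 3 := by
    rw [← Finset.add_sum_erase _ _ (Finset.mem_univ (CT.trivIrr G)), hm1] at hsum
    linarith
  have hout : ∀ χ ∈ Finset.univ.erase (CT.trivIrr G), χ ∉ s → m χ = 0 := fun χ hχ hχs => by
    by_contra h0
    exact hχs (Finset.mem_filter.mpr ⟨hχ, h0⟩)
  have hs3 : ∑ χ ∈ s, m χ ^ 2 = 3 := by
    rw [← hsplit, hs]
    exact Finset.sum_subset (Finset.filter_subset _ _) fun χ hχ hχs => by rw [hout χ hχ hχs]; ring
  have hpm : ∀ χ ∈ s, m χ = 1 ∨ m χ = -1 := by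
    intro χ hχ
    have hle : m χ ^ 2 ≤ 3 := hs3 ▸ Finset.single_le_sum (fun i _ => sq_nonneg (m i)) hχ
    have h1 : m χ ≤ 1 := by nlinarith
    have h2 : -1 ≤ m χ := by nlinarith
    have := (Finset.mem_filter.mp hχ).2
    omega
  have hval : ∀ χ ∈ s, (χ : G → ℂ) x = (m χ : ℂ) := by
    intro χ hχ
    have hB : χ ∈ principalBlock M G := by
      by_contra hb
      have h0 := (hin χ).2 hb
      rw [hm χ] at h0
      exact (Finset.mem_filter.mp hχ).2 (by exact_mod_cast h0)
    have h1 := (hin χ).1 hB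
    rw [hm χ] at h1
    rw [← Complex.conj_conj ((χ : G → ℂ) x), ← h1, map_intCast]
  have hdeg3 : ∀ χ ∈ s, 3 ≤ CT.deg (χ : G → ℂ) := by
    intro χ hχ
    have hnt : χ ≠ CT.trivIrr G := (Finset.mem_erase.mp (Finset.mem_filter.mp hχ).1).1
    have hd := CT.deg_eq (CT.isCharacter_of_isIrr χ.2)
    have hpos := CT.deg_pos χ.2
    have hne1 : CT.deg (χ : G → ℂ) ≠ 1 := fun e => hnt (hlin χ (by rw [hd, e]; norm_num))
    have hne2 : CT.deg (χ : G → ℂ) ≠ 2 := by
      intro e
      set P := Subgroup.zpowers x with hPdef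
      haveI := Fintype.ofFinite P
      obtain ⟨n, hn⟩ := CT.classInner_character_nat
        (CT.isCharacter_restrict P (CT.isCharacter_of_isIrr χ.2)) (CT.isCharacter_one (G := P))
      have hu : ∀ p : P, p = 1 ∨ p = ⟨x, Subgroup.mem_zpowers x⟩ := by
        rintro ⟨p, k, rfl⟩
        rcases Int.even_or_odd k with ⟨j, rfl⟩ | ⟨j, rfl⟩
        · left; apply Subtype.ext
          simp [← two_mul, zpow_mul, pow_two, zpow_two, h.exp x h.mem]
        · right; apply Subtype.ext
          simp [zpow_add_one, zpow_mul, pow_two, zpow_two, h.exp x h.mem]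
      have hne' : (1 : P) ≠ ⟨x, Subgroup.mem_zpowers x⟩ := fun e' => hne (congrArg Subtype.val e').symm
      rw [classInner, show (Finset.univ : Finset P) = {1, ⟨x, Subgroup.mem_zpowers x⟩} from
        (Finset.eq_univ_of_forall fun p => by rcases hu p with h' | h' <;> simp [h']).symm,
        Finset.sum_pair hne', Nat.card_zpowers, h.hx] at hn
      simp only [Subgroup.coe_one, map_one, mul_one, hd, e, hval χ hχ] at hn
      have h2 : ((2 + m χ : ℤ) : ℂ) = ((2 * n : ℤ) : ℂ) := by
        push_cast; push_cast at hn; linear_combination 2 * hn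
      have h3 : 2 + m χ = 2 * (n : ℤ) := by exact_mod_cast h2
      rcases hpm χ hχ with h' | h' <;> omega
    omega
  -- enumerate
  have hcard : s.card = 3 := by
    rw [Finset.sum_congr rfl (fun χ hχ => show m χ ^ 2 = 1 by
      rcases hpm χ hχ with h' | h' <;> rw [h'] <;> norm_num), Finset.sum_const, nsmul_one] at hs3
    exact_mod_cast hs3
  obtain ⟨a, b, c, hab, hac, hbc, habc⟩ := Finset.card_eq_three.mp hcard
  have ha : a ∈ s := by rw [habc]; simp
  have hb : b ∈ s := by rw [habc]; simp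
  have hc : c ∈ s := by rw [habc]; simp
  have hgsum : ∀ u, g u = 1 + (m a : ℂ) * (a : G → ℂ) u + (m b : ℂ) * (b : G → ℂ) u +
      (m c : ℂ) * (c : G → ℂ) u := by
    intro u
    rw [congrFun hexp u, Finset.sum_apply,
      ← Finset.add_sum_erase _ _ (Finset.mem_univ (CT.trivIrr G))]
    simp only [Pi.smul_apply, smul_eq_mul, hm1, CT.trivIrr_apply, Int.cast_one, one_mul]
    rw [← Finset.sum_subset (s₁ := s) (Finset.filter_subset _ _)
      (fun χ hχ hχs => by rw [hout χ hχ hχs]; simp), habc,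
      Finset.sum_insert (by simp [hab, hac]), Finset.sum_pair hbc]
    ring
  -- the class relation
  set c0 : ℂ := ∑ u, (ClassSum.classInd x u : ℂ) with hc0def
  have hc0 : c0 = (C.index : ℂ) := by
    rw [hC, ← CT.card_conj_class x, Nat.card_eq_fintype_card, Fintype.card_subtype, hc0def,
      Finset.card_filter, Nat.cast_sum]
    refine Finset.sum_congr rfl fun u _ => ?_
    by_cases hu : IsConj x u
    · rw [ClassSum.classInd_pos hu, if_pos hu]; simp
    · rw [ClassSum.classInd_neg hu, if_neg hu]; simp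
  have hrel : ∀ η : IrrCharacter G, ∑ u, (ClassSum.classInd x u : ℂ) * (η : G → ℂ) (x * u) =
      c0 * ((η : G → ℂ) x ^ 2 / (η : G → ℂ) 1) := by
    intro η
    rw [← ClassSum.char_mul_omega η.2 (ClassSum.classInd_isClassWeight x) x, ClassSum.omega]
    have e1 : ∑ u, (ClassSum.classInd x u : ℂ) * (η : G → ℂ) u = c0 * (η : G → ℂ) x := by
      rw [hc0def, Finset.sum_mul]
      refine Finset.sum_congr rfl fun u _ => ?_
      by_cases hu : IsConj x u
      · rw [CT.isClassFunction_isConj (CT.isClassFunction_of_isIrr η.2) hu]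
      · rw [ClassSum.classInd_neg hu]; simp
    rw [e1]; ring
  have hcount : ∑ u, (ClassSum.classInd x u : ℂ) * g (x * u) = 8 := by
    have e : ∀ u, (ClassSum.classInd x u : ℂ) * g (x * u) =
        (if u = y then 4 else 0) + (if u = x * y then 4 else 0) := by
      intro u
      have hxV : ∀ v ∈ V, v ≠ 1 → IsPPart 2 v v := fun v hv h1 => Blocks.isPPart_self
        ⟨1, by rw [pow_one, pow_two]; exact h.exp v hv⟩
      by_cases hu : IsConj x u
      · rw [ClassSum.classInd_pos hu, Int.cast_one, one_mul]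
        have hu2 := Invol.orderOf_two_of_isConj hu h.hx
        by_cases h1 : u = y
        · subst h1
          rw [if_pos rfl, if_neg hxyy.symm, add_zero,
            hg4 _ _ (hxV _ hxyV hxy1) (h.oneClass _ (Invol.orderOf_two_of_mul_self (h.exp _ hxyV) hxy1))]
        by_cases h2 : u = x * y
        · subst h2
          rw [if_neg hxyy, if_pos rfl, zero_add, ← mul_assoc, h.exp x h.mem, one_mul,
            hg4 _ _ (hxV _ hyV hy1) (h.oneClass _ (Invol.orderOf_two_of_mul_self (h.exp _ hyV) hy1))]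
        rw [if_neg h1, if_neg h2, add_zero]
        by_cases hodd : Odd (orderOf (x * u))
        · exact hg0 _ 1 (Blocks.isPPart_one (by
            rw [← even_iff_two_dvd, Nat.not_even_iff_odd]; exact hodd))
            fun hc' => hne (isConj_one_left.mp hc')
        obtain ⟨w, -, hw, hwx, hwu⟩ := Invol.exists_commuting_involution (h.exp x h.mem)
          (Invol.mul_self_of_orderOf_two hu2) (Nat.not_odd_iff_even.mp hodd)
        have hwV := h.invol w hw hwx
        have huC : u ∈ C := by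
          rw [hC, ← h.cent w hwV (Invol.ne_one_of_orderOf_two hw)]
          exact Subgroup.mem_centralizer_singleton_iff.mpr hwu.symm.eq
        rcases hVfour u (h.invol u hu2 (Subgroup.mem_centralizer_singleton_iff.mp huC)) with
          h' | h' | h' | h'
        · exact absurd h' (Invol.ne_one_of_orderOf_two hu2)
        · rw [h', h.exp x h.mem, hgone]
        · exact absurd h' h1
        · exact absurd h' h2
      · rw [ClassSum.classInd_neg hu, if_neg, if_neg]
        · simp
        · rintro rfl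
          exact hu (h.oneClass _ (Invol.orderOf_two_of_mul_self (h.exp _ hxyV) hxy1))
        · rintro rfl
          exact hu (h.oneClass _ (Invol.orderOf_two_of_mul_self (h.exp _ hyV) hy1))
    simp only [e, Finset.sum_add_distrib, Finset.sum_ite_eq', Finset.mem_univ, if_true]
    norm_num
  have hkey : (8 : ℂ) = (C.index : ℂ) * (1 + (m a : ℂ) * ((m a : ℂ) ^ 2 / (CT.deg (a : G → ℂ) : ℂ)) +
      (m b : ℂ) * ((m b : ℂ) ^ 2 / (CT.deg (b : G → ℂ) : ℂ)) +
      (m c : ℂ) * ((m c : ℂ) ^ 2 / (CT.deg (c : G → ℂ) : ℂ))) := by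
    rw [← hcount, ← hc0]
    have e : ∀ u, (ClassSum.classInd x u : ℂ) * g (x * u) = (ClassSum.classInd x u : ℂ) +
        (m a : ℂ) * ((ClassSum.classInd x u : ℂ) * (a : G → ℂ) (x * u)) +
        (m b : ℂ) * ((ClassSum.classInd x u : ℂ) * (b : G → ℂ) (x * u)) +
        (m c : ℂ) * ((ClassSum.classInd x u : ℂ) * (c : G → ℂ) (x * u)) := fun u => by
      rw [hgsum]; ring
    simp only [e, Finset.sum_add_distrib, ← Finset.mul_sum, hrel, ← hc0def, hval a ha, hval b hb,
      hval c hc, CT.deg_eq (CT.isCharacter_of_isIrr a.2), CT.deg_eq (CT.isCharacter_of_isIrr b.2),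
      CT.deg_eq (CT.isCharacter_of_isIrr c.2)]
    ring
  have hcube : ∀ χ ∈ s, (m χ : ℂ) ^ 2 = 1 := fun χ hχ => by
    rcases hpm χ hχ with h' | h' <;> rw [h'] <;> norm_num
  rw [hcube a ha, hcube b hb, hcube c hc] at hkey
  have hdegsum : (1 : ℤ) + m a * (CT.deg (a : G → ℂ) : ℤ) + m b * (CT.deg (b : G → ℂ) : ℤ) +
      m c * (CT.deg (c : G → ℂ) : ℤ) = 0 := by
    have h1 := hgsum 1
    rw [hgone, CT.deg_eq (CT.isCharacter_of_isIrr a.2), CT.deg_eq (CT.isCharacter_of_isIrr b.2),
      CT.deg_eq (CT.isCharacter_of_isIrr c.2)] at h1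
    exact_mod_cast h1.symm
  have hnpos : (0 : ℤ) < (C.index : ℤ) := by
    exact_mod_cast Nat.pos_of_ne_zero C.index_ne_zero_of_finite
  have hbound := bound_arith hnpos (by exact_mod_cast hdeg3 a ha) (by exact_mod_cast hdeg3 b hb)
    (by exact_mod_cast hdeg3 c hc) (hpm a ha) (hpm b hb) (hpm c hc) hdegsum (by
      have ha0 : (CT.deg (a : G → ℂ) : ℂ) ≠ 0 := Nat.cast_ne_zero.mpr (CT.deg_pos a.2).ne'
      have hb0 : (CT.deg (b : G → ℂ) : ℂ) ≠ 0 := Nat.cast_ne_zero.mpr (CT.deg_pos b.2).ne'
      have hc0' : (CT.deg (c : G → ℂ) : ℂ) ≠ 0 := Nat.cast_ne_zero.mpr (CT.deg_pos c.2).ne'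
      field_simp at hkey
      have : (((C.index : ℤ) * ((CT.deg (a : G → ℂ) : ℤ) * CT.deg (b : G → ℂ) * CT.deg (c : G → ℂ) +
          m a * ((CT.deg (b : G → ℂ) : ℤ) * CT.deg (c : G → ℂ)) +
          m b * ((CT.deg (a : G → ℂ) : ℤ) * CT.deg (c : G → ℂ)) +
          m c * ((CT.deg (a : G → ℂ) : ℤ) * CT.deg (b : G → ℂ))) : ℤ) : ℂ) =
          ((8 * ((CT.deg (a : G → ℂ) : ℤ) * CT.deg (b : G → ℂ) * CT.deg (c : G → ℂ)) : ℤ) : ℂ) := by
        push_cast
        linear_combination -hkey
      exact_mod_cast this)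
  have hle : C.index ≤ 15 := by exact_mod_cast hbound
  have h1 := h.card_normalizer
  have h2 := (Subgroup.normalizer (V : Set G)).card_mul_index
  rw [h1, ← C.card_mul_index] at h2
  have h3 : 3 * (Subgroup.normalizer (V : Set G)).index = C.index :=
    Nat.eq_of_mul_eq_mul_left (Nat.card_pos (α := C))
      (by rw [← h2, hC]; ring)
  omega

/-- Recognition of the alternating group of degree 5. -/
theorem Setup.alternating (h : Setup G x V)
    (hlin : ∀ χ : IrrCharacter G, (χ : G → ℂ) 1 = 1 → χ = CT.trivIrr G)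
    (hcore : (Subgroup.normalizer (V : Set G)).normalCore = ⊥)
    (htop : Subgroup.normalizer (V : Set G) ≠ ⊤) :
    Nonempty (G ≃* alternatingGroup (Fin 5)) := by
  classical
  set H := Subgroup.normalizer (V : Set G) with hH
  letI := Fintype.ofFinite G
  have hk5 := h.index_le_five hlin
  haveI := Fintype.ofFinite (G ⧸ H)
  have hcardq : Fintype.card (G ⧸ H) ≤ Fintype.card (Fin 5) := by
    rw [← Nat.card_eq_fintype_card, ← Subgroup.index_eq_card, Fintype.card_fin]
    exact hk5
  obtain ⟨ι⟩ := Function.Embedding.nonempty_of_card_le hcardq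
  set φ : G →* Equiv.Perm (Fin 5) :=
    (Equiv.Perm.viaEmbeddingHom ι).comp (MulAction.toPermHom G (G ⧸ H)) with hφ
  have hinj : Function.Injective φ := by
    refine (Equiv.Perm.viaEmbeddingHom_injective ι).comp ?_
    rw [← MonoidHom.ker_eq_bot_iff, ← Subgroup.normalCore_eq_ker, hcore]
  have hsign : ∀ a : G, Equiv.Perm.sign (φ a) = 1 := by
    intro a
    set lam : G →* ℂˣ := (Units.map (Int.castRingHom ℂ).toMonoidHom).comp (Equiv.Perm.sign.comp φ)
      with hlam
    have h1 := hlin ⟨_, CT.isIrrCharacter_lin lam⟩ (by simp)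
    have h2 := congrFun (congrArg (fun χ : IrrCharacter G => (χ : G → ℂ)) h1) a
    simp only [CT.trivIrr_apply] at h2
    rcases Int.units_eq_one_or (Equiv.Perm.sign (φ a)) with h3 | h3
    · exact h3
    · exfalso
      rw [hlam] at h2
      simp [h3] at h2
      norm_num at h2
  set ψ : G →* alternatingGroup (Fin 5) :=
    φ.codRestrict _ fun a => Equiv.Perm.mem_alternatingGroup.mpr (hsign a)
  have hψ : Function.Injective ψ := fun a b hab => hinj (congrArg Subtype.val hab)
  have h60 : Nat.card (alternatingGroup (Fin 5)) = 60 := by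
    rw [nat_card_alternatingGroup, Nat.card_fin]; rfl
  have hdvd := Subgroup.card_dvd_of_injective ψ hψ
  rw [h60] at hdvd
  obtain ⟨-, N, -, hNidx, -, -⟩ := h.decomp
  have h4 : 4 ∣ Nat.card (Subgroup.centralizer ({x} : Set G)) :=
    hNidx ▸ N.index_dvd_card
  have h1 := h.card_normalizer
  have h2 := H.card_mul_index
  rw [h1] at h2
  have hne1 : H.index ≠ 1 := fun e => htop (Subgroup.index_eq_one.mp e)
  have hne0 := H.index_ne_zero_of_finite
  obtain ⟨t, ht⟩ := h4
  have h12 : Nat.card G = 12 * (t * H.index) := by rw [← h2, ht]; ring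
  have htpos : 0 < t := Nat.pos_of_ne_zero fun e => by
    rw [e, mul_zero] at ht; exact (Nat.card_pos (α := Subgroup.centralizer ({x} : Set G))).ne' ht
  rw [h12] at hdvd
  have h5 : t * H.index ∣ 5 := Nat.dvd_of_mul_dvd_mul_left (by norm_num : 0 < 12) (by simpa using hdvd)
  have h5' : t * H.index = 5 := by
    rcases (Nat.dvd_prime (by norm_num : Nat.Prime 5)).mp h5 with e | e
    · exact absurd (mul_eq_one.mp e).2 hne1
    · exact e
  refine ⟨MulEquiv.ofBijective ψ ((Nat.bijective_iff_injective_and_card ψ).mpr ⟨hψ, ?_⟩)⟩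
  rw [h60, h12, h5']

end Cfsg.Agent.FourCent
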