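import Mathlib
import Cfsg.Prelude.Def_Transfer
import Cfsg.Agent.Lib.InvChar.FourCentralizer

/-!
# The alternating group of degree 5 from a four group centralizer
-/

set_option autoImplicit false
set_option linter.style.haveILetI false
set_option linter.unusedSectionVars false

namespace Cfsg.Agent.FourCent

open Cfsg Cfsg.Agent

universe u

variable {G : Type u} [Group G] [Finite G]

theorem card_centralizer_of_isConj {x v : G} (h : IsConj x v) :
    Nat.card (Subgroup.centralizer ({v} : Set G)) = Nat.card (Subgroup.centralizer ({x} : Set G)) := by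
  obtain ⟨a, rfl⟩ := isConj_iff.mp h
  have e : Subgroup.centralizer ({a * x * a⁻¹} : Set G) =
      (Subgroup.centralizer ({x} : Set G)).map (MulAut.conj a).toMonoidHom := by
    ext c
    simp only [Subgroup.mem_map_equiv, MulAut.conj_symm_apply, Subgroup.mem_centralizer_singleton_iff]
    constructor
    · intro h
      calc a⁻¹ * c * a * x = a⁻¹ * (c * (a * x * a⁻¹)) * a := by group
        _ = a⁻¹ * (a * x * a⁻¹ * c) * a := by rw [h]
        _ = x * (a⁻¹ * c * a) := by group
    · intro h
      calc c * (a * x * a⁻¹) = a * (a⁻¹ * c * a * x) * a⁻¹ := by group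
        _ = a * (x * (a⁻¹ * c * a)) * a⁻¹ := by rw [h]
        _ = a * x * a⁻¹ * c := by group
  rw [e, Subgroup.card_map_of_injective (MulAut.conj a).injective]

/-- An element of odd index lands in a normal subgroup containing the 2-elements. -/
theorem mem_of_pow_two {K : Subgroup G} [K.Normal] (hK : ¬ 2 ∣ K.index) {u : G}
    (hu : ∃ k, orderOf u = 2 ^ k) : u ∈ K := by
  obtain ⟨k, hk⟩ := hu
  obtain ⟨j, hj⟩ := exists_pow_eq_self_of_coprime (x := u) (n := K.index) (by
    rw [hk]; exact ((Nat.Prime.coprime_iff_not_dvd Nat.prime_two).mpr hK).symm.pow_right k)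
  rw [← hj]
  exact Subgroup.pow_mem _ (Subgroup.pow_index_mem K u) j

theorem simple_case [IsSimpleGroup G] (x : G) (hx : orderOf x = 2)
    (S₀ : Subgroup G) (hle : S₀ ≤ Subgroup.centralizer ({x} : Set G)) (hK : IsKleinFour ↥S₀)
    (hodd : ¬ 2 ∣ S₀.relIndex (Subgroup.centralizer ({x} : Set G)))
    (hn : (S₀.subgroupOf (Subgroup.centralizer ({x} : Set G))).Normal) :
    Nonempty (G ≃* alternatingGroup (Fin 5)) := by
  classical
  haveI := hK
  haveI : Fact (Nat.Prime 2) := ⟨Nat.prime_two⟩
  set C := Subgroup.centralizer ({x} : Set G) with hC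
  haveI := hn
  have hodd' : ¬ 2 ∣ (S₀.subgroupOf C).index := hodd
  have hexp : ∀ v ∈ S₀, v * v = 1 := fun v hv =>
    congrArg Subtype.val (IsKleinFour.mul_self (⟨v, hv⟩ : S₀))
  have hp4 : IsPGroup 2 S₀ := IsPGroup.of_card (n := 2) (by rw [IsKleinFour.card_four]; rfl)
  have hmemS : ∀ u ∈ C, (∃ k, orderOf u = 2 ^ k) → u ∈ S₀ := fun u hu hk =>
    mem_of_pow_two (G := C) (K := S₀.subgroupOf C) hodd' (u := ⟨u, hu⟩)
      (by simpa only [Subgroup.orderOf_mk] using hk)
  have hinv : ∀ u : G, orderOf u = 2 → Commute u x → u ∈ S₀ := fun u hu hux =>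
    hmemS u (Subgroup.mem_centralizer_singleton_iff.mpr hux) ⟨1, by rw [hu, pow_one]⟩
  have hxS : x ∈ S₀ := hinv x hx (Commute.refl x)
  have h3 : Nat.card {u : C // orderOf u = 2} ≤ 3 := by
    haveI := Fintype.ofFinite S₀
    have hc : Nat.card {v : S₀ // v ≠ 1} = 3 := by
      rw [Nat.card_eq_fintype_card, Fintype.card_subtype_compl, Fintype.card_subtype_eq,
        ← Nat.card_eq_fintype_card, IsKleinFour.card_four]
    rw [← hc]
    refine Nat.card_le_card_of_injective (fun u => ⟨⟨(u.1 : G), hinv _ (by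
      rw [Subgroup.orderOf_coe]; exact u.2) (Subgroup.mem_centralizer_singleton_iff.mp u.1.2)⟩,
      fun h1 => ?_⟩) fun a b h => ?_
    · have := u.2
      have h1' : (u.1 : C) = 1 := by
        have h1'' := congrArg (fun w : S₀ => (w : G)) h1
        exact Subtype.ext h1''
      rw [h1', orderOf_one] at this
      omega
    · exact Subtype.ext (Subtype.ext (congrArg (fun w : {v : S₀ // v ≠ 1} => ((w.1 : S₀) : G)) h))
  obtain ⟨S, hS⟩ := InvChar.exists_sylow_le_centralizer hx h3
  have hSeq : (S : Subgroup G) = S₀ := by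
    have hle' : (S : Subgroup G) ≤ S₀ := fun s hs => hmemS s (hS hs) (by
      obtain ⟨k, hk⟩ := IsPGroup.iff_orderOf.mp S.2 ⟨s, hs⟩
      exact ⟨k, by rwa [Subgroup.orderOf_mk] at hk⟩)
    exact (S.3 hp4 hle').symm
  have hnc : ∃ a b : G, a * b ≠ b * a := by
    by_contra hcon
    push Not at hcon
    have hxc : x ∈ Subgroup.center G := Subgroup.mem_center_iff.mpr fun g => hcon g x
    obtain ⟨v, hv, hvx⟩ : ∃ v : G, orderOf v = 2 ∧ v ≠ x := by
      by_contra hh
      push Not at hh
      have hle4 : Nat.card {v : S₀ // v ≠ 1} ≤ 1 := by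
        refine Finite.card_le_one_iff_subsingleton.mpr ⟨fun a b => Subtype.ext (Subtype.ext ?_)⟩
        rw [hh _ (Invol.orderOf_two_of_mul_self (hexp _ a.1.2) fun e => a.2 (Subtype.ext e)),
          hh _ (Invol.orderOf_two_of_mul_self (hexp _ b.1.2) fun e => b.2 (Subtype.ext e))]
      haveI := Fintype.ofFinite S₀
      rw [Nat.card_eq_fintype_card, Fintype.card_subtype_compl, Fintype.card_subtype_eq,
        ← Nat.card_eq_fintype_card, IsKleinFour.card_four] at hle4
      omega
    exact InvChar.not_mem_center_of_ne hx hv hvx hxc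
  have hcent : ∀ v ∈ S₀, v ≠ 1 → Subgroup.centralizer ({v} : Set G) = C := by
    intro v hv hv1
    by_cases hvx : v = x
    · rw [hvx]
    have hvC : v ∈ C := hle hv
    have hle2 : C ≤ Subgroup.centralizer ({v} : Set G) := by
      intro c hc
      have hmem : c * v * c⁻¹ ∈ S₀ :=
        hn.conj_mem ⟨v, hvC⟩ hv ⟨c, hc⟩
      have hne1 : c * v * c⁻¹ ≠ 1 := fun e => hv1 (conj_eq_one_iff.mp e)
      have hnex : c * v * c⁻¹ ≠ x := fun e => hvx (by
        have hcx : c * x = x * c := Subgroup.mem_centralizer_singleton_iff.mp hc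
        have : c * v * c⁻¹ = c * x * c⁻¹ := by rw [e, hcx, mul_inv_cancel_right]
        exact mul_left_cancel (mul_right_cancel this))
      rw [Subgroup.mem_centralizer_singleton_iff]
      apply mul_inv_eq_iff_eq_mul.mp
      by_contra hne
      have hsw : c * v * c⁻¹ = x * v := congrArg Subtype.val
        (IsKleinFour.eq_mul_of_ne_all (x := (⟨x, hxS⟩ : S₀)) (y := ⟨v, hv⟩) (z := ⟨_, hmem⟩)
          (fun e => Invol.ne_one_of_orderOf_two hx (congrArg Subtype.val e))
          (fun e => hv1 (congrArg Subtype.val e)) (fun e => hvx (congrArg Subtype.val e).symm)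
          (fun e => hne1 (congrArg Subtype.val e)) (fun e => hnex (congrArg Subtype.val e))
          (fun e => hne (congrArg Subtype.val e)))
      have hcx : c * x = x * c := Subgroup.mem_centralizer_singleton_iff.mp hc
      have hiter : ∀ j : ℕ, c ^ j * v * (c ^ j)⁻¹ = if Even j then v else x * v := by
        intro j
        induction j with
        | zero => simp
        | succ j ih =>
          have e : c ^ (j + 1) * v * (c ^ (j + 1))⁻¹ = c * (c ^ j * v * (c ^ j)⁻¹) * c⁻¹ := by group
          rw [e, ih]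
          by_cases hj : Even j
          · rw [if_pos hj, if_neg (by rw [Nat.even_add_one]; exact not_not.mpr hj), hsw]
          · rw [if_neg hj, if_pos (Nat.even_add_one.mpr hj)]
            calc c * (x * v) * c⁻¹ = (c * x) * v * c⁻¹ := by group
              _ = x * c * v * c⁻¹ := by rw [hcx]
              _ = x * (c * v * c⁻¹) := by group
              _ = v := by rw [hsw, ← mul_assoc, hexp x hxS, one_mul]
      have hidx : c ^ (S₀.subgroupOf C).index ∈ S₀ := by
        have := Subgroup.pow_index_mem (S₀.subgroupOf C) (⟨c, hc⟩ : C)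
        simpa [Subgroup.mem_subgroupOf] using this
      have hfix : c ^ (S₀.subgroupOf C).index * v * (c ^ (S₀.subgroupOf C).index)⁻¹ = v := by
        have hc' : (⟨_, hidx⟩ : S₀) * ⟨v, hv⟩ = ⟨v, hv⟩ * ⟨_, hidx⟩ := by
          exact mul_comm' hexp ⟨_, hidx⟩ ⟨v, hv⟩
        rw [show c ^ (S₀.subgroupOf C).index * v = v * c ^ (S₀.subgroupOf C).index from
          congrArg Subtype.val hc', mul_inv_cancel_right]
      rw [hiter, if_neg (by rw [even_iff_two_dvd]; exact hodd')] at hfix
      exact Invol.ne_one_of_orderOf_two hx (mul_eq_right.mp hfix)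
    refine (Subgroup.eq_of_le_of_card_ge hle2 ?_).symm
    rw [card_centralizer_of_isConj (InvChar.isConj_of_three hx h3
      (Invol.orderOf_two_of_mul_self (hexp v hv) hv1))]
  have hset : Setup G x S₀ :=
    { hx := hx
      mem := hxS
      card := IsKleinFour.card_four
      exp := hexp
      cent := hcent
      invol := hinv
      sylow := ⟨S, hSeq⟩
      oneClass := fun u hu => InvChar.isConj_of_three hx h3 hu }
  have hlin : ∀ χ : IrrCharacter G, (χ : G → ℂ) 1 = 1 → χ = CT.trivIrr G := by
    intro χ h1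
    obtain ⟨lam, hlam⟩ := CT.exists_hom_of_degree_one (CT.isCharacter_of_isIrr χ.2) h1
    rcases (lam.normal_ker).eq_bot_or_eq_top with h | h
    · exfalso
      obtain ⟨a, b, hab⟩ := hnc
      exact hab ((MonoidHom.ker_eq_bot_iff lam).mp h (by rw [map_mul, map_mul, mul_comm]))
    · apply Subtype.ext
      rw [hlam]
      funext a
      have : lam a = 1 := MonoidHom.mem_ker.mp (h ▸ Subgroup.mem_top a)
      simp [this]
  have htop : Subgroup.normalizer (S₀ : Set G) ≠ ⊤ := by
    intro h
    have hnV : S₀.Normal := Subgroup.normalizer_eq_top_iff.mp h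
    rcases hnV.eq_bot_or_eq_top with h' | h'
    · exact Invol.ne_one_of_orderOf_two hx (Subgroup.mem_bot.mp (h' ▸ hxS))
    · obtain ⟨a, b, hab⟩ := hnc
      exact hab (congrArg Subtype.val (mul_comm' hexp
        (⟨a, h' ▸ Subgroup.mem_top a⟩ : S₀) ⟨b, h' ▸ Subgroup.mem_top b⟩))
  refine hset.alternating hlin ?_ htop
  rcases (Subgroup.normalCore_normal (Subgroup.normalizer (S₀ : Set G))).eq_bot_or_eq_top with h | h
  · exact h
  · exact absurd (top_le_iff.mp (h ▸ Subgroup.normalCore_le _)) htop
where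
  mul_comm' {G : Type u} [Group G] {S : Subgroup G} (hexp : ∀ v ∈ S, v * v = 1) (a b : S) :
      a * b = b * a := by
    have hinv : ∀ w : S, w⁻¹ = w := fun w =>
      inv_eq_of_mul_eq_one_right (Subtype.ext (hexp w w.2))
    calc a * b = (a * b)⁻¹ := (hinv _).symm
      _ = b * a := by rw [mul_inv_rev, hinv, hinv]

/-- A fixed-point-free involution inverts. -/
theorem inverts_of_fpf {x : G} (hx : x * x = 1) (K : Subgroup G) [K.Normal]
    (hC : ∀ k ∈ K, Commute k x → k = 1) {k : G} (hk : k ∈ K) : x * k * x⁻¹ = k⁻¹ := by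
  classical
  have hxi : x⁻¹ = x := inv_eq_of_mul_eq_one_right hx
  let f : K → K := fun a => ⟨x * a * x⁻¹ * (a : G)⁻¹,
    mul_mem ((inferInstance : K.Normal).conj_mem _ a.2 x) (inv_mem a.2)⟩
  have hf : Function.Injective f := by
    intro a b hab
    have h := congrArg Subtype.val hab
    simp only [f] at h
    have e : Commute ((a : G)⁻¹ * b) x := by
      have h' : (b : G)⁻¹⁻¹ = b := inv_inv _
      have h1 : x * ((a : G)⁻¹ * b) * x⁻¹ = (a : G)⁻¹ * b := by
        calc x * ((a : G)⁻¹ * b) * x⁻¹ = (a : G)⁻¹ * (x * a * x⁻¹ * (a : G)⁻¹)⁻¹ *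
              (x * b * x⁻¹ * (b : G)⁻¹) * b := by group
          _ = (a : G)⁻¹ * b := by rw [h]; group
      exact (mul_inv_eq_iff_eq_mul.mp h1).symm
    exact Subtype.ext (inv_mul_eq_one.mp (hC _ (mul_mem (inv_mem a.2) b.2) e))
  obtain ⟨a, ha⟩ := (Finite.injective_iff_surjective.mp hf) ⟨k, hk⟩
  have ha' : k = x * a * x⁻¹ * (a : G)⁻¹ := (congrArg Subtype.val ha).symm
  subst ha'
  calc x * (x * a * x⁻¹ * (a : G)⁻¹) * x⁻¹ = (x * x) * a * (x⁻¹ * ((a : G)⁻¹ * x⁻¹)) := by group
    _ = a * (x * ((a : G)⁻¹ * x⁻¹)) := by rw [hx, one_mul, hxi]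
    _ = (x * a * x⁻¹ * (a : G)⁻¹)⁻¹ := by group

theorem normal_complement_of_isolated {x : G} (hx : orderOf x = 2)
    (hC4 : Nat.card ↥(Subgroup.centralizer ({x} : Set G)) = 4) (hiso : IsIsolatedInvolution x) :
    HasNormalPComplement 2 G := by
  classical
  haveI : Fact (Nat.Prime 2) := ⟨Nat.prime_two⟩
  set K := pPrimeCore 2 G with hKdef
  haveI : K.Normal := Basics.pPrimeCore_normal 2
  have hKodd : ¬ 2 ∣ Nat.card K := Basics.not_dvd_card_pPrimeCore 2
  have hfix : ∀ k ∈ K, Commute k x → k = 1 := by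
    intro k hk hc
    have d1 : orderOf k ∣ 4 := by
      rw [← hC4, ← Subgroup.orderOf_mk (H := Subgroup.centralizer ({x} : Set G)) k
        (Subgroup.mem_centralizer_singleton_iff.mpr hc)]
      exact orderOf_dvd_natCard _
    have d2 : orderOf k ∣ Nat.card K := Subgroup.orderOf_dvd_natCard K hk
    have hco : Nat.Coprime 4 (Nat.card K) := by
      rw [show (4 : ℕ) = 2 ^ 2 by norm_num]
      exact ((Nat.Prime.coprime_iff_not_dvd Nat.prime_two).mpr hKodd).pow_left 2
    exact orderOf_eq_one_iff.mp (Nat.eq_one_of_dvd_coprimes hco d1 d2)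
  have hfact : ∀ g : G, ∃ k ∈ K, k * g ∈ Subgroup.centralizer ({x} : Set G) := by
    intro g
    have hm : x * g * x⁻¹ * g⁻¹ ∈ K := InvChar.zstarHyp G x hiso g
    set k₀ := x * g * x⁻¹ * g⁻¹ with hk₀
    let f : K → K := fun a => ⟨x * a * x⁻¹ * (a : G)⁻¹,
      mul_mem ((inferInstance : K.Normal).conj_mem _ a.2 x) (inv_mem a.2)⟩
    have hf : Function.Injective f := by
      intro a b hab
      have h := congrArg Subtype.val hab
      simp only [f] at h
      have h1 : x * ((a : G)⁻¹ * b) * x⁻¹ = (a : G)⁻¹ * b := by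
        calc x * ((a : G)⁻¹ * b) * x⁻¹ = (a : G)⁻¹ * (x * a * x⁻¹ * (a : G)⁻¹)⁻¹ *
              (x * b * x⁻¹ * (b : G)⁻¹) * b := by group
          _ = (a : G)⁻¹ * b := by rw [h]; group
      exact Subtype.ext (inv_mul_eq_one.mp
        (hfix _ (mul_mem (inv_mem a.2) b.2) (mul_inv_eq_iff_eq_mul.mp h1).symm))
    obtain ⟨a, ha⟩ := (Finite.injective_iff_surjective.mp hf) ⟨k₀, hm⟩
    have ha' : x * a * x⁻¹ * (a : G)⁻¹ = x * g * x⁻¹ * g⁻¹ := congrArg Subtype.val ha
    refine ⟨(a : G)⁻¹, inv_mem a.2, Subgroup.mem_centralizer_singleton_iff.mpr ?_⟩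
    have h1 : x * ((a : G)⁻¹ * g) * x⁻¹ = (a : G)⁻¹ * g := by
      calc x * ((a : G)⁻¹ * g) * x⁻¹ = (a : G)⁻¹ * (x * a * x⁻¹ * (a : G)⁻¹)⁻¹ *
            (x * g * x⁻¹ * g⁻¹) * g := by group
        _ = (a : G)⁻¹ * g := by rw [ha']; group
    exact (mul_inv_eq_iff_eq_mul.mp h1).symm
  obtain ⟨P⟩ := (inferInstance : Nonempty (Sylow 2 G))
  have hsurj : Function.Surjective (fun c : Subgroup.centralizer ({x} : Set G) =>
      (QuotientGroup.mk' K) (c : G)) := by
    intro q
    obtain ⟨g, rfl⟩ := QuotientGroup.mk'_surjective K q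
    obtain ⟨k, hk, hkg⟩ := hfact g
    refine ⟨⟨k * g, hkg⟩, ?_⟩
    show QuotientGroup.mk' K (k * g) = QuotientGroup.mk' K g
    rw [map_mul, show QuotientGroup.mk' K k = 1 from (QuotientGroup.eq_one_iff _).mpr hk, one_mul]
  have hle : K.index ∣ 4 := by
    rw [Subgroup.index_eq_card, ← hC4]
    exact Subgroup.card_dvd_of_surjective ((QuotientGroup.mk' K).comp
      (Subgroup.centralizer ({x} : Set G)).subtype) hsurj
  refine ⟨P, K, inferInstance, Subgroup.isComplement'_of_coprime ?_ ?_⟩
  · obtain ⟨j, hj⟩ := P.2.exists_card_eq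
    have h1 : Nat.card (P : Subgroup G) = 2 ^ (Nat.card G).factorization 2 := P.card_eq_multiplicity
    have h2 := K.card_mul_index
    obtain ⟨i, -, hi⟩ := (Nat.dvd_prime_pow Nat.prime_two).mp (show K.index ∣ 2 ^ 2 from hle)
    rw [hi] at h2
    rw [h1, ← h2, Nat.factorization_mul (Nat.card_pos).ne' (by positivity), Finsupp.add_apply,
      Nat.factorization_eq_zero_of_not_dvd hKodd, Nat.prime_two.factorization_pow, zero_add,
      Finsupp.single_eq_same]
  · obtain ⟨j, hj⟩ := P.2.exists_card_eq
    rw [hj]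
    exact ((Nat.Prime.coprime_iff_not_dvd Nat.prime_two).mpr hKodd).symm.pow_right j

theorem card_four_case (x : G) (hx : orderOf x = 2)
    (hC4 : Nat.card ↥(Subgroup.centralizer ({x} : Set G)) = 4)
    (hCe : ∀ c ∈ Subgroup.centralizer ({x} : Set G), c ^ 2 = 1)
    (hnc : ¬ HasNormalPComplement 2 G)
    (hne : ∀ E : Subgroup G, E.Normal → IsElementaryAbelian 2 E → Nat.card ↥E ≠ 2 ∧ Nat.card ↥E ≠ 4) :
    Nonempty (G ≃* alternatingGroup (Fin 5)) := by
  classical
  haveI : Fact (Nat.Prime 2) := ⟨Nat.prime_two⟩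
  set V := Subgroup.centralizer ({x} : Set G) with hV
  have hexp : ∀ v ∈ V, v * v = 1 := fun v hv => by rw [← pow_two]; exact hCe v hv
  have hcomm : ∀ a b : V, a * b = b * a := simple_case.mul_comm' hexp
  have hxV : x ∈ V := Subgroup.mem_centralizer_singleton_iff.mpr rfl
  have hVe : IsElementaryAbelian 2 V := ⟨⟨⟨fun a b => hcomm a b⟩⟩, hCe⟩
  have hnV : ¬ V.Normal := fun h => (hne V h hVe).2 hC4
  haveI : Nontrivial V := ⟨⟨⟨x, hxV⟩, 1, fun e => Invol.ne_one_of_orderOf_two hx (congrArg Subtype.val e)⟩⟩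
  haveI : IsKleinFour V := by
    refine ⟨hC4, (Monoid.exponent_eq_prime_iff Nat.prime_two (G := V)).mpr fun g hg => ?_⟩ <;>
      first
      | exact Invol.orderOf_two_of_mul_self (Subtype.ext (hexp g g.2)) hg
      | infer_instance
  have hfour : ∀ a b v : G, a ∈ V → b ∈ V → v ∈ V → a ≠ 1 → b ≠ 1 → a ≠ b →
      v = 1 ∨ v = a ∨ v = b ∨ v = a * b := by
    intro a b v ha hb hv h1 h2 h3
    by_contra hcon
    push Not at hcon
    exact hcon.2.2.2 (congrArg Subtype.val (IsKleinFour.eq_mul_of_ne_all
      (x := (⟨a, ha⟩ : V)) (y := ⟨b, hb⟩) (z := ⟨v, hv⟩)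
      (fun e => h1 (congrArg Subtype.val e)) (fun e => h2 (congrArg Subtype.val e))
      (fun e => h3 (congrArg Subtype.val e)) (fun e => hcon.1 (congrArg Subtype.val e))
      (fun e => hcon.2.1 (congrArg Subtype.val e)) (fun e => hcon.2.2.1 (congrArg Subtype.val e))))
  have hne1 := Invol.ne_one_of_orderOf_two hx
  have hcentral : ∀ v ∈ V, IsConj x v → Subgroup.centralizer ({v} : Set G) = V := by
    intro v hv hc
    refine (Subgroup.eq_of_le_of_card_ge ?_ (card_centralizer_of_isConj hc).le).symm
    intro c hcv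
    exact Subgroup.mem_centralizer_singleton_iff.mpr (congrArg Subtype.val (hcomm ⟨c, hcv⟩ ⟨v, hv⟩))
  -- all involutions of `V` are conjugate
  have hall : ∀ v ∈ V, v ≠ 1 → IsConj x v := by
    intro y hy hy1
    by_contra hnconj
    have hyx : y ≠ x := fun e => hnconj (e ▸ IsConj.refl x)
    have hwV : x * y ∈ V := mul_mem hxV hy
    have hy2 := Invol.orderOf_two_of_mul_self (hexp y hy) hy1
    by_cases hw : IsConj x (x * y)
    · -- the conjugates of `y` commute
      have hyw : ∀ g : G, g * y * g⁻¹ ∈ V → g * y * g⁻¹ = y := by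
        intro g hg
        rcases hfour x y _ hxV hy hg hne1 hy1 hyx.symm with h | h | h | h
        · exact absurd (conj_eq_one_iff.mp h) hy1
        · exact absurd (isConj_iff.mpr ⟨g, h⟩).symm hnconj
        · exact h
        · exact absurd (hw.trans (isConj_iff.mpr ⟨g, h⟩).symm) hnconj
      have hcomm_y : ∀ g : G, Commute (g * y * g⁻¹) y := by
        intro g
        obtain ⟨v, -, hv, hvx, hvy⟩ := Invol.exists_commuting_involution_of_not_isConj
          (Invol.mul_self_of_orderOf_two hx)
          (Invol.mul_self_of_orderOf_two (show orderOf (g * y * g⁻¹) = 2 by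
            rw [Invol.orderOf_conj, hy2]))
          (fun h => hnconj (h.trans (isConj_iff.mpr ⟨g, rfl⟩).symm))
        have hvV : v ∈ V := Subgroup.mem_centralizer_singleton_iff.mpr hvx
        rcases hfour x y v hxV hy hvV hne1 hy1 hyx.symm with h | h | h | h
        · exact absurd h (Invol.ne_one_of_orderOf_two hv)
        · subst h; rw [hyw g (Subgroup.mem_centralizer_singleton_iff.mpr hvy.symm)]
        · subst h; exact hvy.symm
        · subst h
          have hmem : g * y * g⁻¹ ∈ V := by
            rw [← hcentral _ hwV hw]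
            exact Subgroup.mem_centralizer_singleton_iff.mpr hvy.symm
          rw [hyw g hmem]
      set E := Subgroup.normalClosure ({y} : Set G) with hE
      have hgen : ∀ a ∈ Group.conjugatesOfSet ({y} : Set G), ∃ g : G, g * y * g⁻¹ = a := by
        intro a ha
        obtain ⟨b, hb, hab⟩ := Group.mem_conjugatesOfSet_iff.mp ha
        rw [Set.mem_singleton_iff] at hb
        subst hb
        exact isConj_iff.mp hab
      have hpair : ∀ a ∈ Group.conjugatesOfSet ({y} : Set G),
          ∀ b ∈ Group.conjugatesOfSet ({y} : Set G), a * b = b * a := by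
        intro a ha b hb
        obtain ⟨g, rfl⟩ := hgen a ha
        obtain ⟨k, rfl⟩ := hgen b hb
        have h1 := (hcomm_y (k⁻¹ * g)).map (MulAut.conj k).toMonoidHom
        simp only [MulEquiv.toMonoidHom_eq_coe, MonoidHom.coe_coe, MulAut.conj_apply] at h1
        rw [show k * (k⁻¹ * g * y * (k⁻¹ * g)⁻¹) * k⁻¹ = g * y * g⁻¹ by group] at h1
        exact h1.eq
      haveI hEc : IsMulCommutative E := Subgroup.isMulCommutative_closure hpair
      have hEexp : ∀ e ∈ E, e ^ 2 = 1 := by
        intro e he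
        induction he using Subgroup.closure_induction with
        | mem a ha =>
          obtain ⟨g, rfl⟩ := hgen a ha
          rw [conj_pow, pow_two, Invol.mul_self_of_orderOf_two hy2, mul_one, mul_inv_cancel]
        | one => rw [one_pow]
        | mul a b ha hb iha ihb =>
          have hab : a * b = b * a := congrArg Subtype.val (hEc.is_comm.comm (⟨a, ha⟩ : E) ⟨b, hb⟩)
          rw [(show Commute a b from hab).mul_pow, iha, ihb, one_mul]
        | inv a _ iha => rw [inv_pow, iha, inv_one]
      have hEe : IsElementaryAbelian 2 E := ⟨hEc, hEexp⟩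
      have hEn : E.Normal := Subgroup.normalClosure_normal
      obtain ⟨hE2, hE4⟩ := hne E hEn hEe
      have hyE : y ∈ E := Subgroup.subset_normalClosure (Set.mem_singleton y)
      have hxE : x ∉ E := by
        intro hxE
        have hle : E ≤ V := fun e he => Subgroup.mem_centralizer_singleton_iff.mpr
          (congrArg Subtype.val (hEc.is_comm.comm (⟨e, he⟩ : E) ⟨x, hxE⟩))
        have heq : E = V := le_antisymm hle fun v hv => by
          rcases hfour x y v hxV hy hv hne1 hy1 hyx.symm with rfl | rfl | rfl | rfl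
          · exact one_mem _
          · exact hxE
          · exact hyE
          · exact mul_mem hxE hyE
        exact hnV (heq ▸ hEn)
      haveI := hEn
      have hEcomm : ∀ a b : E, a * b = b * a := fun a b => hEc.is_comm.comm a b
      let f : E →* E := MonoidHom.mk' (fun e => e * ⟨x * e * x⁻¹, hEn.conj_mem _ e.2 x⟩) (by
        intro a b
        have e1 : (⟨x * ((a * b : E) : G) * x⁻¹, hEn.conj_mem _ (a * b).2 x⟩ : E) =
            ⟨x * a * x⁻¹, hEn.conj_mem _ a.2 x⟩ * ⟨x * b * x⁻¹, hEn.conj_mem _ b.2 x⟩ :=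
          Subtype.ext (by simp only [Subgroup.coe_mul]; group)
        rw [e1]; exact Commute.mul_mul_mul_comm (hEcomm _ _) _ _)
      have hsub : ∀ e : E, (e : G) ∈ V → e = 1 ∨ e = ⟨y, hyE⟩ := by
        intro e he
        rcases hfour x y _ hxV hy he hne1 hy1 hyx.symm with h | h | h | h
        · exact Or.inl (Subtype.ext h)
        · exact absurd (h ▸ e.2) hxE
        · exact Or.inr (Subtype.ext h)
        · exfalso
          have := mul_mem (h ▸ e.2 : x * y ∈ E) hyE
          rw [mul_assoc, hexp y hy, mul_one] at this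
          exact hxE this
      have hker : Nat.card f.ker ≤ 2 := by
        have : ∀ e ∈ f.ker, e = 1 ∨ e = ⟨y, hyE⟩ := by
          intro e he
          refine hsub e (Subgroup.mem_centralizer_singleton_iff.mpr ?_)
          have h1 : (e : G) * (x * e * x⁻¹) = 1 := congrArg Subtype.val (MonoidHom.mem_ker.mp he)
          have h2 : x * e * x⁻¹ = (e : G) := by
            rw [eq_inv_of_mul_eq_one_right h1]
            exact inv_eq_of_mul_eq_one_right (by rw [← pow_two]; exact hEexp _ e.2)
          exact (mul_inv_eq_iff_eq_mul.mp h2).symm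
        refine le_trans (Subgroup.card_le_of_le (K := Subgroup.zpowers (⟨y, hyE⟩ : E)) fun e he => ?_)
          (le_of_eq (by rw [Nat.card_zpowers, Subgroup.orderOf_mk, hy2]))
        rcases this e he with h | h <;> rw [h]
        · exact one_mem _
        · exact Subgroup.mem_zpowers _
      have hrange : Nat.card f.range ≤ 2 := by
        have : ∀ e ∈ f.range, e = 1 ∨ e = ⟨y, hyE⟩ := by
          rintro _ ⟨e, rfl⟩
          refine hsub _ (Subgroup.mem_centralizer_singleton_iff.mpr ?_)
          have hh : x * ((e : G) * (x * e * x⁻¹)) * x⁻¹ = (e : G) * (x * e * x⁻¹) := by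
            have hc : (e : G) * (x * e * x⁻¹) = (x * e * x⁻¹) * e :=
              congrArg Subtype.val (hEcomm e ⟨x * e * x⁻¹, hEn.conj_mem _ e.2 x⟩)
            calc x * ((e : G) * (x * e * x⁻¹)) * x⁻¹ = (x * e * x⁻¹) * ((x * x) * e * (x * x)⁻¹) := by group
              _ = (x * e * x⁻¹) * e := by rw [Invol.mul_self_of_orderOf_two hx]; group
              _ = _ := hc.symm
          exact (mul_inv_eq_iff_eq_mul.mp hh).symm
        refine le_trans (Subgroup.card_le_of_le (K := Subgroup.zpowers (⟨y, hyE⟩ : E)) fun e he => ?_)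
          (le_of_eq (by rw [Nat.card_zpowers, Subgroup.orderOf_mk, hy2]))
        rcases this e he with h | h <;> rw [h]
        · exact one_mem _
        · exact Subgroup.mem_zpowers _
      have hcard : Nat.card E ≤ 4 := by
        rw [← f.ker.card_mul_index, Subgroup.index_ker]
        calc Nat.card f.ker * Nat.card f.range ≤ 2 * 2 := Nat.mul_le_mul hker hrange
          _ = 4 := rfl
      obtain ⟨i, hi⟩ := (IsPGroup.iff_card (p := 2) (G := E)).mp fun e =>
        ⟨1, Subtype.ext (by rw [Subgroup.coe_pow, pow_one]; exact hEexp _ e.2)⟩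
      have h2le : 2 ≤ Nat.card E := by
        haveI : Nontrivial E := ⟨⟨⟨y, hyE⟩, 1, fun e => hy1 (congrArg Subtype.val e)⟩⟩
        exact Finite.one_lt_card
      rcases i with _ | _ | _ | i
      · rw [pow_zero] at hi; omega
      · exact hE2 (by simpa using hi)
      · exact hE4 (by simpa using hi)
      · have : 8 ≤ 2 ^ (i + 3) := by
          rw [pow_add]; norm_num; exact Nat.one_le_two_pow
        omega
    · -- `x` is isolated
      refine hnc (normal_complement_of_isolated hx hC4 ⟨hx, fun g hc => ?_⟩)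
      have hmem : g * x * g⁻¹ ∈ V := Subgroup.mem_centralizer_singleton_iff.mpr hc.symm
      rcases hfour x y _ hxV hy hmem hne1 hy1 hyx.symm with h | h | h | h
      · exact absurd (conj_eq_one_iff.mp h) hne1
      · exact h
      · exact absurd (isConj_iff.mpr ⟨g, h⟩) hnconj
      · exact absurd (isConj_iff.mpr ⟨g, h⟩) hw
  have hcent : ∀ v ∈ V, v ≠ 1 → Subgroup.centralizer ({v} : Set G) = V := fun v hv h1 =>
    hcentral v hv (hall v hv h1)
  -- `V` is a Sylow 2-subgroup
  have hpV : IsPGroup 2 V := IsPGroup.of_card (n := 2) (by rw [hC4]; rfl)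
  obtain ⟨S, hS⟩ := hpV.exists_le_sylow
  have hSV : (S : Subgroup G) = V := by
    refine le_antisymm ?_ hS
    haveI : Nontrivial (S : Subgroup G) :=
      ⟨⟨⟨x, hS hxV⟩, 1, fun h => hne1 (congrArg Subtype.val h)⟩⟩
    haveI := S.2.center_nontrivial
    obtain ⟨k, hk⟩ := (S.2.to_subgroup (Subgroup.center (S : Subgroup G))).exists_card_eq
    have hk0 : k ≠ 0 := by
      rintro rfl
      rw [pow_zero] at hk
      exact Finite.one_lt_card.ne' hk
    obtain ⟨z₀, hz₀⟩ := exists_prime_orderOf_dvd_card' (G := Subgroup.center (S : Subgroup G)) 2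
      (hk ▸ dvd_pow_self 2 hk0)
    have hz : orderOf ((z₀ : (S : Subgroup G)) : G) = 2 := by
      rw [Subgroup.orderOf_coe, Subgroup.orderOf_coe]; exact hz₀
    have hzV : ((z₀ : (S : Subgroup G)) : G) ∈ V := Subgroup.mem_centralizer_singleton_iff.mpr
      (congrArg Subtype.val (Subgroup.mem_center_iff.mp z₀.2 ⟨x, hS hxV⟩)).symm
    intro s hs
    rw [← hcent _ hzV (Invol.ne_one_of_orderOf_two hz)]
    exact Subgroup.mem_centralizer_singleton_iff.mpr
      (congrArg Subtype.val (Subgroup.mem_center_iff.mp z₀.2 ⟨s, hs⟩))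
  have hclass : ∀ u : G, orderOf u = 2 → IsConj x u := by
    intro u hu
    by_contra hn
    obtain ⟨w, -, hw, hwx, hwu⟩ := Invol.exists_commuting_involution_of_not_isConj
      (Invol.mul_self_of_orderOf_two hx) (Invol.mul_self_of_orderOf_two hu) hn
    have huV : u ∈ V := by
      rw [← hcent w (Subgroup.mem_centralizer_singleton_iff.mpr hwx) (Invol.ne_one_of_orderOf_two hw)]
      exact Subgroup.mem_centralizer_singleton_iff.mpr hwu.symm
    exact hn (hall u huV (Invol.ne_one_of_orderOf_two hu))
  have hset : Setup G x V :=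
    { hx := hx
      mem := hxV
      card := hC4
      exp := hexp
      cent := hcent
      invol := fun u _ hux => Subgroup.mem_centralizer_singleton_iff.mpr hux
      sylow := ⟨S, hSV⟩
      oneClass := hclass }
  obtain ⟨y, hyV, hy1, hyx⟩ : ∃ y ∈ V, y ≠ 1 ∧ y ≠ x := by
    by_contra hcon
    push Not at hcon
    have hle : V ≤ Subgroup.zpowers x := fun v hv => by
      by_cases h1 : v = 1
      · rw [h1]; exact one_mem _
      · rw [hcon v hv h1]; exact Subgroup.mem_zpowers x
    have := Subgroup.card_le_of_le hle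
    rw [hC4, Nat.card_zpowers, hx] at this
    omega
  -- a subgroup of odd order normalized by `V` with fixed-point-free action is trivial
  have hoddbot : ∀ K : Subgroup G, K.Normal → Odd (Nat.card K) → K = ⊥ := by
    intro K hK hKodd
    haveI := hK
    have hfix : ∀ v ∈ V, v ≠ 1 → ∀ k ∈ K, Commute k v → k = 1 := by
      intro v hv h1 k hk hc
      have hkV : k ∈ V := by
        rw [← hcent v hv h1]; exact Subgroup.mem_centralizer_singleton_iff.mpr hc
      by_contra hk1
      have h2 := Invol.orderOf_two_of_mul_self (hexp k hkV) hk1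
      have hdvd := Subgroup.orderOf_dvd_natCard K hk
      rw [h2, ← even_iff_two_dvd] at hdvd
      exact Nat.not_even_iff_odd.mpr hKodd hdvd
    rw [Subgroup.eq_bot_iff_forall]
    intro k hk
    have hxy1 : x * y ≠ 1 := fun e => hyx (by
      rw [eq_inv_of_mul_eq_one_right e, Invol.inv_of_orderOf_two hx])
    have h1 := inverts_of_fpf (hexp x hxV) K (hfix x hxV hne1) hk
    have h2 := inverts_of_fpf (hexp y hyV) K (hfix y hyV hy1) hk
    refine hfix (x * y) (mul_mem hxV hyV) hxy1 k hk ?_
    have : x * y * k * (x * y)⁻¹ = k := by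
      calc x * y * k * (x * y)⁻¹ = x * (y * k * y⁻¹) * x⁻¹ := by group
        _ = k := by rw [h2, ← conj_inv, h1, inv_inv]
    exact (mul_inv_eq_iff_eq_mul.mp this).symm
  have htop : Subgroup.normalizer (V : Set G) ≠ ⊤ := fun h =>
    hnV (Subgroup.normalizer_eq_top_iff.mp h)
  have hH12 : Nat.card (Subgroup.normalizer (V : Set G)) = 12 := by
    have h := hset.card_normalizer
    rw [← hV, hC4] at h
    exact h
  have hlin : ∀ χ : IrrCharacter G, (χ : G → ℂ) 1 = 1 → χ = CT.trivIrr G := by
    intro χ h1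
    obtain ⟨lam, hlam⟩ := CT.exists_hom_of_degree_one (CT.isCharacter_of_isIrr χ.2) h1
    have hconst : ∀ v ∈ V, v ≠ 1 → lam v = lam x := by
      intro v hv hv1
      obtain ⟨a, ha⟩ := isConj_iff.mp (hall v hv hv1)
      rw [← ha, map_mul, map_mul, map_inv, mul_right_comm, mul_inv_cancel, one_mul]
    have hlx : lam x = 1 := by
      have hxy1 : x * y ≠ 1 := fun e => hyx (by
        rw [eq_inv_of_mul_eq_one_right e, Invol.inv_of_orderOf_two hx])
      have h2 := hconst (x * y) (mul_mem hxV hyV) hxy1
      rw [map_mul, hconst y hyV hy1] at h2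
      exact mul_eq_left.mp h2
    set L := lam.ker with hL
    have hVL : V ≤ L := fun v hv => by
      by_cases hv1 : v = 1
      · rw [hv1]; exact one_mem _
      · exact MonoidHom.mem_ker.mpr ((hconst v hv hv1).trans hlx)
    have hLtop : L = ⊤ := by
      by_contra hLne
      set H := Subgroup.normalizer (V : Set G) with hH
      have hVH : V ≤ H := Subgroup.le_normalizer
      have hfr : H ⊔ L = ⊤ := by
        have := Sylow.normalizer_sup_eq_top' S (hSV ▸ hVL)
        rwa [show ((S : Set G)) = (V : Set G) from congrArg (fun K : Subgroup G => (K : Set G)) hSV] at this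
      have hHL : H ⊓ L = V := by
        have hle : V ≤ H ⊓ L := le_inf hVH hVL
        refine (Subgroup.eq_of_le_of_card_ge hle ?_).symm
        have d1 : Nat.card (H ⊓ L : Subgroup G) ∣ 12 := hH12 ▸ Subgroup.card_dvd_of_le inf_le_left
        have d2 : 4 ∣ Nat.card (H ⊓ L : Subgroup G) := hC4 ▸ Subgroup.card_dvd_of_le hle
        have hne12 : Nat.card (H ⊓ L : Subgroup G) ≠ 12 := by
          intro e
          have hHle : H ≤ L := by
            have := Subgroup.eq_of_le_of_card_ge (inf_le_left : H ⊓ L ≤ H) (by rw [e, hH12])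
            exact this ▸ inf_le_right
          exact hLne (by rw [← hfr]; exact (sup_eq_right.mpr hHle).symm)
        rw [hC4]
        have := Nat.le_of_dvd (by norm_num) d1
        obtain ⟨t, ht⟩ := d2
        rw [ht] at d1 hne12 this ⊢
        have ht3 : t ≤ 3 := by omega
        interval_cases t <;> omega
      have hP : Subgroup.normalizer (((S.subtype (hSV ▸ hVL) : Sylow 2 L) : Subgroup L) : Set L) ≤
          Subgroup.centralizer (((S.subtype (hSV ▸ hVL) : Sylow 2 L) : Subgroup L) : Set L) := by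
        intro l hl
        have hlH : (l : G) ∈ H := by
          rw [hH, Subgroup.mem_normalizer_iff]
          intro v
          constructor
          · intro hv
            have := ((Subgroup.mem_normalizer_iff.mp hl) ⟨v, hVL hv⟩).mp
              (show v ∈ (S : Subgroup G) by rw [hSV]; exact hv)
            exact hSV ▸ this
          · intro hv
            have hvL : v ∈ L := by
              have hm := mul_mem (mul_mem (inv_mem l.2) (hVL hv)) l.2
              simpa [mul_assoc] using hm
            have := ((Subgroup.mem_normalizer_iff.mp hl) ⟨v, hvL⟩).mpr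
              (show (l : G) * v * (l : G)⁻¹ ∈ (S : Subgroup G) from hSV.symm ▸ hv)
            exact hSV ▸ this
        have hlV : (l : G) ∈ V := hHL ▸ ⟨hlH, l.2⟩
        rw [Subgroup.mem_centralizer_iff]
        intro p hp
        have hpV : (p : G) ∈ V := by rw [← hSV]; exact hp
        apply Subtype.ext
        have h' := congrArg Subtype.val (hcomm ⟨(p : G), hpV⟩ ⟨(l : G), hlV⟩)
        exact h'
      obtain ⟨Q, K, hK, hKQ⟩ := Transfer.hasNormalPComplement_of_normalizer_le
        (S.subtype (hSV ▸ hVL) : Sylow 2 L) hP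
      have hKodd : ¬ 2 ∣ Nat.card K := by rw [← hKQ.index_eq_card]; exact Q.not_dvd_index
      haveI : L.Normal := lam.normal_ker
      have hcore : (pPrimeCore 2 L).map L.subtype = ⊥ := hoddbot _ inferInstance (by
        rw [Subgroup.card_map_of_injective Subtype.val_injective, ← Nat.not_even_iff_odd,
          even_iff_two_dvd]
        exact Basics.not_dvd_card_pPrimeCore 2)
      rw [Subgroup.map_eq_bot_iff_of_injective _ Subtype.val_injective] at hcore
      have hK1 : K = ⊥ := le_bot_iff.mp (hcore ▸ (by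
        haveI := hK
        exact Basics.le_pPrimeCore (Nat.prime_two.coprime_iff_not_dvd.mpr hKodd).symm))
      have hQ : Nat.card (Q : Subgroup L) = 4 := by
        rw [Nat.card_congr (Sylow.equiv Q (S.subtype (hSV ▸ hVL))).toEquiv, ← hC4]
        exact Nat.card_congr (((MulEquiv.subgroupCongr (Sylow.coe_subtype S (hSV ▸ hVL))).trans
          (Subgroup.subgroupOfEquivOfLe (hSV ▸ hVL))).trans (MulEquiv.subgroupCongr hSV)).toEquiv
      have hLcard : Nat.card L = 4 := by
        rw [← hKQ.card_mul_card, hK1, Subgroup.card_bot, one_mul, hQ]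
      have : L = V := (Subgroup.eq_of_le_of_card_ge hVL (by rw [hLcard, hC4])).symm
      exact hnV (this ▸ lam.normal_ker)
    apply Subtype.ext
    rw [hlam]
    funext a
    have : lam a = 1 := MonoidHom.mem_ker.mp (by rw [← hL, hLtop]; exact Subgroup.mem_top a)
    simp [this]
  refine hset.alternating hlin ?_ htop
  set L := (Subgroup.normalizer (V : Set G)).normalCore with hL
  by_cases hLodd : Odd (Nat.card L)
  · exact hoddbot L (Subgroup.normalCore_normal _) hLodd
  exfalso
  obtain ⟨u, hu⟩ := exists_prime_orderOf_dvd_card' (G := L) 2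
    (even_iff_two_dvd.mp (Nat.not_odd_iff_even.mp hLodd))
  have hinvL : ∀ v : G, orderOf v = 2 → v ∈ L := by
    intro v hv
    have hu' : orderOf (u : G) = 2 := by rw [Subgroup.orderOf_coe, hu]
    obtain ⟨a, ha⟩ := isConj_iff.mp ((hclass _ hu').symm.trans (hclass v hv))
    rw [← ha]
    exact (Subgroup.normalCore_normal _).conj_mem _ u.2 a
  have hinH : ∀ v ∈ Subgroup.normalizer (V : Set G), orderOf v = 2 → v ∈ V := by
    intro v hv hv2
    have hp : IsPGroup 2 (Subgroup.zpowers v) :=
      IsPGroup.of_card (n := 1) (by rw [Nat.card_zpowers, hv2, pow_one])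
    have hsup : IsPGroup 2 ((V ⊔ Subgroup.zpowers v : Subgroup G)) :=
      IsPGroup.to_sup_of_normal_left' hpV hp (Subgroup.zpowers_le.mpr hv)
    have := S.3 hsup (hSV ▸ le_sup_left)
    rw [← hSV, ← this]
    exact le_sup_right (a := V) (Subgroup.mem_zpowers v)
  refine hnV ⟨fun v hv a => ?_⟩
  by_cases h1 : v = 1
  · simp [h1]
  have h2 : orderOf (a * v * a⁻¹) = 2 := by
    rw [Invol.orderOf_conj]; exact Invol.orderOf_two_of_mul_self (hexp v hv) h1
  exact hinH _ (Subgroup.normalCore_le _ (hinvL _ h2)) h2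

end Cfsg.Agent.FourCent
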