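import Mathlib
import Cfsg.Agent.Lib.Invol.Basic
import Cfsg.Agent.Lib.Invol.BaerSuzuki
import Cfsg.Agent.Lib.Basics.Cores

/-!
# A four group meeting the centralizers of all its conjugates
-/

set_option autoImplicit false
set_option linter.style.haveILetI false
set_option linter.unusedSectionVars false

namespace Cfsg.Agent.InvChar

open Cfsg Cfsg.Agent

universe u

variable {G : Type u} [Group G] [Finite G]

theorem mem_zpowers_sq {d : G} (hd : Odd (orderOf d)) : d ∈ Subgroup.zpowers (d ^ 2) := by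
  obtain ⟨j, hj⟩ := exists_pow_eq_self_of_coprime (x := d) (n := 2)
    ((Nat.coprime_two_left).mpr hd)
  exact ⟨(j : ℤ), by simpa using hj⟩

theorem sq_ne_inv {d : G} (hd : Odd (orderOf d)) (h1 : d ≠ 1) : d ^ 2 ≠ (d ^ 2)⁻¹ := by
  intro h
  have h4 : d ^ 4 = 1 := by
    rw [show 4 = 2 + 2 by norm_num, pow_add]
    exact mul_eq_one_iff_eq_inv.mpr h
  refine h1 (orderOf_eq_one_iff.mp (Nat.eq_one_of_dvd_coprimes (k := orderOf d) ?_ dvd_rfl
    (orderOf_dvd_of_pow_eq_one h4)))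
  rw [show (4 : ℕ) = 2 ^ 2 by norm_num]
  exact Nat.Coprime.pow_right 2 ((Nat.coprime_two_right).mpr hd)

theorem inverts_pow {t d : G} (h : t * d * t⁻¹ = d⁻¹) (k : ℕ) : t * d ^ k * t⁻¹ = (d ^ k)⁻¹ := by
  rw [← conj_pow, h, inv_pow]

theorem conj_of_inverts {t d : G} (ht : t * t = 1) (h : t * d * t⁻¹ = d⁻¹) :
    d * t * d⁻¹ = d ^ 2 * t := by
  rw [← h, pow_two, inv_eq_of_mul_eq_one_right ht]
  calc d * t * (t * d * t) = d * (t * t) * d * t := by group
    _ = d * d * t := by rw [ht, mul_one]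

/-- The core computation. -/
theorem pair_false {a b d e : G} (ha : a * a = 1) (hb : b * b = 1) (hab : Commute a b)
    (hd : Odd (orderOf d)) (hd1 : d ≠ 1) (he : Odd (orderOf e)) (he1 : e ≠ 1)
    (hda : a * d * a⁻¹ = d⁻¹) (hdb : Commute b d) (heb : b * e * b⁻¹ = e⁻¹) (hea : Commute a e)
    (hA : ∀ g : G, Commute (g * a * g⁻¹) a ∨ Commute (g * a * g⁻¹) b ∨
      Commute (g * a * g⁻¹) (a * b))
    (hC : ∀ g : G, Commute (g * (a * b) * g⁻¹) a ∨ Commute (g * (a * b) * g⁻¹) b ∨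
      Commute (g * (a * b) * g⁻¹) (a * b)) : False := by
  have hw : d * a * d⁻¹ = d ^ 2 * a := conj_of_inverts ha hda
  have hf : e * b * e⁻¹ = e ^ 2 * b := conj_of_inverts hb heb
  have hai : a⁻¹ = a := inv_eq_of_mul_eq_one_right ha
  have hbi : b⁻¹ = b := inv_eq_of_mul_eq_one_right hb
  have hd2 : a * d ^ 2 = (d ^ 2)⁻¹ * a := mul_inv_eq_iff_eq_mul.mp (inverts_pow hda 2)
  have he2 : b * e ^ 2 = (e ^ 2)⁻¹ * b := mul_inv_eq_iff_eq_mul.mp (inverts_pow heb 2)
  have hae : a * e ^ 2 = e ^ 2 * a := (hea.pow_right 2).eq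
  have hbd : b * d ^ 2 = d ^ 2 * b := (hdb.pow_right 2).eq
  -- a conjugate of `a` commuting with `v`
  have hconj : ∀ v : G, Commute (e⁻¹ * d * a * (e⁻¹ * d)⁻¹) v →
      Commute (d ^ 2 * a) (e * v * e⁻¹) := by
    intro v h
    have := h.map (MulAut.conj e).toMonoidHom
    simp only [MulEquiv.toMonoidHom_eq_coe, MonoidHom.coe_coe, MulAut.conj_apply] at this
    rwa [show e * (e⁻¹ * d * a * (e⁻¹ * d)⁻¹) * e⁻¹ = d * a * d⁻¹ by group, hw] at this
  -- `a` does not commute with `d ^ 2 * a`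
  have hna : ¬ Commute (d ^ 2 * a) a := fun h => by
    apply sq_ne_inv hd hd1
    have h' : d ^ 2 * a * a = a * (d ^ 2 * a) := h.eq
    rw [← mul_assoc a, hd2, mul_assoc, mul_assoc, ha, mul_one, mul_one] at h'
    exact h'
  -- `d` and `e` commute
  have hde : Commute d e := by
    have key : Commute (d ^ 2) (e ^ 2) → Commute d e := fun h => by
      have h1 := Invol.commute_of_mem_zpowers h (mem_zpowers_sq he)
      exact (Invol.commute_of_mem_zpowers h1.symm (mem_zpowers_sq hd)).symm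
    rcases hA (e⁻¹ * d) with h | h | h
    · exfalso
      apply hna
      have := hconj a h
      rwa [show e * a * e⁻¹ = a from mul_inv_eq_iff_eq_mul.mpr hea.eq.symm] at this
    · apply key
      have := (hconj b h).eq
      rw [hf] at this
      have l : d ^ 2 * a * (e ^ 2 * b) = d ^ 2 * e ^ 2 * (a * b) := by
        rw [mul_assoc, ← mul_assoc a, hae]; group
      have r : e ^ 2 * b * (d ^ 2 * a) = e ^ 2 * d ^ 2 * (a * b) := by
        rw [hab.eq, mul_assoc, ← mul_assoc b, hbd]; group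
      rw [l, r] at this
      exact mul_right_cancel this
    · exfalso
      have h2 := (hconj (a * b) h).eq
      have econj : e * (a * b) * e⁻¹ = e ^ 2 * (a * b) := by
        have : e * (a * b) * e⁻¹ = a * (e * b * e⁻¹) := by
          rw [← mul_assoc e, ← hea.eq]; group
        rw [this, hf, ← mul_assoc, hae, mul_assoc]
      rw [econj] at h2
      have l : d ^ 2 * a * (e ^ 2 * (a * b)) = d ^ 2 * e ^ 2 * b := by
        rw [mul_assoc, ← mul_assoc a, hae, mul_assoc (e ^ 2), ← mul_assoc a a, ha, one_mul, mul_assoc]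
      have r : e ^ 2 * (a * b) * (d ^ 2 * a) = e ^ 2 * (d ^ 2)⁻¹ * b := by
        calc e ^ 2 * (a * b) * (d ^ 2 * a) = e ^ 2 * (a * (b * d ^ 2) * a) := by group
          _ = e ^ 2 * ((a * d ^ 2) * b * a) := by rw [hbd]; group
          _ = e ^ 2 * ((d ^ 2)⁻¹ * (a * b * a)) := by rw [hd2]; group
          _ = e ^ 2 * (d ^ 2)⁻¹ * b := by rw [hab.eq, mul_assoc b, ha, mul_one, mul_assoc]
      rw [l, r] at h2
      have h3 : (e ^ 2)⁻¹ * d ^ 2 * (e ^ 2)⁻¹⁻¹ = (d ^ 2)⁻¹ := by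
        rw [inv_inv, mul_assoc, mul_right_cancel h2, inv_mul_cancel_left]
      have h4 : Commute ((e ^ 2)⁻¹ * (e ^ 2)⁻¹) (d ^ 2) := by
        apply mul_inv_eq_iff_eq_mul.mp
        calc (e ^ 2)⁻¹ * (e ^ 2)⁻¹ * d ^ 2 * ((e ^ 2)⁻¹ * (e ^ 2)⁻¹)⁻¹
            = (e ^ 2)⁻¹ * ((e ^ 2)⁻¹ * d ^ 2 * (e ^ 2)⁻¹⁻¹) * (e ^ 2)⁻¹⁻¹ := by group
          _ = d ^ 2 := by rw [h3, ← conj_inv, h3, inv_inv]
      have h5 : Commute (e ^ 2) (d ^ 2) := by
        have h6 : Commute ((e ^ 2) ^ 2) (d ^ 2) := by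
          have := h4.inv_left
          rwa [mul_inv_rev, inv_inv, ← pow_two] at this
        have hodd2 : Odd (orderOf (e ^ 2)) := hd.elim fun _ _ =>
          he.of_dvd_nat (orderOf_pow_dvd 2)
        exact (Invol.commute_of_mem_zpowers h6.symm (mem_zpowers_sq hodd2)).symm
      apply sq_ne_inv hd hd1
      rw [inv_inv, h5.inv_left.eq, mul_assoc, inv_mul_cancel, mul_one] at h3
      exact h3
  -- the conjugate of `a * b`
  have hn : d * e ≠ 1 := fun h => by
    have h1 : e = d⁻¹ := eq_inv_of_mul_eq_one_right h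
    subst h1
    exact hd1 (Invol.eq_one_of_commute_of_inverts hd (by simpa using hea.inv_right) hda)
  have hnodd : Odd (orderOf (d * e)) :=
    (hd.mul he).of_dvd_nat hde.orderOf_mul_dvd_mul_orderOf
  have hinv : a * b * (d * e) * (a * b)⁻¹ = (d * e)⁻¹ := by
    have e1 : a * b * d * (a * b)⁻¹ = d⁻¹ := by
      calc a * b * d * (a * b)⁻¹ = a * (b * d * b⁻¹) * a⁻¹ := by group
        _ = d⁻¹ := by rw [hdb.eq, mul_inv_cancel_right, hda]
    have e2 : a * b * e * (a * b)⁻¹ = e⁻¹ := by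
      calc a * b * e * (a * b)⁻¹ = a * (b * e * b⁻¹) * a⁻¹ := by group
        _ = e⁻¹ := by rw [heb, hea.inv_right.eq, mul_inv_cancel_right]
    rw [conj_mul.symm, e1, e2, mul_inv_rev, (hde.inv_left.inv_right).eq]
  have hcsq : (a * b) * (a * b) = 1 := by rw [hab.symm.mul_mul_mul_comm, ha, hb, one_mul]
  have hc' := conj_of_inverts hcsq hinv
  have hsq : (d * e) ^ 2 = d ^ 2 * e ^ 2 := hde.mul_pow 2
  have hde2 : Commute (d ^ 2) (e ^ 2) := hde.pow_pow 2 2
  rcases hC (d * e) with h | h | h <;> rw [hc'] at h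
  · apply sq_ne_inv hd hd1
    have h' := h.eq
    rw [hsq] at h'
    have l : d ^ 2 * e ^ 2 * (a * b) * a = d ^ 2 * e ^ 2 * b := by
      rw [mul_assoc, hab.eq, mul_assoc b, ha, mul_one]
    have r : a * (d ^ 2 * e ^ 2 * (a * b)) = (d ^ 2)⁻¹ * e ^ 2 * b := by
      calc a * (d ^ 2 * e ^ 2 * (a * b)) = (a * d ^ 2) * e ^ 2 * (a * b) := by group
        _ = (d ^ 2)⁻¹ * ((a * e ^ 2) * a) * b := by rw [hd2]; group
        _ = (d ^ 2)⁻¹ * e ^ 2 * b := by rw [hae, mul_assoc (e ^ 2), ha, mul_one]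
    rw [l, r] at h'
    exact mul_right_cancel (mul_right_cancel h')
  · apply sq_ne_inv he he1
    have h' := h.eq
    rw [hsq] at h'
    have l : d ^ 2 * e ^ 2 * (a * b) * b = d ^ 2 * e ^ 2 * a := by
      rw [mul_assoc, mul_assoc a, hb, mul_one]
    have r : b * (d ^ 2 * e ^ 2 * (a * b)) = d ^ 2 * (e ^ 2)⁻¹ * a := by
      calc b * (d ^ 2 * e ^ 2 * (a * b)) = (b * d ^ 2) * e ^ 2 * (a * b) := by group
        _ = d ^ 2 * (b * e ^ 2) * (a * b) := by rw [hbd]; group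
        _ = d ^ 2 * (e ^ 2)⁻¹ * a := by
          rw [he2]
          calc d ^ 2 * ((e ^ 2)⁻¹ * b) * (a * b) = d ^ 2 * (e ^ 2)⁻¹ * (b * a * b) := by group
            _ = d ^ 2 * (e ^ 2)⁻¹ * a := by rw [← hab.eq, mul_assoc a, hb, mul_one]
    rw [l, r] at h'
    exact mul_left_cancel (mul_right_cancel h')
  · apply sq_ne_inv hnodd hn
    have h' := h.eq
    have r : a * b * ((d * e) ^ 2 * (a * b)) = ((d * e) ^ 2)⁻¹ := by
      calc a * b * ((d * e) ^ 2 * (a * b)) = (a * b) * (d * e) ^ 2 * (a * b)⁻¹ * ((a * b) * (a * b)) := by group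
        _ = ((d * e) ^ 2)⁻¹ := by rw [inverts_pow hinv 2, hcsq, mul_one]
    rw [r, mul_assoc, hcsq, mul_one] at h'
    exact h'

/-- An involution outside `O₂` inverts a nontrivial element of odd order. -/
theorem exists_odd_inverted {a : G} (ha : orderOf a = 2) (h : a ∉ pCore 2 G) :
    ∃ d : G, Odd (orderOf d) ∧ d ≠ 1 ∧ a * d * a⁻¹ = d⁻¹ := by
  haveI : Fact (Nat.Prime 2) := ⟨Nat.prime_two⟩
  have ha2 := Invol.mul_self_of_orderOf_two ha
  by_contra hcon
  push Not at hcon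
  apply h
  obtain ⟨N, hN, hp, haN⟩ := Invol.baerSuzuki_element (p := 2) (x := a) fun g => by
    have hb2 : (g * a * g⁻¹) * (g * a * g⁻¹) = 1 :=
      Invol.mul_self_of_orderOf_two (by rw [Invol.orderOf_conj, ha])
    have hinv := Invol.conj_mul_eq_inv ha2 hb2
    set p := a * (g * a * g⁻¹)
    obtain ⟨k, m, hm, hkm⟩ : ∃ k m, Odd m ∧ orderOf p = 2 ^ k * m :=
      Nat.exists_eq_two_pow_mul_odd (orderOf_pos p).ne'
    have hord : orderOf (p ^ 2 ^ k) = m := by
      rw [orderOf_pow' _ (by positivity), hkm, Nat.gcd_eq_right (dvd_mul_right _ _),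
        Nat.mul_div_cancel_left _ (by positivity)]
    have hd1 : p ^ 2 ^ k = 1 := by
      by_contra hne
      exact hcon _ (by rw [hord]; exact hm) hne (inverts_pow hinv (2 ^ k))
    rintro ⟨w, hw⟩
    obtain ⟨i, hi | hi⟩ := (Invol.mem_closure_pair_iff ha2 hb2).mp hw
    · refine ⟨k, Subtype.ext ?_⟩
      simp only [Subgroup.coe_pow, Subgroup.coe_one, hi]
      rw [← zpow_natCast, ← zpow_mul, mul_comm, zpow_mul, zpow_natCast, hd1, one_zpow]
    · refine ⟨1, Subtype.ext ?_⟩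
      simp only [Subgroup.coe_pow, Subgroup.coe_one, hi, pow_one]
      rw [pow_two]
      exact Invol.mul_zpow_self ha2 hinv i
  haveI := hN
  exact Basics.le_pCore hp haN

theorem four_meets_core (A : Subgroup G) (hA : IsKleinFour ↥A)
    (h : ∀ a ∈ A, a ≠ 1 → ∀ g : G, A ⊓ Subgroup.centralizer ({g * a * g⁻¹} : Set G) ≠ ⊥) :
    A ⊓ pCore 2 G ≠ ⊥ := by
  haveI := hA
  intro hbot
  have hexp : ∀ v ∈ A, v * v = 1 := fun v hv =>
    congrArg Subtype.val (IsKleinFour.mul_self (⟨v, hv⟩ : A))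
  have hcomm : ∀ u ∈ A, ∀ v ∈ A, Commute u v := by
    intro u hu v hv
    have h1 := hexp _ (mul_mem hu hv)
    show u * v = v * u
    calc u * v = u⁻¹ * v⁻¹ := by
          rw [inv_eq_of_mul_eq_one_right (hexp u hu), inv_eq_of_mul_eq_one_right (hexp v hv)]
      _ = (v * u)⁻¹ := (mul_inv_rev v u).symm
      _ = v * u := inv_eq_of_mul_eq_one_right (hexp _ (mul_mem hv hu))
  have hfour : ∀ u v w : G, u ∈ A → v ∈ A → w ∈ A → u ≠ 1 → v ≠ 1 → u ≠ v → w ≠ 1 →
      w = u ∨ w = v ∨ w = u * v := by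
    intro u v w hu hv hw h1 h2 h3 h4
    by_contra hcon
    push Not at hcon
    exact hcon.2.2 (congrArg Subtype.val (IsKleinFour.eq_mul_of_ne_all
      (x := (⟨u, hu⟩ : A)) (y := ⟨v, hv⟩) (z := ⟨w, hw⟩)
      (fun e => h1 (congrArg Subtype.val e)) (fun e => h2 (congrArg Subtype.val e))
      (fun e => h3 (congrArg Subtype.val e)) (fun e => h4 (congrArg Subtype.val e))
      (fun e => hcon.1 (congrArg Subtype.val e)) (fun e => hcon.2.1 (congrArg Subtype.val e))))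
  -- for each element a centralized element
  have hd : ∀ a ∈ A, a ≠ 1 → ∃ d : G, Odd (orderOf d) ∧ d ≠ 1 ∧ a * d * a⁻¹ = d⁻¹ ∧
      ∃ b ∈ A, b ≠ 1 ∧ b ≠ a ∧ Commute b d := by
    intro a ha ha1
    have ha2 := Invol.orderOf_two_of_mul_self (hexp a ha) ha1
    obtain ⟨d, hodd, hd1, hinv⟩ := exists_odd_inverted ha2 fun hc => ha1 (by
      have : a ∈ A ⊓ pCore 2 G := ⟨ha, hc⟩
      rwa [hbot, Subgroup.mem_bot] at this)
    obtain ⟨⟨b, hb⟩, hne⟩ := Subgroup.ne_bot_iff_exists_ne_one.mp (h a ha ha1 d)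
    have hb1 : b ≠ 1 := fun e => hne (Subtype.ext e)
    have hc : Commute b (d ^ 2 * a) := by
      have := Subgroup.mem_centralizer_singleton_iff.mp hb.2
      rwa [conj_of_inverts (hexp a ha) hinv] at this
    have hba : b ≠ a := by
      rintro rfl
      apply sq_ne_inv hodd hd1
      have h' : b * (d ^ 2 * b) = d ^ 2 * b * b := hc.eq
      rw [← mul_assoc, mul_inv_eq_iff_eq_mul.mp (inverts_pow hinv 2), mul_assoc, mul_assoc,
        hexp b ha, mul_one, mul_one] at h'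
      exact h'.symm
    have hcd : Commute b (d ^ 2) := by
      have h2 : Commute b (d ^ 2 * a * a) := hc.mul_right (hcomm b hb.1 a ha)
      rwa [mul_assoc, hexp a ha, mul_one] at h2
    exact ⟨d, hodd, hd1, hinv, b, hb.1, hb1, hba, Invol.commute_of_mem_zpowers hcd (mem_zpowers_sq hodd)⟩
  have hall : ∀ a b : G, a ∈ A → b ∈ A → a ≠ 1 → b ≠ 1 → a ≠ b → ∀ u ∈ A, u ≠ 1 → ∀ g : G,
      Commute (g * u * g⁻¹) a ∨ Commute (g * u * g⁻¹) b ∨ Commute (g * u * g⁻¹) (a * b) := by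
    intro a b ha hb h1 h2 h3 u hu hu1 g
    obtain ⟨⟨v, hv⟩, hne⟩ := Subgroup.ne_bot_iff_exists_ne_one.mp (h u hu hu1 g)
    have hv1 : v ≠ 1 := fun e => hne (Subtype.ext e)
    have hc : Commute (g * u * g⁻¹) v :=
      (Subgroup.mem_centralizer_singleton_iff.mp hv.2).symm
    rcases hfour a b v ha hb hv.1 h1 h2 h3 hv1 with rfl | rfl | rfl
    · exact Or.inl hc
    · exact Or.inr (Or.inl hc)
    · exact Or.inr (Or.inr hc)
  have hfinal : ∀ a b d e : G, a ∈ A → b ∈ A → a ≠ 1 → b ≠ 1 → a ≠ b → Odd (orderOf d) → d ≠ 1 →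
      a * d * a⁻¹ = d⁻¹ → Commute b d → Odd (orderOf e) → e ≠ 1 → b * e * b⁻¹ = e⁻¹ →
      Commute a e → False := by
    intro a b d e ha hb h1 h2 h3 hd hd1 hda hdb he he1 heb hea
    refine pair_false (hexp a ha) (hexp b hb) (hcomm a ha b hb) hd hd1 he he1 hda hdb heb hea
      (hall a b ha hb h1 h2 h3 a ha h1) (hall a b ha hb h1 h2 h3 _ (mul_mem ha hb) ?_)
    intro hab
    exact h3 (by rw [eq_inv_of_mul_eq_one_left hab, inv_eq_of_mul_eq_one_right (hexp b hb)])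
  haveI : Nontrivial A := Finite.one_lt_card_iff_nontrivial.mp (by
    rw [IsKleinFour.card_four]; norm_num)
  obtain ⟨⟨a, ha⟩, ha'⟩ := exists_ne (1 : A)
  have ha1 : a ≠ 1 := fun e => ha' (Subtype.ext e)
  obtain ⟨d, hd', hd1, hda, b, hb, hb1, hba, hdb⟩ := hd a ha ha1
  obtain ⟨e, he, he1, heb, v, hv, hv1, hvb, hve⟩ := hd b hb hb1
  rcases hfour a b v ha hb hv ha1 hb1 hba.symm hv1 with rfl | rfl | rfl
  · exact hfinal v b d e ha hb ha1 hb1 hba.symm hd' hd1 hda hdb he he1 heb hve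
  · exact hvb rfl
  · refine hfinal (a * b) b d e hv hb hv1 hb1 hvb hd' hd1 ?_ hdb he he1 heb hve
    calc a * b * d * (a * b)⁻¹ = a * (b * d * b⁻¹) * a⁻¹ := by group
      _ = d⁻¹ := by rw [hdb.eq, mul_inv_cancel_right, hda]

end Cfsg.Agent.InvChar
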