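import Cfsg.Agent.Lib.AutPSU.Group

/-!
# Norms of large totally fixed additive subgroups in `F_{q²}`
-/

set_option autoImplicit false
set_option linter.style.haveILetI false
set_option linter.unusedSectionVars false

namespace Cfsg.Agent.InvChar

open Cfsg.Agent

/-- The sign character of `ZMod 2`. -/
def sgn2 (u : ZMod 2) : ℤ := if u = 0 then 1 else -1

private theorem sgn2_add : ∀ u v : ZMod 2, sgn2 (u + v) = sgn2 u * sgn2 v := by decide

private theorem sgn2_one : sgn2 1 = -1 := by decide

private theorem zmod2_cases : ∀ u : ZMod 2, u = 0 ∨ u = 1 := by decide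

open scoped Classical in
theorem sum_sgn2_hom {A : Type*} [AddCommGroup A] [Fintype A] (g : A →+ ZMod 2) :
    ∑ a, sgn2 (g a) = if g = 0 then (Fintype.card A : ℤ) else 0 := by
  split_ifs with h
  · simp [h, sgn2]
  · obtain ⟨a₀, ha₀⟩ : ∃ a, g a ≠ 0 := by
      by_contra hc
      push Not at hc
      exact h (AddMonoidHom.ext hc)
    have h1 : g a₀ = 1 := (zmod2_cases _).resolve_left ha₀
    have h2 := Equiv.sum_comp (Equiv.addRight a₀) fun a => sgn2 (g a)
    simp only [Equiv.coe_addRight, map_add, sgn2_add, h1, sgn2_one, mul_neg, mul_one, Finset.sum_neg_distrib] at h2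
    omega

variable {F : Type*} [Field F] {q : ℕ} [hQ : AutPSU.QField F q] [CharP F 2]
include hQ

local notation "σ" => AutPSU.qb (F := F) q

/-- An additive subgroup of order at least `q` has norms spanning the fixed field. -/
theorem fixed_le_of_norms (hq : Even q) (C : AddSubgroup F) (hC : q ≤ Nat.card C) (W : AddSubgroup F)
    (hCW : ∀ c ∈ C, c * σ c ∈ W) {c₀ : F} (hc₀ : σ c₀ = c₀) : c₀ ∈ W := by
  classical
  haveI := AutPSU.finite_field (F := F) (q := q)
  haveI := Fintype.ofFinite F
  by_contra hcW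
  -- a functional vanishing on `W` but not at `c₀`
  obtain ⟨f, hfW, hf1⟩ : ∃ f : F →+ ZMod 2, (∀ w ∈ W, f w = 0) ∧ f c₀ = 1 := by
    haveI : Fact (Nat.Prime 2) := ⟨Nat.prime_two⟩
    let _ : Module (ZMod 2) F := AddCommGroup.zmodModule fun x => by
      rw [two_nsmul]; exact CharTwo.add_self_eq_zero x
    obtain ⟨g, hg1, hg⟩ := Submodule.exists_le_ker_of_notMem (p := AddSubgroup.toZModSubmodule 2 W)
      (v := c₀) hcW
    refine ⟨g.toAddMonoidHom, fun w hw => ?_, (zmod2_cases _).resolve_left hg1⟩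
    exact hg hw
  let Q : F → ZMod 2 := fun a => f (a * σ a)
  let B : F → F → ZMod 2 := fun a b => f (a * σ b + b * σ a)
  have hQadd : ∀ a b, Q (a + b) = Q a + Q b + B a b := fun a b => by
    show f ((a + b) * σ (a + b)) = f (a * σ a) + f (b * σ b) + f (a * σ b + b * σ a)
    rw [← map_add, ← map_add]
    congr 1
    rw [map_add]
    ring
  have hBadd : ∀ a a' b, B (a + a') b = B a b + B a' b := fun a a' b => by
    show f ((a + a') * σ b + b * σ (a + a')) = f (a * σ b + b * σ a) + f (a' * σ b + b * σ a')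
    rw [← map_add, map_add (σ : F ≃+* F)]
    congr 1
    ring
  have hBsymm : ∀ a b, B a b = B b a := fun a b => congrArg f (add_comm _ _)
  have hQC : ∀ c ∈ C, Q c = 0 := fun c hc => hfW _ (hCW c hc)
  let Br : F → F →+ ZMod 2 := fun a => AddMonoidHom.mk' (fun b => B a b) fun b b' => by
    rw [hBsymm a, hBsymm a b, hBsymm a b', hBadd]
  have hnd : ∀ c : F, Br c = 0 → c = 0 := by
    intro c hc
    by_contra hne
    obtain ⟨t, ht⟩ := AutPSU.exists_trace (F := F) (q := q) hc₀
    have h1 : B c (σ (t / c)) = 1 := by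
      show f (c * σ (σ (t / c)) + σ (t / c) * σ c) = 1
      rw [AutPSU.qb_qb, mul_div_cancel₀ t hne, ← map_mul, div_mul_cancel₀ t hne, ht, hf1]
    have h2 : Br c (σ (t / c)) = 0 := by rw [hc]; rfl
    exact zero_ne_one (h2.symm.trans h1)
  let BC : F → C →+ ZMod 2 := fun a => (Br a).comp C.subtype
  set P := (Finset.univ : Finset F).filter fun a => BC a = 0 with hP
  -- orders
  have horder : Fintype.card C * P.card = Fintype.card F := by
    have h1 : ∑ a : F, ∑ c : C, sgn2 (BC a c) = (Fintype.card C : ℤ) * P.card := by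
      rw [Finset.sum_congr rfl fun a _ => sum_sgn2_hom (BC a), Finset.sum_ite, Finset.sum_const_zero,
        add_zero, Finset.sum_const, nsmul_eq_mul, mul_comm]
    have h2 : ∑ a : F, ∑ c : C, sgn2 (BC a c) = (Fintype.card F : ℤ) := by
      rw [Finset.sum_comm, Finset.sum_eq_single (0 : C)]
      · simp [sgn2]
      · intro c _ hc
        rw [show (∑ a : F, sgn2 (BC a c)) = ∑ a : F, sgn2 (Br (c : F) a) from
          Finset.sum_congr rfl fun a _ => congrArg sgn2 (hBsymm a c), sum_sgn2_hom, if_neg]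
        exact fun h => hc (Subtype.ext (hnd _ h))
      · intro h; exact absurd (Finset.mem_univ _) h
    exact_mod_cast h1.symm.trans h2
  set CF := (Finset.univ : Finset F).filter fun a => a ∈ C with hCF
  have hCFcard : CF.card = Fintype.card C := (Fintype.card_of_subtype CF fun a => by simp [hCF]).symm
  have hCP : CF ⊆ P := fun a ha => by
    simp only [hCF, Finset.mem_filter, Finset.mem_univ, true_and] at ha
    simp only [hP, Finset.mem_filter, Finset.mem_univ, true_and]
    refine AddMonoidHom.ext fun c => ?_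
    have h := hQadd a c
    rw [hQC _ (C.add_mem ha c.2), hQC _ ha, hQC _ c.2, add_zero, zero_add] at h
    exact h.symm
  have hqF : Fintype.card F = q * q := by rw [← Nat.card_eq_fintype_card, hQ.card, pow_two]
  have hCq : Fintype.card C = q ∧ P = CF := by
    have h1 : P.card ≤ q := by
      by_contra h
      push Not at h
      have := Nat.mul_lt_mul_of_le_of_lt (Nat.card_eq_fintype_card (α := C) ▸ hC) h (Fintype.card_pos)
      omega
    have h2 := Finset.card_le_card hCP
    rw [hCFcard] at h2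
    have hCge : q ≤ Fintype.card C := Nat.card_eq_fintype_card (α := C) ▸ hC
    exact ⟨by omega, (Finset.eq_of_subset_of_card_le hCP (by omega)).symm⟩
  -- the sum
  have hS : ∑ a : F, sgn2 (Q a) = (q : ℤ) := by
    have h1 : ∀ c : C, ∑ a : F, sgn2 (Q a) = ∑ a : F, sgn2 (Q a) * sgn2 (BC a c) := fun c => by
      rw [← Equiv.sum_comp (Equiv.addRight (c : F)) fun a => sgn2 (Q a)]
      refine Finset.sum_congr rfl fun a _ => ?_
      rw [Equiv.coe_addRight, hQadd, hQC _ c.2, add_zero, sgn2_add]
      rfl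
    have h2 : (Fintype.card C : ℤ) * ∑ a : F, sgn2 (Q a) = Fintype.card C * (q : ℤ) := by
      calc (Fintype.card C : ℤ) * ∑ a : F, sgn2 (Q a)
          = ∑ c : C, ∑ a : F, sgn2 (Q a) := by rw [Finset.sum_const, Finset.card_univ, nsmul_eq_mul]
        _ = ∑ c : C, ∑ a : F, sgn2 (Q a) * sgn2 (BC a c) := Finset.sum_congr rfl fun c _ => h1 c
        _ = ∑ a : F, sgn2 (Q a) * (if BC a = 0 then (Fintype.card C : ℤ) else 0) := by
          rw [Finset.sum_comm]
          exact Finset.sum_congr rfl fun a _ => by rw [← Finset.mul_sum, sum_sgn2_hom]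
        _ = ∑ a ∈ P, (Fintype.card C : ℤ) := by
          rw [hP, Finset.sum_filter]
          refine Finset.sum_congr rfl fun a _ => ?_
          split_ifs with h
          · have ha : a ∈ CF := hCq.2 ▸ (Finset.mem_filter.mpr ⟨Finset.mem_univ _, h⟩ : a ∈ P)
            rw [hQC a (Finset.mem_filter.mp ha).2]
            simp [sgn2]
          · rw [mul_zero]
        _ = _ := by rw [Finset.sum_const, hCq.2, hCFcard, hCq.1, nsmul_eq_mul]
    exact mul_left_cancel₀ (by exact_mod_cast Fintype.card_ne_zero) h2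
  -- the zeros
  set Z := (Finset.univ : Finset F).filter fun a => Q a = 0 with hZ
  have hS' : ∑ a : F, sgn2 (Q a) = 2 * (Z.card : ℤ) - Fintype.card F := by
    have h : ∀ a : F, sgn2 (Q a) = 2 * (if Q a = 0 then (1 : ℤ) else 0) - 1 := fun a => by
      simp only [sgn2]
      split_ifs <;> norm_num
    rw [Finset.sum_congr rfl fun a _ => h a, Finset.sum_sub_distrib, ← Finset.mul_sum, Finset.sum_boole]
    simp [hZ]
  -- the nonzero zeros form cosets of the norm-one elements
  let N1 := AutPSU.normOne (F := F) (q := q)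
  let π : Fˣ → Fˣ ⧸ N1 := QuotientGroup.mk
  let Zu : Set Fˣ := {u | Q (u : F) = 0}
  have hdvd : (q + 1) ∣ Nat.card Zu := by
    have hpre : π ⁻¹' (π '' Zu) = Zu := by
      refine Set.Subset.antisymm ?_ (Set.subset_preimage_image π Zu)
      rintro u ⟨v, hv, hvu⟩
      have hn := AutPSU.coe_norm_eq_one (QuotientGroup.eq.mp hvu : v⁻¹ * u ∈ N1)
      show f ((u : F) * σ (u : F)) = 0
      rw [show u = v * (v⁻¹ * u) by group, Units.val_mul, map_mul (σ : F ≃+* F)]
      rw [show (v : F) * ((v⁻¹ * u : Fˣ) : F) * (σ (v : F) * σ ((v⁻¹ * u : Fˣ) : F)) =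
        (v : F) * σ (v : F) * (((v⁻¹ * u : Fˣ) : F) * σ ((v⁻¹ * u : Fˣ) : F)) by ring, hn, mul_one]
      exact hv
    rw [← hpre, Nat.card_congr (QuotientGroup.preimageMkEquivSubgroupProdSet N1 _), Nat.card_prod,
      show Nat.card N1 = q + 1 from AutPSU.card_normOne]
    exact dvd_mul_right _ _
  have hZu : Nat.card Zu + 1 = Z.card := by
    have h0 : (0 : F) ∈ Z := by simp [hZ, Q]
    have e : Zu ≃ {a : F // a ∈ Z.erase 0} :=
      { toFun := fun u => ⟨(u.1 : F), Finset.mem_erase.mpr ⟨u.1.ne_zero, Finset.mem_filter.mpr ⟨Finset.mem_univ _, u.2⟩⟩⟩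
        invFun := fun a => ⟨Units.mk0 a.1 (Finset.mem_erase.mp a.2).1, (Finset.mem_filter.mp (Finset.mem_erase.mp a.2).2).2⟩
        left_inv := fun u => Subtype.ext (Units.ext rfl)
        right_inv := fun a => Subtype.ext rfl }
    rw [Nat.card_congr e, Nat.card_eq_fintype_card, Fintype.card_coe, Finset.card_erase_add_one h0]
  obtain ⟨k, hk⟩ := hdvd
  obtain ⟨h, hh⟩ := hq
  have hq2 := AutPSU.two_le_q (F := F) (q := q)
  have e1 : (2 : ℤ) * ((q + 1) * k + 1) = q * q + q := by
    have := hS.symm.trans hS'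
    rw [← hZu, hk, hqF] at this
    push_cast at this
    linarith
  have e2 : ((q : ℤ) + 1) * ((q : ℤ) - 2 * k) = 2 := by linarith
  have e3 : 0 < (q : ℤ) - 2 * k := by
    by_contra hle
    push Not at hle
    nlinarith
  have e4 : (q : ℤ) + 1 ≤ 2 := by nlinarith
  omega

end Cfsg.Agent.InvChar
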