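import Cfsg.Agent.Lib.AutPSU.Group

/-!
# Additive bijections of `F_{q²}` compatible with the norm are semilinear
-/

set_option autoImplicit false
set_option linter.style.haveILetI false
set_option linter.unusedSectionVars false

namespace Cfsg.Agent.InvChar

open Cfsg.Agent

variable {F : Type*} [Field F] {q : ℕ} [hQ : AutPSU.QField F q] [CharP F 2]
include hQ

local notation "σ" => AutPSU.qb (F := F) q

theorem norm_semilinear_of_one (L : F →+ F) (hL : Function.Injective L) (hL1 : L 1 = 1) (M : F → F)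
    (hM : ∀ a b, σ a = a → σ b = b → M (a + b) = M a + M b)
    (hMN : ∀ a, M (a * σ a) = L a * σ (L a)) : ∃ τ : F ≃+* F, ∀ a, L a = τ a := by
  haveI := AutPSU.finite_field (F := F) (q := q)
  have hfixN : ∀ a : F, σ (a * σ a) = a * σ a := fun a => by rw [map_mul, AutPSU.qb_qb, mul_comm]
  have hfixP : ∀ a b : F, σ (a * σ b + b * σ a) = a * σ b + b * σ a := fun a b => by
    rw [map_add, map_mul, map_mul, AutPSU.qb_qb, AutPSU.qb_qb]; ring
  have hfix_sum : ∀ {a b : F}, σ a = a → σ b = b → σ (a + b) = a + b := fun ha hb => by rw [map_add, ha, hb]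
  have hP : ∀ a b, M (a * σ b + b * σ a) = L a * σ (L b) + L b * σ (L a) := fun a b => by
    have h1 := hMN (a + b)
    rw [map_add L, map_add σ, map_add σ, show (a + b) * (σ a + σ b) =
      a * σ a + b * σ b + (a * σ b + b * σ a) by ring,
      hM _ _ (hfix_sum (hfixN a) (hfixN b)) (hfixP a b), hM _ _ (hfixN a) (hfixN b), hMN, hMN] at h1
    linear_combination h1
  have hM0 : M 0 = 0 := by
    have h := hM 0 0 (map_zero σ) (map_zero σ)
    rw [add_zero] at h
    linear_combination -h
  -- the fixed field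
  have hLfix : ∀ a, σ a = a → σ (L a) = L a := fun a ha => by
    have h := hP a 1
    rw [map_one, mul_one, one_mul, ha, CharTwo.add_self_eq_zero, hM0, hL1, map_one, mul_one, one_mul] at h
    exact (CharTwo.add_eq_zero.mp h.symm).symm
  have hLfix' : ∀ b, σ (L b) = L b → σ b = b := by
    let R : {a : F // σ a = a} → {a : F // σ a = a} := fun a => ⟨L a, hLfix a a.2⟩
    have hR : Function.Injective R := fun a b h => Subtype.ext (hL (congrArg Subtype.val h))
    intro b hb
    obtain ⟨a, ha⟩ := Finite.injective_iff_surjective.mp hR ⟨L b, hb⟩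
    rw [← hL (congrArg Subtype.val ha)]
    exact a.2
  have hline : ∀ a b, σ a = a → b ≠ 0 → ∃ l, σ l = l ∧ L (a * b) = l * L b := fun a b ha hb => by
    have hLb : L b ≠ 0 := fun h => hb (hL (h.trans (map_zero L).symm))
    refine ⟨L (a * b) / L b, ?_, (div_mul_cancel₀ _ hLb).symm⟩
    have h := hP (a * b) b
    rw [map_mul σ, ha, show a * b * σ b + b * (a * σ b) = 0 by linear_combination CharTwo.add_self_eq_zero (a * b * σ b), hM0] at h
    have hσLb : σ (L b) ≠ 0 := fun h' => hLb ((AutPSU.qb (F := F) q).map_eq_zero_iff.mp h')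
    rw [map_div₀, div_eq_div_iff hσLb hLb]
    have h' := CharTwo.add_eq_zero.mp h.symm
    linear_combination -h'
  have hmulF : ∀ a b, σ a = a → σ b ≠ b → L (a * b) = L a * L b := fun a b ha hb => by
    have hb0 : b ≠ 0 := fun h => hb (by rw [h, map_zero])
    have hb1 : b + 1 ≠ 0 := fun h => hb (by rw [CharTwo.add_eq_zero.mp h, map_one])
    obtain ⟨l, hl, hl'⟩ := hline a b ha hb0
    obtain ⟨k, hk, hk'⟩ := hline a (b + 1) ha hb1
    rw [mul_add, mul_one, map_add, map_add, hl', hL1] at hk'
    have hkl : l = k := by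
      by_contra hne
      have hne' : l + k ≠ 0 := fun h => hne (CharTwo.add_eq_zero.mp h)
      apply hb
      apply hLfix'
      have e : L b = (L a + k) / (l + k) := by
        rw [eq_div_iff hne']
        linear_combination hk' - CharTwo.add_self_eq_zero (L a) + CharTwo.add_self_eq_zero (k * L b)
      rw [e, map_div₀, map_add, map_add, hLfix a ha, hl, hk]
    rw [hkl] at hl' hk'
    have : L a = k := by linear_combination hk'
    rw [hl', this]
  obtain ⟨w, hw⟩ := AutPSU.qb_ne (F := F) (q := q)
  have hmul0 : ∀ a x, σ a = a → L (a * x) = L a * L x := fun a x ha => by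
    by_cases hx : σ x = x
    · have hwx : σ (w + x) ≠ w + x := fun h => hw (by rw [map_add, hx] at h; exact add_right_cancel h)
      have h := hmulF a (w + x) ha hwx
      rw [mul_add, map_add, hmulF a w ha hw, map_add] at h
      linear_combination h
    · exact hmulF a x ha hx
  -- the element `w`
  have hsq : ∀ a, σ a = a → M (a * a) = L (a * a) := fun a ha => by
    have h := hMN a
    rw [ha, hLfix a ha] at h
    rw [h, hmul0 a a ha]
  have hML : ∀ a, σ a = a → M a = L a := fun a ha => by
    obtain ⟨b, rfl⟩ : IsSquare a := FiniteField.isSquare_of_char_two (ringChar.eq F 2) a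
    refine hsq b ?_
    rw [map_mul, ← pow_two, ← pow_two] at ha
    rcases sq_eq_sq_iff_eq_or_eq_neg.mp ha with h | h
    · exact h
    · rw [h, CharTwo.neg_eq]
  have hT : σ (w + σ w) = w + σ w := by rw [map_add, AutPSU.qb_qb, add_comm]
  have hww : L (w * w) = L w * L w := by
    have e : w * w = (w + σ w) * w + w * σ w := by linear_combination -CharTwo.add_self_eq_zero (w * σ w)
    have h1 := hP w 1
    rw [map_one, mul_one, one_mul, hML _ hT, hL1, map_one, mul_one, one_mul] at h1
    have h2 := hMN w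
    rw [hML _ (hfixN w)] at h2
    rw [e, map_add, hmul0 _ w hT, h1, h2]
    linear_combination CharTwo.add_self_eq_zero (L w * σ (L w))
  have hTne : w + σ w ≠ 0 := fun h => hw (CharTwo.add_eq_zero.mp h).symm
  have hdec : ∀ x, ∃ u v, σ u = u ∧ σ v = v ∧ x = u + v * w := fun x => by
    have hv : σ ((x + σ x) / (w + σ w)) = (x + σ x) / (w + σ w) := by
      rw [map_div₀, hT, map_add, AutPSU.qb_qb, add_comm]
    refine ⟨x + (x + σ x) / (w + σ w) * w, (x + σ x) / (w + σ w), ?_, hv, ?_⟩
    · rw [map_add, map_mul, hv]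
      have h := div_mul_cancel₀ (x + σ x) hTne
      linear_combination h + CharTwo.add_self_eq_zero (σ x) - CharTwo.add_self_eq_zero ((x + σ x) / (w + σ w) * w)
    · linear_combination -CharTwo.add_self_eq_zero ((x + σ x) / (w + σ w) * w)
  have hmul : ∀ x y, L (x * y) = L x * L y := fun x y => by
    obtain ⟨u, v, hu, hv, rfl⟩ := hdec x
    have hwy : L (w * y) = L w * L y := by
      obtain ⟨u', v', hu', hv', rfl⟩ := hdec y
      rw [show w * (u' + v' * w) = u' * w + v' * (w * w) by ring, map_add, map_add, hmul0 _ _ hu',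
        hmul0 _ _ hv', hmul0 _ _ hv', hww]
      ring
    rw [add_mul, map_add, map_add, hmul0 _ _ hu, mul_assoc, hmul0 _ _ hv, hwy, hmul0 _ _ hv]
    ring
  let φ : F →+* F := { L with map_one' := hL1, map_mul' := hmul }
  exact ⟨RingEquiv.ofBijective φ (Finite.injective_iff_bijective.mp hL), fun a => rfl⟩

theorem norm_semilinear (L : F →+ F) (hL : Function.Injective L) (M : F → F)
    (hM : ∀ a b, σ a = a → σ b = b → M (a + b) = M a + M b)
    (hMN : ∀ a, M (a * σ a) = L a * σ (L a)) :
    ∃ (c : Fˣ) (τ : F ≃+* F), ∀ a, L a = c * τ a := by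
  have hne : L 1 ≠ 0 := fun h => one_ne_zero (hL (h.trans (map_zero L).symm))
  let L' : F →+ F := (AddMonoidHom.mulLeft (L 1)⁻¹).comp L
  have hL'inj : Function.Injective L' := fun a b h => hL (mul_left_cancel₀ (inv_ne_zero hne) h)
  obtain ⟨τ, hτ⟩ := norm_semilinear_of_one (q := q) L' hL'inj (inv_mul_cancel₀ hne)
    (fun a => M a * ((L 1)⁻¹ * σ (L 1)⁻¹)) (fun a b ha hb => by simp only [hM a b ha hb, add_mul])
    fun a => by
      show M (a * σ a) * ((L 1)⁻¹ * σ (L 1)⁻¹) = (L 1)⁻¹ * L a * σ ((L 1)⁻¹ * L a)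
      rw [hMN, map_mul]; ring
  exact ⟨Units.mk0 _ hne, τ, fun a => by
    rw [← hτ]; show L a = L 1 * ((L 1)⁻¹ * L a); rw [mul_inv_cancel_left₀ hne]⟩

end Cfsg.Agent.InvChar
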