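import Mathlib
import Cfsg.Agent.Lib.Basics.Cores

/-!
# Classes of subgroups of prime order in which commuting pairs span lines
-/

set_option autoImplicit false
set_option linter.style.haveILetI false

namespace Cfsg.Agent.InvChar

open Cfsg Cfsg.Agent

universe u

variable {G : Type u} [Group G] [Finite G] {p : ℕ}

theorem mem_sup_zpowers_exists {x y g : G} (h : Commute x y)
    (hg : g ∈ Subgroup.zpowers x ⊔ Subgroup.zpowers y) : ∃ i j : ℤ, g = x ^ i * y ^ j := by
  rw [Subgroup.zpowers_eq_closure, Subgroup.zpowers_eq_closure, ← Subgroup.closure_union,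
    Set.singleton_union] at hg
  induction hg using Subgroup.closure_induction with
  | mem a ha =>
    rcases ha with rfl | ha
    · exact ⟨1, 0, by simp⟩
    · rw [Set.mem_singleton_iff] at ha; subst ha; exact ⟨0, 1, by simp⟩
  | one => exact ⟨0, 0, by simp⟩
  | mul a b _ _ iha ihb =>
    obtain ⟨i, j, rfl⟩ := iha
    obtain ⟨k, l, rfl⟩ := ihb
    exact ⟨i + k, j + l, by
      rw [Commute.mul_mul_mul_comm (h.symm.zpow_zpow j k), zpow_add, zpow_add]⟩
  | inv a _ iha =>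
    obtain ⟨i, j, rfl⟩ := iha
    exact ⟨-i, -j, by rw [zpow_neg, zpow_neg, mul_inv_rev, ((h.zpow_zpow i j).inv_inv).eq]⟩

theorem mem_zpowers_zpow (hp : p.Prime) {g : G} (hg : orderOf g = p) {i : ℤ} (h : g ^ i ≠ 1) :
    g ∈ Subgroup.zpowers (g ^ i) := by
  haveI := Fact.mk hp
  have hord : orderOf (g ^ i) = p := orderOf_eq_prime (by
    rw [← zpow_natCast, ← zpow_mul, mul_comm, zpow_mul, zpow_natCast, ← hg, pow_orderOf_eq_one,
      one_zpow]) h
  rw [Subgroup.eq_of_le_of_card_ge (Subgroup.zpowers_le.mpr ⟨i, rfl⟩ :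
    Subgroup.zpowers (g ^ i) ≤ Subgroup.zpowers g) (by rw [Nat.card_zpowers, Nat.card_zpowers, hord, hg])]
  exact Subgroup.mem_zpowers g

theorem commute_of_zpow (hp : p.Prime) {g a : G} (hg : orderOf g = p) {i : ℤ} (h : g ^ i ≠ 1)
    (hc : Commute (g ^ i) a) : Commute g a := by
  obtain ⟨k, hk⟩ := mem_zpowers_zpow hp hg h
  rw [← hk]
  exact hc.zpow_left k

theorem commute_of_conj_mem_zpowers (hp : p.Prime) {w x : G} (hw : orderOf w = p)
    (hx : orderOf x = p) (h : x⁻¹ * w * x ∈ Subgroup.zpowers w) : Commute x w := by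
  obtain ⟨k, hk⟩ := h
  have hk' : x⁻¹ * w * x = w ^ k := hk.symm
  have hn : ∀ n : ℕ, (x ^ n)⁻¹ * w * x ^ n = w ^ (k ^ n) := by
    intro n
    induction n with
    | zero => simp
    | succ n ih =>
      calc (x ^ (n + 1))⁻¹ * w * x ^ (n + 1) = x⁻¹ * ((x ^ n)⁻¹ * w * x ^ n) * (x⁻¹)⁻¹ := by
            rw [pow_succ]; group
        _ = w ^ (k ^ (n + 1)) := by
            rw [ih, ← conj_zpow, inv_inv, hk', ← zpow_mul, pow_succ']
  haveI := Fact.mk hp
  have h1 := hn p
  rw [← hx, pow_orderOf_eq_one, inv_one, one_mul, mul_one, hx] at h1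
  have h2 : w ^ k = w := by
    have hd : (orderOf w : ℤ) ∣ k ^ p - 1 :=
      orderOf_dvd_sub_iff_zpow_eq_zpow.mpr (by rw [zpow_one]; exact h1.symm)
    rw [hw, ← ZMod.intCast_zmod_eq_zero_iff_dvd, Int.cast_sub, Int.cast_pow, ZMod.pow_card,
      Int.cast_one, ← Int.cast_one, ← Int.cast_sub, ZMod.intCast_zmod_eq_zero_iff_dvd] at hd
    calc w ^ k = w ^ (1 : ℤ) := orderOf_dvd_sub_iff_zpow_eq_zpow.mp (by rw [hw]; exact hd)
      _ = w := zpow_one w
  rw [h2] at hk'
  show x * w = w * x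
  calc x * w = x * (x⁻¹ * w * x) := by rw [hk']
    _ = w * x := by group

/-- Some member of the class commutes with all of the class. -/
theorem exists_central_point (hp : p.Prime) (P : Set G) (hP : ∀ x ∈ P, orderOf x = p)
    (hconj : ∀ x ∈ P, ∀ g : G, g * x * g⁻¹ ∈ P)
    (hex : ∃ a ∈ P, ∃ b ∈ P, Commute a b ∧ b ∉ Subgroup.zpowers a)
    (hline : ∀ x ∈ P, ∀ y ∈ P, Commute x y → y ∉ Subgroup.zpowers x → ∀ i j : ℤ,
      x ^ i * y ^ j ≠ 1 → x ^ i * y ^ j ∈ P)
    (hmeet : ∀ x ∈ P, ∀ y ∈ P, Commute x y → y ∉ Subgroup.zpowers x → ∀ w ∈ P, ∃ i j : ℤ,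
      x ^ i * y ^ j ≠ 1 ∧ Commute (x ^ i * y ^ j) w) :
    ∃ v ∈ P, ∀ w ∈ P, Commute v w := by
  obtain ⟨a, ha, b, hb, hab, hba⟩ := hex
  by_contra hcon
  push Not at hcon
  obtain ⟨w, hw, hmax⟩ := Set.exists_max_image P (fun v => {g ∈ P | Commute g v}.ncard)
    (Set.toFinite _) ⟨a, ha⟩
  have hstrict : ∀ v ∈ P, (∀ u ∈ P, Commute u w → Commute u v) → ∀ x ∈ P, Commute x v →
      Commute x w := by
    intro v hv hsub x hx hxv
    have heq : {g ∈ P | Commute g w} = {g ∈ P | Commute g v} :=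
      Set.eq_of_subset_of_ncard_le (fun u hu => ⟨hu.1, hsub u hu.1 hu.2⟩) (hmax v hv)
        (Set.toFinite _)
    exact ((Set.ext_iff.mp heq x).mpr ⟨hx, hxv⟩).2
  obtain ⟨x, hx, hwx⟩ := hcon w hw
  have hxw : ¬ Commute x w := fun h => hwx h.symm
  -- a line through `x`
  obtain ⟨y₀, hy₀, hxy₀, hy₀x⟩ : ∃ y ∈ P, Commute x y ∧ y ∉ Subgroup.zpowers x := by
    obtain ⟨i, j, hne, hc⟩ := hmeet a ha b hb hab hba x hx
    by_cases hmem : a ^ i * b ^ j ∈ Subgroup.zpowers x
    · obtain ⟨k, hk⟩ := hmem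
      have hk' : x ^ k = a ^ i * b ^ j := hk
      obtain ⟨l, hl⟩ := mem_zpowers_zpow hp (hP x hx) (hk'.symm ▸ hne : x ^ k ≠ 1)
      have hl' : (x ^ k) ^ l = x := hl
      have hxa : Commute x a := by
        rw [← hl', hk']
        exact (((Commute.refl a).zpow_left i).mul_left (hab.symm.zpow_left j)).zpow_left l
      have hxb : Commute x b := by
        rw [← hl', hk']
        exact ((hab.zpow_left i).mul_left ((Commute.refl b).zpow_left j)).zpow_left l
      by_cases hax : a ∈ Subgroup.zpowers x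
      · refine ⟨b, hb, hxb, fun hbx => hba ?_⟩
        rwa [Subgroup.eq_of_le_of_card_ge (Subgroup.zpowers_le.mpr hax)
          (by rw [Nat.card_zpowers, Nat.card_zpowers, hP a ha, hP x hx])]
      · exact ⟨a, ha, hxa, hax⟩
    · exact ⟨_, hline a ha b hb hab hba i j hne, hc.symm, hmem⟩
  obtain ⟨i₀, j₀, hzne, hzw⟩ := hmeet x hx y₀ hy₀ hxy₀ hy₀x w hw
  set z := x ^ i₀ * y₀ ^ j₀ with hzdef
  have hz : z ∈ P := hline x hx y₀ hy₀ hxy₀ hy₀x i₀ j₀ hzne
  set y := x ^ (i₀ - 1) * y₀ ^ j₀ with hydef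
  have hzxy : z = x * y := by
    rw [hzdef, hydef, ← mul_assoc]
    congr 1
    rw [← zpow_one_add, add_sub_cancel]
  have hy1 : y ≠ 1 := fun h => hxw (by rw [hzxy, h, mul_one] at hzw; exact hzw)
  have hy : y ∈ P := hline x hx y₀ hy₀ hxy₀ hy₀x _ _ hy1
  have hxy : Commute x y := ((Commute.refl x).zpow_right _).mul_right (hxy₀.zpow_right _)
  have hyw : ¬ Commute y w := fun h => hxw (by
    have := hzw.mul_left h.inv_left
    rwa [hzxy, mul_inv_cancel_right] at this)
  have hzx : Commute x z := by rw [hzxy]; exact (Commute.refl x).mul_right hxy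
  set w' := x⁻¹ * w * x with hw'def
  have hw'y : w' = y * w * y⁻¹ := by
    have : x * y * w * (x * y)⁻¹ = w := mul_inv_eq_iff_eq_mul.mpr (hzxy ▸ hzw).eq
    calc x⁻¹ * w * x = x⁻¹ * (x * y * w * (x * y)⁻¹) * x := by rw [this]
      _ = y * w * (y⁻¹ * (x⁻¹ * x)) := by group
      _ = y * w * y⁻¹ := by rw [inv_mul_cancel, mul_one]
  have hw' : w' ∈ P := by simpa [hw'def] using hconj w hw x⁻¹
  have factA : ∀ r, Commute r w → Commute r x → Commute r w' := fun r h1 h2 =>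
    (h2.inv_right.mul_right h1).mul_right h2
  have factB : ∀ r, Commute r w → Commute r y → Commute r w' := fun r h1 h2 => by
    rw [hw'y]; exact (h2.mul_right h1).mul_right h2.inv_right
  by_cases hc : Commute w w'
  · have hsub : ∀ u ∈ P, Commute u w → Commute u w' := by
      intro u hu huw
      by_cases huz : u ∈ Subgroup.zpowers w
      · obtain ⟨k, rfl⟩ := huz
        exact hc.zpow_left k
      obtain ⟨i, j, hne, hr⟩ := hmeet w hw u hu huw.symm huz x hx
      have huj : u ^ j ≠ 1 := fun h => hxw (by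
        rw [h, mul_one] at hne hr
        exact (commute_of_zpow hp (hP w hw) hne hr).symm)
      have h1 : Commute (w ^ i * u ^ j) w' :=
        factA _ (((Commute.refl w).zpow_left i).mul_left (huw.zpow_left j)) hr
      have h2 := (hc.zpow_left i).inv_left.mul_left h1
      rw [inv_mul_cancel_left] at h2
      exact commute_of_zpow hp (hP u hu) huj h2
    have hne : w' ∉ Subgroup.zpowers w := fun h =>
      hxw (commute_of_conj_mem_zpowers hp (hP w hw) (hP x hx) h)
    obtain ⟨i, j, hne', hv⟩ := hmeet w hw w' hw' hc hne x hx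
    exact hxw (hstrict _ (hline w hw w' hw' hc hne i j hne')
      (fun u hu huw => (huw.zpow_right i).mul_right ((hsub u hu huw).zpow_right j)) x hx hv.symm)
  · refine hxw (hstrict z hz ?_ x hx hzx)
    intro u hu huw
    by_cases huz : u ∈ Subgroup.zpowers w
    · obtain ⟨k, rfl⟩ := huz
      exact hzw.symm.zpow_left k
    obtain ⟨i, j, hne, hr⟩ := hmeet w hw u hu huw.symm huz x hx
    obtain ⟨i', j', hne', hr'⟩ := hmeet w hw u hu huw.symm huz y hy
    have huj : u ^ j ≠ 1 := fun h => hxw (by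
      rw [h, mul_one] at hne hr
      exact (commute_of_zpow hp (hP w hw) hne hr).symm)
    have huj' : u ^ j' ≠ 1 := fun h => hyw (by
      rw [h, mul_one] at hne' hr'
      exact (commute_of_zpow hp (hP w hw) hne' hr').symm)
    obtain ⟨k, hk⟩ : u ^ j ∈ Subgroup.zpowers (u ^ j') :=
      Subgroup.zpow_mem _ (mem_zpowers_zpow hp (hP u hu) huj') j
    have hk' : (u ^ j') ^ k = u ^ j := hk
    have hpow : (w ^ i' * u ^ j') ^ k = w ^ (i' * k) * u ^ j := by
      rw [(huw.symm.zpow_zpow i' j').mul_zpow, hk', ← zpow_mul]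
    have hrw : ∀ i j : ℤ, Commute (w ^ i * u ^ j) w := fun i j =>
      ((Commute.refl w).zpow_left i).mul_left (huw.zpow_left j)
    have h1 : Commute (w ^ (i - i' * k)) w' := by
      have h3 := (factA _ (hrw i j) hr).mul_left ((factB _ (hrw i' j') hr').zpow_left k).inv_left
      rwa [hpow, mul_inv_rev, mul_assoc, mul_inv_cancel_left, ← zpow_neg, ← zpow_add,
        ← sub_eq_add_neg] at h3
    have h2 : w ^ (i - i' * k) = 1 := by
      by_contra h
      exact hc (commute_of_zpow hp (hP w hw) h h1)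
    have hry : Commute (w ^ i * u ^ j) y := by
      have e : w ^ i * u ^ j = (w ^ i' * u ^ j') ^ k := by
        rw [hpow]
        conv_lhs => rw [← sub_add_cancel i (i' * k), zpow_add, h2, one_mul]
      rw [e]; exact hr'.zpow_left k
    have h4 := (hzw.symm.zpow_left i).inv_left.mul_left (hzxy ▸ hr.mul_right hry)
    rw [inv_mul_cancel_left] at h4
    exact commute_of_zpow hp (hP u hu) huj h4

/-- The statement for a class of subgroups. -/
theorem exists_central_subgroup_of_lines (hp : p.Prime) (K : Set (Subgroup G))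
    (hK : ∀ X ∈ K, Nat.card ↥X = p)
    (hKc : ∀ X ∈ K, ∀ g : G, X.map (MulAut.conj g).toMonoidHom ∈ K)
    (hex : ∃ X ∈ K, ∃ Y ∈ K, X ≠ Y ∧ ∀ x ∈ X, ∀ y ∈ Y, x * y = y * x)
    (ha : ∀ X ∈ K, ∀ Y ∈ K, X ≠ Y → (∀ x ∈ X, ∀ y ∈ Y, x * y = y * x) →
      ∀ Z : Subgroup G, Z ≤ X ⊔ Y → Nat.card ↥Z = p → Z ∈ K)
    (hb : ∀ X ∈ K, ∀ Y ∈ K, X ≠ Y → (∀ x ∈ X, ∀ y ∈ Y, x * y = y * x) →
      ∀ W ∈ K, (X ⊔ Y) ⊓ Subgroup.centralizer (W : Set G) ≠ ⊥) :
    (∃ V ∈ K, (∀ W ∈ K, ∀ v ∈ V, ∀ w ∈ W, v * w = w * v) ∧ V ≤ pCore p G) ∧ ¬ IsSimpleGroup G := by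
  haveI := Fact.mk hp
  have hgen : ∀ X ∈ K, ∀ x ∈ X, x ≠ 1 → orderOf x = p ∧ Subgroup.zpowers x = X := by
    intro X hX x hx hx1
    have h1 : orderOf x = p :=
      ((Nat.dvd_prime hp).mp (hK X hX ▸ Subgroup.orderOf_dvd_natCard X hx)).resolve_left
        (mt orderOf_eq_one_iff.mp hx1)
    exact ⟨h1, Subgroup.eq_of_le_of_card_ge (Subgroup.zpowers_le.mpr hx)
      (by rw [Nat.card_zpowers, h1, hK X hX])⟩
  have hexg : ∀ X ∈ K, ∃ x, orderOf x = p ∧ Subgroup.zpowers x = X := by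
    intro X hX
    haveI : Nontrivial X := Finite.one_lt_card_iff_nontrivial.mp (by rw [hK X hX]; exact hp.one_lt)
    obtain ⟨⟨x, hx⟩, hx1⟩ := exists_ne (1 : X)
    exact ⟨x, hgen X hX x hx fun e => hx1 (Subtype.ext e)⟩
  have hcomm : ∀ {x y : G}, Commute x y → ∀ a ∈ Subgroup.zpowers x, ∀ b ∈ Subgroup.zpowers y,
      a * b = b * a := by
    rintro x y h a ⟨i, rfl⟩ b ⟨j, rfl⟩
    exact h.zpow_zpow i j
  have hnz : ∀ {x y : G}, orderOf x = p → orderOf y = p → y ∉ Subgroup.zpowers x →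
      Subgroup.zpowers x ≠ Subgroup.zpowers y := fun _ _ h e => h (e ▸ Subgroup.mem_zpowers _)
  obtain ⟨v, ⟨hv, hvK⟩, hvc⟩ := exists_central_point hp
    {x : G | orderOf x = p ∧ Subgroup.zpowers x ∈ K} (fun x hx => hx.1)
    (fun x hx g => by
      refine ⟨(MulEquiv.orderOf_eq (MulAut.conj g) x).trans hx.1, ?_⟩
      have := hKc _ hx.2 g
      rwa [MonoidHom.map_zpowers] at this)
    (by
      obtain ⟨X, hX, Y, hY, hXY, hc⟩ := hex
      obtain ⟨x, hx, rfl⟩ := hexg X hX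
      obtain ⟨y, hy, rfl⟩ := hexg Y hY
      exact ⟨x, ⟨hx, hX⟩, y, ⟨hy, hY⟩, hc x (Subgroup.mem_zpowers x) y (Subgroup.mem_zpowers y),
        fun h => hXY (Subgroup.eq_of_le_of_card_ge (Subgroup.zpowers_le.mpr h)
          (by rw [Nat.card_zpowers, Nat.card_zpowers, hx, hy])).symm⟩)
    (by
      intro x hx y hy hc hn i j hne
      have hmem : x ^ i * y ^ j ∈ Subgroup.zpowers x ⊔ Subgroup.zpowers y :=
        mul_mem (Subgroup.mem_sup_left ⟨i, rfl⟩) (Subgroup.mem_sup_right ⟨j, rfl⟩)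
      have hord : orderOf (x ^ i * y ^ j) = p := orderOf_eq_prime (by
        rw [(hc.zpow_zpow i j).mul_pow, ← zpow_natCast (x ^ i), ← zpow_natCast (y ^ j), ← zpow_mul,
          ← zpow_mul, mul_comm i, mul_comm j, zpow_mul, zpow_mul, zpow_natCast, zpow_natCast]
        conv_lhs => rw [show x ^ p = 1 from hx.1 ▸ pow_orderOf_eq_one x,
          show y ^ p = 1 from hy.1 ▸ pow_orderOf_eq_one y, one_zpow, one_zpow, one_mul]) hne
      exact ⟨hord, ha _ hx.2 _ hy.2 (hnz hx.1 hy.1 hn) (hcomm hc) _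
        (Subgroup.zpowers_le.mpr hmem) (by rw [Nat.card_zpowers, hord])⟩)
    (by
      intro x hx y hy hc hn w hw
      obtain ⟨⟨g, hg, hgc⟩, hg1⟩ := Subgroup.ne_bot_iff_exists_ne_one.mp
        (hb _ hx.2 _ hy.2 (hnz hx.1 hy.1 hn) (hcomm hc) _ hw.2)
      obtain ⟨i, j, rfl⟩ := mem_sup_zpowers_exists hc hg
      exact ⟨i, j, fun e => hg1 (Subtype.ext e),
        (Subgroup.mem_centralizer_iff.mp hgc w (Subgroup.mem_zpowers w)).symm⟩)
  have hcent : ∀ W ∈ K, ∀ a ∈ Subgroup.zpowers v, ∀ w ∈ W, a * w = w * a := by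
    intro W hW a ha' w hw
    obtain ⟨y, hy, rfl⟩ := hexg W hW
    exact hcomm (hvc y ⟨hy, hW⟩) a ha' w hw
  -- the subgroup generated by the class, and its centre
  set N := Subgroup.closure (⋃ X ∈ K, (X : Set G)) with hN
  have hNn : N.Normal := by
    constructor
    intro n hn g
    induction hn using Subgroup.closure_induction with
    | mem a ha' =>
      simp only [Set.mem_iUnion] at ha'
      obtain ⟨X, hX, haX⟩ := ha'
      exact Subgroup.subset_closure (Set.mem_iUnion₂.mpr ⟨_, hKc X hX g, ⟨a, haX, rfl⟩⟩)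
    | one => rw [mul_one, mul_inv_cancel]; exact one_mem _
    | mul a b _ _ iha ihb => rw [← conj_mul]; exact mul_mem iha ihb
    | inv a _ iha => rw [← conj_inv]; exact inv_mem iha
  haveI := hNn
  set Z := Subgroup.centralizer (N : Set G) ⊓ N with hZ
  haveI hZn : Z.Normal := Subgroup.normal_inf_normal _ _
  have hvN : v ∈ Z := by
    refine ⟨?_, Subgroup.subset_closure (Set.mem_iUnion₂.mpr ⟨_, hvK, Subgroup.mem_zpowers v⟩)⟩
    show v ∈ Subgroup.centralizer (N : Set G)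
    rw [hN, Subgroup.centralizer_closure, Subgroup.mem_centralizer_iff]
    intro a ha'
    simp only [Set.mem_iUnion] at ha'
    obtain ⟨X, hX, haX⟩ := ha'
    exact (hcent X hX v (Subgroup.mem_zpowers v) a haX).symm
  have hZc : ∀ a ∈ Z, ∀ b ∈ Z, a * b = b * a := fun a ha' b hb' =>
    (Subgroup.mem_centralizer_iff.mp ha'.1 b hb'.2).symm
  refine ⟨⟨Subgroup.zpowers v, hvK, hcent, ?_⟩, fun hs => ?_⟩
  · -- `v` lies in the `p`-part of the normal abelian subgroup
    let Zp : Subgroup G :=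
      { carrier := {g | g ∈ Z ∧ ∃ k : ℕ, g ^ p ^ k = 1}
        mul_mem' := by
          rintro a b ⟨haZ, k, hka⟩ ⟨hbZ, l, hlb⟩
          refine ⟨mul_mem haZ hbZ, k + l, ?_⟩
          rw [(show Commute a b from hZc a haZ b hbZ).mul_pow, pow_add, pow_mul, hka, one_pow, one_mul,
            mul_comm (p ^ k), pow_mul, hlb, one_pow]
        one_mem' := ⟨one_mem _, 0, one_pow _⟩
        inv_mem' := by
          rintro a ⟨haZ, k, hka⟩
          exact ⟨inv_mem haZ, k, by rw [inv_pow, hka, inv_one]⟩ }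
    haveI : Zp.Normal := ⟨by
      rintro a ⟨haZ, k, hka⟩ g
      exact ⟨hZn.conj_mem a haZ g, k, by rw [conj_pow, hka, mul_one, mul_inv_cancel]⟩⟩
    have hZp : IsPGroup p Zp := fun a => ⟨a.2.2.choose, Subtype.ext (by
      simpa using a.2.2.choose_spec)⟩
    exact Subgroup.zpowers_le.mpr (Basics.le_pCore hZp
      (⟨hvN, 1, by rw [pow_one, ← hv, pow_orderOf_eq_one]⟩ : v ∈ Zp))
  · rcases hs.eq_bot_or_eq_top_of_normal Z hZn with h | h
    · rw [h, Subgroup.mem_bot] at hvN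
      exact hp.one_lt.ne' (by rw [← hv, hvN, orderOf_one])
    · letI : CommGroup G := { (inferInstance : Group G) with
        mul_comm := fun a b => hZc a (h ▸ Subgroup.mem_top a) b (h ▸ Subgroup.mem_top b) }
      haveI := hs
      obtain ⟨X, hX, Y, hY, hXY, -⟩ := hex
      have htop : ∀ X ∈ K, X = ⊤ := fun X hX =>
        (hs.eq_bot_or_eq_top_of_normal X inferInstance).resolve_left fun e =>
          hp.one_lt.ne' (by rw [← hK X hX, e, Subgroup.card_bot])
      exact hXY ((htop X hX).trans (htop Y hY).symm)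

end Cfsg.Agent.InvChar
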