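import Cfsg.Agent.Lib.ClassK.Extraspecial
import Cfsg.Agent.Lib.Invol.Basic
import Cfsg.Agent.Lib.Basics.Frattini
import Mathlib

/-!
# `2^{1+4}` extended by `A₅`: involutions
-/

set_option autoImplicit false
set_option linter.style.haveILetI false
set_option linter.unusedSectionVars false
set_option maxRecDepth 8000

namespace Cfsg.Agent.InvChar

open Cfsg Cfsg.Agent

theorem perm_five_shape : ∀ σ : Equiv.Perm (Fin 5), σ * σ = 1 → Equiv.Perm.sign σ = 1 → σ ≠ 1 →
    ∃ i a c : Fin 5, σ i = i ∧ σ a ≠ a ∧ σ c ≠ c ∧ c ≠ a ∧ c ≠ σ a ∧ i ≠ a ∧ i ≠ σ a ∧ i ≠ c ∧ i ≠ σ c ∧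
      ∀ x, x = i ∨ x = a ∨ x = σ a ∨ x = c ∨ x = σ c := by decide +kernel

private theorem fin5_line : ∀ i j k : Fin 5, i ≠ j → k ≠ i → k ≠ j →
    ∀ D : Fin 5 → Bool, (∀ d, D (-d) = D d) → D (j - i) = true → D (k - i) = true → D (k - j) = true →
      ∀ d, d ≠ 0 → D d = true := by decide +kernel

/-- The hypotheses: `Q` extraspecial of order 32 with centre `⟨z⟩`, self-centralizing, complement `A₅`. -/
structure MinusSetup {C : Type*} [Group C] (Q K : Subgroup C) (z : C) : Prop where
  hn : Q.Normal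
  hext : IsExtraspecial 2 ↥Q
  hcard : Nat.card Q = 32
  hz : orderOf z = 2
  hzQ : z ∈ Q
  hzC : ∀ x : C, Commute z x
  hCQ : Subgroup.centralizer (Q : Set C) ≤ Q
  hK : Nonempty (↥K ≃* alternatingGroup (Fin 5))
  hKQ : K ⊓ Q = ⊥
  hsup : K ⊔ Q = ⊤

variable {C : Type*} [Group C] [Finite C] {Q K : Subgroup C} {z : C}

namespace MinusSetup

theorem zmul (h : MinusSetup Q K z) (u : C) : u * z = z * u := (h.hzC u).eq.symm

theorem zz (h : MinusSetup Q K z) : z * z = 1 := Invol.mul_self_of_orderOf_two h.hz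

theorem z_ne (h : MinusSetup Q K z) : z ≠ 1 := Invol.ne_one_of_orderOf_two h.hz

theorem center_cases (h : MinusSetup Q K z) {c : Q} (hc : c ∈ Subgroup.center Q) :
    (c : C) = 1 ∨ (c : C) = z := by
  classical
  by_contra hcon
  push Not at hcon
  haveI := Fintype.ofFinite (Subgroup.center Q)
  have hzc : (⟨z, h.hzQ⟩ : Q) ∈ Subgroup.center Q := Subgroup.mem_center_iff.mpr fun f =>
    Subtype.ext (h.zmul f)
  have h3 : ({1, ⟨_, hzc⟩, ⟨_, hc⟩} : Finset (Subgroup.center Q)).card = 3 := by
    rw [Finset.card_insert_of_notMem, Finset.card_insert_of_notMem, Finset.card_singleton] <;>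
      simp [Subtype.ext_iff, Ne.symm h.z_ne, Ne.symm hcon.1, Ne.symm hcon.2]
  have := Finset.card_le_univ ({1, ⟨_, hzc⟩, ⟨_, hc⟩} : Finset (Subgroup.center Q))
  rw [h3, ← Nat.card_eq_fintype_card, h.hext.2] at this
  omega

theorem comm_cases (h : MinusSetup Q K z) {a b : C} (ha : a ∈ Q) (hb : b ∈ Q) :
    a * b = b * a ∨ a * b = b * a * z := by
  have hc := h.center_cases (ClassK.commutator_mem_center_of_special h.hext.1 ⟨a, ha⟩ ⟨b, hb⟩)
  rcases hc with h' | h' <;> simp only [Subgroup.coe_mul, Subgroup.coe_inv] at h'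
  · left
    calc a * b = a * b * a⁻¹ * b⁻¹ * (b * a) := by group
      _ = b * a := by rw [h', one_mul]
  · right
    calc a * b = a * b * a⁻¹ * b⁻¹ * (b * a) := by group
      _ = b * a * z := by rw [h', h.zmul]

theorem sq_cases (h : MinusSetup Q K z) {a : C} (ha : a ∈ Q) : a * a = 1 ∨ a * a = z := by
  haveI : Fact (Nat.Prime 2) := ⟨Nat.prime_two⟩
  refine h.center_cases (c := ⟨a, ha⟩ * ⟨a, ha⟩) ?_
  rw [← h.hext.1.2.1, ← pow_two]
  exact Basics.pow_mem_frattini h.hext.1.1 _

theorem card_K (h : MinusSetup Q K z) : Nat.card K = 60 := by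
  obtain ⟨e⟩ := h.hK
  rw [Nat.card_congr e.toEquiv, Nat.card_eq_fintype_card]
  decide

/-- An element of order five fixes only the centre. -/
theorem exists_five (h : MinusSetup Q K z) :
    ∃ g : C, g ∈ K ∧ g ^ 5 = 1 ∧ g ≠ 1 ∧ ∀ a ∈ Q, g * a * g⁻¹ = a → a = 1 ∨ a = z := by
  classical
  haveI : Fact (Nat.Prime 5) := ⟨by norm_num⟩
  haveI : Fact (Nat.Prime 2) := ⟨Nat.prime_two⟩
  obtain ⟨⟨g, hgK⟩, hg⟩ := exists_prime_orderOf_dvd_card' (G := K) 5 (by rw [h.card_K]; norm_num)
  rw [← Subgroup.orderOf_coe] at hg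
  have hg1 : g ≠ 1 := fun e => by rw [show ((⟨g, hgK⟩ : K) : C) = g from rfl, e, orderOf_one] at hg; omega
  refine ⟨g, hgK, by rw [← hg]; exact pow_orderOf_eq_one g, hg1, ?_⟩
  letI act : MulAction (Subgroup.zpowers g) Q :=
    { smul := fun x a => ⟨(x : C) * a * (x : C)⁻¹, h.hn.conj_mem _ a.2 x⟩
      one_smul := fun a => Subtype.ext (by show (1 : C) * a * (1 : C)⁻¹ = a; group)
      mul_smul := fun x y a => Subtype.ext (by
        show ((x : C) * y) * a * ((x : C) * y)⁻¹ = (x : C) * ((y : C) * a * (y : C)⁻¹) * (x : C)⁻¹; group) }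
  let Fx : Subgroup C := Q ⊓ Subgroup.centralizer ({g} : Set C)
  have hfix : Nat.card (MulAction.fixedPoints (Subgroup.zpowers g) Q) = Nat.card Fx := by
    refine Nat.card_congr
      { toFun := fun a => ⟨(a.1 : C), a.1.2, Subgroup.mem_centralizer_singleton_iff.mpr ?_⟩
        invFun := fun a => ⟨⟨a.1, a.2.1⟩, fun x => Subtype.ext ?_⟩
        left_inv := fun a => rfl
        right_inv := fun a => rfl }
    · have := congrArg Subtype.val (a.2 ⟨g, Subgroup.mem_zpowers g⟩)
      exact (mul_inv_eq_iff_eq_mul.mp this).symm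
    · obtain ⟨i, hi⟩ := Subgroup.mem_zpowers_iff.mp x.2
      show (x : C) * a.1 * (x : C)⁻¹ = a.1
      rw [← hi, mul_inv_eq_iff_eq_mul]
      exact ((show Commute a.1 g from Subgroup.mem_centralizer_singleton_iff.mp a.2.2).zpow_right i).eq.symm
  have hmod : Nat.card Q ≡ Nat.card Fx [MOD 5] := by
    rw [← hfix]
    exact (IsPGroup.of_card (n := 1) (by rw [Nat.card_zpowers, show orderOf g = 5 from hg, pow_one])).card_modEq_card_fixedPoints Q
  obtain ⟨k, hk⟩ := IsPGroup.iff_card.mp (h.hext.1.1.to_le (inf_le_left : Fx ≤ Q))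
  have hk5 : k ≤ 5 := by
    have h1 := Subgroup.card_le_of_le (inf_le_left : Fx ≤ Q)
    rw [hk, h.hcard] at h1
    exact (Nat.pow_le_pow_iff_right (le_refl 2)).mp (h1.trans (le_of_eq (by norm_num)))
  rw [h.hcard, hk] at hmod
  have hk1 : k = 1 := by
    have hk55 : k ≠ 5 := fun e => by
      have heq : Fx = Q := Subgroup.eq_of_le_of_card_ge inf_le_left (by rw [hk, h.hcard, e]; norm_num)
      have hgQ : g ∈ Q := h.hCQ fun a ha => Subgroup.mem_centralizer_singleton_iff.mp (heq.ge ha).2
      exact hg1 (Subgroup.mem_bot.mp (h.hKQ ▸ (⟨hgK, hgQ⟩ : g ∈ K ⊓ Q)))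
    unfold Nat.ModEq at hmod
    interval_cases k <;> simp_all
  intro a ha hga
  have haF : a ∈ Fx := ⟨ha, Subgroup.mem_centralizer_singleton_iff.mpr (mul_inv_eq_iff_eq_mul.mp hga).symm⟩
  have hzF : z ∈ Fx := ⟨h.hzQ, Subgroup.mem_centralizer_singleton_iff.mpr (h.hzC g).eq⟩
  by_contra hcon
  push Not at hcon
  haveI := Fintype.ofFinite Fx
  have h3 : ({1, ⟨_, hzF⟩, ⟨_, haF⟩} : Finset Fx).card = 3 := by
    rw [Finset.card_insert_of_notMem, Finset.card_insert_of_notMem, Finset.card_singleton] <;>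
      simp [Subtype.ext_iff, Ne.symm h.z_ne, Ne.symm hcon.1, Ne.symm hcon.2]
  have := Finset.card_le_univ ({1, ⟨_, hzF⟩, ⟨_, haF⟩} : Finset Fx)
  rw [h3, ← Nat.card_eq_fintype_card, hk, hk1] at this
  norm_num at this

/-- `Q` has twelve elements of square one. -/
theorem card_sq_one (h : MinusSetup Q K z) :
    Nat.card {a : Q // (a : C) * a = 1} = 12 ∨ Nat.card {a : Q // (a : C) * a = 1} = 20 := by
  classical
  haveI := Fintype.ofFinite Q
  let f : Q → ℤ := fun a => if (a : C) * a = 1 then 1 else -1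
  have hf : ∀ a b : Q, f (a * b) = f a * f b * (if a * b = b * a then 1 else -1) := fun a b => by
    have e : ((a : C) * b) * ((a : C) * b) = (a : C) * ((b : C) * a) * b := by group
    have hcc : a * b = b * a ↔ (a : C) * b = b * a := by rw [Subtype.ext_iff]; rfl
    rcases h.comm_cases a.2 b.2 with hc | hc
    · rw [if_pos (hcc.mpr hc), mul_one]
      have : ((a * b : Q) : C) * ((a * b : Q) : C) = ((a : C) * a) * ((b : C) * b) := by
        rw [Subgroup.coe_mul, e, ← hc]; group
      simp only [f, this]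
      rcases h.sq_cases a.2 with ha | ha <;> rcases h.sq_cases b.2 with hb | hb <;>
        simp [ha, hb, h.zz, h.z_ne]
    · have hne : ¬ a * b = b * a := fun e' => h.z_ne (mul_left_cancel (a := (b : C) * a) (by
        rw [mul_one, ← hc]; exact hcc.mp e'))
      rw [if_neg hne]
      have : ((a * b : Q) : C) * ((a * b : Q) : C) = ((a : C) * a) * ((b : C) * b) * z := by
        rw [Subgroup.coe_mul, e, show (b : C) * a = a * b * z by
          rw [hc, mul_assoc ((b : C) * a), h.zz, mul_one]]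
        calc (a : C) * ((a : C) * b * z) * b = (a : C) * a * b * (z * b) := by group
          _ = (a : C) * a * b * (b * z) := by rw [h.zmul]
          _ = _ := by group
      simp only [f, this]
      rcases h.sq_cases a.2 with ha | ha <;> rcases h.sq_cases b.2 with hb | hb <;>
        simp [ha, hb, h.zz, h.z_ne]
  have hchi : ∀ b : Q, ∑ a : Q, (if a * b = b * a then (1 : ℤ) else -1) = if (b : C) = 1 ∨ (b : C) = z then 32 else 0 := by
    intro b
    split_ifs with hb
    · rw [Finset.sum_congr rfl (g := fun _ => (1 : ℤ)) fun a _ => if_pos (Subtype.ext (by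
        rcases hb with hb | hb <;> simp only [Subgroup.coe_mul, hb]
        · rw [mul_one, one_mul]
        · exact h.zmul a)), Finset.sum_const, Finset.card_univ, ← Nat.card_eq_fintype_card, h.hcard]
      norm_num
    · have hnc : b ∉ Subgroup.center Q := fun hc => hb (h.center_cases hc)
      rw [Subgroup.mem_center_iff] at hnc
      push Not at hnc
      obtain ⟨a₀, ha₀⟩ := hnc
      have h2 := Equiv.sum_comp (Equiv.mulLeft a₀) fun a : Q => (if a * b = b * a then (1 : ℤ) else -1)
      have hflip : ∀ a : Q, (if a₀ * a * b = b * (a₀ * a) then (1 : ℤ) else -1) = -(if a * b = b * a then 1 else -1) := by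
        intro a
        have e0 : (a₀ : C) * b = b * a₀ * z := (h.comm_cases a₀.2 b.2).resolve_left fun e => ha₀ (Subtype.ext e)
        have hiff : ∀ x y : Q, x = y ↔ (x : C) = y := fun x y => Subtype.ext_iff
        rcases h.comm_cases a.2 b.2 with hc | hc
        · have h1 : (a₀ : C) * a * b = b * (a₀ * a) * z := by
            rw [mul_assoc, hc, ← mul_assoc, e0, mul_assoc _ z, ← h.zmul]; group
          rw [if_pos (show a * b = b * a from (hiff _ _).mpr hc), if_neg]
          intro e
          have e' := (hiff _ _).mp e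
          simp only [Subgroup.coe_mul] at e'
          exact h.z_ne (mul_left_cancel (a := (b : C) * (a₀ * a)) (by rw [mul_one, ← h1, e']))
        · have h1 : (a₀ : C) * a * b = b * (a₀ * a) := by
            calc (a₀ : C) * a * b = a₀ * (b * a * z) := by rw [mul_assoc, hc]
              _ = (a₀ * b) * (a * z) := by group
              _ = b * a₀ * z * (z * a) := by rw [e0, ← (h.hzC (a : C)).eq]
              _ = b * a₀ * (z * z) * a := by group
              _ = _ := by rw [h.zz, mul_one, mul_assoc]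
          rw [if_pos (show a₀ * a * b = b * (a₀ * a) from (hiff _ _).mpr (by simpa only [Subgroup.coe_mul] using h1)), if_neg]
          · norm_num
          · intro e
            have e' := (hiff _ _).mp e
            simp only [Subgroup.coe_mul] at e'
            exact h.z_ne (mul_left_cancel (a := (b : C) * a) (by rw [mul_one, ← hc, e']))
      have h3 := h2.symm.trans (Finset.sum_congr rfl fun a _ => hflip a)
      rw [Finset.sum_neg_distrib] at h3
      omega
  have hS : (∑ a, f a) * (∑ a, f a) = 64 * 1 := by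
    calc (∑ a, f a) * (∑ a, f a) = ∑ a, f a * ∑ b, f b := Finset.sum_mul ..
      _ = ∑ a, f a * ∑ b, f (a * b) := Finset.sum_congr rfl fun a _ => by
        congr 1; exact (Equiv.sum_comp (Equiv.mulLeft a) f).symm
      _ = ∑ b, f b * ∑ a, (if a * b = b * a then (1 : ℤ) else -1) := by
        simp_rw [Finset.mul_sum]
        rw [Finset.sum_comm]
        refine Finset.sum_congr rfl fun b _ => Finset.sum_congr rfl fun a _ => ?_
        rw [hf, ← mul_assoc, ← mul_assoc]
        have : f a * f a = 1 := by simp only [f]; split_ifs <;> norm_num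
        rw [this, one_mul]
      _ = ∑ b ∈ ({1, ⟨z, h.hzQ⟩} : Finset Q), f b * 32 := by
        rw [Finset.sum_congr rfl fun b _ => by rw [hchi b, mul_ite, mul_zero], ← Finset.sum_filter]
        refine Finset.sum_congr ?_ fun b _ => rfl
        ext b
        simp only [Finset.mem_filter, Finset.mem_univ, true_and, Finset.mem_insert, Finset.mem_singleton,
          Subtype.ext_iff, Subgroup.coe_one]
      _ = 64 * 1 := by
        rw [Finset.sum_pair (fun e => h.z_ne (congrArg Subtype.val e).symm)]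
        simp [f, h.zz]
  have hcount : ∑ a, f a = 2 * (Nat.card {a : Q // (a : C) * a = 1} : ℤ) - 32 := by
    have h1 : ∀ a, f a = 2 * (if (a : C) * a = 1 then (1 : ℤ) else 0) - 1 := fun a => by
      simp only [f]; split_ifs <;> norm_num
    rw [Finset.sum_congr rfl fun a _ => h1 a, Finset.sum_sub_distrib, ← Finset.mul_sum, Finset.sum_boole,
      Nat.card_eq_fintype_card, Fintype.card_subtype, Finset.sum_const, Finset.card_univ,
      ← Nat.card_eq_fintype_card, h.hcard]
    norm_num
  rw [hcount] at hS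
  rcases mul_self_eq_mul_self_iff.mp (hS.trans (by norm_num : (64 : ℤ) * 1 = 8 * 8)) with h8 | h8
  · right; omega
  · left; omega

open Fin.NatCast in
theorem exists_points (h : MinusSetup Q K z) :
    ∃ p : Fin 5 → C, (∀ i, p i ∈ Q ∧ p i * p i = 1 ∧ p i ≠ 1 ∧ p i ≠ z) ∧
      (∀ i j, p i = p j ∨ p i = p j * z → i = j) ∧
      (∀ u, u ∈ Q → u * u = 1 → u ≠ 1 → u ≠ z → ∃ i, u = p i ∨ u = p i * z) ∧
      (∀ i j, i ≠ j → p i * p j = p j * p i * z) ∧
      ∃ g ∈ K, ∀ i, g * p i * g⁻¹ = p (i + 1) := by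
  classical
  obtain ⟨g, hgK, hg5, hg1, hgfix⟩ := h.exists_five
  haveI := Fintype.ofFinite Q
  set N : Finset C := (Finset.univ.filter fun a : Q => (a : C) * a = 1).map ⟨Subtype.val, Subtype.val_injective⟩ with hN
  have hmemN : ∀ u, u ∈ N ↔ u ∈ Q ∧ u * u = 1 := fun u => by
    simp only [hN, Finset.mem_map, Finset.mem_filter, Finset.mem_univ, true_and]
    exact ⟨fun ⟨a, ha, e⟩ => e ▸ ⟨a.2, ha⟩, fun hu => ⟨⟨u, hu.1⟩, hu.2, rfl⟩⟩
  have hNc : N.card = Nat.card {a : Q // (a : C) * a = 1} := by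
    rw [hN, Finset.card_map, Nat.card_eq_fintype_card, Fintype.card_subtype]
  set N' := (N.erase 1).erase z with hN'
  have hN'c : N'.card + 2 = N.card := by
    have h1 : (1 : C) ∈ N := (hmemN 1).mpr ⟨one_mem _, one_mul 1⟩
    have h2 : z ∈ N.erase 1 := Finset.mem_erase.mpr ⟨h.z_ne, (hmemN z).mpr ⟨h.hzQ, h.zz⟩⟩
    rw [hN', Finset.card_erase_of_mem h2, Finset.card_erase_of_mem h1]
    have := Finset.card_pos.mpr ⟨_, h2⟩
    rw [Finset.card_erase_of_mem h1] at this
    omega
  have hmemN' : ∀ u, u ∈ N' ↔ u ∈ Q ∧ u * u = 1 ∧ u ≠ 1 ∧ u ≠ z := fun u => by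
    simp only [hN', Finset.mem_erase, hmemN]; tauto
  -- orbits
  let orb : C → Fin 5 → C := fun a i => g ^ (i : ℕ) * a * (g ^ (i : ℕ))⁻¹
  have hgmul : ∀ m : ℕ, g ^ m = g ^ (m % 5) := fun m => by
    conv_lhs => rw [← Nat.mod_add_div m 5, pow_add, pow_mul, hg5, one_pow, mul_one]
  have hsucc : ∀ a i, g * orb a i * g⁻¹ = orb a (i + 1) := fun a i => by
    show g * (g ^ (i : ℕ) * a * (g ^ (i : ℕ))⁻¹) * g⁻¹ = g ^ ((i + 1 : Fin 5) : ℕ) * a * (g ^ ((i + 1 : Fin 5) : ℕ))⁻¹
    have e : ((i + 1 : Fin 5) : ℕ) = ((i : ℕ) + 1) % 5 := by simp [Fin.val_add]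
    rw [e, ← hgmul, pow_succ']; group
  have horbN : ∀ a ∈ N', ∀ i, orb a i ∈ N' := fun a ha i => by
    rw [hmemN'] at ha ⊢
    obtain ⟨haQ, ha2, ha1, haz⟩ := ha
    refine ⟨h.hn.conj_mem _ haQ _, ?_, fun e => ha1 (conj_eq_one_iff.mp e), fun e => haz ?_⟩
    · show g ^ (i : ℕ) * a * (g ^ (i : ℕ))⁻¹ * (g ^ (i : ℕ) * a * (g ^ (i : ℕ))⁻¹) = 1
      rw [conj_mul, ha2, mul_one, mul_inv_cancel]
    · have := mul_inv_eq_iff_eq_mul.mp e
      rw [← h.zmul] at this
      exact mul_left_cancel this
  have hfree : ∀ a ∈ N', ∀ i j, orb a i = orb a j ∨ orb a i = orb a j * z → i = j := by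
    intro a ha i j hij
    obtain ⟨haQ, -, ha1, haz⟩ := (hmemN' a).mp ha
    by_contra hne
    set m := ((i : ℕ) + 5 - (j : ℕ)) % 5 with hm
    have hmne : m ≠ 0 := by have := i.2; have := j.2; have := Fin.val_ne_of_ne hne; omega
    have hgm : g ^ m = (g ^ (j : ℕ))⁻¹ * g ^ (i : ℕ) := by
      rw [hm, ← hgmul, eq_inv_mul_iff_mul_eq, ← pow_add, show (j : ℕ) + ((i : ℕ) + 5 - j) = i + 5 by omega,
        pow_add, hg5, mul_one]
    have hb : g ^ m * a * (g ^ m)⁻¹ = a ∨ g ^ m * a * (g ^ m)⁻¹ = a * z := by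
      rcases hij with e | e
      · left
        calc g ^ m * a * (g ^ m)⁻¹ = (g ^ (j : ℕ))⁻¹ * orb a i * g ^ (j : ℕ) := by rw [hgm]; simp only [orb]; group
          _ = a := by rw [e]; simp only [orb]; group
      · right
        calc g ^ m * a * (g ^ m)⁻¹ = (g ^ (j : ℕ))⁻¹ * orb a i * g ^ (j : ℕ) := by rw [hgm]; simp only [orb]; group
          _ = a * ((g ^ (j : ℕ))⁻¹ * z * g ^ (j : ℕ)) := by rw [e]; simp only [orb]; group
          _ = a * z := by rw [mul_assoc _ z, ← h.zmul, inv_mul_cancel_left]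
    set d := g ^ m with hd
    have hd5 : d ^ 5 = 1 := by rw [hd, ← pow_mul, mul_comm, pow_mul, hg5, one_pow]
    have hfix : d * a * d⁻¹ = a := by
      rcases hb with e | e
      · exact e
      · exfalso
        have h2 : ∀ b, d * b * d⁻¹ = b * z → d * (d * b * d⁻¹) * d⁻¹ = b := fun b eb => by
          rw [eb]
          calc d * (b * z) * d⁻¹ = (d * b * d⁻¹) * (d * z * d⁻¹) := by group
            _ = b * z * z := by rw [eb, (h.hzC d).eq.symm, mul_inv_cancel_right]
            _ = b := by rw [mul_assoc, h.zz, mul_one]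
        have h5 : d ^ 5 * a * (d ^ 5)⁻¹ = a * z := by
          calc d ^ 5 * a * (d ^ 5)⁻¹ = d * (d * (d * (d * (d * a * d⁻¹) * d⁻¹) * d⁻¹) * d⁻¹) * d⁻¹ := by simp only [pow_succ, pow_zero, one_mul]; group
            _ = d * (d * (d * a * d⁻¹) * d⁻¹) * d⁻¹ := by conv_lhs => rw [h2 a e]
            _ = d * a * d⁻¹ := by conv_lhs => rw [h2 a e]
            _ = a * z := e
        rw [hd5, one_mul, inv_one, mul_one] at h5
        exact h.z_ne (mul_left_cancel (a := a) (by rw [mul_one]; exact h5.symm))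
    have hgd : g * a * g⁻¹ = a := by
      have hc : Commute d a := mul_inv_eq_iff_eq_mul.mp hfix
      obtain ⟨r, hr⟩ : ∃ r, m * r % 5 = 1 := by
        have hm5 : m < 5 := Nat.mod_lt _ (by norm_num)
        interval_cases m
        · exact absurd rfl hmne
        · exact ⟨1, rfl⟩
        · exact ⟨3, rfl⟩
        · exact ⟨2, rfl⟩
        · exact ⟨4, rfl⟩
      have : Commute g a := by
        have h' := hc.pow_left r
        rwa [hd, ← pow_mul, hgmul, hr, pow_one] at h'
      rw [this.eq, mul_inv_cancel_right]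
    rcases hgfix a haQ hgd with e | e
    · exact ha1 e
    · exact haz e
  have hN'ne : N'.Nonempty := by
    rw [← Finset.card_pos]
    rcases h.card_sq_one with e | e <;> omega
  obtain ⟨a, ha⟩ := hN'ne
  have haz : ∀ b ∈ N', b * z ∈ N' := fun b hb => by
    rw [hmemN'] at hb ⊢
    obtain ⟨hbQ, hb2, hb1, hbz⟩ := hb
    refine ⟨mul_mem hbQ h.hzQ, ?_, fun e => hbz ?_, fun e => hb1 ?_⟩
    · calc b * z * (b * z) = b * (z * b) * z := by group
        _ = b * (b * z) * z := by rw [(h.hzC b).eq]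
        _ = (b * b) * (z * z) := by group
        _ = 1 := by rw [hb2, h.zz, one_mul]
    · rw [eq_inv_of_mul_eq_one_left e, Invol.inv_of_orderOf_two h.hz]
    · exact mul_eq_right.mp e
  let O : C → Finset C := fun a => Finset.univ.image (orb a) ∪ Finset.univ.image (fun i => orb a i * z)
  have hOc : ∀ a ∈ N', (O a).card = 10 ∧ O a ⊆ N' := by
    intro a ha
    constructor
    · rw [Finset.card_union_of_disjoint, Finset.card_image_of_injective, Finset.card_image_of_injective]
      · rfl
      · exact fun i j e => hfree a ha i j (Or.inl (mul_right_cancel e))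
      · exact fun i j e => hfree a ha i j (Or.inl e)
      · rw [Finset.disjoint_left]
        intro x hx hx'
        obtain ⟨i, -, rfl⟩ := Finset.mem_image.mp hx
        obtain ⟨j, -, hj⟩ := Finset.mem_image.mp hx'
        obtain rfl : i = j := hfree a ha i j (Or.inr hj.symm)
        exact h.z_ne (mul_left_cancel (a := orb a i) (by rw [mul_one]; exact hj))
    · intro x hx
      rcases Finset.mem_union.mp hx with hx | hx <;> obtain ⟨i, -, rfl⟩ := Finset.mem_image.mp hx
      · exact horbN a ha i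
      · exact haz _ (horbN a ha i)
  have hall : ∀ b ∈ N', b ∈ O a := by
    intro b hb
    rcases h.card_sq_one with e | e
    · have : O a = N' := Finset.eq_of_subset_of_card_le (hOc a ha).2 (by rw [(hOc a ha).1]; omega)
      rw [this]; exact hb
    · exfalso
      -- two orbits do not fit in eighteen elements
      have hsub : ∀ c ∈ N', c ∉ O a → Disjoint (O a) (O c) := by
        intro c hc hca
        rw [Finset.disjoint_left]
        intro x hx hx'
        have hshift : ∀ d i, orb (orb d i) 0 = orb d i := fun d i => by simp [orb]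
        obtain ⟨i, j, hij⟩ : ∃ i j, orb a i = orb c j ∨ orb a i = orb c j * z := by
          rcases Finset.mem_union.mp hx with hx | hx <;> obtain ⟨i, -, rfl⟩ := Finset.mem_image.mp hx <;>
            rcases Finset.mem_union.mp hx' with hx' | hx' <;> obtain ⟨j, -, hj⟩ := Finset.mem_image.mp hx'
          · exact ⟨i, j, Or.inl hj.symm⟩
          · exact ⟨i, j, Or.inr hj.symm⟩
          · exact ⟨i, j, Or.inr (by rw [hj, mul_assoc, h.zz, mul_one])⟩
          · exact ⟨i, j, Or.inl (mul_right_cancel hj).symm⟩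
        apply hca
        have hback : ∀ d, (g ^ (j : ℕ))⁻¹ * orb d i * g ^ (j : ℕ) = orb d (i - j) := fun d => by
          show (g ^ (j : ℕ))⁻¹ * (g ^ (i : ℕ) * d * (g ^ (i : ℕ))⁻¹) * g ^ (j : ℕ) = _
          have e1 : g ^ ((i - j : Fin 5) : ℕ) = (g ^ (j : ℕ))⁻¹ * g ^ (i : ℕ) := by
            rw [eq_inv_mul_iff_mul_eq, ← pow_add, hgmul, hgmul (i : ℕ)]
            congr 1
            have h1 : ((j + (i - j) : Fin 5) : ℕ) = (i : ℕ) := by rw [add_sub_cancel]
            rw [Fin.val_add] at h1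
            rw [h1, Nat.mod_eq_of_lt i.2]
          show _ = g ^ ((i - j : Fin 5) : ℕ) * d * (g ^ ((i - j : Fin 5) : ℕ))⁻¹
          rw [e1]; group
        refine Finset.mem_union.mpr (hij.imp (fun e => ?_) fun e => ?_)
        · refine Finset.mem_image.mpr ⟨i - j, Finset.mem_univ _, ?_⟩
          rw [← hback, e]; simp only [orb]; group
        · refine Finset.mem_image.mpr ⟨i - j, Finset.mem_univ _, ?_⟩
          rw [← hback, e]
          calc (g ^ (j : ℕ))⁻¹ * (orb c j * z) * g ^ (j : ℕ) * z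
              = ((g ^ (j : ℕ))⁻¹ * orb c j) * (z * g ^ (j : ℕ)) * z := by group
            _ = ((g ^ (j : ℕ))⁻¹ * orb c j) * (g ^ (j : ℕ) * z) * z := by rw [(h.hzC (g ^ (j : ℕ))).eq]
            _ = ((g ^ (j : ℕ))⁻¹ * orb c j * g ^ (j : ℕ)) * (z * z) := by group
            _ = c := by rw [h.zz, mul_one]; simp only [orb]; group
      obtain ⟨c, hc, hca⟩ : ∃ c ∈ N', c ∉ O a :=
        Finset.not_subset.mp fun hs => by
          have := Finset.card_le_card hs
          rw [(hOc a ha).1] at this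
          omega
      have hcard := Finset.card_le_card (Finset.union_subset (hOc a ha).2 (hOc c hc).2)
      rw [Finset.card_union_of_disjoint (hsub c hc hca), (hOc a ha).1, (hOc c hc).1] at hcard
      omega
  refine ⟨orb a, fun i => (hmemN' _).mp (horbN a ha i), hfree a ha, fun u hu hu2 hu1 huz => ?_, ?_,
    g, hgK, hsucc a⟩
  · rcases Finset.mem_union.mp (hall u ((hmemN' u).mpr ⟨hu, hu2, hu1, huz⟩)) with hx | hx <;>
      obtain ⟨i, -, rfl⟩ := Finset.mem_image.mp hx
    · exact ⟨i, Or.inl rfl⟩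
    · exact ⟨i, Or.inr rfl⟩
  -- distinct points do not commute
  intro i j hij
  have hmem : ∀ i, orb a i ∈ Q ∧ orb a i * orb a i = 1 ∧ orb a i ≠ 1 ∧ orb a i ≠ z := fun i => (hmemN' _).mp (horbN a ha i)
  refine (h.comm_cases (hmem i).1 (hmem j).1).resolve_left fun hcij => ?_
  -- the differences of commuting pairs
  let D : Fin 5 → Bool := fun d => decide (Commute (orb a 0) (orb a d))
  have hshift : ∀ x y : Fin 5, Commute (orb a x) (orb a y) → Commute (orb a (x + 1)) (orb a (y + 1)) := fun x y hxy => by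
    rw [← hsucc, ← hsucc]
    exact hxy.map (MulAut.conj g).toMonoidHom
  have hD : ∀ x y : Fin 5, Commute (orb a x) (orb a y) ↔ D (y - x) = true := by
    intro x y
    have hk : ∀ k : ℕ, ∀ x y : Fin 5, Commute (orb a x) (orb a y) → Commute (orb a (x + (k : Fin 5))) (orb a (y + (k : Fin 5))) := by
      intro k
      induction k with
      | zero => intro x y hxy; simpa using hxy
      | succ k ih => intro x y hxy; rw [Nat.cast_succ, ← add_assoc, ← add_assoc]; exact hshift _ _ (ih x y hxy)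
    simp only [D, decide_eq_true_eq]
    constructor
    · intro hxy
      have := hk ((-x : Fin 5) : ℕ) x y hxy
      rwa [Fin.cast_val_eq_self, add_neg_cancel, ← sub_eq_add_neg] at this
    · intro hxy
      have := hk (x : ℕ) 0 (y - x) hxy
      rwa [Fin.cast_val_eq_self, zero_add, sub_add_cancel] at this
  have hneg : ∀ d, D (-d) = D d := fun d => by
    rw [Bool.eq_iff_iff, ← zero_sub d, ← hD d 0]
    conv_rhs => rw [← sub_zero d, ← hD 0 d]
    exact ⟨Commute.symm, Commute.symm⟩
  obtain ⟨k, hk⟩ : ∃ k, orb a i * orb a j = orb a k ∨ orb a i * orb a j = orb a k * z := by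
    have hu : orb a i * orb a j ∈ N' := by
      rw [hmemN']
      refine ⟨mul_mem (hmem i).1 (hmem j).1, ?_, fun e => hij (hfree a ha i j (Or.inl ?_)), fun e => hij (hfree a ha i j (Or.inr ?_))⟩
      · rw [(show Commute (orb a j) (orb a i) from (hcij).symm).mul_mul_mul_comm, (hmem i).2.1, (hmem j).2.1, one_mul]
      · rw [eq_inv_of_mul_eq_one_left e, Invol.inv_eq_self_of_mul_self (hmem j).2.1]
      · rw [eq_mul_inv_of_mul_eq e, Invol.inv_eq_self_of_mul_self (hmem j).2.1, ← h.zmul]
    rcases Finset.mem_union.mp (hall _ hu) with hx | hx <;> obtain ⟨k, -, hk⟩ := Finset.mem_image.mp hx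
    · exact ⟨k, Or.inl hk.symm⟩
    · exact ⟨k, Or.inr hk.symm⟩
  have hek : orb a k = orb a i * orb a j ∨ orb a k = orb a i * orb a j * z :=
    hk.imp Eq.symm fun e => by rw [e, mul_assoc, h.zz, mul_one]
  have hki : k ≠ i := fun e => by
    rw [e] at hk
    rcases hk with e' | e'
    · exact (hmem j).2.2.1 (mul_eq_left.mp e')
    · exact (hmem j).2.2.2 (mul_left_cancel e')
  have hkj : k ≠ j := fun e => by
    rw [e] at hk
    rcases hk with e' | e'
    · exact (hmem i).2.2.1 (mul_eq_right.mp e')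
    · rw [h.zmul] at e'; exact (hmem i).2.2.2 (mul_right_cancel e')
  have hzcomm : ∀ b, Commute b z := fun b => h.zmul b
  have hcik : Commute (orb a i) (orb a k) := by
    rcases hek with e | e <;> rw [e]
    · exact (Commute.refl _).mul_right hcij
    · exact ((Commute.refl _).mul_right hcij).mul_right (hzcomm _)
  have hcjk : Commute (orb a j) (orb a k) := by
    rcases hek with e | e <;> rw [e]
    · exact (show Commute (orb a j) (orb a i) from hcij.symm).mul_right (Commute.refl _)
    · exact ((show Commute (orb a j) (orb a i) from hcij.symm).mul_right (Commute.refl _)).mul_right (hzcomm _)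
  have hallD := fin5_line i j k hij hki hkj D hneg ((hD i j).mp hcij) ((hD i k).mp hcik) ((hD j k).mp hcjk)
  -- an elementary abelian subgroup with twelve elements
  have hcomm : ∀ x y, Commute (orb a x) (orb a y) := fun x y => by
    by_cases e : x = y
    · rw [e]
    · exact (hD x y).mpr (hallD _ (sub_ne_zero.mpr (Ne.symm e)))
  have hNcomm : ∀ u ∈ N, ∀ v ∈ N, Commute u v := by
    have hc : ∀ u ∈ N, u = 1 ∨ u = z ∨ ∃ i, u = orb a i ∨ u = orb a i * z := fun u hu => by
      by_cases h1 : u = 1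
      · exact Or.inl h1
      by_cases h2 : u = z
      · exact Or.inr (Or.inl h2)
      rcases Finset.mem_union.mp (hall u ((hmemN' u).mpr ⟨((hmemN u).mp hu).1, ((hmemN u).mp hu).2, h1, h2⟩)) with hx | hx <;>
        obtain ⟨i, -, rfl⟩ := Finset.mem_image.mp hx
      · exact Or.inr (Or.inr ⟨i, Or.inl rfl⟩)
      · exact Or.inr (Or.inr ⟨i, Or.inr rfl⟩)
    intro u hu v hv
    rcases hc u hu with rfl | rfl | ⟨x, rfl | rfl⟩
    · exact Commute.one_left v
    · exact h.hzC v
    all_goals rcases hc v hv with rfl | rfl | ⟨y, rfl | rfl⟩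
    · exact Commute.one_right _
    · exact hzcomm _
    · exact hcomm x y
    · exact (hcomm x y).mul_right (hzcomm _)
    · exact Commute.one_right _
    · exact hzcomm _
    · exact (hcomm x y).mul_left (h.hzC _)
    · exact ((hcomm x y).mul_right (hzcomm _)).mul_left (h.hzC _)
  let A : Subgroup C :=
    { carrier := N
      one_mem' := (hmemN 1).mpr ⟨one_mem _, one_mul 1⟩
      mul_mem' := fun {u v} hu hv => (hmemN _).mpr ⟨mul_mem ((hmemN u).mp hu).1 ((hmemN v).mp hv).1, by
        rw [(hNcomm v hv u hu).mul_mul_mul_comm, ((hmemN u).mp hu).2, ((hmemN v).mp hv).2, one_mul]⟩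
      inv_mem' := fun {u} hu => by rwa [Invol.inv_eq_self_of_mul_self ((hmemN u).mp hu).2] }
  have hAc : Nat.card A = N.card := Nat.card_eq_finsetCard N
  have hdvd : Nat.card A ∣ 32 := h.hcard ▸ Subgroup.card_dvd_of_le (fun u hu => ((hmemN u).mp hu).1 : A ≤ Q)
  rw [hAc, hNc] at hdvd
  rcases h.card_sq_one with e | e <;> rw [e] at hdvd <;> norm_num at hdvd

end MinusSetup

end Cfsg.Agent.InvChar
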