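import Cfsg.Agent.Lib.InvChar.MinusExtra

/-!
# Counting non-commuting pairs of involutions in `2^{1+4}.A₅`
-/

set_option autoImplicit false
set_option linter.style.haveILetI false
set_option linter.unusedSectionVars false

namespace Cfsg.Agent.InvChar

open Cfsg Cfsg.Agent

variable {C : Type*} [Group C] [Finite C] {Q K : Subgroup C} {z : C}

/-- Eight distinct elements. -/
theorem eight_distinct {C : Type*} [Group C] {z q1 q2 a c : C} (hzC : ∀ x : C, Commute z x) (hz : z ≠ 1)
    (h2a : Commute q2 a) (h1a : ¬ Commute q1 a) (h1c : Commute q1 c) (h2c : ¬ Commute q2 c) :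
    Function.Injective fun t : Bool × Bool × Bool =>
      (if t.1 then q1 else 1) * (if t.2.1 then q2 else 1) * (if t.2.2 then z else 1) := by
  set f := fun t : Bool × Bool × Bool =>
      (if t.1 then q1 else 1) * (if t.2.1 then q2 else 1) * (if t.2.2 then z else 1) with hf
  have hzz : ∀ u w : C, Commute (u * z) w → Commute u w := fun u w e => by
    have := e.mul_left (hzC w).inv_left
    rwa [mul_inv_cancel_right] at this
  have hsub : ∀ x y z', Commute (f (x, y, z')) a → Commute ((if x then q1 else 1) * (if y then q2 else 1)) a := by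
    intro x y z' e
    cases z'
    · simpa only [hf, Bool.false_eq_true, if_false, mul_one] using e
    · exact hzz _ _ (by simpa only [hf, if_true] using e)
  have hsub' : ∀ x y z', Commute (f (x, y, z')) c → Commute ((if x then q1 else 1) * (if y then q2 else 1)) c := by
    intro x y z' e
    cases z'
    · simpa only [hf, Bool.false_eq_true, if_false, mul_one] using e
    · exact hzz _ _ (by simpa only [hf, if_true] using e)
  have hzif : ∀ z' : Bool, ∀ w : C, Commute (if z' then z else 1) w := fun z' w => by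
    cases z'
    · exact Commute.one_left w
    · exact hzC w
  have ka : ∀ x y z', Commute (f (x, y, z')) a ↔ x = false := fun x y z' => by
    constructor
    · intro e
      cases x
      · rfl
      · exfalso
        have e' := hsub _ _ _ e
        cases y
        · exact h1a (by simpa only [if_true, Bool.false_eq_true, if_false, mul_one] using e')
        · refine h1a ?_
          simp only [if_true] at e'
          have := e'.mul_left h2a.inv_left
          rwa [mul_inv_cancel_right] at this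
    · rintro rfl
      refine (Commute.mul_left (Commute.one_left a) ?_).mul_left (hzif z' a)
      cases y
      · exact Commute.one_left a
      · exact h2a
  have kc : ∀ x y z', Commute (f (x, y, z')) c ↔ y = false := fun x y z' => by
    constructor
    · intro e
      cases y
      · rfl
      · exfalso
        have e' := hsub' _ _ _ e
        cases x
        · exact h2c (by simpa only [if_true, Bool.false_eq_true, if_false, one_mul] using e')
        · refine h2c ?_
          simp only [if_true] at e'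
          have := h1c.inv_left.mul_left e'
          rwa [inv_mul_cancel_left] at this
    · rintro rfl
      refine (Commute.mul_left ?_ (Commute.one_left c)).mul_left (hzif z' c)
      cases x
      · exact Commute.one_left c
      · exact h1c
  rintro ⟨x1, x2, x3⟩ ⟨y1, y2, y3⟩ e
  change f (x1, x2, x3) = f (y1, y2, y3) at e
  have hx : x1 = y1 := by
    have h := ka x1 x2 x3
    rw [e, ka] at h
    revert h; cases x1 <;> cases y1 <;> decide
  have hy : x2 = y2 := by
    have h := kc x1 x2 x3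
    rw [e, kc] at h
    revert h; cases x2 <;> cases y2 <;> decide
  subst hx hy
  have e' := mul_left_cancel (show _ * _ = _ * _ from e)
  cases x3 <;> cases y3
  · rfl
  · exact absurd e'.symm hz
  · exact absurd e' hz
  · rfl

namespace MinusSetup

/-- The action on the five points. -/
theorem exists_action (h : MinusSetup Q K z) {p : Fin 5 → C}
    (hp : ∀ i, p i ∈ Q ∧ p i * p i = 1 ∧ p i ≠ 1 ∧ p i ≠ z)
    (hinj : ∀ i j, p i = p j ∨ p i = p j * z → i = j)
    (hex : ∀ u, u ∈ Q → u * u = 1 → u ≠ 1 → u ≠ z → ∃ i, u = p i ∨ u = p i * z) :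
    ∃ π : C →* Equiv.Perm (Fin 5), ∀ x i, x * p i * x⁻¹ = p (π x i) ∨ x * p i * x⁻¹ = p (π x i) * z := by
  have hzc : ∀ x u : C, x * (u * z) * x⁻¹ = x * u * x⁻¹ * z := fun x u => by
    calc x * (u * z) * x⁻¹ = x * u * (z * x⁻¹) := by group
      _ = x * u * (x⁻¹ * z) := by rw [(h.hzC x⁻¹).eq]
      _ = _ := by group
  have hmove : ∀ x i, ∃ j, x * p i * x⁻¹ = p j ∨ x * p i * x⁻¹ = p j * z := fun x i => by
    obtain ⟨hQ, h2, h1, hz⟩ := hp i
    refine hex _ (h.hn.conj_mem _ hQ x) (by rw [conj_mul, h2, mul_one, mul_inv_cancel])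
      (fun e => h1 (conj_eq_one_iff.mp e)) fun e => hz ?_
    have := mul_inv_eq_iff_eq_mul.mp e
    rw [(h.hzC x).eq] at this
    exact mul_left_cancel this
  choose f hf using hmove
  have hcomp : ∀ x y i, f (x * y) i = f x (f y i) := fun x y i => by
    have e : x * y * p i * (x * y)⁻¹ = x * (y * p i * y⁻¹) * x⁻¹ := by group
    refine hinj _ _ ?_
    rcases hf (x * y) i with a | a <;> rcases hf y i with b | b <;> rw [e, b] at a <;>
      rcases hf x (f y i) with c | c
    all_goals first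
      | (rw [hzc, c] at a; first
          | exact Or.inl a.symm
          | exact Or.inr a.symm
          | exact Or.inl ((mul_right_cancel a.symm))
          | exact Or.inl (by rw [mul_assoc, h.zz, mul_one] at a; exact a.symm)
          | exact Or.inr (by rw [← mul_right_cancel a.symm]; rw [mul_assoc, h.zz, mul_one])
          | exact Or.inr (by
              have a' := congrArg (· * z) a
              simp only [mul_assoc, h.zz, mul_one] at a'
              exact a'.symm))
      | (rw [c] at a; first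
          | exact Or.inl a.symm
          | exact Or.inr a.symm
          | exact Or.inl ((mul_right_cancel a.symm))
          | exact Or.inr (by
              have a' := congrArg (· * z) a
              simp only [mul_assoc, h.zz, mul_one] at a'
              exact a'.symm))
  have hone : ∀ i, f 1 i = i := fun i => by
    refine (hinj i (f 1 i) ?_).symm
    simpa using hf 1 i
  exact ⟨MonoidHom.mk' (fun x => (⟨f x, f x⁻¹, fun i => by rw [← hcomp, inv_mul_cancel, hone],
    fun i => by rw [← hcomp, mul_inv_cancel, hone]⟩ : Equiv.Perm (Fin 5))) fun x y => Equiv.ext fun i => hcomp x y i,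
    fun x i => hf x i⟩

theorem inverted_of_involution (h : MinusSetup Q K z) {p : Fin 5 → C}
    (hp : ∀ i, p i ∈ Q ∧ p i * p i = 1 ∧ p i ≠ 1 ∧ p i ≠ z)
    (hinj : ∀ i j, p i = p j ∨ p i = p j * z → i = j)
    (hex : ∀ u, u ∈ Q → u * u = 1 → u ≠ 1 → u ≠ z → ∃ i, u = p i ∨ u = p i * z)
    (hanti : ∀ i j, i ≠ j → p i * p j = p j * p i * z) {π : C →* Equiv.Perm (Fin 5)}
    (hπ : ∀ x i, x * p i * x⁻¹ = p (π x i) ∨ x * p i * x⁻¹ = p (π x i) * z)
    {ρ : K →* Equiv.Perm (Fin 5)} (hρ : ∀ k : K, ρ k = π k) (hρi : Function.Injective ρ)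
    (hsign : ∀ k : K, Equiv.Perm.sign (ρ k) = 1) :
    ∀ k : K, k * k = 1 → k ≠ 1 →
      ∃ i, Nat.card {q : Q // (k : C) * q * (k : C)⁻¹ = (q : C)⁻¹} = 8 ∧
        ∀ u, u ∈ Q → u * u = 1 → u ≠ 1 → u ≠ z → ∀ q : Q, (k : C) * q * (k : C)⁻¹ = (q : C)⁻¹ →
          (Commute u ((k : C) * q) ↔ (u = p i ∨ u = p i * z)) := by
  classical
  intro k hk2 hk1
  have hkk : (k : C) * k = 1 := congrArg Subtype.val hk2
  have hkinv : (k : C)⁻¹ = k := inv_eq_of_mul_eq_one_right hkk
  obtain ⟨i, a, c, hi, haa, hcc, hca, hcsa, hia, hisa, hic, hisc, hall⟩ :=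
    perm_five_shape (ρ k) (by rw [← map_mul, hk2, map_one]) (hsign k)
      (fun e => hk1 (hρi (e.trans (map_one ρ).symm)))
  set b := ρ k a with hb
  set d := ρ k c with hd
  have hkb : ρ k b = a := by
    rw [hb, ← Equiv.Perm.mul_apply, ← map_mul, hk2, map_one]; rfl
  have hkd : ρ k d = c := by
    rw [hd, ← Equiv.Perm.mul_apply, ← map_mul, hk2, map_one]; rfl
  have hbd : b ≠ d := fun e => hca ((ρ k).injective e).symm
  have had : a ≠ d := fun e => hcsa (by rw [hb, e, hkd])
  have hπk : ∀ i, (k : C) * p i * (k : C)⁻¹ = p (ρ k i) ∨ (k : C) * p i * (k : C)⁻¹ = p (ρ k i) * z := fun i => by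
    rw [hρ]; exact hπ k i
  have hpair : ∀ a : Fin 5, ρ k a ≠ a →
      ∃ e : C, (e = 1 ∨ e = z) ∧ (k : C) * p a * (k : C)⁻¹ = p (ρ k a) * e ∧
        (k : C) * p (ρ k a) * (k : C)⁻¹ = p a * e := by
    intro a _
    have h2 : ∀ u, (k : C) * ((k : C) * u * (k : C)⁻¹) * (k : C)⁻¹ = u := fun u => by
      calc _ = ((k : C) * k) * u * ((k : C) * k)⁻¹ := by group
        _ = u := by rw [hkk]; group
    rcases hπk a with e | e
    · refine ⟨1, Or.inl rfl, by rw [mul_one]; exact e, ?_⟩
      rw [mul_one]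
      conv_rhs => rw [← h2 (p a), e]
    · refine ⟨z, Or.inr rfl, e, ?_⟩
      have h3 : (k : C) * (p (ρ k a) * z) * (k : C)⁻¹ = p a := by
        have e' : (k : C) * p a * (k : C)⁻¹ = p (ρ k a) * z := e
        rw [← e', h2]
      calc (k : C) * p (ρ k a) * (k : C)⁻¹ = (k : C) * (p (ρ k a) * z) * ((k : C)⁻¹ * z) := by
            rw [← (h.hzC (k : C)⁻¹).eq]
            calc _ = (k : C) * p (ρ k a) * (z * z) * (k : C)⁻¹ := by rw [h.zz, mul_one]
              _ = _ := by group
        _ = p a * z := by rw [← mul_assoc, h3]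
  obtain ⟨ε, hε, hεa, hεb⟩ := hpair a haa
  obtain ⟨δ, hδ, hδc, hδd⟩ := hpair c hcc
  rw [← hb] at hεa hεb
  rw [← hd] at hδc hδd
  set q1 := p a * p b with hq1
  set q2 := p c * p d with hq2
  have hinvq : ∀ x y, x ≠ y → (p x * p y)⁻¹ = p y * p x := fun x y _ => by
    rw [mul_inv_rev, Invol.inv_eq_self_of_mul_self (hp x).2.1, Invol.inv_eq_self_of_mul_self (hp y).2.1]
  have hεc : ∀ e : C, e = 1 ∨ e = z → e * e = 1 ∧ ∀ x, Commute e x := fun e he => by
    rcases he with rfl | rfl
    · exact ⟨one_mul 1, fun x => Commute.one_left x⟩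
    · exact ⟨h.zz, h.hzC⟩
  have hswap : ∀ x y e, x ≠ y → e = 1 ∨ e = z → (k : C) * p x * (k : C)⁻¹ = p y * e →
      (k : C) * p y * (k : C)⁻¹ = p x * e → (k : C) * (p x * p y) * (k : C)⁻¹ = (p x * p y)⁻¹ := by
    intro x y e hxy he h1 h2
    rw [hinvq x y hxy]
    calc (k : C) * (p x * p y) * (k : C)⁻¹ = ((k : C) * p x * (k : C)⁻¹) * ((k : C) * p y * (k : C)⁻¹) := by group
      _ = p y * (e * p x) * e := by rw [h1, h2]; group
      _ = p y * (p x * e) * e := by rw [((hεc e he).2 (p x)).eq]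
      _ = p y * p x * (e * e) := by group
      _ = p y * p x := by rw [(hεc e he).1, mul_one]
  have h1inv := hswap a b ε (Ne.symm haa) hε hεa hεb
  have h2inv := hswap c d δ (Ne.symm hcc) hδ hδc hδd
  have htwo : ∀ x y w, x ≠ w → y ≠ w → Commute (p x * p y) (p w) := fun x y w hx hy => by
    show p x * p y * p w = p w * (p x * p y)
    calc p x * p y * p w = p x * (p y * p w) := mul_assoc _ _ _
      _ = p x * p w * (p y * z) := by rw [hanti y w hy]; group
      _ = p w * p x * (z * (p y * z)) := by rw [hanti x w hx]; group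
      _ = p w * p x * (p y * z * z) := by rw [(h.hzC (p y * z)).eq]
      _ = _ := by rw [mul_assoc (p y), h.zz, mul_one, mul_assoc]
  have hq12 : Commute q1 q2 := (htwo a b c (Ne.symm hca) (Ne.symm hcsa)).mul_right (htwo a b d had hbd)
  have hq1i : Commute q1 (p i) := htwo a b i (Ne.symm hia) (Ne.symm hisa)
  have hq2i : Commute q2 (p i) := htwo c d i (Ne.symm hic) (Ne.symm hisc)
  -- one non-commuting witness for each generator
  have hnc1 : ¬ Commute q1 (p a) := fun e => by
    refine h.z_ne (mul_left_cancel (a := p a * (p a * p b)) ?_)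
    rw [mul_one]
    calc p a * (p a * p b) * z = p a * (p a * p b * z) := by group
      _ = p a * (p a * (p b * z)) := by group
      _ = p a * (p b * p a) := by
        congr 1; rw [hanti b a haa, mul_assoc]
      _ = p a * p b * p a := by group
      _ = p a * (p a * p b) := e.eq
  have hc2a : Commute q2 (p a) := htwo c d a hca (Ne.symm had)
  have hnc2 : ¬ Commute q2 (p c) := fun e => by
    refine h.z_ne (mul_left_cancel (a := p c * (p c * p d)) ?_)
    rw [mul_one]
    calc p c * (p c * p d) * z = p c * (p c * (p d * z)) := by group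
      _ = p c * (p d * p c) := by congr 1; rw [hanti d c hcc, mul_assoc]
      _ = p c * p d * p c := by group
      _ = p c * (p c * p d) := e.eq
  have hc1c : Commute q1 (p c) := htwo a b c (Ne.symm hca) (Ne.symm hcsa)
  -- the subgroup of elements inverted by `k`
  have hq1Q : q1 ∈ Q := mul_mem (hp a).1 (hp b).1
  have hq2Q : q2 ∈ Q := mul_mem (hp c).1 (hp d).1
  let φ : Q →* Q ⧸ Subgroup.center Q := MonoidHom.mk'
    (fun q => QuotientGroup.mk (⟨(k : C) * q * (k : C)⁻¹, h.hn.conj_mem _ q.2 k⟩ * q⁻¹))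
    (fun x y => by
      have hab : ∀ u v : Q ⧸ Subgroup.center Q, u * v = v * u := by
        intro u v
        obtain ⟨u, rfl⟩ := QuotientGroup.mk_surjective u
        obtain ⟨v, rfl⟩ := QuotientGroup.mk_surjective v
        rw [← QuotientGroup.mk_mul, ← QuotientGroup.mk_mul, QuotientGroup.eq]
        have hc := ClassK.commutator_mem_center_of_special h.hext.1 v⁻¹ u⁻¹
        convert hc using 1
        group
      have e : (⟨(k : C) * ((x * y : Q) : C) * (k : C)⁻¹, h.hn.conj_mem _ (x * y).2 k⟩ : Q) =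
          ⟨(k : C) * x * (k : C)⁻¹, h.hn.conj_mem _ x.2 k⟩ * ⟨(k : C) * y * (k : C)⁻¹, h.hn.conj_mem _ y.2 k⟩ :=
        Subtype.ext (by simp only [Subgroup.coe_mul]; group)
      rw [e, mul_inv_rev]
      simp only [QuotientGroup.mk_mul]
      rw [hab (QuotientGroup.mk y⁻¹) (QuotientGroup.mk x⁻¹)]
      exact Commute.mul_mul_mul_comm (hab _ _) _ _)
  have hmemW : ∀ q : Q, q ∈ φ.ker ↔ ((k : C) * q * (k : C)⁻¹ * (q : C)⁻¹ = 1 ∨ (k : C) * q * (k : C)⁻¹ * (q : C)⁻¹ = z) := by
    intro q
    show QuotientGroup.mk _ = (1 : Q ⧸ Subgroup.center Q) ↔ _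
    rw [QuotientGroup.eq_one_iff]
    constructor
    · exact fun hc => h.center_cases hc
    · intro hc
      refine Subgroup.mem_center_iff.mpr fun v => Subtype.ext ?_
      show (v : C) * ((k : C) * q * (k : C)⁻¹ * (q : C)⁻¹) = (k : C) * q * (k : C)⁻¹ * (q : C)⁻¹ * v
      rcases hc with hc | hc <;> rw [hc]
      · rw [mul_one, one_mul]
      · exact h.zmul v
  -- the image has at least four elements
  have hindex : 4 ≤ φ.ker.index := by
    rw [Subgroup.index_ker]
    set A1 : Q ⧸ Subgroup.center Q := φ ⟨p a, (hp a).1⟩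
    set C1 : Q ⧸ Subgroup.center Q := φ ⟨p c, (hp c).1⟩
    have hval : ∀ x y e, e = 1 ∨ e = z → (k : C) * p x * (k : C)⁻¹ = p y * e →
        φ ⟨p x, (hp x).1⟩ = QuotientGroup.mk (⟨p y * p x, mul_mem (hp y).1 (hp x).1⟩ : Q) := by
      intro x y e he h1
      show QuotientGroup.mk _ = _
      rw [QuotientGroup.eq]
      refine Subgroup.mem_center_iff.mpr fun v => Subtype.ext ?_
      simp only [Subgroup.coe_mul, Subgroup.coe_inv]
      rw [h1]
      have hcx : (p y * e * (p x)⁻¹)⁻¹ * (p y * p x) = e := by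
        rw [mul_inv_rev, mul_inv_rev, inv_inv, inv_eq_of_mul_eq_one_right (hεc e he).1]
        calc p x * (e * (p y)⁻¹) * (p y * p x) = p x * (e * p x) := by group
          _ = p x * (p x * e) := by rw [((hεc e he).2 (p x)).eq]
          _ = e := by rw [← mul_assoc, (hp x).2.1, one_mul]
      rw [hcx]
      exact ((hεc e he).2 v).eq.symm
    have hsep : ∀ (u : C) (hu : u ∈ Q) (w : C), w ∈ Q → ¬ Commute u w → QuotientGroup.mk (⟨u, hu⟩ : Q) ≠ (1 : Q ⧸ Subgroup.center Q) := by
      intro u hu w hw hnc e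
      rw [QuotientGroup.eq_one_iff, Subgroup.mem_center_iff] at e
      exact hnc (congrArg Subtype.val (e ⟨w, hw⟩)).symm
    have hA : A1 = QuotientGroup.mk (⟨p b * p a, mul_mem (hp b).1 (hp a).1⟩ : Q) := hval a b ε hε hεa
    have hC : C1 = QuotientGroup.mk (⟨p d * p c, mul_mem (hp d).1 (hp c).1⟩ : Q) := hval c d δ hδ hδc
    have hba : ¬ Commute (p b * p a) (p a) := fun e => hnc1 (by
      rw [hq1, ← inv_inv (p a * p b), hinvq a b (Ne.symm haa)]; exact e.inv_left)
    have hdc : ¬ Commute (p d * p c) (p c) := fun e => hnc2 (by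
      rw [hq2, ← inv_inv (p c * p d), hinvq c d (Ne.symm hcc)]; exact e.inv_left)
    have hA1 : A1 ≠ 1 := hA ▸ hsep _ _ _ (hp a).1 hba
    have hC1 : C1 ≠ 1 := hC ▸ hsep _ _ _ (hp c).1 hdc
    have hcom_a : Commute (p d * p c) (p a) := by
      rw [← inv_inv (p d * p c), hinvq d c hcc]; exact hc2a.inv_left
    have hAC : A1 * C1 ≠ 1 := by
      rw [hA, hC, ← QuotientGroup.mk_mul]
      refine hsep _ (mul_mem (mul_mem (hp b).1 (hp a).1) (mul_mem (hp d).1 (hp c).1)) _ (hp a).1 fun e => hba ?_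
      have := e.mul_left hcom_a.inv_left
      rwa [mul_inv_cancel_right] at this
    have hACne : A1 ≠ C1 := fun e => by
      rw [hA, hC, QuotientGroup.eq, Subgroup.mem_center_iff] at e
      refine hba ?_
      have h1 : Commute ((p b * p a)⁻¹ * (p d * p c)) (p a) := (congrArg Subtype.val (e ⟨p a, (hp a).1⟩)).symm
      have h2 := (h1.mul_left hcom_a.inv_left).inv_left
      rwa [mul_inv_cancel_right, inv_inv] at h2
    haveI := Fintype.ofFinite φ.range
    let s : Finset φ.range := {1, ⟨A1, _, rfl⟩, ⟨C1, _, rfl⟩, ⟨A1 * C1, mul_mem ⟨_, rfl⟩ ⟨_, rfl⟩⟩}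
    have hs : s.card = 4 := by
      simp only [s]
      rw [Finset.card_insert_of_notMem, Finset.card_insert_of_notMem, Finset.card_insert_of_notMem,
        Finset.card_singleton] <;>
        simp [Subtype.ext_iff, Ne.symm hA1, Ne.symm hC1, Ne.symm hAC, hACne, hC1, hA1]
    rw [Nat.card_eq_fintype_card, ← hs]
    exact Finset.card_le_univ s
  have hW8 : Nat.card φ.ker ≤ 8 := by
    have h1 := Subgroup.card_mul_index φ.ker
    rw [h.hcard] at h1
    nlinarith
  -- eight inverted elements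
  let T : Subgroup C := Subgroup.closure ({q1, q2, z} : Set C)
  have hTcomm : ∀ x ∈ ({q1, q2, z} : Set C), ∀ y ∈ ({q1, q2, z} : Set C), Commute x y := by
    rintro x (rfl | rfl | rfl) y (rfl | rfl | rfl)
    all_goals first | exact Commute.refl _ | exact hq12 | exact hq12.symm | exact (h.hzC _) | exact (h.hzC _).symm
  haveI hTc : IsMulCommutative T := Subgroup.isMulCommutative_closure fun x hx y hy => (hTcomm x hx y hy).eq
  have hTinv : ∀ x ∈ T, (k : C) * x * (k : C)⁻¹ = x⁻¹ := by
    intro x hx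
    induction hx using Subgroup.closure_induction with
    | mem x hx =>
      rcases hx with rfl | rfl | rfl
      · exact h1inv
      · exact h2inv
      · rw [Invol.inv_of_orderOf_two h.hz, ← (h.hzC (k : C)).eq, mul_inv_cancel_right]
    | one => group
    | mul x y hx hy ihx ihy =>
      have hxy : x * y = y * x := congrArg Subtype.val (mul_comm' (⟨x, hx⟩ : T) ⟨y, hy⟩)
      calc (k : C) * (x * y) * (k : C)⁻¹ = ((k : C) * x * (k : C)⁻¹) * ((k : C) * y * (k : C)⁻¹) := by group
        _ = x⁻¹ * y⁻¹ := by rw [ihx, ihy]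
        _ = (y * x)⁻¹ := (mul_inv_rev y x).symm
        _ = (x * y)⁻¹ := by rw [hxy]
    | inv x _ ih =>
      calc (k : C) * x⁻¹ * (k : C)⁻¹ = ((k : C) * x * (k : C)⁻¹)⁻¹ := by group
        _ = x⁻¹⁻¹ := by rw [ih]
  have hTQ : T ≤ Q := (Subgroup.closure_le _).mpr (by rintro x (rfl | rfl | rfl); exacts [hq1Q, hq2Q, h.hzQ])
  have hT8 : 8 ≤ Nat.card T := by
    haveI := Fintype.ofFinite T
    have hm1 : q1 ∈ T := Subgroup.subset_closure (Or.inl rfl)
    have hm2 : q2 ∈ T := Subgroup.subset_closure (Or.inr (Or.inl rfl))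
    have hmz : z ∈ T := Subgroup.subset_closure (Or.inr (Or.inr rfl))
    let F : Bool × Bool × Bool → T := fun t =>
      ⟨(if t.1 then q1 else 1) * (if t.2.1 then q2 else 1) * (if t.2.2 then z else 1),
        mul_mem (mul_mem (by split_ifs; exacts [hm1, one_mem _]) (by split_ifs; exacts [hm2, one_mem _]))
          (by split_ifs; exacts [hmz, one_mem _])⟩
    have hF : Function.Injective F := fun x y e =>
      eight_distinct h.hzC h.z_ne hc2a hnc1 hc1c hnc2 (congrArg Subtype.val e)
    have := Fintype.card_le_of_injective F hF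
    rw [Nat.card_eq_fintype_card]
    simpa using this
  have hTW : T.subgroupOf Q ≤ φ.ker := by
    intro q hq
    rw [hmemW]
    have e : (k : C) * (q : C) * (k : C)⁻¹ = (q : C)⁻¹ := hTinv _ hq
    rcases h.sq_cases q.2 with hq2' | hq2'
    · left; rw [e, ← mul_inv_rev, hq2', inv_one]
    · right; rw [e, ← mul_inv_rev, hq2', Invol.inv_of_orderOf_two h.hz]
  have hTeq : T.subgroupOf Q = φ.ker := by
    refine Subgroup.eq_of_le_of_card_ge hTW (hW8.trans ?_)
    rw [Nat.card_congr (Subgroup.subgroupOfEquivOfLe hTQ).toEquiv]; exact hT8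
  have hS : ∀ q : Q, (k : C) * q * (k : C)⁻¹ = (q : C)⁻¹ ↔ (q : C) ∈ T := fun q => by
    refine ⟨fun e => ?_, hTinv _⟩
    have : q ∈ φ.ker := by
      rw [hmemW, e, ← mul_inv_rev]
      rcases h.sq_cases q.2 with hq2' | hq2' <;> rw [hq2']
      · left; exact inv_one
      · right; exact Invol.inv_of_orderOf_two h.hz
    rwa [← hTeq] at this
  have hkpi : (k : C) * p i * (k : C)⁻¹ = p i := by
    have hiW : (⟨p i, (hp i).1⟩ : Q) ∈ φ.ker := by
      rw [hmemW]
      rcases hπk i with e | e <;> rw [hi] at e <;> rw [e]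
      · left; exact mul_inv_cancel (p i)
      · right; rw [mul_assoc, (h.hzC _).eq, ← mul_assoc, mul_inv_cancel, one_mul]
    rw [← hTeq] at hiW
    have e : (k : C) * p i * (k : C)⁻¹ = (p i)⁻¹ := hTinv _ hiW
    rw [e]
    exact Invol.inv_eq_self_of_mul_self (hp i).2.1
  refine ⟨i, ?_, ?_⟩
  · rw [Nat.card_congr (Equiv.subtypeEquivRight hS)]
    refine le_antisymm ?_ ?_
    · exact le_trans (le_of_eq (congrArg (fun W : Subgroup Q => Nat.card W) hTeq)) hW8
    · refine hT8.trans (le_of_eq ?_)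
      exact (Nat.card_congr (Subgroup.subgroupOfEquivOfLe hTQ).toEquiv).symm
  · intro u hu hu2 hu1 huz q hq
    have hqi : Commute (q : C) (p i) := by
      have hle : T ≤ Subgroup.centralizer ({p i} : Set C) := (Subgroup.closure_le _).mpr (by
        rintro x (rfl | rfl | rfl) <;> refine Subgroup.mem_centralizer_singleton_iff.mpr ?_
        exacts [hq1i.eq, hq2i.eq, (h.hzC _).eq])
      exact Subgroup.mem_centralizer_singleton_iff.mp (hle ((hS q).mp hq))
    have hvi : Commute ((k : C) * q) (p i) := (show Commute (k : C) (p i) from mul_inv_eq_iff_eq_mul.mp hkpi).mul_left hqi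
    constructor
    · intro hcom
      obtain ⟨j, hj⟩ := hex u hu hu2 hu1 huz
      suffices j = i by rw [← this]; exact hj
      by_contra hji
      have hcj : Commute ((k : C) * q) (p j) := by
        rcases hj with rfl | rfl
        · exact hcom.symm
        · have := hcom.symm.mul_right (h.hzC ((k : C) * q)).symm
          rwa [mul_assoc, h.zz, mul_one] at this
      -- then `π k` fixes `j`
      have hmov : ρ k j ≠ j := by
        rcases hall j with e | e | e | e | e
        · exact absurd e hji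
        · rw [e]; exact haa
        · rw [e, hkb]; exact Ne.symm haa
        · rw [e]; exact hcc
        · rw [e, hkd]; exact Ne.symm hcc
      have h1 : (k : C) * q * p j * ((k : C) * q)⁻¹ = p j := by rw [hcj.eq, mul_inv_cancel_right]
      rcases h.comm_cases q.2 (hp j).1 with hc | hc
      · have h2 : (k : C) * p j * (k : C)⁻¹ = p j := by
          conv_rhs => rw [← h1]
          calc _ = (k : C) * (p j * q) * (q : C)⁻¹ * (k : C)⁻¹ := by group
            _ = _ := by rw [← hc]; group
        rcases hπk j with e | e <;> rw [h2] at e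
        · exact hmov (hinj _ _ (Or.inl e)).symm
        · exact hmov (hinj _ _ (Or.inr e)).symm
      · have h2 : (k : C) * (p j * z) * (k : C)⁻¹ = p j := by
          conv_rhs => rw [← h1]
          calc _ = (k : C) * (p j * (z * q)) * (q : C)⁻¹ * (k : C)⁻¹ := by group
            _ = (k : C) * (p j * (q * z)) * (q : C)⁻¹ * (k : C)⁻¹ := by rw [h.zmul]
            _ = _ := by rw [show p j * ((q : C) * z) = q * p j by rw [hc, mul_assoc]]; group
        have h2' : (k : C) * p j * (k : C)⁻¹ = p j * z := by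
          calc (k : C) * p j * (k : C)⁻¹ = (k : C) * (p j * z) * (k : C)⁻¹ * ((k : C) * z * (k : C)⁻¹)⁻¹ := by group
            _ = p j * z := by
              rw [h2, ← (h.hzC (k : C)).eq, mul_inv_cancel_right, Invol.inv_of_orderOf_two h.hz]
        rcases hπk j with e | e <;> rw [h2'] at e
        · exact hmov (hinj _ _ (Or.inr e.symm))
        · exact hmov (hinj _ _ (Or.inl (mul_right_cancel e))).symm
    · rintro (rfl | rfl)
      · exact hvi.symm
      · exact hvi.symm.mul_left (h.hzC _)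

theorem card_pairs (h : MinusSetup Q K z) :
    Nat.card {x : C × C // (x.1 ∈ Q ∧ orderOf x.1 = 2) ∧ (x.2 ∉ Q ∧ orderOf x.2 = 2) ∧ ¬ Commute x.1 x.2} = 960 := by
  classical
  haveI : Fact (Nat.Prime 2) := ⟨Nat.prime_two⟩
  haveI := Fintype.ofFinite C
  obtain ⟨p, hp, hinj, hex, hanti, g, hgK, hg⟩ := h.exists_points
  obtain ⟨π, hπ⟩ := h.exists_action hp hinj hex
  obtain ⟨eK⟩ := h.hK
  haveI hsimple : IsSimpleGroup ↥K := eK.isSimpleGroup
  let ρ : K →* Equiv.Perm (Fin 5) := π.comp K.subtype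
  have hρg : ρ ⟨g, hgK⟩ ≠ 1 := by
    intro e
    have h0 : π g 0 = 0 := congrArg (fun σ : Equiv.Perm (Fin 5) => σ 0) e
    have h1 := hπ g 0
    rw [h0, hg] at h1
    exact absurd (hinj _ _ h1) (by decide)
  have hρi : Function.Injective ρ := by
    rw [← MonoidHom.ker_eq_bot_iff]
    exact (MonoidHom.normal_ker ρ).eq_bot_or_eq_top.resolve_right fun e => hρg (MonoidHom.mem_ker.mp (e ▸ Subgroup.mem_top _))
  have hsign : ∀ k : K, Equiv.Perm.sign (ρ k) = 1 := by
    let s : K →* ℤˣ := Equiv.Perm.sign.comp ρ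
    rcases (MonoidHom.normal_ker s).eq_bot_or_eq_top with e | e
    · exfalso
      have := Nat.card_le_card_of_injective s ((MonoidHom.ker_eq_bot_iff s).mp e)
      rw [h.card_K, Nat.card_eq_fintype_card (α := ℤˣ)] at this
      simp at this
    · exact fun k => MonoidHom.mem_ker.mp (show k ∈ s.ker by rw [e]; exact Subgroup.mem_top k)
  have hQK : ∀ x : C, ∃ k ∈ K, ∃ q ∈ Q, k * q = x := fun x => by
    haveI := h.hn
    exact Subgroup.mem_sup_of_normal_right.mp (h.hsup.symm ▸ Subgroup.mem_top x)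
  have huniq : ∀ k ∈ K, ∀ k' ∈ K, ∀ q ∈ Q, ∀ q' ∈ Q, k * q = k' * q' → k = k' ∧ q = q' := by
    intro k hk k' hk' q hq q' hq' e
    have h1 : k'⁻¹ * k = q' * q⁻¹ := by
      rw [inv_mul_eq_iff_eq_mul, ← mul_assoc, ← e, mul_inv_cancel_right]
    have h2 : k'⁻¹ * k ∈ K ⊓ Q := Subgroup.mem_inf.mpr ⟨mul_mem (inv_mem hk') hk, h1 ▸ mul_mem hq' (inv_mem hq)⟩
    rw [h.hKQ, Subgroup.mem_bot, inv_mul_eq_one] at h2
    subst h2
    exact ⟨rfl, mul_left_cancel e⟩
  have hk8 := h.inverted_of_involution hp hinj hex hanti hπ (ρ := ρ) (fun _ => rfl) hρi hsign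
  -- the involutions of `Q` moved by one outer involution
  have hmoved : ∀ v : C, v ∉ Q → orderOf v = 2 →
      Nat.card {u : C // (u ∈ Q ∧ orderOf u = 2) ∧ ¬ Commute u v} = 8 := by
    intro v hv hv2
    obtain ⟨k, hk, q, hq, rfl⟩ := hQK v
    have hv2' := Invol.mul_self_of_orderOf_two hv2
    have hkq : k * k = 1 ∧ k * q * k⁻¹ = q⁻¹ := by
      have hk' : (k * k) * ((k⁻¹ * q * k) * q) = 1 * 1 := by
        rw [one_mul]; rw [← hv2']; group
      obtain ⟨e1, e2⟩ := huniq _ (mul_mem hk hk) 1 (one_mem _) _ (mul_mem (by simpa using h.hn.conj_mem q hq k⁻¹) hq) 1 (one_mem _) hk'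
      refine ⟨e1, ?_⟩
      have e3 := eq_inv_of_mul_eq_one_left e2
      rwa [inv_eq_of_mul_eq_one_right e1] at e3 ⊢
    have hk1 : k ≠ 1 := fun e => hv (by rw [e, one_mul]; exact hq)
    obtain ⟨i, -, hiff⟩ := hk8 ⟨k, hk⟩ (Subtype.ext hkq.1) (fun e => hk1 (congrArg Subtype.val e))
    -- the ten noncentral involutions
    let E : Fin 5 × Bool → C := fun t => if t.2 then p t.1 * z else p t.1
    have hEinj : Function.Injective E := by
      rintro ⟨x, _ | _⟩ ⟨y, _ | _⟩ e <;> simp only [E, Bool.false_eq_true, if_false, if_true] at e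
      · rw [hinj x y (Or.inl e)]
      · obtain rfl := hinj x y (Or.inr e)
        exact absurd (mul_eq_left.mp e.symm) h.z_ne
      · obtain rfl := hinj y x (Or.inr e.symm)
        exact absurd (mul_eq_left.mp e) h.z_ne
      · rw [hinj x y (Or.inl (mul_right_cancel e))]
    have hEinv : ∀ t, E t ∈ Q ∧ E t * E t = 1 ∧ E t ≠ 1 ∧ E t ≠ z := by
      rintro ⟨x, _ | _⟩
      · exact hp x
      · obtain ⟨hQ, h2, h1, hz'⟩ := hp x
        show p x * z ∈ Q ∧ p x * z * (p x * z) = 1 ∧ p x * z ≠ 1 ∧ p x * z ≠ z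
        refine ⟨mul_mem hQ h.hzQ, ?_, fun e => hz' ?_, fun e => h1 (mul_eq_right.mp e)⟩
        · rw [(h.hzC (p x)).mul_mul_mul_comm, h2, h.zz, one_mul]
        · rw [eq_inv_of_mul_eq_one_left e, Invol.inv_of_orderOf_two h.hz]
    have e1 : {t : Fin 5 × Bool // t.1 ≠ i} ≃ {u : C // (u ∈ Q ∧ orderOf u = 2) ∧ ¬ Commute u (k * q)} := by
      refine Equiv.ofBijective (fun t => ⟨E t.1, ⟨(hEinv t.1).1, Invol.orderOf_two_of_mul_self (hEinv t.1).2.1 (hEinv t.1).2.2.1⟩, fun hc => t.2 ?_⟩) ⟨fun a b e => Subtype.ext (hEinj (congrArg Subtype.val e)), ?_⟩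
      · obtain ⟨hQ, h2, h1, hz'⟩ := hEinv t.1
        have := (hiff _ hQ h2 h1 hz' ⟨q, hq⟩ hkq.2).mp hc
        obtain ⟨⟨x, _ | _⟩, ht⟩ := t <;> simp only [E, Bool.false_eq_true, if_false, if_true] at this ⊢
        · exact hinj x i this
        · rcases this with e | e
          · exact (hinj i x (Or.inr e.symm)).symm
          · exact hinj x i (Or.inl (mul_right_cancel e))
      · rintro ⟨u, ⟨hu, hu2⟩, hnc⟩
        have h2 := Invol.mul_self_of_orderOf_two hu2
        have huz : u ≠ z := fun e => hnc (e ▸ h.hzC _)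
        obtain ⟨j, hj⟩ := hex u hu h2 (Invol.ne_one_of_orderOf_two hu2) huz
        have hji : j ≠ i := fun e => hnc ((hiff u hu h2 (Invol.ne_one_of_orderOf_two hu2) huz ⟨q, hq⟩ hkq.2).mpr (e ▸ hj))
        rcases hj with rfl | rfl
        · exact ⟨⟨(j, false), hji⟩, rfl⟩
        · exact ⟨⟨(j, true), hji⟩, rfl⟩
    rw [← Nat.card_congr e1, Nat.card_congr (show {t : Fin 5 × Bool // t.1 ≠ i} ≃ {x : Fin 5 // x ≠ i} × Bool from
      ⟨fun t => (⟨t.1.1, t.2⟩, t.1.2), fun s => ⟨(s.1.1, s.2), s.1.2⟩, fun t => rfl, fun s => rfl⟩),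
      Nat.card_prod, Nat.card_eq_fintype_card, Fintype.card_subtype_compl, Fintype.card_fin,
      Fintype.card_subtype_eq]
    simp
  -- the outer involutions
  have houter : Nat.card {v : C // v ∉ Q ∧ orderOf v = 2} = 120 := by
    have hk15 : Nat.card {k : K // k * k = 1 ∧ k ≠ 1} = 15 := by
      rw [Nat.card_congr (Equiv.subtypeEquiv eK.toEquiv (q := fun x : alternatingGroup (Fin 5) => x * x = 1 ∧ x ≠ 1)
        (fun k => by simp [← map_mul, MulEquiv.map_eq_one_iff])), Nat.card_eq_fintype_card]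
      decide +kernel
    let S : {k : K // k * k = 1 ∧ k ≠ 1} → Type _ := fun k => {q : Q // (k.1 : C) * q * (k.1 : C)⁻¹ = (q : C)⁻¹}
    have e : (Σ k, S k) ≃ {v : C // v ∉ Q ∧ orderOf v = 2} := by
      refine Equiv.ofBijective (fun s => ⟨(s.1.1 : C) * s.2.1, ?_, ?_⟩) ⟨?_, ?_⟩
      · intro hmem
        have hkQ : (s.1.1 : C) ∈ K ⊓ Q := ⟨s.1.1.2, by
          have := mul_mem hmem (inv_mem s.2.1.2); rwa [mul_inv_cancel_right] at this⟩
        rw [h.hKQ, Subgroup.mem_bot] at hkQ
        exact s.1.2.2 (Subtype.ext hkQ)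
      · have hkk : (s.1.1 : C) * s.1.1 = 1 := congrArg Subtype.val s.1.2.1
        refine Invol.orderOf_two_of_mul_self ?_ ?_
        · calc (s.1.1 : C) * s.2.1 * ((s.1.1 : C) * s.2.1) =
              ((s.1.1 : C) * s.2.1 * (s.1.1 : C)⁻¹) * ((s.1.1 : C) * s.1.1) * s.2.1 := by group
            _ = 1 := by rw [s.2.2, hkk, mul_one, inv_mul_cancel]
        · intro e
          exact s.1.2.2 (Subtype.ext (huniq _ s.1.1.2 1 (one_mem _) _ s.2.1.2 1 (one_mem _) (by rw [e, one_mul])).1)
      · rintro ⟨⟨k, hk⟩, q⟩ ⟨⟨k', hk'⟩, q'⟩ e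
        obtain ⟨e1, e2⟩ := huniq _ k.2 _ k'.2 _ q.1.2 _ q'.1.2 (congrArg Subtype.val e)
        obtain rfl : k = k' := Subtype.ext e1
        obtain rfl : q = q' := Subtype.ext (Subtype.ext e2)
        rfl
      · rintro ⟨v, hv, hv2⟩
        obtain ⟨k, hk, q, hq, rfl⟩ := hQK v
        have hv2' := Invol.mul_self_of_orderOf_two hv2
        have hk' : (k * k) * ((k⁻¹ * q * k) * q) = 1 * 1 := by
          rw [one_mul]; rw [← hv2']; group
        obtain ⟨e1, e2⟩ := huniq _ (mul_mem hk hk) 1 (one_mem _) _ (mul_mem (by simpa using h.hn.conj_mem q hq k⁻¹) hq) 1 (one_mem _) hk'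
        have e3 := eq_inv_of_mul_eq_one_left e2
        rw [inv_eq_of_mul_eq_one_right e1] at e3
        refine ⟨⟨⟨⟨k, hk⟩, Subtype.ext e1, fun e => hv (by rw [show k = 1 from congrArg Subtype.val e, one_mul]; exact hq)⟩,
          ⟨⟨q, hq⟩, ?_⟩⟩, rfl⟩
        show k * q * k⁻¹ = q⁻¹
        rw [inv_eq_of_mul_eq_one_right e1]; exact e3
    rw [← Nat.card_congr e, Nat.card_sigma, Finset.sum_congr rfl (g := fun _ => 8), Finset.sum_const, Finset.card_univ,
      ← Nat.card_eq_fintype_card, hk15]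
    · rfl
    · rintro ⟨k, hk2, hk1⟩ -
      exact (hk8 k hk2 hk1).choose_spec.1
  have e2 : {x : C × C // (x.1 ∈ Q ∧ orderOf x.1 = 2) ∧ (x.2 ∉ Q ∧ orderOf x.2 = 2) ∧ ¬ Commute x.1 x.2} ≃
      Σ v : {v : C // v ∉ Q ∧ orderOf v = 2}, {u : C // (u ∈ Q ∧ orderOf u = 2) ∧ ¬ Commute u v.1} :=
    { toFun := fun x => ⟨⟨x.1.2, x.2.2.1⟩, ⟨x.1.1, x.2.1, x.2.2.2⟩⟩
      invFun := fun s => ⟨(s.2.1, s.1.1), s.2.2.1, s.1.2, s.2.2.2⟩
      left_inv := fun x => rfl
      right_inv := fun s => rfl }
  rw [Nat.card_congr e2, Nat.card_sigma, Finset.sum_congr rfl fun v _ => hmoved v.1 v.2.1 v.2.2,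
    Finset.sum_const, Finset.card_univ, ← Nat.card_eq_fintype_card, houter]
  rfl

end MinusSetup

end Cfsg.Agent.InvChar
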