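import Cfsg.Agent.Lib.Transfer.Fusion
import Cfsg.Agent.Lib.Invol.Basic

/-!
# Groups with a modular Sylow 2-subgroup have a normal 2-complement
-/

set_option autoImplicit false
set_option linter.style.haveILetI false

namespace Cfsg.Agent.InvChar

open Cfsg Cfsg.Agent

universe u

variable {G : Type u} [Group G] [Finite G]

/-- An element of odd order moving `x` by an element it centralizes, of 2-power order, fixes `x`. -/
theorem conj_eq_of_fixed_commutator {g x c : G} (hg : Odd (orderOf g)) (hc : g * x * g⁻¹ = c * x)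
    (hgc : g * c * g⁻¹ = c) {j : ℕ} (hcj : c ^ 2 ^ j = 1) : g * x * g⁻¹ = x := by
  have hpow : ∀ n : ℕ, g ^ n * x * (g ^ n)⁻¹ = c ^ n * x := by
    intro n
    induction n with
    | zero => simp
    | succ n ih =>
      calc g ^ (n + 1) * x * (g ^ (n + 1))⁻¹ = g * (g ^ n * x * (g ^ n)⁻¹) * g⁻¹ := by
            rw [pow_succ']; group
        _ = (g * c ^ n * g⁻¹) * (g * x * g⁻¹) := by rw [ih]; group
        _ = c ^ (n + 1) * x := by rw [← conj_pow, hgc, hc, pow_succ, mul_assoc]
  have h1 := hpow (orderOf g)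
  rw [pow_orderOf_eq_one, one_mul, inv_one, mul_one, eq_comm, mul_eq_right] at h1
  have hc1 : c = 1 := orderOf_eq_one_iff.mp (Nat.eq_one_of_dvd_coprimes
    (Nat.Coprime.pow_left j ((Nat.coprime_two_left).mpr hg))
    (orderOf_dvd_of_pow_eq_one hcj) (orderOf_dvd_of_pow_eq_one h1))
  rw [hc, hc1, one_mul]

theorem modular_complement (S : Sylow 2 G) (n : ℕ) (hn : 3 ≤ n)
    (hS : Nat.card ↥(S : Subgroup G) = 2 ^ (n + 1))
    (a b : G) (ha : a ∈ (S : Subgroup G)) (hb : b ∈ (S : Subgroup G))
    (hao : orderOf a = 2 ^ n) (hbo : orderOf b = 2) (hrel : b * a * b⁻¹ = a ^ (2 ^ (n - 1) + 1)) :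
    HasNormalPComplement 2 G := by
  haveI : Fact (Nat.Prime 2) := ⟨Nat.prime_two⟩
  obtain ⟨q, rfl⟩ : ∃ q, n = q + 3 := ⟨n - 3, by omega⟩
  set u : ℤ := 2 ^ (q + 2) + 1 with hu
  have hrel' : b * a * b⁻¹ = a ^ u := by
    rw [hrel, hu, ← zpow_natCast, show q + 3 - 1 = q + 2 by omega]; push_cast; ring_nf
  have hb2 := Invol.mul_self_of_orderOf_two hbo
  have hbi : b⁻¹ = b := inv_eq_of_mul_eq_one_right hb2
  have hba : ∀ k : ℤ, b * a ^ k = a ^ (u * k) * b := fun k => by
    rw [← mul_inv_eq_iff_eq_mul, ← conj_zpow, hrel', zpow_mul]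
  have hN : (orderOf a : ℤ) = 2 ^ (q + 3) := by rw [hao]; push_cast; ring
  have hone : ∀ k : ℤ, a ^ k = 1 ↔ (2 : ℤ) ^ (q + 3) ∣ k := fun k => by
    rw [← orderOf_dvd_iff_zpow_eq_one, hN]
  have hbA : ∀ k : ℤ, a ^ k ≠ b := by
    intro k h
    have h1 : b * a * b⁻¹ = a := by
      rw [← h, ← zpow_neg, ← zpow_add_one, ← zpow_add]; simp
    rw [hrel'] at h1
    have h2 : a ^ (u - 1) = 1 := by rw [zpow_sub, h1, zpow_one, mul_inv_cancel]
    rw [hone, hu, add_sub_cancel_right] at h2
    have h3 : (2 : ℤ) ^ (q + 3) ≤ 2 ^ (q + 2) := Int.le_of_dvd (by positivity) h2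
    rw [pow_succ] at h3
    have h4 : (0 : ℤ) < 2 ^ (q + 2) := by positivity
    omega
  -- the elements of `S`
  have hmem : ∀ x ∈ (S : Subgroup G), ∃ i : ℤ, x = a ^ i ∨ x = a ^ i * b := by
    have hA2 : ((Subgroup.zpowers a).subgroupOf (S : Subgroup G)).index = 2 := by
      have h1 := Subgroup.card_mul_index ((Subgroup.zpowers a).subgroupOf (S : Subgroup G))
      rw [Nat.card_congr (Subgroup.subgroupOfEquivOfLe (Subgroup.zpowers_le.mpr ha)).toEquiv,
        Nat.card_zpowers, hao, hS, pow_succ 2 (q + 3)] at h1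
      exact Nat.eq_of_mul_eq_mul_left (by positivity) h1
    intro x hx
    by_cases hxA : x ∈ Subgroup.zpowers a
    · obtain ⟨i, hi⟩ := hxA
      exact ⟨i, Or.inl hi.symm⟩
    · have hbn : b ∉ Subgroup.zpowers a := fun ⟨i, hi⟩ => hbA i hi
      have h := (Subgroup.mul_mem_iff_of_index_two hA2 (a := ⟨x, hx⟩) (b := ⟨b, hb⟩)).mpr
        (iff_of_false hxA hbn)
      obtain ⟨i, hi⟩ := (h : x * b ∈ Subgroup.zpowers a)
      exact ⟨i, Or.inr (by rw [show a ^ i = x * b from hi, mul_assoc, hb2, mul_one])⟩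
  -- the level of an element
  have hlevel : ∀ (j : ℕ) (i : ℤ) (x : G), j + 1 ≤ q + 3 → (x = a ^ i ∨ x = a ^ i * b) →
      (x ^ 2 ^ (j + 1) = 1 ↔ (2 : ℤ) ^ (q + 3 - (j + 1)) ∣ i) := by
    intro j i x hj hx
    obtain ⟨c, hc, hsq⟩ : ∃ c : ℤ, (c = 1 ∨ c = 1 + 2 ^ (q + 1)) ∧ x * x = a ^ (i * (2 * c)) := by
      rcases hx with rfl | rfl
      · exact ⟨1, Or.inl rfl, by rw [← zpow_add]; ring_nf⟩
      · refine ⟨1 + 2 ^ (q + 1), Or.inr rfl, ?_⟩
        calc a ^ i * b * (a ^ i * b) = a ^ i * (b * a ^ i) * b := by group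
          _ = a ^ i * a ^ (u * i) * (b * b) := by rw [hba]; group
          _ = a ^ (i * (2 * (1 + 2 ^ (q + 1)))) := by
              rw [hb2, mul_one, ← zpow_add, hu]; congr 1; ring
    have hodd : IsCoprime ((2 : ℤ) ^ (q + 3)) c := by
      apply IsCoprime.pow_left
      rcases hc with rfl | rfl
      · exact isCoprime_one_right
      · exact ⟨-2 ^ q, 1, by ring⟩
    have hx2 : x ^ 2 ^ (j + 1) = a ^ (i * 2 ^ (j + 1) * c) := by
      rw [pow_succ', pow_mul, pow_two x, hsq, ← zpow_natCast, ← zpow_mul]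
      congr 1; push_cast; ring
    have hsplit : (2 : ℤ) ^ (q + 3) = 2 ^ (q + 3 - (j + 1)) * 2 ^ (j + 1) := by
      rw [← pow_add]; congr 1; omega
    rw [hx2, hone]
    constructor
    · intro h
      have h1 := hodd.dvd_of_dvd_mul_right h
      rw [hsplit] at h1
      exact Int.dvd_of_mul_dvd_mul_right (by positivity) h1
    · intro h
      rw [hsplit]
      exact dvd_mul_of_dvd_left (mul_dvd_mul_right h _) c
  have hkill : ∀ x ∈ (S : Subgroup G), x ^ 2 ^ (q + 3) = 1 := by
    intro x hx
    obtain ⟨i, hi⟩ := hmem x hx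
    rw [hlevel (q + 2) i x le_rfl hi]
    simp
  set z := a ^ ((2 : ℤ) ^ (q + 2)) with hz
  have hz1 : z ≠ 1 := fun h => by
    rw [hz, hone] at h
    have h3 : (2 : ℤ) ^ (q + 3) ≤ 2 ^ (q + 2) := Int.le_of_dvd (by positivity) h
    rw [pow_succ] at h3
    have h4 : (0 : ℤ) < 2 ^ (q + 2) := by positivity
    omega
  -- the squares of order two
  have hsqz : ∀ y ∈ (S : Subgroup G), y ^ 4 = 1 → y * y ≠ 1 → y * y = z := by
    intro y hy h4 h2
    obtain ⟨i, hi⟩ := hmem y hy
    have h1 : (2 : ℤ) ^ (q + 1) ∣ i := by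
      have := (hlevel 1 i y (by omega) hi).mp (by norm_num; exact h4)
      simpa using this
    obtain ⟨k, rfl⟩ := h1
    have hk : ¬ (2 : ℤ) ∣ k := by
      rintro ⟨l, rfl⟩
      apply h2
      rw [← pow_two]
      have := (hlevel 0 _ y (by omega) hi).mpr ⟨l, by simp only [show q + 3 - (0 + 1) = q + 2 by omega]; ring⟩
      simpa using this
    obtain ⟨l, hl⟩ : ∃ l : ℤ, k = 2 * l + 1 := ⟨k / 2, by omega⟩
    rcases hi with rfl | rfl
    · rw [hz, ← zpow_add, ← orderOf_dvd_sub_iff_zpow_eq_zpow, hN]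
      exact ⟨l, by rw [hl]; ring⟩
    · rw [hz]
      calc a ^ (2 ^ (q + 1) * k) * b * (a ^ (2 ^ (q + 1) * k) * b)
          = a ^ (2 ^ (q + 1) * k) * (b * a ^ (2 ^ (q + 1) * k)) * b := by group
        _ = a ^ (2 ^ (q + 1) * k) * a ^ (u * (2 ^ (q + 1) * k)) * (b * b) := by rw [hba]; group
        _ = a ^ ((2 : ℤ) ^ (q + 2)) := by
            rw [hb2, mul_one, ← zpow_add, ← orderOf_dvd_sub_iff_zpow_eq_zpow, hN, hu]
            exact ⟨l + 2 ^ q * k, by rw [hl]; ring⟩
  have hinv : ∀ x ∈ (S : Subgroup G), x * x = 1 → x = 1 ∨ x = z ∨ x = b ∨ x = z * b := by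
    intro x hx hxx
    obtain ⟨i, hi⟩ := hmem x hx
    obtain ⟨k, rfl⟩ : (2 : ℤ) ^ (q + 2) ∣ i := by
      have := (hlevel 0 i x (by omega) hi).mp (by simpa [pow_two] using hxx)
      simpa using this
    rcases Int.even_or_odd k with ⟨l, rfl⟩ | ⟨l, rfl⟩
    · have h0 : a ^ ((2 : ℤ) ^ (q + 2) * (l + l)) = 1 := (hone _).mpr ⟨l, by ring⟩
      rcases hi with rfl | rfl
      · exact Or.inl h0
      · exact Or.inr (Or.inr (Or.inl (by rw [h0, one_mul])))
    · have h0 : a ^ ((2 : ℤ) ^ (q + 2) * (2 * l + 1)) = z := by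
        rw [hz, ← orderOf_dvd_sub_iff_zpow_eq_zpow, hN]; exact ⟨l, by ring⟩
      rcases hi with rfl | rfl
      · exact Or.inr (Or.inl h0)
      · exact Or.inr (Or.inr (Or.inr (by rw [h0])))
  have hzb : Commute z b := by
    show z * b = b * z
    rw [hz, hba]
    congr 1
    rw [← orderOf_dvd_sub_iff_zpow_eq_zpow, hN, hu]
    exact ⟨-2 ^ (q + 1), by ring⟩
  have hzS : z ∈ (S : Subgroup G) := Subgroup.zpow_mem _ ha _
  -- the involution `z` is fixed
  have hfix : ∀ (D : Subgroup G), D ≤ (S : Subgroup G) → z ∈ D → ∀ g ∈ Subgroup.normalizer (D : Set G),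
      g * z * g⁻¹ = z := by
    intro D hD hzD g hg
    have hconj : ∀ x ∈ D, g * x * g⁻¹ ∈ D := fun x hx => (Subgroup.mem_normalizer_iff.mp hg x).mp hx
    by_cases hex : ∃ x ∈ D, x * x ≠ 1
    · obtain ⟨x, hx, hxx⟩ := hex
      obtain ⟨t, ht⟩ : ∃ t, orderOf x = 2 ^ t := by
        obtain ⟨t, -, ht⟩ := (Nat.dvd_prime_pow Nat.prime_two).mp
          (orderOf_dvd_of_pow_eq_one (hkill x (hD hx)))
        exact ⟨t, ht⟩
      rcases t with _ | _ | t
      · rw [pow_zero, orderOf_eq_one_iff] at ht; exact absurd (by rw [ht, one_mul]) hxx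
      · refine absurd ?_ hxx
        rw [← pow_two]; exact orderOf_dvd_iff_pow_eq_one.mp (by rw [ht]; norm_num)
      · set y := x ^ 2 ^ t with hy
        have hy4 : y ^ 4 = 1 := by
          rw [hy, ← pow_mul, ← orderOf_dvd_iff_pow_eq_one, ht]
          exact ⟨1, by ring⟩
        have hy2 : y * y ≠ 1 := fun h => by
          rw [hy, ← pow_add, ← orderOf_dvd_iff_pow_eq_one, ht, ← two_mul, ← pow_succ',
            Nat.pow_dvd_pow_iff_le_right (by norm_num)] at h
          omega
        have hyD : y ∈ D := pow_mem hx _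
        have h1 := hsqz y (hD hyD) hy4 hy2
        have h2 : g * y * g⁻¹ * (g * y * g⁻¹) = g * (y * y) * g⁻¹ := conj_mul
        rw [← h1, ← h2]
        exact (hsqz _ (hD (hconj y hyD)) (by rw [conj_pow, hy4, mul_one, mul_inv_cancel])
          (fun h => hy2 (conj_eq_one_iff.mp (h2 ▸ h)))).trans h1.symm
    push Not at hex
    by_cases hbD : b ∈ D
    swap
    · have hzD' := hconj z hzD
      have hne : g * z * g⁻¹ ≠ 1 := fun h => hz1 (conj_eq_one_iff.mp h)
      rcases hinv _ (hD hzD') (hex _ hzD') with h | h | h | h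
      · exact absurd h hne
      · exact h
      · exact absurd (h ▸ hzD') hbD
      · refine absurd ?_ hbD
        have h1 := mul_mem hzD (h ▸ hzD')
        rwa [← mul_assoc, hex z hzD, one_mul] at h1
    -- `D = ⟨z, b⟩`, and its centralizer
    set C := Subgroup.centralizer (D : Set G) with hC
    set A0 := (S : Subgroup G) ⊓ C with hA0
    have hgen : ∀ c : G, Commute c z → Commute c b → c ∈ C := by
      intro c h1 h2 x hx
      rcases hinv x (hD hx) (hex x hx) with rfl | rfl | rfl | rfl
      · simp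
      · exact h1.symm.eq
      · exact h2.symm.eq
      · exact (h1.mul_right h2).symm.eq
    have hya : ∀ i : ℤ, a ^ (2 * i) ∈ A0 := fun i => ⟨Subgroup.zpow_mem _ ha _,
      hgen _ (((Commute.refl a).zpow_zpow _ _)) (by
        show a ^ (2 * i) * b = b * a ^ (2 * i)
        rw [hba]; congr 1
        rw [← orderOf_dvd_sub_iff_zpow_eq_zpow, hN, hu]
        exact ⟨-i, by ring⟩)⟩
    have hbA0 : b ∈ A0 := ⟨hb, hgen _ hzb.symm (Commute.refl b)⟩
    have hcard : 2 ^ (q + 3) ≤ Nat.card A0 := by
      let H : Subgroup G := Subgroup.zpowers (a ^ (2 : ℤ))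
      have hHle : H ≤ A0 := Subgroup.zpowers_le.mpr (by simpa using hya 1)
      have hlt : H < A0 := lt_of_le_of_ne hHle fun e => by
        obtain ⟨i, hi⟩ := (e ▸ hbA0 : b ∈ H)
        exact hbA (2 * i) (by rw [zpow_mul]; exact hi)
      have hHc : Nat.card H = 2 ^ (q + 2) := by
        rw [Nat.card_zpowers, show a ^ (2 : ℤ) = a ^ 2 by norm_cast, orderOf_pow' _ two_ne_zero, hao,
          pow_succ, Nat.gcd_eq_right (dvd_mul_left _ _), Nat.mul_div_left _ two_pos]
      obtain ⟨k, hk⟩ := IsPGroup.iff_card.mp (S.2.to_le (inf_le_left (b := C)) : IsPGroup 2 A0)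
      have h1 : Nat.card H < Nat.card A0 := lt_of_le_of_ne (Subgroup.card_le_of_le hHle)
        fun e => hlt.ne (Subgroup.eq_of_le_of_card_ge hHle e.ge)
      rw [hHc, hk, Nat.pow_lt_pow_iff_right (by norm_num)] at h1
      rw [hk]
      exact Nat.pow_le_pow_right two_pos h1
    haveI : (C.subgroupOf (Subgroup.normalizer (D : Set G))).Normal := by
      rw [hC, ← Subgroup.normalizerMonoidHom_ker]
      exact MonoidHom.normal_ker _
    have hA0p : IsPGroup 2 (A0.subgroupOf C) := (S.2.to_le inf_le_left).comap_subtype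
    obtain ⟨T, hT⟩ := hA0p.exists_le_sylow
    have hTle : Nat.card (T : Subgroup C) ≤ 2 ^ (q + 3) := by
      by_contra hlt
      push Not at hlt
      obtain ⟨S', hS'⟩ := (T.2.map C.subtype).exists_le_sylow
      obtain ⟨k, hk⟩ := IsPGroup.iff_card.mp T.2
      have hS'c : Nat.card (S' : Subgroup G) = 2 ^ (q + 4) := by
        rw [S'.card_eq_multiplicity, ← S.card_eq_multiplicity, hS]
      have heq : (T : Subgroup C).map C.subtype = (S' : Subgroup G) := by
        refine Subgroup.eq_of_le_of_card_ge hS' ?_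
        rw [Subgroup.card_map_of_injective C.subtype_injective, hS'c, hk]
        rw [hk, Nat.pow_lt_pow_iff_right (by norm_num)] at hlt
        exact Nat.pow_le_pow_right two_pos hlt
      obtain ⟨h, hh⟩ := MulAction.exists_smul_eq G S' S
      -- the conjugate of `D` is central in `S`
      have hcen : ∀ x ∈ D, h * x * h⁻¹ ∈ (S : Subgroup G) ∧ ∀ s ∈ (S : Subgroup G), Commute (h * x * h⁻¹) s := by
        intro x hx
        have hxC : x ∈ C := hgen x
          (by
            rcases hinv x (hD hx) (hex x hx) with rfl | rfl | rfl | rfl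
            exacts [Commute.one_left _, Commute.refl _, hzb.symm, (Commute.refl z).mul_left hzb.symm])
          (by
            rcases hinv x (hD hx) (hex x hx) with rfl | rfl | rfl | rfl
            exacts [Commute.one_left _, hzb, Commute.refl _, hzb.mul_left (Commute.refl b)])
        have hcomm : ∀ t ∈ (S' : Subgroup G), Commute x t := by
          intro t ht
          rw [← heq] at ht
          obtain ⟨t, -, rfl⟩ := ht
          exact t.2 x hx
        have hxT : x ∈ (S' : Subgroup G) := by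
          have hx2 : IsPGroup 2 (Subgroup.zpowers x) := (S.2.to_le (Subgroup.zpowers_le.mpr (hD hx)))
          have hsup : IsPGroup 2 ((S' : Subgroup G) ⊔ Subgroup.zpowers x : Subgroup G) := by
            refine S'.2.to_sup_of_normal_right' hx2 fun t ht =>
              Subgroup.centralizer_le_normalizer _ ?_
            rintro _ ⟨l, rfl⟩
            exact ((hcomm t ht).zpow_left l).eq
          rw [← S'.3 hsup le_sup_left]
          exact Subgroup.mem_sup_right (Subgroup.mem_zpowers x)
        refine ⟨?_, fun s hs => ?_⟩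
        · rw [← hh]; exact ⟨x, hxT, rfl⟩
        · rw [← hh] at hs
          obtain ⟨t, ht, rfl⟩ := hs
          exact (hcomm t ht).map (MulAut.conj h).toMonoidHom
      have hz' : ∀ x ∈ D, x ≠ 1 → h * x * h⁻¹ = z := by
        intro x hx hx1
        obtain ⟨hs, hcm⟩ := hcen x hx
        have hnb : ¬ Commute b a := fun hcb => by
          have h1 : b * a * b⁻¹ = a := by rw [hcb.eq, mul_inv_cancel_right]
          rw [hrel', ← zpow_one a, ← zpow_mul, one_mul, ← orderOf_dvd_sub_iff_zpow_eq_zpow, hN, hu,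
            add_sub_cancel_right] at h1
          have h3 : (2 : ℤ) ^ (q + 3) ≤ 2 ^ (q + 2) := Int.le_of_dvd (by positivity) h1
          rw [pow_succ] at h3
          have h4 : (0 : ℤ) < 2 ^ (q + 2) := by positivity
          omega
        rcases hinv _ hs (by rw [conj_mul, hex x hx, mul_one, mul_inv_cancel]) with h' | h' | h' | h'
        · exact absurd (conj_eq_one_iff.mp h') hx1
        · exact h'
        · exact absurd (h' ▸ hcm a ha) hnb
        · refine absurd ?_ hnb
          have h1 := hcm a ha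
          rw [h'] at h1
          have h2 := ((show Commute z a from (Commute.refl a).zpow_left _).inv_left).mul_left h1
          rwa [inv_mul_cancel_left] at h2
      have hb1 := Invol.ne_one_of_orderOf_two hbo
      have h1 := (hz' z hzD hz1).trans (hz' b hbD hb1).symm
      exact hbA _ (mul_left_cancel (mul_right_cancel h1))
    have hA0T : A0.subgroupOf C = (T : Subgroup C) := Subgroup.eq_of_le_of_card_ge hT (by
      rw [Nat.card_congr (Subgroup.subgroupOfEquivOfLe inf_le_right).toEquiv]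
      exact hTle.trans hcard)
    -- the Frattini argument
    let φ : C ≃* C :=
      { toFun := fun c => ⟨g * c * g⁻¹, (inferInstance : (C.subgroupOf (Subgroup.normalizer (D : Set G))).Normal).conj_mem
          ⟨c, Subgroup.centralizer_le_normalizer _ c.2⟩ c.2 ⟨g, hg⟩⟩
        invFun := fun c => ⟨g⁻¹ * c * g, by
          have := (inferInstance : (C.subgroupOf (Subgroup.normalizer (D : Set G))).Normal).conj_mem
            ⟨c, Subgroup.centralizer_le_normalizer _ c.2⟩ c.2 ⟨g⁻¹, inv_mem hg⟩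
          simpa [Subgroup.mem_subgroupOf] using this⟩
        left_inv := fun c => Subtype.ext (show g⁻¹ * (g * c * g⁻¹) * g = c by group)
        right_inv := fun c => Subtype.ext (show g * (g⁻¹ * c * g) * g⁻¹ = c by group)
        map_mul' := fun c d => Subtype.ext (show g * (c * d : G) * g⁻¹ = g * c * g⁻¹ * (g * d * g⁻¹) by group) }
    let T' : Sylow 2 C := T.mapSurjective (f := φ.toMonoidHom) φ.surjective
    obtain ⟨c, hc⟩ := MulAction.exists_smul_eq C T' T
    set y := a ^ ((2 : ℤ) ^ (q + 1)) with hy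
    have hyA : y ∈ A0 := by
      rw [hy, show (2 : ℤ) ^ (q + 1) = 2 * 2 ^ q by ring]; exact hya _
    have hyy : y * y = z := by rw [hy, hz, ← zpow_add]; congr 1; ring
    have hyC : (⟨y, hyA.2⟩ : C) ∈ (T : Subgroup C) := by rw [← hA0T]; exact hyA
    have hm : (c : G) * (g * y * g⁻¹) * (c : G)⁻¹ ∈ A0 := by
      have h1 : φ ⟨y, hyA.2⟩ ∈ (T' : Subgroup C) := ⟨⟨y, hyA.2⟩, hyC, rfl⟩
      have h2 : c * φ ⟨y, hyA.2⟩ * c⁻¹ ∈ ((c • T' : Sylow 2 C) : Subgroup C) := ⟨_, h1, rfl⟩
      rw [hc, ← hA0T] at h2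
      exact h2
    set m := (c : G) * g with hmdef
    have hm' : m * y * m⁻¹ ∈ (S : Subgroup G) := by
      have : (c : G) * (g * y * g⁻¹) * (c : G)⁻¹ = m * y * m⁻¹ := by rw [hmdef]; group
      exact this ▸ hm.1
    have hy4 : y ^ 4 = 1 := by
      rw [show 4 = 2 + 2 by norm_num, pow_add, pow_two, hyy]; exact hex z hzD
    have h2 : m * y * m⁻¹ * (m * y * m⁻¹) = m * z * m⁻¹ := by rw [conj_mul, hyy]
    have h3 := hsqz _ hm' (by rw [conj_pow, hy4, mul_one, mul_inv_cancel])
      (by rw [h2]; exact fun h => hz1 (conj_eq_one_iff.mp h))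
    rw [h2] at h3
    have hgz := c.2 _ (hconj z hzD)
    calc g * z * g⁻¹ = (c : G) * (g * z * g⁻¹) * (c : G)⁻¹ := by
          rw [← hgz, mul_inv_cancel_right]
      _ = m * z * m⁻¹ := by rw [hmdef]; group
      _ = z := h3
  -- every subgroup of `S`
  have hkey : ∀ D : Subgroup G, D ≤ (S : Subgroup G) → ∀ g ∈ Subgroup.normalizer (D : Set G),
      Odd (orderOf g) → ∀ x ∈ D, g * x * g⁻¹ = x := by
    intro D hD g hg hodd
    have hconj : ∀ x ∈ D, g * x * g⁻¹ ∈ D := fun x hx => (Subgroup.mem_normalizer_iff.mp hg x).mp hx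
    suffices h : ∀ j, j ≤ q + 2 → ∀ x ∈ D, x ^ 2 ^ (j + 1) = 1 → g * x * g⁻¹ = x from
      fun x hx => h (q + 2) le_rfl x hx (hkill x (hD hx))
    intro j
    induction j with
    | zero =>
      intro _ x hx h
      have hxx : x * x = 1 := by simpa [pow_two] using h
      have hyy : g * x * g⁻¹ * (g * x * g⁻¹) = 1 := by rw [conj_mul, hxx, mul_one, mul_inv_cancel]
      by_cases hx1 : x = 1
      · rw [hx1, mul_one, mul_inv_cancel]
      by_cases hzD : z ∈ D
      · by_cases hxz : x = z
        · rw [hxz]; exact hfix D hD hzD g hg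
        have hgz := hfix D hD hzD g hg
        have hne : g * x * g⁻¹ ≠ z := fun h' => hxz (by
          rw [← hgz] at h'; exact mul_left_cancel (mul_right_cancel h'))
        have hz2 : z * z = 1 := by
          rw [hz, ← zpow_add, hone]; exact ⟨1, by ring⟩
        have hcases : g * x * g⁻¹ = x ∨ g * x * g⁻¹ = z * x := by
          rcases hinv x (hD hx) hxx with e | e | e | e
          · exact absurd e hx1
          · exact absurd e hxz
          all_goals
            rcases hinv _ (hD (hconj x hx)) hyy with e' | e' | e' | e'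
            · exact absurd (conj_eq_one_iff.mp e') hx1
            · exact absurd e' hne
            · first
              | exact Or.inl (e'.trans e.symm)
              | exact Or.inr (by rw [e', e, ← mul_assoc, hz2, one_mul])
            · first
              | exact Or.inl (e'.trans e.symm)
              | exact Or.inr (by rw [e', e])
        rcases hcases with h' | h'
        · exact h'
        · exact conj_eq_of_fixed_commutator hodd h' hgz (j := 1) (by rw [pow_one, pow_two, hz2])
      · have hsub : ∀ y ∈ D, y * y = 1 → y = 1 ∨ y = x := by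
          intro y hy hy2
          have hxor : x = b ∨ x = z * b := by
            rcases hinv x (hD hx) hxx with e | e | e | e
            exacts [absurd e hx1, absurd (e ▸ hx) hzD, Or.inl e, Or.inr e]
          rcases hinv y (hD hy) hy2 with e | e | e | e
          · exact Or.inl e
          · exact absurd (e ▸ hy) hzD
          · rcases hxor with e' | e'
            · exact Or.inr (e.trans e'.symm)
            · refine absurd ?_ hzD
              have h1 := mul_mem hx hy
              rwa [e, e', mul_assoc, hb2, mul_one] at h1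
          · rcases hxor with e' | e'
            · refine absurd ?_ hzD
              have h1 := mul_mem hy hx
              rwa [e, e', mul_assoc, hb2, mul_one] at h1
            · exact Or.inr (e.trans e'.symm)
        rcases hsub _ (hconj x hx) hyy with e | e
        · exact absurd (conj_eq_one_iff.mp e) hx1
        · exact e
    | succ j ih =>
      intro hj x hx h
      by_cases hlow : x ^ 2 ^ (j + 1) = 1
      · exact ih (by omega) x hx hlow
      have hy : (g * x * g⁻¹) ^ 2 ^ (j + 1 + 1) = 1 := by rw [conj_pow, h, mul_one, mul_inv_cancel]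
      have hylow : (g * x * g⁻¹) ^ 2 ^ (j + 1) ≠ 1 := fun h' => hlow (by
        rw [conj_pow] at h'; exact conj_eq_one_iff.mp h')
      obtain ⟨i, hi⟩ := hmem x (hD hx)
      obtain ⟨k, hk⟩ := hmem _ (hD (hconj x hx))
      rw [hlevel (j + 1) i x (by omega) hi] at h
      rw [hlevel (j + 1) k _ (by omega) hk] at hy
      rw [Ne, hlevel j k _ (by omega) hk] at hylow
      rw [hlevel j i x (by omega) hi] at hlow
      obtain ⟨P, hP⟩ : ∃ P : ℕ, q + 3 - (j + 1 + 1) = P := ⟨_, rfl⟩
      rw [hP] at h hy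
      rw [show q + 3 - (j + 1) = P + 1 by omega] at hlow hylow
      obtain ⟨i', rfl⟩ := h
      obtain ⟨k', rfl⟩ := hy
      have hi2 : i' % 2 = 1 := by
        by_contra h2
        exact hlow ⟨i' / 2, by rw [pow_succ, mul_assoc]; congr 1; omega⟩
      have hk2 : k' % 2 = 1 := by
        by_contra h2
        exact hylow ⟨k' / 2, by rw [pow_succ, mul_assoc]; congr 1; omega⟩
      set c := g * x * g⁻¹ * x⁻¹ with hcdef
      have hcD : c ∈ D := mul_mem (hconj x hx) (inv_mem hx)
      have hclow : c ^ 2 ^ (j + 1) = 1 := by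
        have hodd : ∀ w : ℤ, Odd w → (2 : ℤ) ^ (q + 3 - (j + 1)) ∣ 2 ^ P * k' - w * (2 ^ P * i') := by
          intro w hw
          rw [show q + 3 - (j + 1) = P + 1 by omega]
          have he : Even (k' - w * i') :=
            (Int.odd_iff.mpr hk2).sub_odd (hw.mul (Int.odd_iff.mpr hi2))
          obtain ⟨r, hr⟩ := he
          exact ⟨r, by linear_combination (2 : ℤ) ^ P * hr⟩
        have hu' : Odd u := ⟨2 ^ (q + 1), by rw [hu]; ring⟩
        rcases hi with hxe | hxe <;> rcases hk with hye | hye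
        · exact (hlevel j _ c (by omega) (Or.inl (by rw [hcdef, hye, hxe, ← zpow_neg, ← zpow_add, ← sub_eq_add_neg]))).mpr (by simpa using hodd 1 odd_one)
        · refine (hlevel j _ c (by omega) (Or.inr ?_)).mpr (hodd u hu')
          calc c = a ^ (2 ^ P * k') * (b * a ^ (-(2 ^ P * i'))) := by rw [hcdef, hye, hxe]; group
            _ = a ^ (2 ^ P * k' - u * (2 ^ P * i')) * b := by
              rw [hba, ← mul_assoc, ← zpow_add, mul_neg, ← sub_eq_add_neg]
        · refine (hlevel j _ c (by omega) (Or.inr ?_)).mpr (hodd u hu')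
          calc c = a ^ (2 ^ P * k') * (b * a ^ (-(2 ^ P * i'))) := by
                rw [hcdef, hye, hxe, mul_inv_rev, hbi]; group
            _ = a ^ (2 ^ P * k' - u * (2 ^ P * i')) * b := by
              rw [hba, ← mul_assoc, ← zpow_add, mul_neg, ← sub_eq_add_neg]
        · exact (hlevel j _ c (by omega) (Or.inl (by
            rw [hcdef, hye, hxe, mul_inv_rev, mul_assoc, mul_inv_cancel_left, ← zpow_neg, ← zpow_add,
              ← sub_eq_add_neg]))).mpr (by simpa using hodd 1 odd_one)
      exact conj_eq_of_fixed_commutator hodd (by rw [hcdef, inv_mul_cancel_right]) (ih (by omega) c hcD hclow) hclow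
  refine Transfer.hasNormalPComplement_of_frobenius fun D hD g hg hcop => ?_
  obtain ⟨P, hP⟩ := hD.exists_le_sylow
  obtain ⟨h, hh⟩ := MulAction.exists_smul_eq G P S
  set D' := D.map (MulAut.conj h).toMonoidHom with hD'
  have hD'S : D' ≤ (S : Subgroup G) := by
    rw [← hh]
    exact Subgroup.map_mono hP
  have hg' : h * g * h⁻¹ ∈ Subgroup.normalizer (D' : Set G) := by
    have := Subgroup.le_normalizer_map (H := D) (MulAut.conj h).toMonoidHom ⟨g, hg, rfl⟩
    exact this
  intro x hx
  have h1 := hkey D' hD'S _ hg' (by rw [Invol.orderOf_conj]; exact (Nat.coprime_two_right).mp hcop) (h * x * h⁻¹) ⟨x, hx, rfl⟩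
  have h2 : g * x * g⁻¹ = x := by
    calc g * x * g⁻¹ = h⁻¹ * (h * g * h⁻¹ * (h * x * h⁻¹) * (h * g * h⁻¹)⁻¹) * h := by group
      _ = h⁻¹ * (h * x * h⁻¹) * h := by rw [h1]
      _ = x := by group
  exact (mul_inv_eq_iff_eq_mul.mp h2).symm

end Cfsg.Agent.InvChar
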