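import Cfsg.Agent.Lib.InvChar.OctahedralModel
import Cfsg.Agent.Lib.InvChar.OneSubgroup
import Cfsg.Agent.Lib.Basics.Cores

/-!
Groups of order 48 with a self-centralizing normal quaternion subgroup of order eight.
-/

set_option autoImplicit false
set_option linter.style.haveILetI false
set_option linter.unusedSectionVars false

namespace Cfsg.Agent.InvChar.Oct

open Subgroup

theorem conj_three {G : Type*} [Group G] {r : G} (r3 : r ^ 3 = 1) (w : G) :
    r * (r * (r * w * r⁻¹) * r⁻¹) * r⁻¹ = w := by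
  rw [show r * (r * (r * w * r⁻¹) * r⁻¹) * r⁻¹ = (r * r * r) * w * (r * r * r)⁻¹ by group,
    ← pow_three', r3]
  simp

/-- A translation fixed by an element of order three has order dividing three. -/
theorem translate_cube {G : Type*} [Group G] {r w c : G} (r3 : r ^ 3 = 1)
    (hw : r * w * r⁻¹ = c * w) (hc : r * c * r⁻¹ = c) : c ^ 3 = 1 := by
  have h2 : r * (r * w * r⁻¹) * r⁻¹ = c * (c * w) := by
    rw [hw, show r * (c * w) * r⁻¹ = (r * c * r⁻¹) * (r * w * r⁻¹) by group, hc, hw]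
  have h3 : w = c * (c * (c * w)) := by
    calc w = r * (c * (c * w)) * r⁻¹ := by rw [← h2, conj_three r3]
      _ = (r * c * r⁻¹) * ((r * c * r⁻¹) * (r * w * r⁻¹)) := by group
      _ = c * (c * (c * w)) := by rw [hc, hw]
  rw [pow_three]
  have h4 := h3.symm
  rw [← mul_assoc, ← mul_assoc, mul_eq_right] at h4
  rwa [← mul_assoc]

/-- The elementary facts about the quaternion group of order eight. -/
theorem q8_facts {P : Type*} [Group P] (e : P ≃* QuaternionGroup 2) :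
    (∀ a : P, a ^ 4 = 1) ∧
    (∀ a b : P, a ^ 2 = 1 → b * a = a * b) ∧
    (∀ a : P, a ^ 2 ≠ 1 → ∃ b, b * a ≠ a * b) ∧
    (∀ a b : P, a ^ 2 = 1 → b ^ 2 = 1 → a ≠ 1 → b ≠ 1 → a = b) ∧
    (∀ a b : P, a ^ 2 ≠ 1 → b ^ 2 ≠ 1 → b * a = a * b → b = a ∨ b = a⁻¹) ∧
    (∀ a b : P, b * a ≠ a * b → b * a * b⁻¹ = a⁻¹ ∧ b ^ 2 = a ^ 2) ∧
    (∀ a b c : P, b * a ≠ a * b → c * a ≠ a * c → c * b ≠ b * c → c = a * b ∨ c = b * a) ∧
    (∀ a b : P, a ^ 2 ≠ 1 → b * a = a * b → ∃ k : Fin 4, b = a ^ (k : ℕ)) ∧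
    (∀ a b c : P, b * a ≠ a * b → c * a ≠ a * c → ∃ k : Fin 4, c = a ^ (k : ℕ) * b) := by
  have F1 : ∀ a : QuaternionGroup 2, a ^ 4 = 1 := by decide
  have F2 : ∀ a b : QuaternionGroup 2, a ^ 2 = 1 → b * a = a * b := by decide
  have F3 : ∀ a : QuaternionGroup 2, a ^ 2 ≠ 1 → ∃ b, b * a ≠ a * b := by decide
  have F4 : ∀ a b : QuaternionGroup 2, a ^ 2 = 1 → b ^ 2 = 1 → a ≠ 1 → b ≠ 1 → a = b := by decide
  have F5 : ∀ a b : QuaternionGroup 2, a ^ 2 ≠ 1 → b ^ 2 ≠ 1 → b * a = a * b → b = a ∨ b = a⁻¹ := by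
    decide
  have F6 : ∀ a b : QuaternionGroup 2, b * a ≠ a * b → b * a * b⁻¹ = a⁻¹ ∧ b ^ 2 = a ^ 2 := by decide
  have F7 : ∀ a b c : QuaternionGroup 2, b * a ≠ a * b → c * a ≠ a * c → c * b ≠ b * c →
      c = a * b ∨ c = b * a := by decide
  have F8 : ∀ a b : QuaternionGroup 2, a ^ 2 ≠ 1 → b * a = a * b →
      ∃ k : Fin 4, b = a ^ (k : ℕ) := by decide
  have F9 : ∀ a b c : QuaternionGroup 2, b * a ≠ a * b → c * a ≠ a * c →
      ∃ k : Fin 4, c = a ^ (k : ℕ) * b := by decide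
  refine ⟨fun a => e.injective ?_, fun a b => ?_, fun a => ?_, fun a b => ?_, fun a b => ?_,
    fun a b => ?_, fun a b c => ?_, fun a b => ?_, fun a b c => ?_⟩
  · simpa using F1 (e a)
  · simpa [← map_pow, ← map_mul, ← map_inv] using F2 (e a) (e b)
  · intro h
    obtain ⟨b, hb⟩ := F3 (e a) (by simpa [← map_pow, ← map_mul, ← map_inv] using h)
    refine ⟨e.symm b, fun he => hb ?_⟩
    simpa using congrArg e he
  · simpa [← map_pow, ← map_mul, ← map_inv] using F4 (e a) (e b)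
  · simpa [← map_pow, ← map_mul, ← map_inv] using F5 (e a) (e b)
  · simpa [← map_pow, ← map_mul, ← map_inv] using F6 (e a) (e b)
  · simpa [← map_pow, ← map_mul, ← map_inv] using F7 (e a) (e b) (e c)
  · simpa [← map_pow, ← map_mul, ← map_inv] using F8 (e a) (e b)
  · simpa [← map_pow, ← map_mul, ← map_inv] using F9 (e a) (e b) (e c)

variable {Q : Type*} [Group Q] [Finite Q]

/-- The standing hypotheses. -/
structure Hyp (P : Subgroup Q) : Prop where
  normal : P.Normal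
  maximal : ∀ N : Subgroup Q, N.Normal → IsPGroup 2 N → N ≤ P
  cent : Subgroup.centralizer (P : Set Q) ≤ P
  quat : Nonempty (↥P ≃* QuaternionGroup 2)
  card : Nat.card Q = 48

variable {P : Subgroup Q}

theorem Hyp.card_P (h : Hyp P) : Nat.card P = 8 := by
  obtain ⟨e⟩ := h.quat
  rw [Nat.card_congr e.toEquiv, Nat.card_eq_fintype_card, QuaternionGroup.card]

theorem Hyp.isPGroup (h : Hyp P) : IsPGroup 2 P := IsPGroup.of_card (n := 3) (by rw [h.card_P]; norm_num)

theorem Hyp.pow_four (h : Hyp P) {a : Q} (ha : a ∈ P) : a ^ 4 = 1 := by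
  obtain ⟨e⟩ := h.quat
  simpa using congrArg Subtype.val ((q8_facts e).1 ⟨a, ha⟩)

theorem Hyp.comm_of_sq (h : Hyp P) {a b : Q} (ha : a ∈ P) (hb : b ∈ P) (h2 : a ^ 2 = 1) :
    b * a = a * b := by
  obtain ⟨e⟩ := h.quat
  simpa using congrArg Subtype.val ((q8_facts e).2.1 ⟨a, ha⟩ ⟨b, hb⟩ (Subtype.ext (by simpa using h2)))

theorem Hyp.exists_ncomm (h : Hyp P) {a : Q} (ha : a ∈ P) (h2 : a ^ 2 ≠ 1) :
    ∃ b ∈ P, b * a ≠ a * b := by
  obtain ⟨e⟩ := h.quat
  obtain ⟨b, hb⟩ := (q8_facts e).2.2.1 ⟨a, ha⟩ (fun he => h2 (by simpa using congrArg Subtype.val he))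
  exact ⟨b, b.2, fun he => hb (Subtype.ext (by simpa using he))⟩

theorem Hyp.invol_unique (h : Hyp P) {a b : Q} (ha : a ∈ P) (hb : b ∈ P) (a2 : a ^ 2 = 1)
    (b2 : b ^ 2 = 1) (a1 : a ≠ 1) (b1 : b ≠ 1) : a = b := by
  obtain ⟨e⟩ := h.quat
  exact congrArg Subtype.val ((q8_facts e).2.2.2.1 ⟨a, ha⟩ ⟨b, hb⟩ (Subtype.ext (by simpa using a2))
    (Subtype.ext (by simpa using b2)) (fun he => a1 (by simpa using congrArg Subtype.val he))
    (fun he => b1 (by simpa using congrArg Subtype.val he)))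

theorem Hyp.eq_or_inv (h : Hyp P) {a b : Q} (ha : a ∈ P) (hb : b ∈ P) (a2 : a ^ 2 ≠ 1)
    (b2 : b ^ 2 ≠ 1) (hc : b * a = a * b) : b = a ∨ b = a⁻¹ := by
  obtain ⟨e⟩ := h.quat
  rcases (q8_facts e).2.2.2.2.1 ⟨a, ha⟩ ⟨b, hb⟩ (fun he => a2 (by simpa using congrArg Subtype.val he))
    (fun he => b2 (by simpa using congrArg Subtype.val he)) (Subtype.ext (by simpa using hc)) with h1 | h1
  · exact Or.inl (congrArg Subtype.val h1)
  · exact Or.inr (by simpa using congrArg Subtype.val h1)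

theorem Hyp.conj_inv (h : Hyp P) {a b : Q} (ha : a ∈ P) (hb : b ∈ P) (hc : b * a ≠ a * b) :
    b * a * b⁻¹ = a⁻¹ ∧ b ^ 2 = a ^ 2 := by
  obtain ⟨e⟩ := h.quat
  obtain ⟨h1, h2⟩ := (q8_facts e).2.2.2.2.2.1 ⟨a, ha⟩ ⟨b, hb⟩
    (fun he => hc (by simpa using congrArg Subtype.val he))
  exact ⟨by simpa using congrArg Subtype.val h1, by simpa using congrArg Subtype.val h2⟩

theorem Hyp.third (h : Hyp P) {a b c : Q} (ha : a ∈ P) (hb : b ∈ P) (hc : c ∈ P)
    (h1 : b * a ≠ a * b) (h2 : c * a ≠ a * c) (h3 : c * b ≠ b * c) : c = a * b ∨ c = b * a := by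
  obtain ⟨e⟩ := h.quat
  rcases (q8_facts e).2.2.2.2.2.2.1 ⟨a, ha⟩ ⟨b, hb⟩ ⟨c, hc⟩
    (fun he => h1 (by simpa using congrArg Subtype.val he))
    (fun he => h2 (by simpa using congrArg Subtype.val he))
    (fun he => h3 (by simpa using congrArg Subtype.val he)) with h4 | h4
  · exact Or.inl (by simpa using congrArg Subtype.val h4)
  · exact Or.inr (by simpa using congrArg Subtype.val h4)

theorem Hyp.eq_pow (h : Hyp P) {a b : Q} (ha : a ∈ P) (hb : b ∈ P) (a2 : a ^ 2 ≠ 1)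
    (hc : b * a = a * b) : ∃ k : ℕ, b = a ^ k := by
  obtain ⟨e⟩ := h.quat
  obtain ⟨k, hk⟩ := (q8_facts e).2.2.2.2.2.2.2.1 ⟨a, ha⟩ ⟨b, hb⟩
    (fun he => a2 (by simpa using congrArg Subtype.val he)) (Subtype.ext (by simpa using hc))
  exact ⟨k, by simpa using congrArg Subtype.val hk⟩

theorem Hyp.eq_pow_mul (h : Hyp P) {a b c : Q} (ha : a ∈ P) (hb : b ∈ P) (hc : c ∈ P)
    (h1 : b * a ≠ a * b) (h2 : c * a ≠ a * c) : ∃ k : ℕ, c = a ^ k * b := by
  obtain ⟨e⟩ := h.quat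
  obtain ⟨k, hk⟩ := (q8_facts e).2.2.2.2.2.2.2.2 ⟨a, ha⟩ ⟨b, hb⟩ ⟨c, hc⟩
    (fun he => h1 (by simpa using congrArg Subtype.val he))
    (fun he => h2 (by simpa using congrArg Subtype.val he))
  exact ⟨k, by simpa using congrArg Subtype.val hk⟩

theorem Hyp.exists_noncomm (h : Hyp P) : ∃ a ∈ P, ∃ b ∈ P, b * a ≠ a * b := by
  obtain ⟨e⟩ := h.quat
  have h1 : ∃ a b : QuaternionGroup 2, b * a ≠ a * b := by decide
  obtain ⟨a, b, hab⟩ := h1
  refine ⟨e.symm a, (e.symm a).2, e.symm b, (e.symm b).2, fun he => hab ?_⟩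
  exact e.symm.injective (by rw [map_mul, map_mul]; exact Subtype.ext (by simpa using he))

theorem Hyp.exists_invol (h : Hyp P) : ∃ z ∈ P, z ^ 2 = 1 ∧ z ≠ 1 := by
  haveI : Fact (Nat.Prime 2) := ⟨Nat.prime_two⟩
  obtain ⟨z, hz⟩ := exists_prime_orderOf_dvd_card' (G := P) 2 (by rw [h.card_P]; norm_num)
  refine ⟨z, z.2, ?_, ?_⟩
  · rw [← Subgroup.coe_pow, ← hz, pow_orderOf_eq_one, Subgroup.coe_one]
  · intro he
    rw [show z = 1 from Subtype.ext he, orderOf_one] at hz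
    omega

/-- Involutions of `P` are central in the whole group. -/
theorem Hyp.central (h : Hyp P) {c : Q} (hc : c ∈ P) (c2 : c ^ 2 = 1) (g : Q) : g * c = c * g := by
  rcases eq_or_ne c 1 with rfl | c1
  · simp
  have h1 : g * c * g⁻¹ ∈ P := h.normal.conj_mem c hc g
  have h2 : (g * c * g⁻¹) ^ 2 = 1 := by rw [conj_pow, c2, mul_one, mul_inv_cancel]
  have h3 : g * c * g⁻¹ ≠ 1 := fun he => c1 (conj_eq_one_iff.mp he)
  have h4 := h.invol_unique h1 hc h2 c2 h3 c1
  exact mul_inv_eq_iff_eq_mul.mp h4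

theorem Hyp.not_mem_of_three (h : Hyp P) {r : Q} (r3 : r ^ 3 = 1) (r1 : r ≠ 1) : r ∉ P := by
  intro hr
  apply r1
  calc r = r ^ 4 * (r ^ 3)⁻¹ := by group
    _ = 1 := by rw [h.pow_four hr, r3]; simp

/-- An element of order three moves the axis of every element of order four. -/
theorem Hyp.fpf (h : Hyp P) {r : Q} (r3 : r ^ 3 = 1) (r1 : r ≠ 1) {u : Q} (hu : u ∈ P)
    (u2 : u ^ 2 ≠ 1) : (r * u * r⁻¹) * u ≠ u * (r * u * r⁻¹) := by
  intro hc
  have hu' : r * u * r⁻¹ ∈ P := h.normal.conj_mem u hu r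
  have hu2' : (r * u * r⁻¹) ^ 2 ≠ 1 := by
    rw [conj_pow]
    exact fun he => u2 (conj_eq_one_iff.mp he)
  have hfix : r * u * r⁻¹ = u := by
    rcases h.eq_or_inv hu hu' u2 hu2' hc with he | he
    · exact he
    exfalso
    apply u2
    have h3 : r * (r * (r * u * r⁻¹) * r⁻¹) * r⁻¹ = u⁻¹ := by
      rw [he, show r * u⁻¹ * r⁻¹ = (r * u * r⁻¹)⁻¹ by group, he, inv_inv, he]
    have h4 := conj_three r3 u
    rw [pow_two]
    nth_rewrite 1 [← h4]
    rw [h3, inv_mul_cancel]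
  apply h.not_mem_of_three r3 r1
  apply h.cent
  rw [Subgroup.mem_centralizer_iff]
  intro w hw
  have hfx : r * w * r⁻¹ = w := by
    by_cases hwu : w * u = u * w
    · obtain ⟨k, rfl⟩ := h.eq_pow hu hw u2 hwu
      rw [← conj_pow, hfix]
    · have hw' : r * w * r⁻¹ ∈ P := h.normal.conj_mem w hw r
      have hn : (r * w * r⁻¹) * u ≠ u * (r * w * r⁻¹) := by
        intro he
        apply hwu
        rw [← hfix] at he
        rw [show w * u = r⁻¹ * ((r * w * r⁻¹) * (r * u * r⁻¹)) * r by group, he]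
        group
      obtain ⟨k, hk⟩ := h.eq_pow_mul hu hw hw' hwu hn
      have hfk : r * u ^ k * r⁻¹ = u ^ k := by rw [← conj_pow, hfix]
      have h4 : (u ^ k) ^ 3 = 1 := translate_cube r3 hk hfk
      have h5 : u ^ k = 1 := by
        calc u ^ k = (u ^ k) ^ 4 * ((u ^ k) ^ 3)⁻¹ := by group
          _ = 1 := by rw [h4, h.pow_four (pow_mem hu k)]; simp
      rw [hk, h5, one_mul]
  exact (mul_inv_eq_iff_eq_mul.mp hfx).symm

theorem Hyp.not_comm (h : Hyp P) {r : Q} (r3 : r ^ 3 = 1) (r1 : r ≠ 1) {u : Q} (hu : u ∈ P)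
    (hc : r * u = u * r) : u ^ 2 = 1 := by
  by_contra u2
  apply h.fpf r3 r1 hu u2
  rw [hc, mul_inv_cancel_right]

theorem Hyp.center_le (h : Hyp P) {c : Q} (hc : c ∈ Subgroup.center Q) : c ∈ P ∧ c ^ 2 = 1 := by
  have hcP : c ∈ P := h.cent (Subgroup.mem_centralizer_iff.mpr fun w _ =>
    Subgroup.mem_center_iff.mp hc w)
  refine ⟨hcP, ?_⟩
  by_contra c2
  obtain ⟨b, -, hb⟩ := h.exists_ncomm hcP c2
  exact hb (Subgroup.mem_center_iff.mp hc b)

theorem Hyp.card_center (h : Hyp P) : Nat.card (Subgroup.center Q) = 2 := by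
  haveI : Fact (Nat.Prime 2) := ⟨Nat.prime_two⟩
  obtain ⟨z, hz, z2, z1⟩ := h.exists_invol
  have he : Subgroup.center Q = Subgroup.zpowers z := by
    refine le_antisymm (fun c hc => ?_)
      (Subgroup.zpowers_le.mpr (Subgroup.mem_center_iff.mpr (h.central hz z2)))
    rcases eq_or_ne c 1 with rfl | c1
    · exact one_mem _
    rw [h.invol_unique (h.center_le hc).1 hz (h.center_le hc).2 z2 c1 z1]
    exact Subgroup.mem_zpowers z
  rw [he, Nat.card_zpowers, orderOf_eq_prime z2 z1]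

theorem Hyp.card_sylow_three (h : Hyp P) : Nat.card (Sylow 3 Q) = 4 := by
  haveI : Fact (Nat.Prime 3) := ⟨Nat.prime_three⟩
  obtain ⟨r, hr⟩ := exists_prime_orderOf_dvd_card' (G := Q) 3 (by rw [h.card]; norm_num)
  have r3 : r ^ 3 = 1 := hr ▸ pow_orderOf_eq_one r
  have r1 : r ≠ 1 := by rintro rfl; rw [orderOf_one] at hr; omega
  set R : Sylow 3 Q := default
  have hRc : Nat.card R = 3 := by
    rw [R.card_eq_multiplicity, h.card, show (48 : ℕ) = 3 ^ 1 * 16 by norm_num,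
      Nat.factorization_mul (by norm_num) (by norm_num), Finsupp.add_apply,
      Nat.Prime.factorization_pow Nat.prime_three, Finsupp.single_eq_same,
      Nat.factorization_eq_zero_of_not_dvd (by norm_num : ¬ 3 ∣ 16)]
    norm_num
  have hidx : (R : Subgroup Q).index = 16 := by
    have h1 := (R : Subgroup Q).card_mul_index
    rw [h.card] at h1
    rw [show Nat.card (R : Subgroup Q) = 3 from hRc] at h1
    omega
  have hdvd : Nat.card (Sylow 3 Q) ∣ 16 := hidx ▸ R.card_dvd_index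
  have hmod : Nat.card (Sylow 3 Q) % 3 = 1 := card_sylow_modEq_one 3 Q
  have hne1 : Nat.card (Sylow 3 Q) ≠ 1 := by
    intro h1
    have hn : (R : Subgroup Q).Normal := by
      have hidx1 := R.card_eq_index_normalizer
      rw [h1] at hidx1
      exact Subgroup.normalizer_eq_top_iff.mp (Subgroup.index_eq_one.mp hidx1.symm)
    haveI := h.normal
    haveI := hn
    have hd : Disjoint (R : Subgroup Q) P :=
      disjoint_iff.mpr (Subgroup.inf_eq_bot_of_coprime (by
        rw [show Nat.card (R : Subgroup Q) = 3 from hRc, h.card_P]; norm_num))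
    obtain ⟨a, ha, b, hb, hab⟩ := h.exists_noncomm
    obtain ⟨s, hs, s1⟩ : ∃ s ∈ (R : Subgroup Q), s ≠ 1 := by
      refine (R : Subgroup Q).ne_bot_iff_exists_ne_one.mp ?_ |>.elim fun s hs => ⟨s, s.2, fun he => hs (Subtype.ext he)⟩
      intro hb'
      rw [show Nat.card R = Nat.card (R : Subgroup Q) from rfl, hb', Subgroup.card_bot] at hRc
      omega
    have s3 : s ^ 3 = 1 := by
      have : orderOf s ∣ 3 := hRc ▸ Subgroup.orderOf_dvd_natCard _ hs
      exact orderOf_dvd_iff_pow_eq_one.mp this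
    apply hab
    have a2 : a ^ 2 = 1 := h.not_comm s3 s1 ha
      (Subgroup.commute_of_normal_of_disjoint _ _ hn h.normal hd s a hs ha).eq
    exact h.comm_of_sq ha hb a2
  have hne16 : Nat.card (Sylow 3 Q) ≠ 16 := by
    intro h16
    have hidx1 := R.card_eq_index_normalizer
    have h2 := (Subgroup.normalizer ((R : Subgroup Q) : Set Q)).card_mul_index
    have h3 : Nat.card (Subgroup.center Q) ∣ Nat.card (Subgroup.normalizer ((R : Subgroup Q) : Set Q)) :=
      Subgroup.card_dvd_of_le (Subgroup.center_le_normalizer _)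
    rw [h.card_center] at h3
    have h4 : (Subgroup.normalizer ((R : Subgroup Q) : Set Q)).index = 16 := hidx1.symm.trans h16
    rw [h4, h.card] at h2
    omega
  have hlt : Nat.card (Sylow 3 Q) ≤ 16 := Nat.le_of_dvd (by norm_num) hdvd
  interval_cases hn : Nat.card (Sylow 3 Q) <;> omega

/-- The central quotient is the symmetric group of degree four. -/
theorem Hyp.quotient_iso (h : Hyp P) :
    Nonempty (Q ⧸ Subgroup.center Q ≃* Equiv.Perm (Fin 4)) := by
  haveI : Fact (Nat.Prime 3) := ⟨Nat.prime_three⟩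
  haveI : Fact (Nat.Prime 2) := ⟨Nat.prime_two⟩
  set φ := MulAction.toPermHom Q (Sylow 3 Q) with hφ
  have hfix : ∀ {k : Q}, k ∈ φ.ker → ∀ R : Sylow 3 Q, k ∈ Subgroup.normalizer ((R : Subgroup Q) : Set Q) := by
    intro k hk R
    exact Sylow.smul_eq_iff_mem_normalizer.mp (Equiv.congr_fun (MonoidHom.mem_ker.mp hk) R)
  obtain ⟨r, hr⟩ := exists_prime_orderOf_dvd_card' (G := Q) 3 (by rw [h.card]; norm_num)
  have r3 : r ^ 3 = 1 := hr ▸ pow_orderOf_eq_one r
  have r1 : r ≠ 1 := by rintro rfl; rw [orderOf_one] at hr; omega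
  have hKP : ∀ g ∈ φ.ker, g ∈ P → g ^ 2 = 1 := by
    intro g hg hgP
    obtain ⟨R, hR⟩ := (IsPGroup.of_card (p := 3) (n := 1)
      (by rw [Nat.card_zpowers, hr, pow_one] : Nat.card (Subgroup.zpowers r) = 3 ^ 1)).exists_le_sylow
    have hrR : r ∈ (R : Subgroup Q) := hR (Subgroup.mem_zpowers r)
    have h1 : r * g * r⁻¹ * g⁻¹ ∈ (R : Subgroup Q) ⊓ P := by
      refine Subgroup.mem_inf.mpr ⟨?_, mul_mem (h.normal.conj_mem g hgP r) (inv_mem hgP)⟩
      rw [show r * g * r⁻¹ * g⁻¹ = r * (g * r⁻¹ * g⁻¹) by group]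
      exact Subgroup.mul_mem _ hrR
        ((Subgroup.mem_normalizer_iff.mp (hfix hg R) r⁻¹).mp (Subgroup.inv_mem _ hrR))
    rw [Subgroup.inf_eq_bot_of_coprime (IsPGroup.coprime_card_of_ne 3 2 (by norm_num) _ _ R.2 h.isPGroup),
      Subgroup.mem_bot] at h1
    exact h.not_comm r3 r1 hgP (mul_inv_eq_iff_eq_mul.mp (mul_inv_eq_one.mp h1))
  have hker : φ.ker = Subgroup.center Q := by
    refine le_antisymm ?_ fun c hc => ?_
    · have hno : ¬ 3 ∣ Nat.card φ.ker := by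
        intro hd
        obtain ⟨y, hy⟩ := exists_prime_orderOf_dvd_card' (G := φ.ker) 3 hd
        rw [← Subgroup.orderOf_coe] at hy
        have y3 : (y : Q) ^ 3 = 1 := orderOf_dvd_iff_pow_eq_one.mp (dvd_of_eq hy)
        have y1 : (y : Q) ≠ 1 := fun he => by rw [he, orderOf_one] at hy; omega
        apply h.not_mem_of_three y3 y1
        apply h.cent
        rw [Subgroup.mem_centralizer_iff]
        intro g hg
        set c := (y : Q) * g * (y : Q)⁻¹ * g⁻¹ with hc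
        have hcP : c ∈ P := mul_mem (h.normal.conj_mem g hg y) (inv_mem hg)
        have hcK : c ∈ φ.ker := by
          rw [hc, show (y : Q) * g * (y : Q)⁻¹ * g⁻¹ = (y : Q) * (g * (y : Q)⁻¹ * g⁻¹) by group]
          exact mul_mem y.2 ((MonoidHom.normal_ker φ).conj_mem _ (inv_mem y.2) g)
        have c2 := hKP c hcK hcP
        have hcy : (y : Q) * c * (y : Q)⁻¹ = c := by rw [h.central hcP c2, mul_inv_cancel_right]
        have h1 : (y : Q) * g * (y : Q)⁻¹ = c * g := by rw [hc]; group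
        have c3 : c ^ 3 = 1 := translate_cube y3 h1 hcy
        have c1 : c = 1 := by
          calc c = c ^ 3 * (c ^ 2)⁻¹ := by group
            _ = 1 := by rw [c3, c2]; simp
        exact (mul_inv_eq_iff_eq_mul.mp (mul_inv_eq_one.mp (hc ▸ c1))).symm
      have hK2 : IsPGroup 2 φ.ker := by
        have hd : Nat.card φ.ker ∣ 16 * 3 := by
          have := Subgroup.card_subgroup_dvd_card φ.ker
          rwa [h.card] at this
        have h16 : Nat.card φ.ker ∣ 2 ^ 4 :=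
          (Nat.Coprime.dvd_of_dvd_mul_right
            ((Nat.prime_three.coprime_iff_not_dvd.mpr hno).symm) hd)
        obtain ⟨n, -, hn⟩ := (Nat.dvd_prime_pow Nat.prime_two).mp h16
        exact IsPGroup.of_card hn
      intro g hg
      have hgP : g ∈ P := h.maximal φ.ker inferInstance hK2 hg
      exact Subgroup.mem_center_iff.mpr (h.central hgP (hKP g hg hgP))
    · rw [MonoidHom.mem_ker]
      ext R : 1
      exact Sylow.smul_eq_iff_mem_normalizer.mpr (Subgroup.center_le_normalizer _ hc)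
  have hsurj : Function.Surjective φ := by
    rw [← MonoidHom.range_eq_top]
    apply Subgroup.eq_top_of_card_eq
    have h1 : φ.ker.index = Nat.card φ.range := Subgroup.index_ker φ
    have h2 := φ.ker.card_mul_index
    rw [hker, h.card_center, h.card] at h2
    rw [hker] at h1
    rw [← h1, Nat.card_perm, h.card_sylow_three, show Nat.factorial 4 = 24 from rfl]
    omega
  exact ⟨(QuotientGroup.quotientMulEquivOfEq hker.symm).trans
    ((QuotientGroup.quotientKerEquivOfSurjective φ hsurj).trans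
      (Finite.equivFinOfCardEq h.card_sylow_three).permCongrHom)⟩

/-- With an involution outside `P` the group is `GL(2,3)`. -/
theorem Hyp.iso_GL (h : Hyp P) {x : Q} (x2 : x ^ 2 = 1) (hxP : x ∉ P) :
    Nonempty (Q ≃* GL (Fin 2) (ZMod 3)) := by
  haveI : Fact (Nat.Prime 3) := ⟨Nat.prime_three⟩
  haveI : Fact (Nat.Prime 2) := ⟨Nat.prime_two⟩
  haveI := h.normal
  have xi : x⁻¹ = x := inv_eq_of_mul_eq_one_right (by rw [← pow_two, x2])
  obtain ⟨r₀, hr₀⟩ := exists_prime_orderOf_dvd_card' (G := Q) 3 (by rw [h.card]; norm_num)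
  have r₀3 : r₀ ^ 3 = 1 := hr₀ ▸ pow_orderOf_eq_one r₀
  have r₀1 : r₀ ≠ 1 := by rintro rfl; rw [orderOf_one] at hr₀; omega
  set M := P ⊔ Subgroup.zpowers r₀ with hM
  have hPn : ∀ g : Q, g ∈ Subgroup.normalizer (P : Set Q) := fun g => by
    rw [Subgroup.normalizer_eq_top]; exact Subgroup.mem_top g
  have hMc : Nat.card M = 24 := by
    rw [hM, (Basics.card_sup_zpowers (p := 3) (hPn r₀) (by rw [r₀3]; exact one_mem _)).2
      (h.not_mem_of_three r₀3 r₀1), h.card_P]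
  have hMi : M.index = 2 := by
    have := M.card_mul_index
    rw [hMc, h.card] at this
    omega
  obtain ⟨g, hg⟩ : ∃ g : Q, x * g * x⁻¹ * g⁻¹ ∉ P := by
    by_contra hno
    push Not at hno
    apply hxP
    have hN : (P ⊔ Subgroup.zpowers x).Normal := by
      rw [← Subgroup.normalizer_eq_top_iff, eq_top_iff]
      intro g _
      apply mem_normalizer_of_map_le
      rw [Subgroup.map_sup, MonoidHom.map_zpowers, sup_le_iff, Subgroup.zpowers_le]
      refine ⟨Subgroup.map_le_iff_le_comap.mpr fun a ha =>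
        le_sup_left (b := Subgroup.zpowers x) (h.normal.conj_mem a ha g), ?_⟩
      show g * x * g⁻¹ ∈ P ⊔ Subgroup.zpowers x
      rw [show g * x * g⁻¹ = (x * g * x⁻¹ * g⁻¹)⁻¹ * x by group]
      exact mul_mem (le_sup_left (b := Subgroup.zpowers x) (inv_mem (hno g)))
        (le_sup_right (a := P) (Subgroup.mem_zpowers x))
    have hp : IsPGroup 2 ↥(P ⊔ Subgroup.zpowers x : Subgroup Q) := by
      refine IsPGroup.of_card (n := 4) ?_
      rw [(Basics.card_sup_zpowers (p := 2) (hPn x) (by rw [x2]; exact one_mem _)).2 hxP, h.card_P]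
      norm_num
    exact h.maximal _ hN hp (le_sup_right (a := P) (Subgroup.mem_zpowers x))
  set c := x * g * x⁻¹ * g⁻¹ with hc
  have hcM : c ∈ M := by
    have hiff : ∀ a b : Q, a * b ∈ M ↔ (a ∈ M ↔ b ∈ M) := fun a b =>
      Subgroup.mul_mem_iff_of_index_two hMi
    have hii : ∀ a : Q, a⁻¹ ∈ M ↔ a ∈ M := fun a => inv_mem_iff
    rw [hc, hiff, hiff, hiff, hii, hii]
    tauto
  have hxc : x * c * x⁻¹ = c⁻¹ := by
    rw [hc, mul_inv_rev, mul_inv_rev, mul_inv_rev, inv_inv, inv_inv]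
    simp only [xi]
    rw [show x * (x * g * x * g⁻¹) * x = (x * x) * (g * x * g⁻¹ * x) by group, ← pow_two, x2]
    group
  have h3 : 3 ∣ orderOf c := by
    by_contra h3
    apply hg
    have hd : orderOf c ∣ 48 := h.card ▸ orderOf_dvd_natCard c
    have hd16 : orderOf c ∣ 2 ^ 4 := Nat.Coprime.dvd_of_dvd_mul_right
      ((Nat.prime_three.coprime_iff_not_dvd.mpr h3).symm) (show orderOf c ∣ 2 ^ 4 * 3 from hd)
    obtain ⟨n, -, hn⟩ := (Nat.dvd_prime_pow Nat.prime_two).mp hd16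
    have hp : IsPGroup 2 (Subgroup.zpowers c) := IsPGroup.of_card (by rw [Nat.card_zpowers]; exact hn)
    have hp' : IsPGroup 2 ↥(P ⊔ Subgroup.zpowers c : Subgroup Q) :=
      h.isPGroup.to_sup_of_normal_left hp
    obtain ⟨m, hm⟩ := IsPGroup.iff_card.mp hp'
    have hdvd : Nat.card ↥(P ⊔ Subgroup.zpowers c : Subgroup Q) ∣ 24 :=
      hMc ▸ Subgroup.card_dvd_of_le (sup_le le_sup_left (Subgroup.zpowers_le.mpr hcM))
    rw [hm] at hdvd
    have h8 : 2 ^ m ∣ 2 ^ 3 := Nat.Coprime.dvd_of_dvd_mul_right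
      (Nat.Coprime.pow_left m (by norm_num : Nat.Coprime 2 3)) (show 2 ^ m ∣ 2 ^ 3 * 3 from hdvd)
    have heq : P = P ⊔ Subgroup.zpowers c := Subgroup.eq_of_le_of_card_ge le_sup_left (by
      rw [hm, h.card_P]; exact Nat.le_of_dvd (by norm_num) h8)
    rw [heq]
    exact le_sup_right (a := P) (Subgroup.mem_zpowers c)
  set r := c ^ (orderOf c / 3) with hr
  have hro : orderOf r = 3 := orderOf_pow_orderOf_div (orderOf_pos c).ne' h3
  have r3 : r ^ 3 = 1 := hro ▸ pow_orderOf_eq_one r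
  have r1 : r ≠ 1 := by intro he; rw [he, orderOf_one] at hro; omega
  have hxr : x * r * x⁻¹ = r⁻¹ := by rw [hr, ← conj_pow, hxc, inv_pow]
  obtain ⟨u, hu, hxu, u2⟩ : ∃ u ∈ P, x * u * x⁻¹ = u⁻¹ ∧ u ^ 2 ≠ 1 := by
    have hmem : ∀ g ∈ P, g * (x * g * x⁻¹)⁻¹ ∈ P := fun g hg =>
      mul_mem hg (inv_mem (h.normal.conj_mem g hg x))
    by_contra hno
    push Not at hno
    have hsq : ∀ g ∈ P, (g * (x * g * x⁻¹)⁻¹) ^ 2 = 1 := by
      intro g hg
      refine hno _ (hmem g hg) ?_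
      simp only [mul_inv_rev, inv_inv, xi]
      rw [show x * (g * (x * (g⁻¹ * x))) * x = (x * g * x * g⁻¹) * (x * x) by group, ← pow_two, x2]
      group
    obtain ⟨a, ha, b, hb, hab⟩ := h.exists_noncomm
    have a2 : a ^ 2 ≠ 1 := fun he => hab (h.comm_of_sq ha hb he)
    have ha' : r * a * r⁻¹ ∈ P := h.normal.conj_mem a ha r
    set d := a * (x * a * x⁻¹)⁻¹ with hd
    set d' := (r * a * r⁻¹) * (x * (r * a * r⁻¹) * x⁻¹)⁻¹ with hd'
    have hdc : ∀ q, q * d = d * q := fun q => h.central (hmem a ha) (hsq a ha) q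
    have hdc' : ∀ q, q * d' = d' * q := fun q => h.central (hmem _ ha') (hsq _ ha') q
    have e1 : x * a * x⁻¹ = d⁻¹ * a := by rw [hd]; group
    have e2 : x * (r * a * r⁻¹) * x⁻¹ = d'⁻¹ * (r * a * r⁻¹) := by rw [hd']; group
    have e3 : x * (r * a * r⁻¹) * x⁻¹ = d⁻¹ * (r⁻¹ * a * r) := by
      rw [show x * (r * a * r⁻¹) * x⁻¹ = (x * r * x⁻¹) * (x * a * x⁻¹) * (x * r * x⁻¹)⁻¹ by group,
        hxr, e1, inv_inv, ← mul_assoc, (Commute.inv_right (hdc r⁻¹)).eq]
      group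
    set c0 := d * d'⁻¹ with hc0
    have c0c : ∀ q, q * c0 = c0 * q := fun q =>
      (Commute.mul_right (hdc q : Commute q d) (Commute.inv_right (hdc' q : Commute q d'))).eq
    have c02 : c0 ^ 2 = 1 := by
      rw [hc0, (Commute.inv_right (hdc' d) : Commute d d'⁻¹).mul_pow, inv_pow, hsq a ha,
        hsq _ ha', inv_one, mul_one]
    have e4 : r⁻¹ * a * r = c0 * (r * a * r⁻¹) := by
      calc r⁻¹ * a * r = d * (d⁻¹ * (r⁻¹ * a * r)) := (mul_inv_cancel_left _ _).symm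
        _ = d * (d'⁻¹ * (r * a * r⁻¹)) := congrArg (d * ·) (e3.symm.trans e2)
        _ = c0 * (r * a * r⁻¹) := (mul_assoc _ _ _).symm
    have e5 : r⁻¹ * (r⁻¹ * a * r) * r = r * a * r⁻¹ := by
      rw [show r⁻¹ * (r⁻¹ * a * r) * r = (r * r * r)⁻¹ * (r * a * r⁻¹) * (r * r * r) by group,
        ← pow_three', r3]
      simp
    have e6 : r⁻¹ * (r * a * r⁻¹) * r = a := by group
    have h7 : r * a * r⁻¹ = c0 * a := by
      calc r * a * r⁻¹ = r⁻¹ * (c0 * (r * a * r⁻¹)) * r := by rw [← e4, e5]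
        _ = c0 * (r⁻¹ * (r * a * r⁻¹) * r) := by rw [← mul_assoc r⁻¹ c0, c0c]; group
        _ = c0 * a := by rw [e6]
    apply h.fpf r3 r1 ha a2
    rw [h7]
    exact (Commute.mul_left (Commute.symm (c0c a : Commute a c0)) (Commute.refl a)).eq
  have main : ∀ i ∈ P, i ^ 2 ≠ 1 → x * i * x⁻¹ = i⁻¹ →
      r * (r * i * r⁻¹) * r⁻¹ = i * (r * i * r⁻¹) → Nonempty (Q ≃* GL (Fin 2) (ZMod 3)) := by
    intro i hi i2 hxi hk
    have hji := h.conj_inv hi (h.normal.conj_mem i hi r) (h.fpf r3 r1 hi i2)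
    exact Oct.iso_GL (⟨h.pow_four hi, i2, r3, x2, hxi, hxr, hji.1, hji.2, hk⟩ : Rel i r x) h.card
  have hju := h.fpf r3 r1 hu u2
  set j := r * u * r⁻¹ with hj
  set k := r * j * r⁻¹ with hk
  have hjP : j ∈ P := h.normal.conj_mem u hu r
  have hkP : k ∈ P := h.normal.conj_mem j hjP r
  have hkj : k * j ≠ j * k := by
    intro he
    apply hju
    rw [show j * u = r⁻¹ * (k * j) * r by rw [hk, hj]; group, he, hk, hj]
    group
  have hku : k * u ≠ u * k := by
    intro he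
    apply hkj
    have hrk : r * k * r⁻¹ = u := by
      rw [hk, hj, conj_three r3]
    rw [show k * j = r * ((r⁻¹ * k * r) * (r⁻¹ * j * r)) * r⁻¹ by group,
      show r⁻¹ * k * r = j by rw [hk]; group, show r⁻¹ * j * r = u by rw [hj]; group]
    rw [show j * k = r * ((r⁻¹ * j * r) * (r⁻¹ * k * r)) * r⁻¹ by group,
      show r⁻¹ * k * r = j by rw [hk]; group, show r⁻¹ * j * r = u by rw [hj]; group]
    have h1 : j * u = u * j := by
      have := congrArg (fun t => r * t * r⁻¹) he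
      rw [show r * (k * u) * r⁻¹ = (r * k * r⁻¹) * j by rw [hj]; group,
        show r * (u * k) * r⁻¹ = j * (r * k * r⁻¹) by rw [hj]; group, hrk] at this
      exact this.symm
    rw [h1]
  rcases h.third hu hjP hkP hju hku hkj with hcase | hcase
  · exact main u hu u2 hxu hcase
  · refine main u⁻¹ (inv_mem hu) (by rw [inv_pow, ne_eq, inv_eq_one]; exact u2) ?_ ?_
    · rw [show x * u⁻¹ * x⁻¹ = (x * u * x⁻¹)⁻¹ by group, hxu]
    · rw [show r * u⁻¹ * r⁻¹ = j⁻¹ by rw [hj]; group,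
        show r * j⁻¹ * r⁻¹ = k⁻¹ by rw [hk]; group, hcase, mul_inv_rev]

/-- Without an involution outside `P` the Sylow 2-subgroups are generalized quaternion. -/
theorem Hyp.sylow_quaternion (h : Hyp P) (hx : ∀ x : Q, x ^ 2 = 1 → x ∈ P) (S : Sylow 2 Q) :
    Nonempty (↥(S : Subgroup Q) ≃* QuaternionGroup 4) := by
  haveI : Fact (Nat.Prime 2) := ⟨Nat.prime_two⟩
  haveI := h.normal
  have hPS : P ≤ (S : Subgroup Q) := h.isPGroup.le_sylow_of_normal S
  have huniq : ∀ A B : Subgroup ↥(S : Subgroup Q), Nat.card A = 2 → Nat.card B = 2 → A = B := by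
    intro A B hA hB
    obtain ⟨a, ha⟩ := exists_prime_orderOf_dvd_card' (G := A) 2 (by rw [hA])
    obtain ⟨b, hb⟩ := exists_prime_orderOf_dvd_card' (G := B) 2 (by rw [hB])
    rw [← Subgroup.orderOf_coe] at ha hb
    have eA : A = Subgroup.zpowers (a : ↥(S : Subgroup Q)) :=
      (Subgroup.eq_of_le_of_card_ge (Subgroup.zpowers_le.mpr a.2) (by rw [Nat.card_zpowers, ha, hA])).symm
    have eB : B = Subgroup.zpowers (b : ↥(S : Subgroup Q)) :=
      (Subgroup.eq_of_le_of_card_ge (Subgroup.zpowers_le.mpr b.2) (by rw [Nat.card_zpowers, hb, hB])).symm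
    rw [← Subgroup.orderOf_coe] at ha hb
    have a2 : ((a : ↥(S : Subgroup Q)) : Q) ^ 2 = 1 := orderOf_dvd_iff_pow_eq_one.mp (dvd_of_eq ha)
    have b2 : ((b : ↥(S : Subgroup Q)) : Q) ^ 2 = 1 := orderOf_dvd_iff_pow_eq_one.mp (dvd_of_eq hb)
    have a1 : ((a : ↥(S : Subgroup Q)) : Q) ≠ 1 := fun he => by rw [he, orderOf_one] at ha; omega
    have b1 : ((b : ↥(S : Subgroup Q)) : Q) ≠ 1 := fun he => by rw [he, orderOf_one] at hb; omega
    rw [eA, eB, Subtype.ext (h.invol_unique (hx _ a2) (hx _ b2) a2 b2 a1 b1)]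
  rcases cyclic_or_quaternion S.2 huniq with hcy | ⟨-, n, ⟨e⟩⟩
  · exfalso
    obtain ⟨a, ha, b, hb, hab⟩ := h.exists_noncomm
    exact hab (congrArg Subtype.val
      (mul_comm' (⟨b, hPS hb⟩ : ↥(S : Subgroup Q)) ⟨a, hPS ha⟩))
  · have hS : Nat.card (S : Subgroup Q) = 16 := by
      show Nat.card S = 16
      rw [S.card_eq_multiplicity, h.card, show (48 : ℕ) = 2 ^ 4 * 3 by norm_num,
        Nat.factorization_mul (by norm_num) (by norm_num), Finsupp.add_apply,
        Nat.Prime.factorization_pow Nat.prime_two, Finsupp.single_eq_same,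
        Nat.factorization_eq_zero_of_not_dvd (by norm_num : ¬ 2 ∣ 3)]
      norm_num
    haveI : NeZero (2 ^ n) := ⟨by positivity⟩
    rw [Nat.card_congr e.toEquiv, Nat.card_eq_fintype_card, QuaternionGroup.card] at hS
    have hn : 2 ^ n = 4 := by omega
    exact ⟨e.trans (by rw [hn])⟩

end Cfsg.Agent.InvChar.Oct
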