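import Mathlib
import Cfsg.Agent.Lib.Basics.Frattini
import Cfsg.Agent.Lib.Recog.GLTwoThree

/-!
Generators and relations of `GL(2,3)`, in the form used to recognize it.
-/

set_option autoImplicit false
set_option linter.style.haveILetI false

namespace Cfsg.Agent.InvChar.Oct

open Subgroup

variable {H : Type*} [Group H] [Finite H]

theorem mem_normalizer_of_map_le {W : Subgroup H} {t : H}
    (h : W.map (MulAut.conj t).toMonoidHom ≤ W) : t ∈ Subgroup.normalizer (W : Set H) := by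
  have he : W.map (MulAut.conj t).toMonoidHom = W := Subgroup.eq_of_le_of_card_ge h
    (by rw [Subgroup.card_map_of_injective (MulAut.conj t).injective])
  rw [Subgroup.mem_normalizer_iff]
  intro y
  refine ⟨fun hy => he ▸ ⟨y, hy, rfl⟩, fun hy => ?_⟩
  obtain ⟨a, ha, hae⟩ : t * y * t⁻¹ ∈ W.map (MulAut.conj t).toMonoidHom := by rw [he]; exact hy
  rwa [(MulAut.conj t).injective (hae : MulAut.conj t a = MulAut.conj t y)] at ha

/-- Generators `i`, `r`, `x` satisfying the relations of `GL(2,3)`. -/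
structure Rel (i r x : H) : Prop where
  i4 : i ^ 4 = 1
  i2 : i ^ 2 ≠ 1
  r3 : r ^ 3 = 1
  x2 : x ^ 2 = 1
  xi : x * i * x⁻¹ = i⁻¹
  xr : x * r * x⁻¹ = r⁻¹
  ji : (r * i * r⁻¹) * i * (r * i * r⁻¹)⁻¹ = i⁻¹
  j2 : (r * i * r⁻¹) ^ 2 = i ^ 2
  k : r * (r * i * r⁻¹) * r⁻¹ = i * (r * i * r⁻¹)

/-- The subgroup spanned by `i`, `r`, `x`. -/
def span (i r x : H) : Subgroup H :=
  zpowers i ⊔ zpowers (r * i * r⁻¹) ⊔ zpowers r ⊔ zpowers x

theorem card_span {i r x : H} (h : Rel i r x) : Nat.card (span i r x) = 48 := by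
  haveI : Fact (Nat.Prime 2) := ⟨Nat.prime_two⟩
  haveI : Fact (Nat.Prime 3) := ⟨Nat.prime_three⟩
  set j := r * i * r⁻¹ with hj
  have hoi : Nat.card (zpowers i) = 4 := by
    rw [Nat.card_zpowers]
    exact orderOf_eq_prime_pow (p := 2) (n := 1) (by simpa using h.i2) (by simpa using h.i4)
  have hjn : j ∈ Subgroup.normalizer (zpowers i : Set H) := by
    apply mem_normalizer_of_map_le
    rw [MonoidHom.map_zpowers, Subgroup.zpowers_le]
    show j * i * j⁻¹ ∈ zpowers i
    rw [h.ji]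
    exact inv_mem (mem_zpowers i)
  have hjni : j ∉ zpowers i := by
    intro hm
    obtain ⟨a, ha⟩ := Subgroup.mem_zpowers_iff.mp hm
    have hc : j * i * j⁻¹ = i := by
      rw [← ha, ((Commute.refl i).zpow_left a).eq, mul_inv_cancel_right]
    apply h.i2
    rw [pow_two]
    nth_rewrite 1 [← hc]
    rw [h.ji, inv_mul_cancel]
  set D := zpowers i ⊔ zpowers j with hD
  have hDc : Nat.card D = 8 := by
    rw [hD, (Basics.card_sup_zpowers (p := 2) hjn (by rw [h.j2]; exact pow_mem (mem_zpowers i) 2)).2 hjni,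
      hoi]
  have hiD : i ∈ D := le_sup_left (b := zpowers j) (mem_zpowers i)
  have hjD : j ∈ D := le_sup_right (a := zpowers i) (mem_zpowers j)
  have hrn : r ∈ Subgroup.normalizer (D : Set H) := by
    apply mem_normalizer_of_map_le
    rw [hD, Subgroup.map_sup, MonoidHom.map_zpowers, MonoidHom.map_zpowers, sup_le_iff,
      Subgroup.zpowers_le, Subgroup.zpowers_le]
    refine ⟨hjD, ?_⟩
    show r * j * r⁻¹ ∈ D
    rw [h.k]
    exact mul_mem hiD hjD
  have hrD : r ∉ D := by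
    intro hm
    have h8 : orderOf r ∣ 8 := hDc ▸ Subgroup.orderOf_dvd_natCard D hm
    have h1 : r = 1 := orderOf_eq_one_iff.mp
      (Nat.eq_one_of_dvd_coprimes (by norm_num : Nat.Coprime 8 3) h8 (orderOf_dvd_of_pow_eq_one h.r3))
    apply hjni
    rw [hj, h1, one_mul, inv_one, mul_one]
    exact mem_zpowers i
  set M := D ⊔ zpowers r with hM
  have hMc : Nat.card M = 24 := by
    rw [hM, (Basics.card_sup_zpowers (p := 3) hrn (by rw [h.r3]; exact one_mem _)).2 hrD, hDc]
  have hrM : r ∈ M := le_sup_right (a := D) (mem_zpowers r)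
  have hDM : D ≤ M := le_sup_left
  have hxn : x ∈ Subgroup.normalizer (M : Set H) := by
    apply mem_normalizer_of_map_le
    rw [hM, hD, Subgroup.map_sup, Subgroup.map_sup, MonoidHom.map_zpowers, MonoidHom.map_zpowers,
      MonoidHom.map_zpowers, sup_le_iff, sup_le_iff, Subgroup.zpowers_le, Subgroup.zpowers_le,
      Subgroup.zpowers_le]
    have e1 : x * i * x⁻¹ ∈ M := h.xi ▸ inv_mem (hDM hiD)
    have e2 : x * r * x⁻¹ ∈ M := h.xr ▸ inv_mem hrM
    refine ⟨⟨e1, ?_⟩, e2⟩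
    show x * j * x⁻¹ ∈ M
    rw [show x * j * x⁻¹ = (x * r * x⁻¹) * (x * i * x⁻¹) * (x * r * x⁻¹)⁻¹ by rw [hj]; group]
    exact mul_mem (mul_mem e2 e1) (inv_mem e2)
  have hMn : M ≤ Subgroup.normalizer (D : Set H) :=
    sup_le Subgroup.le_normalizer (Subgroup.zpowers_le.mpr hrn)
  have hxM : x ∉ M := by
    intro hm
    by_cases hxD : x ∈ D
    · apply hrD
      have h1 : x * (r * x⁻¹ * r⁻¹) ∈ D :=
        mul_mem hxD ((Subgroup.mem_normalizer_iff.mp hrn x⁻¹).mp (inv_mem hxD))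
      rw [show x * (r * x⁻¹ * r⁻¹) = (x * r * x⁻¹) * r⁻¹ by group, h.xr] at h1
      have h2 : r ^ 3 * (r⁻¹ * r⁻¹) ∈ D := mul_mem (by rw [h.r3]; exact one_mem _) h1
      rwa [show r ^ 3 * (r⁻¹ * r⁻¹) = r by group] at h2
    · have h16 : Nat.card (D ⊔ zpowers x : Subgroup H) = 16 := by
        rw [(Basics.card_sup_zpowers (p := 2) (hMn hm) (by rw [h.x2]; exact one_mem _)).2 hxD, hDc]
      have hd : Nat.card (D ⊔ zpowers x : Subgroup H) ∣ Nat.card M :=
        Subgroup.card_dvd_of_le (sup_le hDM (Subgroup.zpowers_le.mpr hm))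
      rw [h16, hMc] at hd
      norm_num at hd
  show Nat.card (M ⊔ zpowers x : Subgroup H) = 48
  rw [(Basics.card_sup_zpowers (p := 2) hxn (by rw [h.x2]; exact one_mem _)).2 hxM, hMc]

theorem map_span {H' : Type*} [Group H'] [Finite H'] (f : H →* H') (i r x : H) :
    (span i r x).map f = span (f i) (f r) (f x) := by
  simp [span, Subgroup.map_sup, MonoidHom.map_zpowers]

/-- Two groups of order 48 generated by such triples are isomorphic. -/
theorem iso {H' : Type*} [Group H'] [Finite H'] {i r x : H} {i' r' x' : H'}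
    (h : Rel i r x) (h' : Rel i' r' x') (hc : Nat.card H = 48) (hc' : Nat.card H' = 48) :
    Nonempty (H ≃* H') := by
  have hp : Rel ((i, i') : H × H') (r, r') (x, x') :=
    { i4 := Prod.ext h.i4 h'.i4
      i2 := fun e => h.i2 (congrArg Prod.fst e)
      r3 := Prod.ext h.r3 h'.r3
      x2 := Prod.ext h.x2 h'.x2
      xi := Prod.ext h.xi h'.xi
      xr := Prod.ext h.xr h'.xr
      ji := Prod.ext h.ji h'.ji
      j2 := Prod.ext h.j2 h'.j2
      k := Prod.ext h.k h'.k }
  set Γ := span ((i, i') : H × H') (r, r') (x, x') with hΓ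
  have hΓc := card_span hp
  have h1 : Γ.map (MonoidHom.fst H H') = ⊤ := by
    rw [hΓ, map_span]
    exact Subgroup.eq_top_of_card_eq _ ((card_span h).trans hc.symm)
  have h2 : Γ.map (MonoidHom.snd H H') = ⊤ := by
    rw [hΓ, map_span]
    exact Subgroup.eq_top_of_card_eq _ ((card_span h').trans hc'.symm)
  have b1 : Function.Bijective ((MonoidHom.fst H H').comp Γ.subtype) := by
    refine (Nat.bijective_iff_surjective_and_card _).mpr ⟨fun a => ?_, by rw [hΓc, hc]⟩
    obtain ⟨g, hg, hge⟩ : a ∈ Γ.map (MonoidHom.fst H H') := h1 ▸ Subgroup.mem_top a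
    exact ⟨⟨g, hg⟩, hge⟩
  have b2 : Function.Bijective ((MonoidHom.snd H H').comp Γ.subtype) := by
    refine (Nat.bijective_iff_surjective_and_card _).mpr ⟨fun a => ?_, by rw [hΓc, hc']⟩
    obtain ⟨g, hg, hge⟩ : a ∈ Γ.map (MonoidHom.snd H H') := h2 ▸ Subgroup.mem_top a
    exact ⟨⟨g, hg⟩, hge⟩
  exact ⟨(MulEquiv.ofBijective _ b1).symm.trans (MulEquiv.ofBijective _ b2)⟩

theorem iso_GL {i r x : H} (h : Rel i r x) (hc : Nat.card H = 48) :
    Nonempty (H ≃* GL (Fin 2) (ZMod 3)) := by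
  let i' : GL (Fin 2) (ZMod 3) := ⟨!![0, 2; 1, 0], !![0, 1; 2, 0], by decide, by decide⟩
  let r' : GL (Fin 2) (ZMod 3) := ⟨!![1, 1; 0, 1], !![1, 2; 0, 1], by decide, by decide⟩
  let x' : GL (Fin 2) (ZMod 3) := ⟨!![1, 0; 0, 2], !![1, 0; 0, 2], by decide, by decide⟩
  exact iso h
    (⟨by decide, by decide, by decide, by decide, by decide, by decide, by decide, by decide, by decide⟩ :
      Rel i' r' x') hc Recog.GL23.card_M

end Cfsg.Agent.InvChar.Oct
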