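import Cfsg.Agent.Lib.Transfer.Constrained
import Cfsg.Agent.Lib.Basics.Cores

/-!
# p-constraint passes to all p-local subgroups
-/

set_option autoImplicit false
set_option linter.style.haveILetI false

namespace Cfsg.Agent.InvChar

open Subgroup Cfsg Cfsg.Agent Cfsg.Agent.Components

universe u

variable {G : Type u} [Group G] [Finite G] {p : ℕ}

/-- The centralizer of `T` computed inside a subgroup containing it. -/
theorem map_centralizer_subgroupOf {T K : Subgroup G} (hT : T ≤ K)
    (hC : centralizer (T : Set G) ≤ K) :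
    (centralizer (T.subgroupOf K : Set ↥K)).map K.subtype = centralizer (T : Set G) := by
  ext g
  constructor
  · rintro ⟨k, hk, rfl⟩
    exact fun t ht => congrArg Subtype.val (hk ⟨t, hT ht⟩ ht)
  · intro hg
    exact ⟨⟨g, hC hg⟩, fun t ht => Subtype.ext (hg (t : G) ht), rfl⟩

theorem isPConstrained_centralizer_subgroupOf [Fact p.Prime] {T K : Subgroup G} (hT : T ≤ K)
    (hC : centralizer (T : Set G) ≤ K) :
    IsPConstrained p ↥(centralizer (T.subgroupOf K : Set ↥K)) ↔
      IsPConstrained p ↥(centralizer (T : Set G)) := by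
  let e := (equivMapOfInjective (centralizer (T.subgroupOf K : Set ↥K)) K.subtype
    K.subtype_injective).trans (MulEquiv.subgroupCongr (map_centralizer_subgroupOf hT hC))
  exact ⟨Transfer.isPConstrained_congr e, Transfer.isPConstrained_congr e.symm⟩

/-- A group with a normal p-subgroup whose centralizer is p-constrained is p-constrained. -/
theorem isPConstrained_of_centralizer [Fact p.Prime] {T : Subgroup G} [T.Normal] (hT : IsPGroup p T)
    (h : IsPConstrained p ↥(centralizer (T : Set G))) : IsPConstrained p G := by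
  set C := centralizer (T : Set G) with hCdef
  haveI : C.Normal := inferInstance
  rw [isPConstrained_iff] at h ⊢
  set O := pPrimeCore p G
  set π := QuotientGroup.mk' O
  let f : C →* G ⧸ O := π.comp C.subtype
  have hker : f.ker = pPrimeCore p C := by
    have h1 := map_subtype_pPrimeCore_of_subnormal (p := p) (isSubnormal_of_normal C)
    apply map_injective C.subtype_injective
    rw [h1]
    ext x
    constructor
    · rintro ⟨c, hc, rfl⟩
      exact ⟨(QuotientGroup.eq_one_iff (N := O) _).mp hc, c.2⟩
    · rintro ⟨h2, h3⟩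
      exact ⟨⟨x, h3⟩, (QuotientGroup.eq_one_iff (N := O) _).mpr h2, rfl⟩
  haveI : f.range.Normal := by
    rw [MonoidHom.range_comp, range_subtype]
    exact Subgroup.Normal.map inferInstance _ (QuotientGroup.mk'_surjective O)
  have hR : centralizer (pCore p ↥f.range : Set ↥f.range) ≤ pCore p ↥f.range :=
    Transfer.cp_congr (((QuotientGroup.quotientMulEquivOfEq hker.symm).trans
      (QuotientGroup.quotientKerEquivRange f))) h
  haveI : ((pCore p ↥f.range).map f.range.subtype).Normal :=
    ConjAct.normal_of_characteristic_of_normal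
  have hMle : (pCore p ↥f.range).map f.range.subtype ≤ pCore p (G ⧸ O) :=
    Basics.le_pCore ((Basics.pCore_isPGroup p).map _)
  intro x hx
  have hTq : T.map π ≤ pCore p (G ⧸ O) := by
    haveI : (T.map π).Normal := Subgroup.Normal.map inferInstance _ (QuotientGroup.mk'_surjective O)
    exact Basics.le_pCore (hT.map π)
  have hxR : x ∈ f.range := by
    have h1 : x ∈ centralizer ((T.map π : Subgroup (G ⧸ O)) : Set (G ⧸ O)) :=
      Subgroup.centralizer_le hTq hx
    rw [← map_centralizer_of_coprime pPrimeCore_coprime hT] at h1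
    obtain ⟨c, hc, rfl⟩ := h1
    exact ⟨⟨c, hc⟩, rfl⟩
  exact hMle ⟨⟨x, hxR⟩, hR (fun y hy => Subtype.ext (hx (y : G ⧸ O) (hMle ⟨y, hy, rfl⟩))), rfl⟩

theorem isPConstrained_normalizer_of_maximal_or_centralizers [hp : Fact p.Prime]
    (h : (∀ M : Subgroup G, (∃ T : Subgroup G, IsPGroup p ↥T ∧ T ≠ ⊥ ∧ M = normalizer (T : Set G)) → M ≠ ⊤ →
        (∀ M' : Subgroup G, (∃ T' : Subgroup G, IsPGroup p ↥T' ∧ T' ≠ ⊥ ∧ M' = normalizer (T' : Set G)) → M' ≠ ⊤ → M ≤ M' → M = M') →
        IsPConstrained p ↥M) ∨
      (∀ x : G, orderOf x = p → IsPConstrained p ↥(centralizer ({x} : Set G))))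
    (T : Subgroup G) (hT : IsPGroup p ↥T) (hT1 : T ≠ ⊥) (hTG : normalizer (T : Set G) ≠ ⊤) :
    IsPConstrained p ↥(normalizer (T : Set G)) := by
  have hTN : T ≤ normalizer (T : Set G) := le_normalizer
  haveI : (T.subgroupOf (normalizer (T : Set G))).Normal := normal_in_normalizer
  have hTp : IsPGroup p (T.subgroupOf (normalizer (T : Set G))) := hT.comap_subtype
  rcases h with h | h
  · obtain ⟨M, ⟨⟨T', hT', hT'1, hMT'⟩, hMne, hle⟩, hmax⟩ := Set.exists_max_image
      {M : Subgroup G | (∃ T' : Subgroup G, IsPGroup p ↥T' ∧ T' ≠ ⊥ ∧ M = normalizer (T' : Set G)) ∧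
        M ≠ ⊤ ∧ normalizer (T : Set G) ≤ M} (fun M => Nat.card M) (Set.toFinite _)
      ⟨_, ⟨T, hT, hT1, rfl⟩, hTG, le_rfl⟩
    have hcon : IsPConstrained p ↥M := h M ⟨T', hT', hT'1, hMT'⟩ hMne fun M' hM' hne hMM' =>
      Subgroup.eq_of_le_of_card_ge hMM' (hmax M' ⟨hM', hne, hle.trans hMM'⟩)
    have h2 := (Transfer.isPConstrained_pLocal hcon (T.subgroupOf M) hT.comap_subtype).2
    rw [isPConstrained_centralizer_subgroupOf (hTN.trans hle)
      ((centralizer_le_normalizer _).trans hle)] at h2
    exact isPConstrained_of_centralizer hTp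
      ((isPConstrained_centralizer_subgroupOf hTN (centralizer_le_normalizer _)).mpr h2)
  · haveI : Nontrivial T := (nontrivial_iff_ne_bot T).mpr hT1
    haveI : Nontrivial (center T) := hT.center_nontrivial
    obtain ⟨k, hk0, hk⟩ := (hT.to_subgroup (center T)).nontrivial_iff_card.mp inferInstance
    obtain ⟨z, hz⟩ := exists_prime_orderOf_dvd_card' (G := center T) p
      (hk ▸ dvd_pow_self p hk0.ne')
    set x : G := ((z : T) : G) with hx
    have hxo : orderOf x = p := by
      rw [hx, Subgroup.orderOf_coe, Subgroup.orderOf_coe, hz]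
    have hTC : T ≤ centralizer ({x} : Set G) := fun t ht =>
      mem_centralizer_singleton_iff.mpr (congrArg Subtype.val (mem_center_iff.mp z.2 ⟨t, ht⟩))
    have hCC : centralizer (T : Set G) ≤ centralizer ({x} : Set G) :=
      centralizer_le (Set.singleton_subset_iff.mpr (z : T).2)
    have h2 := (Transfer.isPConstrained_pLocal (h x hxo) (T.subgroupOf _) hT.comap_subtype).2
    rw [isPConstrained_centralizer_subgroupOf hTC hCC] at h2
    exact isPConstrained_of_centralizer hTp
      ((isPConstrained_centralizer_subgroupOf hTN (centralizer_le_normalizer _)).mpr h2)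

end Cfsg.Agent.InvChar
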