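import Cfsg.Agent.Lib.InvChar.ParityTransfer

/-!
# Pushing a parity cocycle along an equivariant map
-/

set_option autoImplicit false
set_option linter.style.haveILetI false
set_option linter.unusedSectionVars false

namespace Cfsg.Agent.InvChar

universe u v w

variable {P : Type u} [Group P] {X : Type v} [MulAction P X]

/-- Restriction to an invariant subset. -/
def TCocycle.restrictSub (d : TCocycle P X) (Y : SubMulAction P X) : TCocycle P Y :=
  ⟨fun p x => d.fn p x.1, fun p q x => d.map_mul p q x.1⟩

/-- The fibre of an equivariant map, acted on by the stabilizer. -/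
def fibreSub {Y : Type w} [MulAction P Y] (π : X → Y) (hπ : ∀ (p : P) x, π (p • x) = p • π x) (y : Y) :
    SubMulAction (MulAction.stabilizer P y) X where
  carrier := {x | π x = y}
  smul_mem' s x hx := by
    show π ((s : P) • x) = y
    rw [hπ, show π x = y from hx]
    exact s.2

/-- The cocycle on a fibre. -/
def TCocycle.onFibre (d : TCocycle P X) {Y : Type w} [MulAction P Y] (π : X → Y)
    (hπ : ∀ (p : P) x, π (p • x) = p • π x) (y : Y) :
    TCocycle (MulAction.stabilizer P y) (fibreSub π hπ y) :=
  ⟨fun s x => d.fn s.1 x.1, fun s t x => d.map_mul s.1 t.1 x.1⟩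

/-- A cocycle with trivial isotropy parts has total zero. -/
theorem sum_eq_zero_of_isotropy {Y : Type w} [MulAction P Y] [Fintype Y] (d : TCocycle P Y)
    (h : ∀ (p : P) (y : Y), p • y = y → d.fn p y = 0) (p : P) : ∑ y, d.fn p y = 0 := by
  classical
  let rep : Y → Y := fun y => (Quotient.mk (MulAction.orbitRel P Y) y).out
  have hrep : ∀ y, ∃ q : P, q • rep y = y := by
    intro y
    have h1 : Quotient.mk (MulAction.orbitRel P Y) y = Quotient.mk _ (rep y) := (Quotient.out_eq _).symm
    exact Quotient.exact h1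
  choose q hq using hrep
  have hrepp : ∀ y, rep (p • y) = rep y := fun y =>
    congrArg Quotient.out (Quotient.sound (show (MulAction.orbitRel P Y).r (p • y) y from ⟨p, rfl⟩))
  have key : ∀ y, d.fn p y = d.fn (q (p • y)) (rep y) + d.fn (q y) (rep y) := by
    intro y
    have h1 := d.map_mul p (q y) (rep y)
    rw [hq] at h1
    set s := (q (p • y))⁻¹ * (p * q y) with hs
    have hsfix : s • rep y = rep y := by
      rw [hs, mul_smul, mul_smul, hq, inv_smul_eq_iff]
      conv_rhs => rw [← hrepp, hq]
    have h2 := d.map_mul (q (p • y)) s (rep y)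
    rw [hsfix, h s _ hsfix, add_zero, hs, mul_inv_cancel_left] at h2
    rw [h1] at h2
    have h5 : ∀ u v t : ZMod 2, u + v = t → u = t + v := by decide
    exact h5 _ _ _ h2
  simp only [key, Finset.sum_add_distrib]
  have h3 : ∑ y, d.fn (q (p • y)) (rep y) = ∑ y, d.fn (q y) (rep y) := by
    rw [← Equiv.sum_comp (MulAction.toPerm p) (fun y => d.fn (q y) (rep y))]
    exact Finset.sum_congr rfl fun y _ => by simp only [MulAction.toPerm_apply, hrepp]
  rw [h3, CharTwo.add_self_eq_zero]

/-- Totals computed fibrewise. -/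
theorem sum_eq_zero_of_fibres [Fintype X] {Y : Type w} [MulAction P Y] [Fintype Y]
    (d : TCocycle P X) (π : X → Y) (hπ : ∀ (p : P) x, π (p • x) = p • π x)
    [∀ y, Fintype (fibreSub π hπ y)]
    (h : ∀ y, ∀ s : MulAction.stabilizer P y, ∑ x, (d.onFibre π hπ y).fn s x = 0) (p : P) :
    ∑ x, d.fn p x = 0 := by
  classical
  let D : TCocycle P Y := ⟨fun p y => ∑ x ∈ Finset.univ.filter (fun x => π x = y), d.fn p x, by
    intro p q y
    simp only [d.map_mul, Finset.sum_add_distrib]
    congr 1
    refine Finset.sum_equiv (MulAction.toPerm q) (fun x => ?_) (fun x _ => rfl)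
    simp [hπ]⟩
  rw [← Finset.sum_fiberwise Finset.univ π]
  refine sum_eq_zero_of_isotropy D (fun q y hq => ?_) p
  show ∑ x ∈ Finset.univ.filter (fun x => π x = y), d.fn q x = 0
  rw [← h y ⟨q, hq⟩]
  exact Finset.sum_subtype _ (fun x => ⟨fun hx => (Finset.mem_filter.mp hx).2,
    fun hx => Finset.mem_filter.mpr ⟨Finset.mem_univ _, hx⟩⟩) (fun x => d.fn q x)

end Cfsg.Agent.InvChar
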