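import Mathlib
import Cfsg.Agent.Lib.OddLocal.UniqueC

/-!
# Parity of transfer along orbits of a group with small squares and commutators
-/

set_option autoImplicit false
set_option linter.style.haveILetI false
set_option linter.unusedSectionVars false

namespace Cfsg.Agent.InvChar

universe u v

/-- A `ZMod 2`-valued cocycle of an action. -/
structure TCocycle (P : Type u) [Group P] (X : Type v) [MulAction P X] where
  fn : P → X → ZMod 2
  map_mul : ∀ p q x, fn (p * q) x = fn p (q • x) + fn q x

variable {P : Type u} [Group P] {X : Type v} [MulAction P X] (d : TCocycle P X)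

theorem TCocycle.map_one (x : X) : d.fn 1 x = 0 := by
  have h := d.map_mul 1 1 x
  rw [one_mul, one_smul] at h
  exact left_eq_add.mp h

/-- The setting: a normal subgroup `E` with squares and commutators in `⟨z⟩`, acting transitively. -/
structure TSetting (E : Subgroup P) (z : P) (X : Type v) [MulAction P X] : Prop where
  normal : E.Normal
  zmem : z ∈ E
  zcen : ∀ p : P, p * z = z * p
  zsq : z * z = 1
  sq : ∀ e ∈ E, e * e = 1 ∨ e * e = z
  comm : ∀ e ∈ E, ∀ f ∈ E, e * f = f * e ∨ e * f = f * e * z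
  trans : ∀ x y : X, ∃ e ∈ E, e • x = y

section pairs

variable [Fintype X]

open scoped Classical in
/-- Summation over a pairing. -/
theorem sum_pairs {Y : Type v} [Fintype Y] (q : X → Y) (hq : Function.Surjective q) (s : X → X)
    (hs : ∀ x, q (s x) = q x) (hne : ∀ x, s x ≠ x) (hfib : ∀ x y, q y = q x → y = x ∨ y = s x)
    (F : X → ZMod 2) (F' : Y → ZMod 2) (hF : ∀ x, F' (q x) = F x + F (s x)) :
    ∑ x, F x = ∑ y, F' y ∧ Fintype.card X = 2 * Fintype.card Y := by
  have hfilter : ∀ y, ∀ x, q x = y → Finset.univ.filter (fun i => q i = y) = {x, s x} := by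
    intro y x hx
    ext i
    simp only [Finset.mem_filter, Finset.mem_univ, true_and, Finset.mem_insert, Finset.mem_singleton]
    constructor
    · intro hi; exact hfib x i (hi.trans hx.symm)
    · rintro (rfl | rfl)
      · exact hx
      · rw [hs, hx]
  constructor
  · rw [← Finset.sum_fiberwise Finset.univ q F]
    refine Finset.sum_congr rfl fun y _ => ?_
    obtain ⟨x, hx⟩ := hq y
    rw [hfilter y x hx, Finset.sum_pair (hne x).symm, ← hF, hx]
  · have h2 : ∀ y, (Finset.univ.filter (fun i => q i = y)).card = 2 := by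
      intro y
      obtain ⟨x, hx⟩ := hq y
      rw [hfilter y x hx, Finset.card_pair (hne x).symm]
    rw [← Finset.card_univ, Finset.card_eq_sum_card_fiberwise (t := (Finset.univ : Finset Y))
      (f := q) (fun _ _ => Finset.mem_univ _)]
    simp only [h2, Finset.sum_const, Finset.card_univ, smul_eq_mul]
    ring

end pairs

theorem zmod2_natCast_mul_of_even {k : ℕ} (h : Even k) (c : ZMod 2) : (k : ZMod 2) * c = 0 := by
  rw [(ZMod.natCast_eq_zero_iff_even (n := k)).mpr h, zero_mul]

/-- The orbit pairs of an element acting as an involution. -/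
def pairSetoid (a : P) (ha : ∀ x : X, a • a • x = x) : Setoid X where
  r x y := y = x ∨ y = a • x
  iseqv := by
    refine ⟨fun x => Or.inl rfl, ?_, ?_⟩
    · rintro x y (rfl | rfl)
      · exact Or.inl rfl
      · exact Or.inr (ha x).symm
    · rintro x y w (rfl | rfl) (rfl | rfl)
      · exact Or.inl rfl
      · exact Or.inr rfl
      · exact Or.inr rfl
      · exact Or.inl (ha x)

/-- The action on pairs. -/
@[reducible]
def pairAction (a : P) (ha : ∀ x : X, a • a • x = x) (hcen : ∀ (p : P) (x : X), p • a • x = a • p • x) :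
    MulAction P (Quotient (pairSetoid a ha)) where
  smul p := Quotient.map (fun x => p • x) (by
    rintro x y (rfl | rfl)
    · exact Or.inl rfl
    · exact Or.inr (hcen p x))
  one_smul := by rintro ⟨x⟩; exact congrArg (Quotient.mk _) (one_smul P x)
  mul_smul p q := by rintro ⟨x⟩; exact congrArg (Quotient.mk _) (mul_smul p q x)

/-- The pushed forward cocycle. -/
theorem exists_pairCocycle (a : P) (ha : ∀ x : X, a • a • x = x)
    (hcen : ∀ (p : P) (x : X), p • a • x = a • p • x) :
    letI := pairAction a ha hcen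
    ∃ d' : TCocycle P (Quotient (pairSetoid a ha)),
      ∀ p x, d'.fn p ⟦x⟧ = d.fn p x + d.fn p (a • x) := by
  letI := pairAction a ha hcen
  refine ⟨⟨fun p => Quotient.lift (fun x => d.fn p x + d.fn p (a • x)) ?_, ?_⟩, fun p x => rfl⟩
  · rintro x y (rfl | rfl)
    · rfl
    · show _ = d.fn p (a • x) + d.fn p (a • a • x)
      rw [ha, add_comm]
  · rintro p q ⟨x⟩
    show d.fn (p * q) x + d.fn (p * q) (a • x) =
      (d.fn p (q • x) + d.fn p (a • q • x)) + (d.fn q x + d.fn q (a • x))
    rw [d.map_mul, d.map_mul, hcen]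
    ring

variable {E : Subgroup P} {z : P}

theorem fix_all (S : TSetting E z X) {w : P} (hw : w ∈ E) (hz : ∀ x : X, z • x = x) {x : X}
    (hx : w • x = x) (y : X) : w • y = y := by
  obtain ⟨e, he, rfl⟩ := S.trans x y
  rcases S.comm w hw e he with h | h
  · rw [← mul_smul, h, mul_smul, hx]
  · rw [← mul_smul, h, mul_smul, hz, mul_smul, hx]

/-- Values of elements fixing all points. -/
theorem fn_const (S : TSetting E z X) {w : P} (hw : w ∈ E) (hz : ∀ x : X, z • x = x)
    (hfix : ∀ x : X, w • x = x) (x : X) {e : P} (he : e ∈ E) :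
    d.fn w (e • x) = d.fn w x ∨ d.fn w (e • x) = d.fn w x + d.fn z x := by
  have h0 := d.map_mul w e x
  rcases S.comm w hw e he with h | h
  · left
    rw [h, d.map_mul, hfix] at h0
    linear_combination (norm := ring_nf) -h0
  · right
    rw [h, d.map_mul, hz, d.map_mul, hfix] at h0
    linear_combination (norm := ring_nf) -h0

theorem sum_zero_of_z_moves [Fintype X] (S : TSetting E z X) {x₀ : X} (h : z • x₀ ≠ x₀) (p : P) :
    ∑ x, d.fn p x = 0 := by
  classical
  have ha : ∀ x : X, z • z • x = x := fun x => by rw [← mul_smul, S.zsq, one_smul]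
  have hcen : ∀ (q : P) (x : X), q • z • x = z • q • x := fun q x => by
    rw [← mul_smul, S.zcen q, mul_smul]
  have hne : ∀ x : X, z • x ≠ x := by
    intro x hx
    obtain ⟨e, -, rfl⟩ := S.trans x x₀
    exact h (by rw [← hcen, hx])
  letI := pairAction z ha hcen
  haveI : Fintype (Quotient (pairSetoid z ha)) := Fintype.ofFinite _
  obtain ⟨d', hd'⟩ := exists_pairCocycle d z ha hcen
  have key : ∀ x, d.fn p x + d.fn p (z • x) = d.fn z (p • x) + d.fn z x := by
    intro x
    have h1 := d.map_mul p z x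
    rw [S.zcen p, d.map_mul] at h1
    have h2 : ∀ u v w t : ZMod 2, u + v = w + t → v + w = u + t := by decide
    exact h2 _ _ _ _ h1
  have hg : ∀ x, d.fn z (z • x) = d.fn z x := by
    intro x
    have h1 := d.map_mul z z x
    rw [S.zsq, d.map_one] at h1
    have h2 : ∀ u v : ZMod 2, 0 = u + v → u = v := by decide
    exact h2 _ _ h1
  let g : Quotient (pairSetoid z ha) → ZMod 2 := Quotient.lift (fun x => d.fn z x) (by
    rintro x y (rfl | rfl)
    · rfl
    · exact (hg x).symm)
  obtain ⟨hsum, -⟩ := sum_pairs (Quotient.mk (pairSetoid z ha)) Quotient.mk_surjective (fun x => z • x)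
    (fun x => (Quotient.sound (show (pairSetoid z ha).r x (z • x) from Or.inr rfl)).symm) hne
    (fun x y h => Quotient.exact h.symm)
    (fun x => d.fn p x) (fun y => g (p • y) + g y) (fun x => (key x).symm)
  rw [hsum, Finset.sum_add_distrib]
  have : ∑ y, g (p • y) = ∑ y, g y := Equiv.sum_comp (MulAction.toPerm p) g
  rw [this, CharTwo.add_self_eq_zero]

/-- An element of `E` moving all points whose image commutes with the whole action. -/
theorem exists_central_mover [Finite X] [Finite P] (hP : IsPGroup 2 P) (S : TSetting E z X)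
    (hX : 1 < Nat.card X) (hz : ∀ x : X, z • x = x) :
    ∃ a ∈ E, (∀ x : X, a • x ≠ x) ∧ (∀ x : X, a • a • x = x) ∧ ∀ (p : P) (x : X), p • a • x = a • p • x := by
  haveI : Fact (Nat.Prime 2) := ⟨Nat.prime_two⟩
  haveI := S.normal
  let π : P →* (MulAction.toPermHom P X).range := (MulAction.toPermHom P X).rangeRestrict
  have hπ : Function.Surjective π := MonoidHom.rangeRestrict_surjective _
  haveI : (E.map π).Normal := Subgroup.Normal.map inferInstance π hπ
  have hne : E.map π ≠ ⊥ := by
    intro h
    haveI : Nontrivial X := Finite.one_lt_card_iff_nontrivial.mp hX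
    obtain ⟨x, y, hxy⟩ := exists_pair_ne X
    obtain ⟨e, he, rfl⟩ := S.trans x y
    have h1 : π e = 1 := (Subgroup.eq_bot_iff_forall _).mp h _ ⟨e, he, rfl⟩
    have h2 := congrArg (fun f => (Subtype.val f) x) h1
    exact hxy h2.symm
  obtain ⟨w, hw, hwc, hw1⟩ := OddLocal.exists_mem_center_ne_one_of_normal
    (hP.of_surjective π hπ) (E.map π) hne
  obtain ⟨a, ha, rfl⟩ := hw
  have hcomm : ∀ (p : P) (x : X), p • a • x = a • p • x := fun p x =>
    congrArg (fun f => (Subtype.val f) x) (Subgroup.mem_center_iff.mp hwc (π p))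
  refine ⟨a, ha, fun x hx => hw1 ?_, fun x => ?_, hcomm⟩
  · apply Subtype.ext
    ext y
    exact fix_all S ha hz hx y
  · rcases S.sq a ha with h | h
    · rw [← mul_smul, h, one_smul]
    · rw [← mul_smul, h, hz]

/-- The case where `z` has value zero. -/
theorem sum_zero_of_value_zero [Fintype X] [Finite P] (hP : IsPGroup 2 P) (S : TSetting E z X)
    (hz : ∀ x : X, z • x = x) (hz0 : ∀ x : X, d.fn z x = 0) (hX : 2 ∣ Nat.card X)
    (htwo : 4 ∣ Nat.card X ∨ ∀ (w : P), w ∈ E → (∀ x : X, w • x = x) → ∀ x : X, d.fn w x = 0) (p : P) :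
    ∑ x, d.fn p x = 0 := by
  classical
  haveI := S.normal
  rcases Nat.eq_zero_or_pos (Nat.card X) with h0 | h0
  · rw [Nat.card_eq_fintype_card, Fintype.card_eq_zero_iff] at h0
    simp
  obtain ⟨a, ha, hne, hinv, hcen⟩ := exists_central_mover hP S (Nat.le_of_dvd h0 hX) hz
  letI := pairAction a hinv hcen
  haveI : Fintype (Quotient (pairSetoid a hinv)) := Fintype.ofFinite _
  -- the commutator with `p`
  set w := (p * a * p⁻¹)⁻¹ * a with hwdef
  have hwE : w ∈ E := mul_mem (inv_mem (S.normal.conj_mem a ha p)) ha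
  have hwfix : ∀ x : X, w • x = x := by
    intro x
    have h1 : (p * a * p⁻¹) • x = a • x := by rw [mul_smul, mul_smul, hcen, smul_inv_smul]
    rw [hwdef, mul_smul, ← h1, inv_smul_smul]
  have hconst : ∀ x y : X, d.fn w y = d.fn w x := by
    intro x y
    obtain ⟨e, he, rfl⟩ := S.trans x y
    rcases fn_const d S hwE hz hwfix x he with h | h
    · exact h
    · rwa [hz0, add_zero] at h
  have key : ∀ x, d.fn p x + d.fn p (a • x) = d.fn a (p • x) + d.fn a x + d.fn w (p • x) := by
    intro x
    have h1 : d.fn (p * a) x = d.fn p (a • x) + d.fn a x := d.map_mul p a x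
    have h2 : p * a * p⁻¹ = a * w⁻¹ := by rw [hwdef]; group
    have h3 : p * a = a * (w⁻¹ * p) := by rw [← mul_assoc, ← h2]; group
    rw [h3, d.map_mul, d.map_mul] at h1
    have h4 : d.fn w⁻¹ (p • x) = d.fn w (p • x) := by
      have := d.map_mul w w⁻¹ (p • x)
      have hwi : w⁻¹ • p • x = p • x := inv_smul_eq_iff.mpr (hwfix _).symm
      rw [mul_inv_cancel, d.map_one, hwi] at this
      have h5 : ∀ u v : ZMod 2, 0 = u + v → v = u := by decide
      exact h5 _ _ this
    have hwi2 : (w⁻¹ * p) • x = p • x := by rw [mul_smul]; exact inv_smul_eq_iff.mpr (hwfix _).symm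
    rw [hwi2, h4] at h1
    have h6 : ∀ u v s t r : ZMod 2, u + (v + s) = r + t → s + r = u + t + v := by decide
    exact h6 _ _ _ _ _ h1
  have hg : ∀ x, d.fn a (a • x) = d.fn a x := by
    intro x
    have h1 := d.map_mul a a x
    have h2 : d.fn (a * a) x = 0 := by
      rcases S.sq a ha with h | h <;> rw [h]
      · exact d.map_one x
      · exact hz0 x
    rw [h2] at h1
    have h5 : ∀ u v : ZMod 2, 0 = u + v → u = v := by decide
    exact h5 _ _ h1
  let g : Quotient (pairSetoid a hinv) → ZMod 2 := Quotient.lift (fun x => d.fn a x) (by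
    rintro x y (rfl | rfl)
    · rfl
    · exact (hg x).symm)
  obtain ⟨x₀⟩ := Fintype.card_pos_iff.mp (Nat.card_eq_fintype_card (α := X) ▸ h0)
  obtain ⟨hsum, hcard⟩ := sum_pairs (Quotient.mk (pairSetoid a hinv)) Quotient.mk_surjective (fun x => a • x)
    (fun x => (Quotient.sound (show (pairSetoid a hinv).r x (a • x) from Or.inr rfl)).symm) hne
    (fun x y h => Quotient.exact h.symm)
    (fun x => d.fn p x) (fun y => g (p • y) + g y + d.fn w x₀) (fun x => by
      show g (p • ⟦x⟧) + g ⟦x⟧ + d.fn w x₀ = _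
      rw [key x, hconst x₀ (p • x)]; rfl)
  rw [hsum, Finset.sum_add_distrib, Finset.sum_add_distrib]
  have : ∑ y, g (p • y) = ∑ y, g y := Equiv.sum_comp (MulAction.toPerm p) g
  rw [this, CharTwo.add_self_eq_zero, zero_add, Finset.sum_const, Finset.card_univ, nsmul_eq_mul]
  rcases htwo with h | h
  · refine zmod2_natCast_mul_of_even (even_iff_two_dvd.mpr ?_) _
    rw [Nat.card_eq_fintype_card, hcard] at h
    exact Nat.dvd_of_mul_dvd_mul_left two_pos h
  · rw [h w hwE hwfix, mul_zero]

/-- At least eight points. -/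
theorem sum_zero_of_eight [Fintype X] [Finite P] (hP : IsPGroup 2 P) (S : TSetting E z X)
    (hz : ∀ x : X, z • x = x) (hX : 8 ∣ Nat.card X) (p : P) : ∑ x, d.fn p x = 0 := by
  classical
  rcases Nat.eq_zero_or_pos (Nat.card X) with h0 | h0
  · rw [Nat.card_eq_fintype_card, Fintype.card_eq_zero_iff] at h0
    simp
  obtain ⟨a, ha, hne, hinv, hcen⟩ := exists_central_mover hP S
    (lt_of_lt_of_le (by norm_num) (Nat.le_of_dvd h0 hX)) hz
  letI := pairAction a hinv hcen
  haveI : Fintype (Quotient (pairSetoid a hinv)) := Fintype.ofFinite _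
  obtain ⟨d', hd'⟩ := exists_pairCocycle d a hinv hcen
  have S' : TSetting E z (Quotient (pairSetoid a hinv)) :=
    ⟨S.normal, S.zmem, S.zcen, S.zsq, S.sq, S.comm, by
        rintro ⟨x⟩ ⟨y⟩
        obtain ⟨e, he, rfl⟩ := S.trans x y
        exact ⟨e, he, rfl⟩⟩
  have hz' : ∀ y : Quotient (pairSetoid a hinv), z • y = y := by
    rintro ⟨x⟩; exact congrArg (Quotient.mk _) (hz x)
  have hz0 : ∀ y : Quotient (pairSetoid a hinv), d'.fn z y = 0 := by
    rintro ⟨x⟩
    refine (hd' z x).trans ?_
    have h1 := d.map_mul z a x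
    rw [← S.zcen a, d.map_mul, hz] at h1
    have h5 : ∀ u v w : ZMod 2, u + v = w + u → v + w = 0 := by decide
    exact h5 _ _ _ h1
  obtain ⟨hsum, hcard⟩ := sum_pairs (Quotient.mk (pairSetoid a hinv)) Quotient.mk_surjective (fun x => a • x)
    (fun x => (Quotient.sound (show (pairSetoid a hinv).r x (a • x) from Or.inr rfl)).symm) hne
    (fun x y h => Quotient.exact h.symm)
    (fun x => d.fn p x) (fun y => d'.fn p y) (fun x => hd' p x)
  rw [hsum]
  have h4 : 4 ∣ Nat.card (Quotient (pairSetoid a hinv)) := by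
    rw [Nat.card_eq_fintype_card, hcard] at hX
    rw [Nat.card_eq_fintype_card]
    exact Nat.dvd_of_mul_dvd_mul_left two_pos hX
  exact sum_zero_of_value_zero d' hP S' hz' hz0 (dvd_trans (by norm_num) h4) (Or.inl h4) p

/-- Inside `E` itself. -/
theorem sum_zero_of_mem [Fintype X] (S : TSetting E z X) (hz : ∀ x : X, z • x = x)
    (hX : 2 ∣ Nat.card X) (htwo : 4 ∣ Nat.card X ∨ ∀ x : X, d.fn z x = 0)
    {p : P} (hp : p ∈ E) : ∑ x, d.fn p x = 0 := by
  classical
  rcases Nat.eq_zero_or_pos (Nat.card X) with h0 | h0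
  · rw [Nat.card_eq_fintype_card, Fintype.card_eq_zero_iff] at h0
    simp
  have h2 : 1 < Nat.card X := Nat.le_of_dvd h0 hX
  haveI : Nontrivial X := Finite.one_lt_card_iff_nontrivial.mp h2
  obtain ⟨x₁, y₁, hxy⟩ := exists_pair_ne X
  obtain ⟨x₀⟩ : Nonempty X := ⟨x₁⟩
  have hzc : ∀ x y : X, d.fn z y = d.fn z x := by
    intro x y
    obtain ⟨e, he, rfl⟩ := S.trans x y
    have h1 := d.map_mul z e x
    rw [← S.zcen e, d.map_mul, hz] at h1
    have h5 : ∀ u v w : ZMod 2, v + u = w + v → w = u := by decide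
    exact h5 _ _ _ h1
  -- choose an element moving the points, commuting with `p` modulo `⟨z⟩`
  obtain ⟨a, ha, hax, hmod⟩ : ∃ a ∈ E, a • x₀ ≠ x₀ ∧ (p • x₀ ≠ x₀ → a = p) := by
    by_cases hpx : p • x₀ = x₀
    · obtain ⟨y, hy⟩ := exists_ne x₀
      obtain ⟨e, he, rfl⟩ := S.trans x₀ y
      exact ⟨e, he, hy, fun h => absurd hpx h⟩
    · exact ⟨p, hp, hpx, fun _ => rfl⟩
  have hne : ∀ x : X, a • x ≠ x := fun x hx => hax (fix_all S ha hz hx x₀)
  have hinv : ∀ x : X, a • a • x = x := fun x => by
    rcases S.sq a ha with h | h <;> rw [← mul_smul, h]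
    · rw [one_smul]
    · rw [hz]
  have hcen : ∀ e ∈ E, ∀ x : X, e • a • x = a • e • x := fun e he x => by
    rcases S.comm e he a ha with h | h <;> rw [← mul_smul, h, mul_smul]
    rw [hz, mul_smul]
  let T := pairSetoid a hinv
  haveI : Fintype (Quotient T) := Fintype.ofFinite _
  have key : ∀ x y : X, d.fn p x + d.fn p (a • x) = d.fn p y + d.fn p (a • y) := by
    by_cases hpx : p • x₀ = x₀
    · have hfix : ∀ x, p • x = x := fun x => fix_all S hp hz hpx x
      intro x y
      obtain ⟨e, he, rfl⟩ := S.trans x y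
      have c1 : ∀ u, d.fn p u + d.fn p (a • u) = 0 ∨ d.fn p u + d.fn p (a • u) = d.fn z x := by
        intro u
        rcases fn_const d S hp hz hfix u ha with h | h <;> rw [h]
        · left; exact CharTwo.add_self_eq_zero _
        · right; rw [← add_assoc, CharTwo.add_self_eq_zero, zero_add]; exact hzc x u
      have c2 : d.fn p (a • e • x) + d.fn p (e • x) = d.fn p (a • x) + d.fn p x := by
        have h1 : d.fn p (e • a • x) = d.fn p (a • e • x) := by rw [hcen e he]
        rw [← h1]
        rcases S.comm p hp e he with h | h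
        · have q1 := d.map_mul p e (a • x)
          have q2 := d.map_mul p e x
          rw [h, d.map_mul, hfix] at q1 q2
          have h5 : ∀ u v u' v' A B : ZMod 2, v + u = A + v → v' + u' = B + v' → A + B = u + u' := by decide
          exact h5 _ _ _ _ _ _ q1 q2
        · have q1 := d.map_mul p e (a • x)
          have q2 := d.map_mul p e x
          rw [h, d.map_mul, hz, d.map_mul, hfix] at q1 q2
          rw [hzc x (a • x)] at q1
          have h5 : ∀ u v u' v' A B c : ZMod 2, v + u + c = A + v → v' + u' + c = B + v' → A + B = u + u' := by decide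
          exact h5 _ _ _ _ _ _ _ q1 q2
      rw [add_comm, ← c2, add_comm]
    · obtain rfl := hmod hpx
      intro x y
      have h1 : ∀ u, d.fn a u + d.fn a (a • u) = d.fn (a * a) u := fun u => by
        rw [d.map_mul, add_comm]
      rw [h1, h1]
      rcases S.sq a ha with h | h <;> rw [h]
      · rw [d.map_one, d.map_one]
      · exact hzc y x
  obtain ⟨hsum, hcard⟩ := sum_pairs (Quotient.mk T) Quotient.mk_surjective (fun x => a • x)
    (fun x => (Quotient.sound (show T.r x (a • x) from Or.inr rfl)).symm) hne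
    (fun x y h => Quotient.exact h.symm)
    (fun x => d.fn p x) (fun _ => d.fn p x₀ + d.fn p (a • x₀)) (fun x => key x₀ x)
  rw [hsum, Finset.sum_const, Finset.card_univ, nsmul_eq_mul]
  rcases htwo with h | h
  · refine zmod2_natCast_mul_of_even (even_iff_two_dvd.mpr ?_) _
    rw [Nat.card_eq_fintype_card, hcard] at h
    exact Nat.dvd_of_mul_dvd_mul_left two_pos h
  · suffices d.fn p x₀ + d.fn p (a • x₀) = 0 by rw [this, mul_zero]
    by_cases hpx : p • x₀ = x₀
    · rcases fn_const d S hp hz (fun x => fix_all S hp hz hpx x) x₀ ha with h' | h' <;> rw [h']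
      · exact CharTwo.add_self_eq_zero _
      · rw [h, add_zero]; exact CharTwo.add_self_eq_zero _
    · obtain rfl := hmod hpx
      rw [add_comm, ← d.map_mul]
      rcases S.sq a ha with h' | h' <;> rw [h']
      · exact d.map_one _
      · exact h _

end Cfsg.Agent.InvChar
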