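import Mathlib
import Cfsg.Agent.Lib.InvChar.Q8Center

/-!
# The number of principal block characters for a quaternion Sylow 2-subgroup of order 8
-/

set_option autoImplicit false
set_option linter.style.haveILetI false
set_option linter.unusedSectionVars false

namespace Cfsg.Agent.Q8

open Cfsg Cfsg.Agent
open scoped ComplexConjugate

universe u

variable {C : Type u} [Group C] [Finite C] {z x : C}

theorem Setup.card_principalBlock (h : Setup C z x) {M : Ideal AlgInt} (hM : IsPModular 2 M) :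
    Nat.card (principalBlock M C) = 7 := by
  classical
  haveI : Fact (Nat.Prime 2) := ⟨Nat.prime_two⟩
  haveI := hM.2.1.isPrime
  letI := Fintype.ofFinite C
  obtain ⟨A, hA⟩ := h.exists_family hM
  have hN : (Nat.card C : ℂ) ≠ 0 := CT.card_ne_zero
  have hne : z ≠ 1 := Invol.ne_one_of_orderOf_two h.hz
  choose sg hsg hval using fun ψ : IrrCharacter C =>
    irr_central_mul ψ.2 h.central (Invol.mul_self_of_orderOf_two h.hz)
  set B := Finset.univ.filter fun ψ : IrrCharacter C => ψ ∈ principalBlock M C with hB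
  set nf := B.filter fun ψ => sg ψ = 1 with hnfdef
  set ff := B.filter fun ψ => ¬ sg ψ = 1 with hffdef
  -- the characters trivial on the involution
  have hmem : ∀ ψ ∈ nf, ψ ∈ principalBlock M C ∧ ∀ g, (ψ : C → ℂ) (z * g) = (ψ : C → ℂ) g := by
    intro ψ hψ
    rw [hnfdef, Finset.mem_filter, hB, Finset.mem_filter] at hψ
    exact ⟨hψ.1.2, fun g => by rw [hval, hψ.2, one_mul]⟩
  have hex : ∀ i, ∃ ψ ∈ nf, classInner (A i) (ψ : C → ℂ) ≠ 0 := by
    intro i
    by_contra hcon
    push Not at hcon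
    have h1 := hA.ortho i i
    rw [if_pos rfl, CT.classInner_eq_sum (CT.isClassFunction_of_isGen (hA.gen i))] at h1
    rw [Finset.sum_eq_zero] at h1
    · exact zero_ne_one h1
    intro ψ _
    by_cases hψ : ψ ∈ principalBlock M C
    · by_cases hs : sg ψ = 1
      · rw [hcon ψ (by simp [hnfdef, hB, hψ, hs]), zero_mul]
      · have hs' : sg ψ = -1 := (hsg ψ).resolve_left hs
        have h0 : classInner (A i) (ψ : C → ℂ) = 0 := by
          have h2 : classInner (A i) (ψ : C → ℂ) = -classInner (A i) (ψ : C → ℂ) := by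
            conv_lhs => rw [classInner, ← Equiv.sum_comp (Equiv.mulLeft z)]
            simp only [Equiv.coe_mulLeft, hA.zinv, hval, hs', neg_one_mul, map_neg, mul_neg,
              Finset.sum_neg_distrib]
            rfl
          linear_combination (1 / 2 : ℂ) * h2
        rw [h0, zero_mul]
    · rw [hA.supp i ψ hψ, zero_mul]
  choose g hg hgne using hex
  have hform : ∀ ψ ∈ nf, ∃ j, ∃ r : ℂ, (ψ : C → ℂ) = r • A j ∧ r * conj r = 1 := by
    intro ψ hψ
    obtain ⟨j, r, hj⟩ := hA.nf ψ (hmem ψ hψ).1 (hmem ψ hψ).2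
    refine ⟨j, r, hj, ?_⟩
    have h1 := CT.irr_inner_self ψ.2
    rwa [hj, CT.classInner_smul_left, CT.classInner_smul_right, hA.ortho, if_pos rfl, mul_one] at h1
  have hginj : Function.Injective g := by
    intro i j hij
    obtain ⟨k, r, hk, -⟩ := hform _ (hg i)
    have hi := hgne i
    have hj := hgne j
    rw [← hij] at hj
    rw [hk, CT.classInner_smul_right, hA.ortho] at hi hj
    have a : i = k := by
      by_contra h'; exact hi (by rw [if_neg h', mul_zero])
    have b : j = k := by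
      by_contra h'; exact hj (by rw [if_neg h', mul_zero])
    exact a.trans b.symm
  have himage : Finset.univ.image g = nf := by
    refine Finset.Subset.antisymm (fun ψ hψ => ?_) fun ψ hψ => ?_
    · obtain ⟨i, -, rfl⟩ := Finset.mem_image.mp hψ
      exact hg i
    · obtain ⟨j, r, hj, hr⟩ := hform ψ hψ
      obtain ⟨k, r', hk, -⟩ := hform _ (hg j)
      have hjk : j = k := by
        by_contra h'
        have := hgne j
        rw [hk, CT.classInner_smul_right, hA.ortho, if_neg h', mul_zero] at this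
        exact this rfl
      refine Finset.mem_image.mpr ⟨j, Finset.mem_univ _, ?_⟩
      by_contra hne'
      have h0 := CT.irr_inner_subtype ψ (g j)
      rw [if_neg (Ne.symm hne'), hj, hk, ← hjk, CT.classInner_smul_left, CT.classInner_smul_right,
        hA.ortho, if_pos rfl, mul_one] at h0
      rcases mul_eq_zero.mp h0 with h' | h'
      · rw [h', zero_mul] at hr; exact zero_ne_one hr
      · have := hgne j
        rw [hk, CT.classInner_smul_right, hA.ortho, ← hjk, if_pos rfl, h', zero_mul] at this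
        exact this rfl
  have hcard4 : nf.card = 4 := by
    rw [← himage, Finset.card_image_of_injective _ hginj, Finset.card_univ, Fintype.card_fin]
  -- the norms on the elements of odd order
  have hRnf : ∀ ψ ∈ nf, Rf (ψ : C → ℂ) (ψ : C → ℂ) = 3 / 4 := by
    intro ψ hψ
    obtain ⟨j, r, hj, hr⟩ := hform ψ hψ
    rw [hj, Rf_smul_left, ← Rf_conj, Rf_smul_left, map_mul, Rf_conj, hA.gram h, if_pos rfl,
      ← mul_assoc, hr]
    norm_num
  have hRff : ∀ ψ ∈ ff, Rf (ψ : C → ℂ) (ψ : C → ℂ) = 1 := by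
    intro ψ hψ
    rw [hffdef, Finset.mem_filter, hB, Finset.mem_filter] at hψ
    have hs : sg ψ = -1 := (hsg ψ).resolve_left hψ.2
    have hx0 : (ψ : C → ℂ) x = 0 := by
      have h1 := hval ψ x
      rw [CT.isClassFunction_isConj (CT.isClassFunction_of_isIrr ψ.2) (h.conj _ h.z_mul_x).symm,
        hs] at h1
      linear_combination (1 / 2 : ℂ) * h1
    rw [← CT.irr_inner_self ψ.2, classInner, h.sum_split]
    have e1 : oddSum (fun y => (ψ : C → ℂ) (z * y) * conj ((ψ : C → ℂ) (z * y))) =
        oddSum (fun y => (ψ : C → ℂ) y * conj ((ψ : C → ℂ) y)) :=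
      oddSum_congr fun y _ => by rw [hval, hs, map_mul, map_neg, map_one]; ring
    have e2 : ∑ y, (if orderOf (tw y) = 4 then (ψ : C → ℂ) y * conj ((ψ : C → ℂ) y) else 0) = 0 :=
      Finset.sum_eq_zero fun y _ => by
        split_ifs with hy
        · rw [((h.section_facts hM ψ).1 hψ.1.2).2 y hy, hx0, zero_mul]
        · rfl
    rw [e1, e2, Rf]
    ring
  -- weak orthogonality on the diagonal
  have hsum : ∑ ψ ∈ B, sg ψ * Rf (ψ : C → ℂ) (ψ : C → ℂ) = 0 := by
    have horth : ∀ y, tw y = 1 →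
        ∑ ψ ∈ B, sg ψ * ((ψ : C → ℂ) y * conj ((ψ : C → ℂ) y)) = 0 := by
      intro y hy
      have h2 : 2 ∣ orderOf (z * y) := by
        rw [← even_iff_two_dvd, ← Nat.not_odd_iff_even]
        intro hodd
        have := (h.ev_of_odd hodd).1
        rw [(h.tw_z_mul' y).1, hy, mul_one] at this
        exact hne this
      have h2' : ¬ 2 ∣ orderOf y := by
        rw [← even_iff_two_dvd, Nat.not_even_iff_odd]; exact (odd_of_tw_one h hy).1
      have := Blocks.weak_orthogonality' hM
        (fun u => Blocks.blockCoeff_mem_loc (Blocks.isPBlock_principalBlock (M := M) (G := C)) u) h2 h2'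
      rw [Blocks.finsum_mem_irr, ← Finset.sum_filter] at this
      rw [← this, hB]
      refine Finset.sum_congr rfl fun ψ _ => ?_
      rw [hval]; ring
    simp only [Rf, oddSum, Finset.mul_sum]
    rw [Finset.sum_comm]
    refine Finset.sum_eq_zero fun y _ => ?_
    by_cases hy : tw y = 1
    · simp only [if_pos hy]
      calc ∑ ψ ∈ B, sg ψ * (2 * (Nat.card C : ℂ)⁻¹ * ((ψ : C → ℂ) y * conj ((ψ : C → ℂ) y)))
          = 2 * (Nat.card C : ℂ)⁻¹ * ∑ ψ ∈ B, sg ψ * ((ψ : C → ℂ) y * conj ((ψ : C → ℂ) y)) := by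
            rw [Finset.mul_sum]; exact Finset.sum_congr rfl fun ψ _ => by ring
        _ = 0 := by rw [horth y hy, mul_zero]
    · simp [hy]
  rw [← Finset.sum_filter_add_sum_filter_not B (fun ψ => sg ψ = 1), ← hnfdef, ← hffdef] at hsum
  have a1 : ∑ ψ ∈ nf, sg ψ * Rf (ψ : C → ℂ) (ψ : C → ℂ) = 3 := by
    rw [Finset.sum_congr rfl (fun ψ hψ => show sg ψ * Rf (ψ : C → ℂ) (ψ : C → ℂ) = (3 / 4 : ℂ) by
      rw [hRnf ψ hψ, (Finset.mem_filter.mp hψ).2, one_mul]), Finset.sum_const, hcard4]
    norm_num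
  have a2 : ∑ ψ ∈ ff, sg ψ * Rf (ψ : C → ℂ) (ψ : C → ℂ) = -(ff.card : ℂ) := by
    rw [Finset.sum_congr rfl (fun ψ hψ => show sg ψ * Rf (ψ : C → ℂ) (ψ : C → ℂ) = -1 by
      rw [hRff ψ hψ, (hsg ψ).resolve_left (Finset.mem_filter.mp hψ).2, mul_one]), Finset.sum_const]
    simp
  rw [a1, a2] at hsum
  have hff : ff.card = 3 := by
    have : ((ff.card : ℕ) : ℂ) = ((3 : ℕ) : ℂ) := by push_cast; linear_combination -hsum
    exact_mod_cast this
  have hBcard : B.card = 7 := by
    rw [← Finset.card_filter_add_card_filter_not (fun ψ => sg ψ = 1) (s := B), ← hnfdef, ← hffdef,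
      hcard4, hff]
  rw [← hBcard, hB, Nat.card_eq_card_toFinset]
  congr 1
  ext ψ
  simp

/-- `k(B₀) = 7`. -/
theorem card_principalBlock_eq_seven {G : Type u} [Group G] [Finite G] {M : Ideal AlgInt}
    (hM : IsPModular 2 M) (S : Sylow 2 G) (e : (S : Subgroup G) ≃* QuaternionGroup 2)
    (hO : ∀ N : Subgroup G, N.Normal → Odd (Nat.card N) → N = ⊥) (hG : (S : Subgroup G) ≠ ⊤) :
    Nat.card (principalBlock M G) = 7 := by
  haveI : Fact (Nat.Prime 2) := ⟨Nat.prime_two⟩
  have hnc : ∀ N : Subgroup G, N.Normal → ¬ Subgroup.IsComplement' N (S : Subgroup G) := by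
    intro N hN hNS
    have hNbot : N = ⊥ := hO N hN (by
      rw [← Nat.not_even_iff_odd, even_iff_two_dvd, ← hNS.index_eq_card]
      exact S.not_dvd_index)
    exact hG (Subgroup.eq_top_of_card_eq _ (by
      rw [← hNS.card_mul, hNbot, Subgroup.card_bot, one_mul]))
  obtain ⟨-, -, -, x, hx, y, hy, hx4, hy4, hxy⟩ := facts S e
  have hz : orderOf (x * x) = 2 := by rw [← pow_two, orderOf_pow, hx4]; rfl
  have hcen := z_mem_center _ G rfl S ⟨e⟩ hO _ hz
  exact Setup.card_principalBlock
    { quat := ⟨S, ⟨e⟩⟩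
      central := hcen
      hz := hz
      hx := hx4
      «conj» := fun t ht => conj_four S e hnc hx4 ht } hM

end Cfsg.Agent.Q8
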