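import Cfsg.Agent.Lib.Blocks.ZStar
import Cfsg.Agent.Lib.Invol.Basic
import Cfsg.Prelude.Def_TwoFusion

/-!
# 2-groups with a generalized quaternion quotient by a maximal subgroup of the centre
-/

set_option autoImplicit false
set_option linter.style.haveILetI false

namespace Cfsg.Agent.InvChar

open Cfsg Cfsg.Agent

universe u

variable {S : Type u} [Group S] [Finite S]

/-- What the quaternion quotient says about elements of `S`. -/
structure QuatGens (D : Subgroup S) where
  a : S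
  b : S
  k : ℕ
  hk : 0 < k
  sq_one : ∀ x : S, x * x = 1 → x ∈ Subgroup.center S
  sq_not_mem : ∀ x : S, x * x ∈ Subgroup.center S → x ∉ Subgroup.center S → x * x ∉ D
  center_two : ∀ x ∈ Subgroup.center S, ∀ y ∈ Subgroup.center S, x ∉ D → y ∉ D → x * y⁻¹ ∈ D
  pow_mem : a ^ (2 * k) ∈ Subgroup.center S
  dvd_of_mem : ∀ i : ℤ, a ^ i ∈ Subgroup.center S → (2 * k : ℤ) ∣ i
  pow_mul_not_mem : ∀ i : ℤ, a ^ i * b ∉ Subgroup.center S
  b_sq : b * b ∈ Subgroup.center S
  ab_sq : a * b * (a * b) ∈ Subgroup.center S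
  gen : ∀ g : S, ∃ i : ℤ, ∃ d ∈ D, g = a ^ i * d ∨ g = a ^ i * b * d

theorem exists_quatGens (hS : IsPGroup 2 S) (D : Subgroup S) [D.Normal] (hD : D < Subgroup.center S)
    (hna : ¬ IsMulCommutative (S ⧸ D)) (huniq : ∃! x : S ⧸ D, orderOf x = 2)
    (hmax : ∀ E : Subgroup S, D < E → E ≤ Subgroup.center S → E = Subgroup.center S) :
    Nonempty (QuatGens D) := by
  haveI : Fact (Nat.Prime 2) := ⟨Nat.prime_two⟩
  have hT : IsPGroup 2 (S ⧸ D) := hS.to_quotient D
  obtain ⟨ι, hι, hιu⟩ := huniq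
  have hu : ∀ H K : Subgroup (S ⧸ D), Nat.card H = 2 → Nat.card K = 2 → H = K := by
    have key : ∀ H : Subgroup (S ⧸ D), Nat.card H = 2 → H = Subgroup.zpowers ι := by
      intro H hH
      obtain ⟨t, ht⟩ := exists_prime_orderOf_dvd_card' (G := H) 2 (by rw [hH])
      have ht' : orderOf (t : S ⧸ D) = 2 := by rw [Subgroup.orderOf_coe, ht]
      rw [← hιu _ ht']
      exact (Subgroup.eq_of_le_of_card_ge (Subgroup.zpowers_le.mpr t.2)
        (by rw [Nat.card_zpowers, hH, ht'])).symm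
    exact fun H K hH hK => (key H hH).trans (key K hK).symm
  rcases Blocks.oneInvolutionStructure (S ⧸ D) hT hu with hcyc | ⟨n, ⟨e⟩⟩
  · exact absurd (⟨⟨fun x y => by
      obtain ⟨g, hg⟩ := hcyc.exists_generator
      obtain ⟨i, rfl⟩ := hg x
      obtain ⟨j, rfl⟩ := hg y
      exact ((Commute.refl g).zpow_zpow i j).eq⟩⟩ : IsMulCommutative (S ⧸ D)) hna
  rcases n with _ | n
  · exfalso
    haveI : IsCyclic (QuaternionGroup (2 ^ 0)) := QuaternionGroup.quaternionGroup_one_isCyclic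
    haveI hcyc : IsCyclic (S ⧸ D) := isCyclic_of_surjective e.symm.toMonoidHom e.symm.surjective
    exact hna ⟨⟨fun x y => by
      obtain ⟨g, hg⟩ := hcyc.exists_generator
      obtain ⟨i, rfl⟩ := hg x
      obtain ⟨j, rfl⟩ := hg y
      exact ((Commute.refl g).zpow_zpow i j).eq⟩⟩
  set m := 2 ^ (n + 1) with hm
  obtain ⟨a, ha⟩ := QuotientGroup.mk_surjective (e.symm (QuaternionGroup.a 1))
  obtain ⟨b, hb⟩ := QuotientGroup.mk_surjective (e.symm (QuaternionGroup.xa 0))
  set π := QuotientGroup.mk' D with hπ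
  have hordA : orderOf (π a) = 2 * m := by
    rw [hπ, QuotientGroup.mk'_apply, ha, MulEquiv.orderOf_eq, QuaternionGroup.orderOf_a_one]
  have hιeq : π a ^ m = ι := hιu _ (by
    show orderOf (π a ^ m) = 2
    rw [orderOf_pow' _ (pow_ne_zero _ two_ne_zero), hordA, Nat.gcd_eq_right (dvd_mul_left m 2),
      Nat.mul_div_left _ (by positivity)])
  -- the centre maps onto `{1, ι}`
  have hcen : ∀ x : S, x ∈ Subgroup.center S ↔ π x = 1 ∨ π x = ι := by
    obtain ⟨z, hz, hzD⟩ := SetLike.exists_of_lt hD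
    have hD2 : ∀ x ∈ Subgroup.center S, x * x ∈ D := by
      intro x hx
      by_contra hxx
      have hxD : x ∉ D := fun h => hxx (mul_mem h h)
      -- `D` and `x * x` generate the centre, so `x` is a multiple of `x * x`
      have hlt : D < D ⊔ Subgroup.zpowers (x * x) := lt_of_le_of_ne le_sup_left fun h =>
        hxx (h ▸ Subgroup.mem_sup_right (Subgroup.mem_zpowers _))
      have htop := hmax _ hlt (sup_le hD.le (Subgroup.zpowers_le.mpr (mul_mem hx hx)))
      have hx' : x ∈ D ⊔ Subgroup.zpowers (x * x) := htop.symm ▸ hx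
      rw [← Subgroup.mem_toSubmonoid, Subgroup.mem_toSubmonoid, Subgroup.mem_sup_of_normal_left] at hx'
      obtain ⟨d, hd, w, ⟨l, rfl⟩, he⟩ := hx'
      have hπx : π x = (π x ^ 2) ^ l := by
        conv_lhs => rw [← he]
        rw [map_mul, show π d = 1 from (QuotientGroup.eq_one_iff d).mpr hd, one_mul, map_zpow, map_mul, pow_two]
      obtain ⟨t, ht⟩ := hT.exists_orderOf_eq_pow (π x)
      rcases t with _ | t
      · rw [pow_zero, orderOf_eq_one_iff] at ht
        exact hxD ((QuotientGroup.eq_one_iff x).mp ht)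
      · have h1 : π x ^ (2 * l - 1) = 1 := by
          rw [zpow_sub, zpow_mul, zpow_one]
          rw [zpow_ofNat, ← hπx, mul_inv_cancel]
        rw [← orderOf_dvd_iff_zpow_eq_one, ht] at h1
        have h2 : (2 : ℤ) ∣ 2 * l - 1 := dvd_trans ⟨2 ^ t, by push_cast; rw [pow_succ]; ring⟩ h1
        omega
    have hord : ∀ x ∈ Subgroup.center S, x ∉ D → π x = ι := fun x hx hxD =>
      hιu _ (Invol.orderOf_two_of_mul_self (by rw [← map_mul]; exact (QuotientGroup.eq_one_iff _).mpr (hD2 x hx))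
        (fun h => hxD ((QuotientGroup.eq_one_iff x).mp h)))
    intro x
    constructor
    · intro hx
      by_cases hxD : x ∈ D
      · exact Or.inl ((QuotientGroup.eq_one_iff x).mpr hxD)
      · exact Or.inr (hord x hx hxD)
    · rintro (h | h)
      · exact hD.le ((QuotientGroup.eq_one_iff x).mp h)
      · have h2 : z⁻¹ * x ∈ D := by
          rw [← QuotientGroup.eq_one_iff, QuotientGroup.mk_mul, QuotientGroup.mk_inv, inv_mul_eq_one]
          exact (hord z hz hzD).trans h.symm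
        have := mul_mem hz (hD.le h2)
        rwa [mul_inv_cancel_left] at this
  have hι2 : ι * ι = 1 := Invol.mul_self_of_orderOf_two hι
  have hunique : ∀ y : S ⧸ D, y * y = 1 → y = 1 ∨ y = ι := fun y hy => by
    by_cases h : y = 1
    · exact Or.inl h
    · exact Or.inr (hιu y (Invol.orderOf_two_of_mul_self hy h))
  have hxasq : ∀ i : ZMod (2 * m), (QuaternionGroup.xa i : QuaternionGroup m) * QuaternionGroup.xa i =
      (QuaternionGroup.a 1) ^ m := by
    intro i
    rw [← pow_two, QuaternionGroup.xa_sq, QuaternionGroup.a_one_pow]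
  have hxanot : ∀ i : ZMod (2 * m), e.symm (QuaternionGroup.xa i) ≠ 1 ∧ e.symm (QuaternionGroup.xa i) ≠ ι := by
    intro i
    constructor <;> intro h
    · have := e.symm.injective (h.trans (map_one _).symm)
      rw [QuaternionGroup.one_def] at this
      cases this
    · rw [← hιeq, hπ, QuotientGroup.mk'_apply, ha, ← map_pow, QuaternionGroup.a_one_pow] at h
      have := e.symm.injective h
      simp at this
  have hab : π (a * b) = e.symm (QuaternionGroup.xa (-1)) := by
    rw [map_mul, hπ, QuotientGroup.mk'_apply, QuotientGroup.mk'_apply, ha, hb, ← map_mul,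
      QuaternionGroup.a_mul_xa, zero_sub]
  refine ⟨⟨a, b, 2 ^ n, by positivity, ?_, ?_, ?_, ?_, ?_, ?_, ?_, ?_, ?_⟩⟩
  · intro x hx
    exact (hcen x).mpr (hunique _ (by rw [← map_mul, hx, map_one]))
  · intro x hxx hx hmem
    exact hx ((hcen x).mpr (hunique _ (by rw [← map_mul]; exact (QuotientGroup.eq_one_iff _).mpr hmem)))
  · intro x hx y hy hxD hyD
    rw [← QuotientGroup.eq_one_iff, QuotientGroup.mk_mul, QuotientGroup.mk_inv, mul_inv_eq_one]
    exact (((hcen x).mp hx).resolve_left fun h => hxD ((QuotientGroup.eq_one_iff x).mp h)).trans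
      (((hcen y).mp hy).resolve_left fun h => hyD ((QuotientGroup.eq_one_iff y).mp h)).symm
  · refine (hcen _).mpr (Or.inr ?_)
    rw [map_pow, ← pow_succ', hιeq]
  · intro i hi
    have h1 : (orderOf (π a) : ℤ) ∣ i * 2 := by
      rw [orderOf_dvd_iff_zpow_eq_one, zpow_mul, ← map_zpow]
      rcases (hcen _).mp hi with h | h <;> rw [h]
      · exact one_zpow _
      · rw [zpow_two, hι2]
    rw [hordA, hm, pow_succ] at h1
    push_cast at h1
    exact Int.dvd_of_mul_dvd_mul_right two_ne_zero (dvd_trans (dvd_of_eq (by push_cast; ring)) h1)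
  · intro i hi
    obtain ⟨c, rfl⟩ : ∃ c : ℤ, c = i := ⟨i, rfl⟩
    obtain ⟨j, hj⟩ : ∃ j : ℕ, π a ^ j = π a ^ c :=
      (mem_powers_iff_mem_zpowers (x := π a)).mpr ⟨c, rfl⟩
    have h : π (a ^ c * b) = e.symm (QuaternionGroup.xa (-(j : ZMod (2 * m)))) := by
      rw [map_mul, map_zpow, ← hj, hπ, QuotientGroup.mk'_apply, QuotientGroup.mk'_apply, ha, hb, ← map_pow,
        ← map_mul, QuaternionGroup.a_one_pow, QuaternionGroup.a_mul_xa, zero_sub]
    rcases (hcen _).mp hi with h' | h' <;> rw [h] at h'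
    · exact (hxanot _).1 h'
    · exact (hxanot _).2 h'
  · refine (hcen _).mpr (Or.inr ?_)
    rw [map_mul, hπ, QuotientGroup.mk'_apply, hb, ← map_mul, hxasq, map_pow, ← ha]
    exact hιeq
  · refine (hcen _).mpr (Or.inr ?_)
    rw [map_mul, hab, ← map_mul, hxasq, map_pow, ← ha]
    exact hιeq
  · intro g
    cases hg : e (π g) with
    | a i =>
      refine ⟨(i.val : ℤ), (a ^ (i.val : ℤ))⁻¹ * g, ?_, Or.inl (by rw [mul_inv_cancel_left])⟩
      rw [← QuotientGroup.eq_one_iff, QuotientGroup.mk_mul, QuotientGroup.mk_inv, inv_mul_eq_one,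
        zpow_natCast, QuotientGroup.mk_pow, ha, ← map_pow, QuaternionGroup.a_one_pow, ZMod.natCast_zmod_val,
        ← hg]
      exact e.symm_apply_apply _
    | xa i =>
      refine ⟨((-i).val : ℤ), (a ^ ((-i).val : ℤ) * b)⁻¹ * g, ?_, Or.inr (by rw [mul_inv_cancel_left])⟩
      rw [← QuotientGroup.eq_one_iff, QuotientGroup.mk_mul, QuotientGroup.mk_inv, inv_mul_eq_one,
        zpow_natCast, QuotientGroup.mk_mul, QuotientGroup.mk_pow, ha, hb, ← map_pow, ← map_mul,
        QuaternionGroup.a_one_pow, ZMod.natCast_zmod_val, QuaternionGroup.a_mul_xa, zero_sub, neg_neg, ← hg]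
      exact e.symm_apply_apply _

theorem lift_facts (D : Subgroup ↥(Subgroup.center S)) (hD : IsCoatom D) :
    (D.map (Subgroup.center S).subtype).Normal ∧ D.map (Subgroup.center S).subtype < Subgroup.center S ∧
      ∀ E : Subgroup S, D.map (Subgroup.center S).subtype < E → E ≤ Subgroup.center S →
        E = Subgroup.center S := by
  have hle : D.map (Subgroup.center S).subtype ≤ Subgroup.center S := Subgroup.map_subtype_le _
  refine ⟨⟨fun x hx g => ?_⟩, lt_of_le_of_ne hle fun h => hD.1 ?_, fun E hlt hE => ?_⟩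
  · rwa [Subgroup.mem_center_iff.mp (hle hx) g, mul_inv_cancel_right]
  · apply Subgroup.map_injective (Subgroup.center S).subtype_injective
    rw [h, ← MonoidHom.range_eq_map, Subgroup.range_subtype]
  · have h1 : D < E.subgroupOf (Subgroup.center S) := by
      refine lt_of_le_of_ne (fun x hx => hlt.le ⟨x, hx, rfl⟩) fun h => hlt.ne ?_
      rw [h, Subgroup.map_subgroupOf_eq_of_le hE]
    exact le_antisymm hE (Subgroup.subgroupOf_eq_top.mp (hD.2 _ h1))

theorem exists_cyclic_characteristic (hS : IsPGroup 2 S) (D : Subgroup ↥(Subgroup.center S)) (hD : IsCoatom D)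
    (hq : ∃ (_ : (D.map (Subgroup.center S).subtype).Normal),
      ¬ IsMulCommutative (S ⧸ D.map (Subgroup.center S).subtype) ∧
      ∃! x : S ⧸ D.map (Subgroup.center S).subtype, orderOf x = 2) :
    ∃ C : Subgroup S, C ≠ ⊥ ∧ IsCyclic ↥C ∧ C.Characteristic := by
  obtain ⟨_, hna, hu⟩ := hq
  obtain ⟨-, hlt, hmax⟩ := lift_facts D hD
  set Ds := D.map (Subgroup.center S).subtype with hDs
  obtain ⟨Q⟩ := exists_quatGens hS Ds hlt hna hu hmax
  obtain ⟨a, b, k, hk, -, -, -, hpow, -, -, hb2, hab2, hgen⟩ := Q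
  -- `b` inverts `a` modulo the centre
  set w := a * (b * a * b⁻¹) with hw
  have hwZ : w ∈ Subgroup.center S := by
    have : w = a * b * (a * b) * (b * b)⁻¹ := by rw [hw]; group
    rw [this]
    exact mul_mem hab2 (inv_mem hb2)
  have hwc : ∀ g, g * w = w * g := fun g => Subgroup.mem_center_iff.mp hwZ g
  have hbab : b * a * b⁻¹ = a⁻¹ * w := by rw [hw, inv_mul_cancel_left]
  set c := a * b * a⁻¹ * b⁻¹ with hc
  have hcaw : c = a * a * w⁻¹ := by
    calc c = a * (b * a * b⁻¹)⁻¹ := by rw [hc]; group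
      _ = a * (w⁻¹ * a) := by rw [hbab]; group
      _ = a * a * w⁻¹ := by
          rw [← ((show Commute a w from hwc a).inv_right).eq, mul_assoc]
  have hca : Commute c a := by
    rw [hcaw]
    exact ((Commute.refl a).mul_left (Commute.refl a)).mul_left (show Commute a w from hwc a).inv_right.symm
  have hbc : b * c * b⁻¹ = c⁻¹ := by
    rw [hcaw]
    calc b * (a * a * w⁻¹) * b⁻¹ = (b * a * b⁻¹) * (b * a * b⁻¹) * (b * w⁻¹ * b⁻¹) := by group
      _ = a⁻¹ * w * (a⁻¹ * w) * w⁻¹ := by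
          rw [hbab, ((show Commute b w from hwc b).inv_right).eq, mul_inv_cancel_right]
      _ = (a⁻¹ * w) * a⁻¹ := by group
      _ = w * (a⁻¹ * a⁻¹) := by rw [(show Commute a⁻¹ w from hwc a⁻¹).eq, mul_assoc]
      _ = (a * a * w⁻¹)⁻¹ := by group
  set C := Subgroup.zpowers c with hC
  haveI hCn : C.Normal := by
    refine ⟨fun x hx g => ?_⟩
    obtain ⟨l, rfl⟩ := hx
    obtain ⟨i, d, hd, hg⟩ := hgen g
    have hd' : ∀ y, d * y * d⁻¹ = y := fun y => by
      rw [← Subgroup.mem_center_iff.mp (hlt.le hd) y, mul_inv_cancel_right]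
    have h1 : a ^ i * c ^ l * (a ^ i)⁻¹ = c ^ l := by
      rw [((hca.zpow_zpow l i).symm).eq, mul_inv_cancel_right]
    have h2 : b * c ^ l * b⁻¹ = c ^ (-l) := by rw [← conj_zpow, hbc, inv_zpow, zpow_neg]
    rcases hg with rfl | rfl
    · refine ⟨l, ?_⟩
      show c ^ l = a ^ i * d * c ^ l * (a ^ i * d)⁻¹
      calc c ^ l = a ^ i * (d * c ^ l * d⁻¹) * (a ^ i)⁻¹ := by rw [hd', h1]
        _ = _ := by group
    · refine ⟨-l, ?_⟩
      show c ^ (-l) = a ^ i * b * d * c ^ l * (a ^ i * b * d)⁻¹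
      calc c ^ (-l) = a ^ i * c ^ (-l) * (a ^ i)⁻¹ := by
            rw [((hca.zpow_zpow (-l) i).symm).eq, mul_inv_cancel_right]
        _ = a ^ i * (b * (d * c ^ l * d⁻¹) * b⁻¹) * (a ^ i)⁻¹ := by rw [hd', h2]
        _ = _ := by group
  have hSC : commutator S = C := by
    apply le_antisymm
    · have hgentop : Subgroup.closure ({a, b} ∪ (Ds : Set S)) = ⊤ := by
        refine eq_top_iff.mpr fun g _ => ?_
        have ha : a ∈ Subgroup.closure ({a, b} ∪ (Ds : Set S)) := Subgroup.subset_closure (by simp)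
        have hb : b ∈ Subgroup.closure ({a, b} ∪ (Ds : Set S)) := Subgroup.subset_closure (by simp)
        obtain ⟨i, d, hd, rfl | rfl⟩ := hgen g
        · exact mul_mem (zpow_mem ha i) (Subgroup.subset_closure (Or.inr hd))
        · exact mul_mem (mul_mem (zpow_mem ha i) hb) (Subgroup.subset_closure (Or.inr hd))
      rw [commutator_def, ← hgentop, Subgroup.commutator_le]
      have hcomm : IsMulCommutative (Subgroup.closure ((QuotientGroup.mk' C) '' ({a, b} ∪ (Ds : Set S)))) := by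
        refine Subgroup.isMulCommutative_closure ?_
        have hab : QuotientGroup.mk' C a * QuotientGroup.mk' C b = QuotientGroup.mk' C b * QuotientGroup.mk' C a := by
          rw [← mul_inv_eq_one, ← map_mul, ← map_mul, ← map_inv, ← map_mul, QuotientGroup.mk'_apply,
            QuotientGroup.eq_one_iff]
          exact ⟨1, by rw [hc]; simp only [zpow_one]; group⟩
        have hd : ∀ d ∈ Ds, ∀ y, QuotientGroup.mk' C d * y = y * QuotientGroup.mk' C d := by
          intro d hd y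
          obtain ⟨y, rfl⟩ := QuotientGroup.mk'_surjective C y
          rw [← map_mul, ← map_mul, Subgroup.mem_center_iff.mp (hlt.le hd) y]
        rintro _ ⟨x, hx, rfl⟩ _ ⟨y, hy, rfl⟩
        rcases hx with (rfl | rfl) | hx <;> rcases hy with (rfl | rfl) | hy <;>
          first | rfl | exact hab | exact hab.symm | exact hd _ hx _ | exact (hd _ hy _).symm
      intro x hx y hy
      rw [← QuotientGroup.eq_one_iff, ← QuotientGroup.mk'_apply, map_commutatorElement,
        commutatorElement_eq_one_iff_mul_comm]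
      have hx' := Subgroup.mem_map_of_mem (QuotientGroup.mk' C) hx
      have hy' := Subgroup.mem_map_of_mem (QuotientGroup.mk' C) hy
      rw [MonoidHom.map_closure] at hx' hy'
      exact congrArg Subtype.val (hcomm.is_comm.comm ⟨_, hx'⟩ ⟨_, hy'⟩)
    · rw [hC, Subgroup.zpowers_le, commutator_def]
      exact Subgroup.commutator_mem_commutator (Subgroup.mem_top a) (Subgroup.mem_top b)
  refine ⟨C, fun h => hna ?_, inferInstance, by rw [← hSC]; infer_instance⟩
  rw [h, commutator_eq_bot_iff_center_eq_top] at hSC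
  exact ⟨⟨fun x y => by
    obtain ⟨x, rfl⟩ := QuotientGroup.mk_surjective x
    obtain ⟨y, rfl⟩ := QuotientGroup.mk_surjective y
    rw [← QuotientGroup.mk_mul, ← QuotientGroup.mk_mul,
      Subgroup.mem_center_iff.mp (hSC.symm ▸ Subgroup.mem_top x : x ∈ Subgroup.center S) y]⟩⟩

theorem exists_elementary_times_quaternion (hS : IsPGroup 2 S) (n : ℕ) (hn : 2 ≤ n)
    (C : Fin n → Subgroup ↥(Subgroup.center S))
    (hCmax : ∀ i, IsCoatom (C i)) (hCint : ⨅ i, C i = ⊥)
    (hCq : ∀ i, ∃ (_ : ((C i).map (Subgroup.center S).subtype).Normal),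
      ¬ IsMulCommutative (S ⧸ (C i).map (Subgroup.center S).subtype) ∧
      ∃! x : S ⧸ (C i).map (Subgroup.center S).subtype, orderOf x = 2) :
    ∃ E Q : Subgroup S, Cfsg.IsInternalDirectProduct E Q ⊤ ∧ Cfsg.IsElementaryAbelian 2 E ∧
      ¬ IsMulCommutative ↥Q ∧ ∃! x : ↥Q, orderOf x = 2 := by
  set D : Fin n → Subgroup S := fun i => (C i).map (Subgroup.center S).subtype with hDdef
  haveI hDn : ∀ i, (D i).Normal := fun i => (hCq i).choose
  have hdata : ∀ i, (D i) < (Subgroup.center S) ∧ Nonempty (QuatGens (D i)) := by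
    intro i
    obtain ⟨_, hna, hu⟩ := hCq i
    obtain ⟨-, hlt, hmax⟩ := lift_facts (C i) (hCmax i)
    exact ⟨hlt, exists_quatGens hS _ hlt hna hu hmax⟩
  have hsep : ∀ x ∈ (Subgroup.center S), (∀ i, x ∈ D i) → x = 1 := by
    intro x hx h
    have h1 : (⟨x, hx⟩ : (Subgroup.center S)) ∈ ⨅ i, C i := by
      rw [Subgroup.mem_iInf]
      intro i
      obtain ⟨y, hy, hyx⟩ := h i
      rwa [show (⟨x, hx⟩ : (Subgroup.center S)) = y from Subtype.ext hyx.symm]
    rw [hCint, Subgroup.mem_bot] at h1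
    exact congrArg Subtype.val h1
  have hZ2 : ∀ x ∈ (Subgroup.center S), x * x = 1 := by
    intro x hx
    refine hsep _ (mul_mem hx hx) fun i => ?_
    obtain ⟨hlt, ⟨Q⟩⟩ := hdata i
    by_cases h : x ∈ D i
    · exact mul_mem h h
    · by_cases h' : x⁻¹ ∈ D i
      · exact absurd (inv_inv x ▸ inv_mem h') h
      · have := Q.center_two x hx x⁻¹ (inv_mem hx) h h'
        rwa [inv_inv] at this
  let i₀ : Fin n := ⟨0, by omega⟩
  obtain ⟨hlt₀, ⟨G₀⟩⟩ := hdata i₀
  obtain ⟨a, b, k, hk, hsq, -, -, hpow, hdvd, hnot, hb2, hab2, hgen⟩ := G₀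
  have hzeq : ∀ x y : S, x * x ∈ (Subgroup.center S) → x ∉ (Subgroup.center S) → y * y ∈ (Subgroup.center S) → y ∉ (Subgroup.center S) → x * x = y * y := by
    intro x y hx2 hx hy2 hy
    refine mul_inv_eq_one.mp (hsep _ (mul_mem hx2 (inv_mem hy2)) fun i => ?_)
    obtain ⟨-, ⟨Q⟩⟩ := hdata i
    exact Q.center_two _ hx2 _ hy2 (Q.sq_not_mem x hx2 hx) (Q.sq_not_mem y hy2 hy)
  have hbZ : b ∉ (Subgroup.center S) := by simpa using hnot 0
  have habZ : a * b ∉ (Subgroup.center S) := by simpa using hnot 1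
  set z := b * b with hz
  have habz : a * b * (a * b) = z := hzeq _ _ hab2 habZ hb2 hbZ
  have hxk : a ^ k ∉ (Subgroup.center S) := fun h => by
    have := hdvd k (by rw [zpow_natCast]; exact h)
    obtain ⟨c, hc⟩ := this
    rcases lt_trichotomy c 0 with h' | h' | h' <;> nlinarith
  have hak : a ^ (2 * k) = z := by
    have h1 : a ^ (2 * k) = a ^ k * a ^ k := by rw [two_mul, pow_add]
    rw [h1] at hpow ⊢
    exact hzeq _ _ hpow hxk hb2 hbZ
  have hinv : b * a * b⁻¹ = a⁻¹ := by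
    refine eq_inv_of_mul_eq_one_right ?_
    calc a * (b * a * b⁻¹) = a * b * (a * b) * (b * b)⁻¹ := by group
      _ = 1 := by rw [habz, ← hz, mul_inv_cancel]
  set Q := Subgroup.closure ({a, b} : Set S) with hQ
  have haQ : a ∈ Q := Subgroup.subset_closure (by simp)
  have hbQ : b ∈ Q := Subgroup.subset_closure (by simp)
  have hza : z = a ^ (2 * k : ℤ) := by rw [← hak, ← zpow_natCast]; push_cast; rfl
  have hz2 : z * z = 1 := hZ2 z hb2
  have hmemQ : ∀ g ∈ Q, ∃ i : ℤ, g = a ^ i ∨ g = a ^ i * b := by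
    have hba : ∀ i : ℤ, b * a ^ i = a ^ (-i) * b := fun i => by
      rw [← mul_inv_eq_iff_eq_mul, ← conj_zpow, hinv, inv_zpow, zpow_neg]
    intro g hg
    induction hg using Subgroup.closure_induction with
    | mem x hx =>
      rcases hx with rfl | rfl
      · exact ⟨1, Or.inl (zpow_one _).symm⟩
      · exact ⟨0, Or.inr (by rw [zpow_zero, one_mul])⟩
    | one => exact ⟨0, Or.inl (zpow_zero a).symm⟩
    | mul x y _ _ ihx ihy =>
      obtain ⟨i, hi⟩ := ihx
      obtain ⟨j, hj⟩ := ihy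
      rcases hi with rfl | rfl <;> rcases hj with rfl | rfl
      · exact ⟨i + j, Or.inl (zpow_add a i j).symm⟩
      · exact ⟨i + j, Or.inr (by rw [← mul_assoc, zpow_add])⟩
      · exact ⟨i - j, Or.inr (by rw [mul_assoc, hba, ← mul_assoc, sub_eq_add_neg, zpow_add])⟩
      · refine ⟨i - j + 2 * k, Or.inl ?_⟩
        calc a ^ i * b * (a ^ j * b) = a ^ i * (b * a ^ j) * b := by group
          _ = a ^ i * a ^ (-j) * (b * b) := by rw [hba]; group
          _ = a ^ (i - j + 2 * k) := by rw [← hz, hza, ← zpow_add, ← zpow_add, sub_eq_add_neg]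
    | inv x _ ih =>
      obtain ⟨i, rfl | rfl⟩ := ih
      · exact ⟨-i, Or.inl (zpow_neg a i).symm⟩
      · refine ⟨i + 2 * k, Or.inr (inv_eq_of_mul_eq_one_right ?_)⟩
        calc a ^ i * b * (a ^ (i + 2 * k) * b) = a ^ i * (b * a ^ (i + 2 * k)) * b := by group
          _ = a ^ i * a ^ (-(i + 2 * k)) * (b * b) := by rw [hba]; group
          _ = 1 := by rw [← hz, hza, ← zpow_add, ← zpow_add]; simp
  have hQZ : ∀ g ∈ Q, g ∈ (Subgroup.center S) → g = 1 ∨ g = z := by
    intro g hg hgZ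
    obtain ⟨i, rfl | rfl⟩ := hmemQ g hg
    · obtain ⟨c, rfl⟩ := hdvd i hgZ
      rw [zpow_mul, ← hza]
      rcases Int.even_or_odd c with ⟨l, rfl⟩ | ⟨l, rfl⟩
      · left; rw [zpow_add, ← (Commute.refl z).mul_zpow, hz2, one_zpow]
      · right; rw [zpow_add, zpow_mul, zpow_two, hz2, one_zpow, one_mul, zpow_one]
    · exact absurd hgZ (hnot i)
  have hzD : z ∉ D i₀ := by
    obtain ⟨-, ⟨Q'⟩⟩ := hdata i₀
    exact Q'.sq_not_mem b hb2 hbZ
  have hzQ : z ∈ Q := mul_mem hbQ hbQ
  have hz1 : z ≠ 1 := fun h => hzD (h ▸ one_mem _)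
  refine ⟨D i₀, Q, ⟨le_top, le_top, fun x hx y _ => (Subgroup.mem_center_iff.mp (hlt₀.le hx) y).symm, ?_, ?_⟩,
    ⟨⟨⟨fun x y => Subtype.ext (Subgroup.mem_center_iff.mp (hlt₀.le y.2) x)⟩⟩, fun x hx => by
      rw [pow_two, hZ2 x (hlt₀.le hx)]⟩, fun hcomm => ?_, ?_⟩
  · refine (Subgroup.eq_bot_iff_forall _).mpr fun g ⟨hg, hgQ⟩ => ?_
    rcases hQZ g hgQ (hlt₀.le hg) with h | h
    · exact h
    · exact absurd (h ▸ hg) hzD
  · refine eq_top_iff.mpr fun g _ => ?_
    obtain ⟨i, d, hd, rfl | rfl⟩ := hgen g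
    · exact mul_mem (Subgroup.mem_sup_right (zpow_mem haQ i)) (Subgroup.mem_sup_left hd)
    · exact mul_mem (mul_mem (Subgroup.mem_sup_right (zpow_mem haQ i)) (Subgroup.mem_sup_right hbQ))
        (Subgroup.mem_sup_left hd)
  · obtain ⟨_, hna, -⟩ := hCq i₀
    have hd : ∀ g : S, ∃ q ∈ Q, (g : S ⧸ D i₀) = (q : S) := by
      intro g
      obtain ⟨i, d, hd, h⟩ := hgen g
      rcases h with rfl | rfl
      · exact ⟨a ^ i, zpow_mem haQ i, by
          rw [QuotientGroup.mk_mul, (QuotientGroup.eq_one_iff d).mpr hd, mul_one]⟩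
      · exact ⟨a ^ i * b, mul_mem (zpow_mem haQ i) hbQ, by
          rw [show ((a ^ i * b * d : S) : S ⧸ D i₀) = ((a ^ i * b : S) : S ⧸ D i₀) * (d : S ⧸ D i₀) from rfl,
            (QuotientGroup.eq_one_iff d).mpr hd, mul_one]⟩
    refine hna ⟨⟨fun x y => ?_⟩⟩
    obtain ⟨x, rfl⟩ := QuotientGroup.mk_surjective x
    obtain ⟨y, rfl⟩ := QuotientGroup.mk_surjective y
    obtain ⟨p, hp, hxp⟩ := hd x
    obtain ⟨q, hq, hyq⟩ := hd y
    rw [hxp, hyq, ← QuotientGroup.mk_mul, ← QuotientGroup.mk_mul,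
      show p * q = q * p from congrArg Subtype.val (hcomm.is_comm.comm ⟨p, hp⟩ ⟨q, hq⟩)]
  · refine ⟨⟨z, hzQ⟩, by
      show orderOf (⟨z, hzQ⟩ : Q) = 2
      rw [Subgroup.orderOf_mk]; exact Invol.orderOf_two_of_mul_self hz2 hz1, fun x hx => ?_⟩
    have hxx : (x : S) * x = 1 := congrArg Subtype.val (Invol.mul_self_of_orderOf_two hx)
    rcases hQZ x x.2 (hsq x hxx) with h | h
    · exfalso
      change orderOf x = 2 at hx
      rw [← Subgroup.orderOf_coe, h, orderOf_one] at hx
      omega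
    · exact Subtype.ext h

end Cfsg.Agent.InvChar
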