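import Mathlib

/-!
# Elements of order three of `SL(2, 5)` inside `Sp(4, 3)`
-/

set_option autoImplicit false
set_option linter.style.haveILetI false

namespace Cfsg.Agent.InvChar

open Matrix

theorem sl25_entries : ∀ p q r s : ZMod 5, p * s - q * r = 1 →
    (p * p + q * r) * p + (p * q + q * s) * r = 1 → (p * p + q * r) * q + (p * q + q * s) * s = 0 →
    (r * p + s * r) * p + (r * q + s * s) * r = 0 → (r * p + s * r) * q + (r * q + s * s) * s = 1 →
    (p = 1 ∧ q = 0 ∧ r = 0 ∧ s = 1) ∨ ∃ a b c : ZMod 5, a * -a - b * c = 1 ∧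
      a * p + b * r = (p * p + q * r) * a + (p * q + q * s) * c ∧
      a * q + b * s = (p * p + q * r) * b + (p * q + q * s) * -a ∧
      c * p + -a * r = (r * p + s * r) * a + (r * q + s * s) * c ∧
      c * q + -a * s = (r * p + s * r) * b + (r * q + s * s) * -a := by
  decide +kernel

theorem exists_inverting_of_order_three (x : SpecialLinearGroup (Fin 2) (ZMod 5)) (hx : orderOf x = 3) :
    ∃ y : SpecialLinearGroup (Fin 2) (ZMod 5), y * y = -1 ∧ y * x = x * x * y := by
  have hdet := x.2
  rw [det_fin_two] at hdet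
  have h3 : (x : Matrix (Fin 2) (Fin 2) (ZMod 5)) * x * x = 1 := by
    have h : x * x * x = 1 := by
      rw [show x * x * x = x ^ 3 by rw [pow_succ, pow_two], ← hx, pow_orderOf_eq_one]
    exact congrArg Subtype.val h
  have e : ∀ i j, ((x : Matrix (Fin 2) (Fin 2) (ZMod 5)) * x * x) i j =
      (1 : Matrix (Fin 2) (Fin 2) (ZMod 5)) i j := fun i j => congrFun (congrFun h3 i) j
  have e00 := e 0 0
  have e01 := e 0 1
  have e10 := e 1 0
  have e11 := e 1 1
  simp only [Matrix.mul_apply, Fin.sum_univ_two, Matrix.one_apply_eq,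
    Matrix.one_apply_ne (show (0 : Fin 2) ≠ 1 by decide),
    Matrix.one_apply_ne (show (1 : Fin 2) ≠ 0 by decide)] at e00 e01 e10 e11
  rcases sl25_entries _ _ _ _ hdet e00 e01 e10 e11 with
    ⟨h00, h01, h10, h11⟩ | ⟨a, b, c, hd, q00, q01, q10, q11⟩
  · exfalso
    have : x = 1 := by
      ext i j
      fin_cases i <;> fin_cases j <;> simp [h00, h01, h10, h11]
    rw [this, orderOf_one] at hx
    omega
  · refine ⟨⟨!![a, b; c, -a], by rw [det_fin_two_of]; exact hd⟩, ?_, ?_⟩
    · apply Subtype.ext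
      show !![a, b; c, -a] * !![a, b; c, -a] = -(1 : Matrix (Fin 2) (Fin 2) (ZMod 5))
      ext i j
      fin_cases i <;> fin_cases j <;> simp [Matrix.mul_apply, Fin.sum_univ_two] <;>
        first | ring1 | linear_combination (-1 : ZMod 5) * hd
    · apply Subtype.ext
      show !![a, b; c, -a] * (x : Matrix (Fin 2) (Fin 2) (ZMod 5)) = x.1 * x.1 * !![a, b; c, -a]
      ext i j
      fin_cases i <;> fin_cases j
      · simpa [Matrix.mul_apply, Fin.sum_univ_two] using q00
      · simpa [Matrix.mul_apply, Fin.sum_univ_two] using q01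
      · simpa [Matrix.mul_apply, Fin.sum_univ_two] using q10
      · simpa [Matrix.mul_apply, Fin.sum_univ_two] using q11

theorem exists_order_five : ∃ u : SpecialLinearGroup (Fin 2) (ZMod 5),
    u ^ 5 = 1 ∧ u ≠ 1 ∧ u * -1 = -1 * u :=
  ⟨⟨!![1, 1; 0, 1], by rw [det_fin_two_of]; decide⟩, by decide +kernel, fun h => by
    have h1 := congrArg (fun m : SpecialLinearGroup (Fin 2) (ZMod 5) => m.1 0 1) h
    exact absurd h1 (by decide +kernel), by decide +kernel⟩

section Linear

variable {F : Type*} [Field F] [Fintype F] {V : Type*} [AddCommGroup V] [Module F V]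

theorem sq_ne_neg_one (hF : Fintype.card F = 3) (l : F) : l * l ≠ -1 := by
  intro h
  have hl : l ≠ 0 := by rintro rfl; simp at h
  have h2 : l ^ 2 = 1 := by
    have := FiniteField.pow_card_sub_one_eq_one l hl
    rwa [hF] at this
  rw [pow_two, h] at h2
  haveI : CharP F 3 := charP_of_card_eq_prime hF
  exact Ring.neg_one_ne_one_of_char_ne_two (by rw [ringChar.eq F 3]; norm_num) h2

/-- An endomorphism of order dividing five of a space of dimension at most three is trivial. -/
theorem eq_id_of_pow_five (hF : Fintype.card F = 3) [FiniteDimensional F V]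
    (hd : Module.finrank F V ≤ 3) (f : V →ₗ[F] V) (hf : f ^ 5 = 1) : f = 1 := by
  haveI := Fact.mk (show Nat.Prime 5 by norm_num)
  let e := LinearMap.toMatrixAlgEquiv (Module.finBasis F V)
  have hM : (e f) ^ 5 = 1 := by rw [← map_pow, hf, map_one]
  let u : GL (Fin (Module.finrank F V)) F := Units.ofPowEqOne _ 5 hM (by norm_num)
  by_contra hne
  have hu1 : u ≠ 1 := fun h => hne (e.injective ((congrArg Units.val h).trans (map_one e).symm))
  have hu : orderOf u = 5 := orderOf_eq_prime (Units.ext (by rw [Units.val_pow_eq_pow_val]; exact hM)) hu1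
  have h5 : 5 ∣ Nat.card (GL (Fin (Module.finrank F V)) F) := hu ▸ orderOf_dvd_natCard u
  rw [Matrix.card_GL_field, hF] at h5
  generalize Module.finrank F V = d at hd h5
  interval_cases d <;> simp [Fin.prod_univ_succ] at h5

end Linear

/-- The fixed space of an element of order three is totally isotropic of dimension two. -/
theorem fixed_space {F : Type*} [Field F] [Fintype F] (hF : Fintype.card F = 3)
    {K : Type*} [Field K] [Fintype K] (hK : Fintype.card K = 5)
    (φ : SpecialLinearGroup (Fin 2) K →* ↥(symplecticGroup (Fin 2) F)) (hφ : Function.Injective φ)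
    (x : SpecialLinearGroup (Fin 2) K) (hx : orderOf x = 3) :
    Module.finrank F ↥(LinearMap.ker (Matrix.toLin' ((φ x : Matrix (Fin 2 ⊕ Fin 2) (Fin 2 ⊕ Fin 2) F)) - LinearMap.id)) = 2 ∧
      ∀ v w : Fin 2 ⊕ Fin 2 → F, (φ x : Matrix (Fin 2 ⊕ Fin 2) (Fin 2 ⊕ Fin 2) F).mulVec v = v →
        (φ x : Matrix (Fin 2 ⊕ Fin 2) (Fin 2 ⊕ Fin 2) F).mulVec w = w →
          dotProduct v ((Matrix.J (Fin 2) F).mulVec w) = 0 := by
  classical
  haveI : Fact (Nat.Prime 5) := ⟨by norm_num⟩
  haveI : CharP F 3 := charP_of_card_eq_prime hF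
  let e : ZMod 5 ≃+* K := ZMod.ringEquivOfPrime K (by norm_num) hK
  let g : SpecialLinearGroup (Fin 2) (ZMod 5) →* SpecialLinearGroup (Fin 2) K :=
    SpecialLinearGroup.map e.toRingHom
  have hginj : Function.Injective g := fun a b h => by
    ext i j
    exact e.injective (congrFun (congrFun (congrArg Subtype.val h) i) j)
  obtain ⟨x', rfl⟩ : ∃ x', g x' = x :=
    ⟨SpecialLinearGroup.map e.symm.toRingHom x, by ext i j; exact e.apply_symm_apply _⟩
  rw [orderOf_injective g hginj] at hx
  obtain ⟨y, hy, hyx⟩ := exists_inverting_of_order_three x' hx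
  let L : SpecialLinearGroup (Fin 2) (ZMod 5) →* Module.End F (Fin 2 ⊕ Fin 2 → F) :=
    { toFun := fun a => Matrix.toLin' (φ (g a) : Matrix (Fin 2 ⊕ Fin 2) (Fin 2 ⊕ Fin 2) F)
      map_one' := by simp only [map_one]; exact Matrix.toLin'_one
      map_mul' := fun a b => by simp only [map_mul]; exact Matrix.toLin'_mul _ _ }
  have hL : Function.Injective L := fun a b h =>
    hginj (hφ (Subtype.ext (Matrix.toLin'.injective h)))
  set X := L x' with hX
  set Y := L y with hY
  -- the central involution acts as minus one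
  have hmin : L (-1) = -1 := by
    set Z := L (-1) with hZ
    have hZ2 : Z * Z = 1 := by
      rw [hZ, ← map_mul, show (-1 : SpecialLinearGroup (Fin 2) (ZMod 5)) * -1 = 1 by decide +kernel, map_one]
    obtain ⟨u, hu5, hu1, huc⟩ := exists_order_five
    have hcomm : L u * Z = Z * L u := by
      rw [hZ, ← map_mul, ← map_mul, huc]
    by_contra hne
    have hne1 : Z ≠ 1 := fun h => absurd (hL (h.trans (map_one L).symm)) (by decide +kernel)
    have hfix : ∀ c : F, c * c = 1 → Z ≠ c • (1 : Module.End F (Fin 2 ⊕ Fin 2 → F)) →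
        ∀ v, Z v = c • v → L u v = v := by
      intro c _ hc v hv
      let W : Submodule F (Fin 2 ⊕ Fin 2 → F) := LinearMap.ker (Z - c • 1)
      have hmem : ∀ w, w ∈ W ↔ Z w = c • w := fun w => by simp [W, sub_eq_zero]
      have hW : ∀ w ∈ W, L u w ∈ W := fun w hw => by
        rw [hmem] at hw ⊢
        rw [← Module.End.mul_apply, ← hcomm, Module.End.mul_apply, hw, map_smul]
      have hd : Module.finrank F W ≤ 3 := by
        have h1 : W ≠ ⊤ := fun h => hc (LinearMap.ext fun w =>
          ((hmem w).mp (h ▸ Submodule.mem_top)).trans (by simp))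
        have h2 := Submodule.finrank_lt h1
        rw [Module.finrank_fintype_fun_eq_card] at h2
        simpa using Nat.le_of_lt_succ h2
      have h5 : ((L u).restrict hW) ^ 5 = 1 := by
        ext ⟨w, hw⟩ i
        rw [Module.End.pow_restrict 5]
        simp [LinearMap.restrict_apply, ← map_pow, hu5]
      have h6 := congrArg Subtype.val (LinearMap.congr_fun (eq_id_of_pow_five hF hd _ h5) ⟨v, (hmem v).mpr hv⟩)
      simpa [LinearMap.restrict_apply] using h6
    apply hu1
    apply hL
    rw [map_one]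
    apply LinearMap.ext
    intro v
    have hv : v = -((v + Z v) + (v - Z v)) := by
      have h3 : (3 : F) = 0 := by exact_mod_cast CharP.cast_eq_zero F 3
      have h4 : v + v + v = 0 := by
        rw [← two_smul F v, ← one_smul F v, smul_smul, ← add_smul, mul_one, show (2 : F) + 1 = 3 by norm_num, h3, zero_smul]
      rw [show -((v + Z v) + (v - Z v)) = -(v + v + v) + v by abel, h4]; simp
    have hp := hfix 1 (one_mul 1) (by rw [one_smul]; exact hne1) (v + Z v)
      (by rw [map_add, ← Module.End.mul_apply, hZ2, one_smul, Module.End.one_apply, add_comm])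
    have hm := hfix (-1) (by ring) (fun h => hne (h.trans (LinearMap.ext fun w => by simp))) (v - Z v)
      (by rw [map_sub, ← Module.End.mul_apply, hZ2]; simp)
    rw [Module.End.one_apply]
    conv_lhs => rw [hv]
    rw [map_neg, map_add, hp, hm, ← hv]
  have hYY : Y * Y = -1 := by rw [hY, ← map_mul, hy, hmin]
  have hYX : Y * X = X * X * Y := by rw [hY, hX, ← map_mul, hyx, map_mul, map_mul]
  have hX3 : X * X * X = 1 := by
    rw [hX, ← map_mul, ← map_mul, show x' * x' * x' = x' ^ 3 by rw [pow_succ, pow_two], ← hx,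
      pow_orderOf_eq_one, map_one]
  set N := X - 1 with hN
  have hN3 : N * N * N = 0 := by
    have : (3 : ℕ) • (X - X * X) = 0 := by
      rw [← Nat.cast_smul_eq_nsmul F, CharP.cast_eq_zero, zero_smul]
    rw [hN]
    calc (X - 1) * (X - 1) * (X - 1) = X * X * X - 1 + (3 : ℕ) • (X - X * X) := by
          simp only [sub_mul, mul_sub, one_mul, mul_one]; abel
      _ = 0 := by rw [hX3, sub_self, zero_add, this]
  have hYN : Y * N = N * ((X + 1) * Y) := by
    rw [hN, mul_sub, hYX, mul_one]
    simp only [sub_mul, add_mul, mul_add, one_mul, mul_assoc]; abel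
  have hXN : X * N = N * X := by rw [hN]; simp only [mul_sub, sub_mul, one_mul, mul_one]
  have hline : ∀ W : Submodule F (Fin 2 ⊕ Fin 2 → F), (∀ w ∈ W, Y w ∈ W) → Module.finrank F W ≠ 1 := by
    intro W hW h1
    obtain ⟨⟨w, hw⟩, hw0, hspan⟩ := finrank_eq_one_iff'.mp h1
    obtain ⟨c, hc⟩ := hspan ⟨Y w, hW w hw⟩
    have hc' : c • w = Y w := congrArg Subtype.val hc
    have h2 : (c * c) • w = (-1 : F) • w := by
      rw [mul_smul, hc', ← map_smul, hc', ← Module.End.mul_apply, hYY]; simp
    exact sq_ne_neg_one hF c (smul_left_injective F (fun e => hw0 (Subtype.ext e)) h2)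
  set R1 := LinearMap.range N with hR1
  set R2 := LinearMap.range (N * N) with hR2
  have hinv1 : ∀ w ∈ R1, Y w ∈ R1 := by
    rintro _ ⟨v, rfl⟩
    exact ⟨((X + 1) * Y) v, by rw [← Module.End.mul_apply, ← hYN]; rfl⟩
  have hinv2 : ∀ w ∈ R2, Y w ∈ R2 := by
    rintro _ ⟨v, rfl⟩
    refine ⟨((X + 1) * ((X + 1) * Y)) v, ?_⟩
    have : Y * (N * N) = N * N * ((X + 1) * ((X + 1) * Y)) := by
      rw [← mul_assoc, hYN, mul_assoc N ((X + 1) * Y), mul_assoc (X + 1) Y, hYN, ← mul_assoc (X + 1) N,
        show (X + 1) * N = N * (X + 1) by rw [add_mul, mul_add, hXN, one_mul, mul_one]]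
      noncomm_ring
    rw [← Module.End.mul_apply, ← this]; rfl
  have hrk := LinearMap.finrank_range_add_finrank_ker N
  rw [Module.finrank_fintype_fun_eq_card, Fintype.card_sum, Fintype.card_fin] at hrk
  rw [← hR1] at hrk
  have hN0 : N ≠ 0 := fun h => by
    have h1 : x' = 1 := hL ((sub_eq_zero.mp h).trans (map_one L).symm)
    rw [h1, orderOf_one] at hx
    omega
  have hr1 : 0 < Module.finrank F R1 := by
    refine Nat.pos_of_ne_zero fun h => hN0 ?_
    rwa [hR1, Submodule.finrank_eq_zero, LinearMap.range_eq_bot] at h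
  have hR21 : R2 ≤ R1 := by
    rintro _ ⟨v, rfl⟩; exact ⟨N v, rfl⟩
  have hR2k : R2 ≤ LinearMap.ker N := by
    rintro _ ⟨v, rfl⟩
    rw [LinearMap.mem_ker, ← Module.End.mul_apply, ← mul_assoc, hN3]; rfl
  have hlt : Module.finrank F R2 < Module.finrank F R1 := by
    refine Submodule.finrank_lt_finrank_of_lt (lt_of_le_of_ne hR21 fun h => hN0 ?_)
    have h1 : ∀ w ∈ R1, N w = 0 := fun w hw => LinearMap.mem_ker.mp (hR2k (h ▸ hw))
    rw [← LinearMap.range_eq_bot]
    show R1 = ⊥
    rw [← h, hR2, LinearMap.range_eq_bot]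
    exact LinearMap.ext fun v => h1 _ ⟨v, rfl⟩
  have h2k := Submodule.finrank_mono hR2k
  have hn1 := hline R1 hinv1
  have hn2 := hline R2 hinv2
  have hR2z : Module.finrank F R2 = 0 := by omega
  have hN2 : N * N = 0 := by
    rwa [hR2, Submodule.finrank_eq_zero, LinearMap.range_eq_bot] at hR2z
  have hle : R1 ≤ LinearMap.ker N := by
    rintro _ ⟨v, rfl⟩
    rw [LinearMap.mem_ker, ← Module.End.mul_apply, hN2]; rfl
  have h1k := Submodule.finrank_mono hle
  have hk : Module.finrank F (LinearMap.ker N) = 2 := by omega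
  have heq : R1 = LinearMap.ker N := Submodule.eq_of_le_of_finrank_eq hle (by omega)
  refine ⟨hk, fun v w hv hw => ?_⟩
  have hXap : ∀ a, X a = (φ (g x') : Matrix (Fin 2 ⊕ Fin 2) (Fin 2 ⊕ Fin 2) F).mulVec a :=
    fun a => Matrix.toLin'_apply _ a
  have hvR : v ∈ R1 := by
    rw [heq, LinearMap.mem_ker, hN, LinearMap.sub_apply, hXap, hv, Module.End.one_apply, sub_self]
  obtain ⟨u, rfl⟩ := hvR
  have hform : ∀ a b : Fin 2 ⊕ Fin 2 → F, dotProduct (X a) ((Matrix.J (Fin 2) F).mulVec (X b)) =
      dotProduct a ((Matrix.J (Fin 2) F).mulVec b) := by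
    intro a b
    rw [hXap, hXap, Matrix.mulVec_mulVec, Matrix.dotProduct_mulVec, ← Matrix.vecMul_transpose,
      Matrix.vecMul_vecMul, ← Matrix.dotProduct_mulVec, ← Matrix.mul_assoc,
      SymplecticGroup.mem_iff'.mp (φ (g x')).2]
  rw [hN, LinearMap.sub_apply, Module.End.one_apply, sub_dotProduct]
  have := hform u w
  rw [hXap w, hw] at this
  rw [this, sub_self]

end Cfsg.Agent.InvChar
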