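import Cfsg.Agent.Lib.InvChar.SU3Coords
import Cfsg.Agent.Lib.Basics.Cores
import Cfsg.Prelude.Def_Transfer

/-!
# The automorphism group of a Sylow 2-subgroup of `SU(3, 2^n)`
-/

set_option autoImplicit false
set_option linter.style.haveILetI false
set_option linter.unusedSectionVars false

namespace Cfsg.Agent.InvChar

open Cfsg.Agent

namespace HermCoords

variable {F : Type*} [Field F] {q : ℕ} [hQ : AutPSU.QField F q] [CharP F 2]
variable {S : Type*} [Group S] (C : HermCoords S F q)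

local notation "σ" => AutPSU.qb (F := F) q

include hQ

/-- The action on `S / Z(S)` as a homomorphism. -/
noncomputable def linHom : MulAut S →* Equiv.Perm F :=
  MonoidHom.mk' (fun φ =>
    { toFun := C.linPart φ
      invFun := C.linPart φ⁻¹
      left_inv := fun a => by rw [← C.linPart_mul, inv_mul_cancel, C.linPart_one]
      right_inv := fun a => by rw [← C.linPart_mul, mul_inv_cancel, C.linPart_one] })
    fun φ ψ => Equiv.ext fun a => C.linPart_mul φ ψ a

theorem mem_ker_linHom (φ : MulAut S) : φ ∈ C.linHom.ker ↔ ∀ a, C.linPart φ a = a := by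
  rw [MonoidHom.mem_ker, Equiv.ext_iff]
  rfl

/-- Every semilinear similitude lifts. -/
theorem exists_aut (c : Fˣ) (τ : F ≃+* F) : ∃ φ : MulAut S, ∀ a, C.linPart φ a = c * τ a := by
  have hcond : ∀ u, ∃ v, C.A v = c * τ (C.A u) ∧ C.T v = ((c : F) * σ (c : F)) * τ (C.T u) := fun u => by
    refine C.surj _ _ ?_
    rw [map_mul, map_mul, map_mul, AutPSU.qb_qb, AutPSU.qb_comm τ, AutPSU.qb_comm τ]
    have h := congrArg τ (C.cond u)
    rw [map_add, map_mul] at h
    linear_combination ((c : F) * σ (c : F)) * h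
  choose f hfA hfT using hcond
  have hmul : ∀ u v, f (u * v) = f u * f v := fun u v => C.inj _ _
    (by rw [hfA, C.A_mul, C.A_mul, hfA, hfA, map_add, mul_add])
    (by rw [hfT, C.T_mul, C.T_mul, hfT, hfT, hfA, hfA, map_add, map_add, map_mul, map_mul, AutPSU.qb_comm τ]; ring)
  have hcne : (c : F) * σ (c : F) ≠ 0 :=
    mul_ne_zero c.ne_zero fun h => c.ne_zero ((AutPSU.qb (F := F) q).map_eq_zero_iff.mp h)
  have hbij : Function.Bijective f := by
    refine ⟨fun u v h => C.inj _ _ ?_ ?_, fun w => ?_⟩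
    · exact τ.injective (mul_left_cancel₀ c.ne_zero ((hfA u).symm.trans ((congrArg C.A h).trans (hfA v))))
    · exact τ.injective (mul_left_cancel₀ hcne ((hfT u).symm.trans ((congrArg C.T h).trans (hfT v))))
    · obtain ⟨u, hu1, hu2⟩ := C.surj (τ.symm (C.A w / c)) (τ.symm (C.T w / ((c : F) * σ (c : F)))) (by
        apply τ.injective
        rw [map_add, map_mul, ← AutPSU.qb_comm τ, ← AutPSU.qb_comm τ, τ.apply_symm_apply, τ.apply_symm_apply,
          map_div₀, map_div₀, map_mul, AutPSU.qb_qb, mul_comm (σ (c : F)) (c : F), ← add_div, C.cond,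
          div_mul_div_comm])
      exact ⟨u, C.inj _ _ (by rw [hfA, hu1, τ.apply_symm_apply, mul_div_cancel₀ _ c.ne_zero])
        (by rw [hfT, hu2, τ.apply_symm_apply, mul_div_cancel₀ _ hcne])⟩
  refine ⟨MulEquiv.mk' (Equiv.ofBijective f hbij) hmul, fun a => ?_⟩
  obtain ⟨u, rfl⟩ := C.exists_lift a
  rw [C.linPart_apply]
  exact hfA u

theorem card_linHom_range [Finite F] {f : ℕ} (hf : Nat.card F = 2 ^ f) :
    Nat.card C.linHom.range = (q ^ 2 - 1) * f := by
  haveI : Fact (Nat.Prime 2) := ⟨Nat.prime_two⟩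
  haveI := Fintype.ofFinite F
  have hmem : ∀ p : Fˣ × (F ≃+* F), (p.2.toEquiv.trans (Equiv.mulLeft₀ (p.1 : F) p.1.ne_zero)) ∈ C.linHom.range := fun p => by
    obtain ⟨φ, hφ⟩ := C.exists_aut p.1 p.2
    exact ⟨φ, Equiv.ext fun a => hφ a⟩
  rw [← Nat.card_eq_of_bijective (fun p : Fˣ × (F ≃+* F) => (⟨_, hmem p⟩ : C.linHom.range)) ⟨?_, ?_⟩,
    Nat.card_prod, Nat.card_units, hQ.card,
    AutPSL.card_ringAut 2 f (by rw [← Nat.card_eq_fintype_card, hf])]
  · rintro ⟨c, τ⟩ ⟨d, ρ⟩ h
    have h' : ∀ a, (c : F) * τ a = d * ρ a := fun a => Equiv.ext_iff.mp (congrArg Subtype.val h) a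
    have hcd : c = d := Units.ext (by simpa using h' 1)
    refine Prod.ext hcd (RingEquiv.ext fun a => ?_)
    have := h' a
    rw [hcd] at this
    exact mul_left_cancel₀ d.ne_zero this
  · rintro ⟨_, φ, rfl⟩
    obtain ⟨c, τ, hcτ⟩ := C.linPart_semilinear φ
    exact ⟨(c, τ), Subtype.ext (Equiv.ext fun a => (hcτ a).symm)⟩

/-- The kernel is the group of homomorphisms from `S / Z(S)` to `Z(S)`. -/
theorem card_linHom_ker [Finite F] {f : ℕ} (hf : Nat.card F = 2 ^ f) :
    Nat.card C.linHom.ker = q ^ f := by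
  classical
  haveI : Fact (Nat.Prime 2) := ⟨Nat.prime_two⟩
  let Z : AddSubgroup F := ((AutPSU.qb (F := F) q).toRingHom.toAddMonoidHom).eqLocus (AddMonoidHom.id F)
  have hZ : ∀ t, t ∈ Z ↔ σ t = t := fun t => Iff.rfl
  have hZc : Nat.card Z = q := by
    refine (Nat.card_congr (Equiv.subtypeEquivRight fun k => ?_)).trans (card_trace_ker (F := F) (q := q))
    show σ k = k ↔ _
    rw [CharTwo.add_eq_zero, eq_comm]
  have hzA : ∀ φ : C.linHom.ker, ∀ u, C.A (u⁻¹ * φ.1 u) = 0 := fun φ u => by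
    rw [C.A_mul, C.A_inv, ← C.linPart_apply φ.1, (C.mem_ker_linHom φ.1).mp φ.2, CharTwo.add_self_eq_zero]
  -- the cocycle of an automorphism
  have hδ : ∀ φ : C.linHom.ker, ∀ u v, C.A u = C.A v → C.T (u⁻¹ * φ.1 u) = C.T (v⁻¹ * φ.1 v) := fun φ u v h => by
    have hc : C.A (v⁻¹ * u) = 0 := by rw [C.A_mul, C.A_inv, h, CharTwo.add_self_eq_zero]
    have h1 := C.fix_central ((C.mem_ker_linHom φ.1).mp φ.2) hc
    rw [map_mul, map_inv] at h1
    congr 1
    have hc' := Subgroup.mem_center_iff.mp ((C.mem_center_iff _).mpr (hzA φ v)) (v⁻¹ * u)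
    calc u⁻¹ * φ.1 u = (v⁻¹ * u)⁻¹ * (v⁻¹ * φ.1 v) * ((φ.1 v)⁻¹ * φ.1 u) := by group
      _ = (v⁻¹ * u)⁻¹ * ((v⁻¹ * φ.1 v) * (v⁻¹ * u)) := by rw [h1, mul_assoc]
      _ = v⁻¹ * φ.1 v := by rw [← hc', inv_mul_cancel_left]
  let toFun : C.linHom.ker → (F →+ Z) := fun φ => AddMonoidHom.mk'
    (fun a => ⟨C.T ((C.exists_lift a).choose⁻¹ * φ.1 (C.exists_lift a).choose), (hZ _).mpr (C.T_fixed (hzA φ _))⟩)
    fun a b => Subtype.ext (by
      show C.T _ = C.T _ + C.T _
      set u := (C.exists_lift a).choose with hu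
      set v := (C.exists_lift b).choose with hv
      rw [hδ φ (C.exists_lift (a + b)).choose (u * v)
        (by rw [(C.exists_lift (a + b)).choose_spec, C.A_mul, (C.exists_lift a).choose_spec, (C.exists_lift b).choose_spec])]
      have hc' := Subgroup.mem_center_iff.mp ((C.mem_center_iff _).mpr (hzA φ u)) v⁻¹
      rw [show (u * v)⁻¹ * φ.1 (u * v) = (u⁻¹ * φ.1 u) * (v⁻¹ * φ.1 v) by
        rw [map_mul]
        calc (u * v)⁻¹ * (φ.1 u * φ.1 v) = v⁻¹ * (u⁻¹ * φ.1 u) * φ.1 v := by group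
          _ = _ := by rw [hc', mul_assoc], C.T_mul, hzA φ v, zero_mul, add_zero])
  have hinj : Function.Injective toFun := fun φ ψ h => by
    refine Subtype.ext (MulEquiv.ext fun u => ?_)
    have h1 := congrArg Subtype.val (DFunLike.congr_fun h (C.A u))
    have h2 : C.T (u⁻¹ * φ.1 u) = C.T (u⁻¹ * ψ.1 u) := by
      rw [hδ φ u _ (C.exists_lift (C.A u)).choose_spec.symm, hδ ψ u _ (C.exists_lift (C.A u)).choose_spec.symm]
      exact h1
    exact mul_left_cancel (C.inj _ _ (by rw [hzA φ u, hzA ψ u]) h2)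
  have hsurj : Function.Surjective toFun := by
    intro h
    let z : S → S := fun u => (C.exists_central (h (C.A u)).2).choose
    have hz : ∀ u, C.A (z u) = 0 ∧ C.T (z u) = h (C.A u) := fun u => (C.exists_central (h (C.A u)).2).choose_spec
    have hzc : ∀ u, z u ∈ Subgroup.center S := fun u => (C.mem_center_iff _).mpr (hz u).1
    have hzmul : ∀ u v, z (u * v) = z u * z v := fun u v => C.inj _ _
      (by rw [(hz _).1, C.A_mul, (hz u).1, (hz v).1, add_zero])
      (by rw [(hz _).2, C.T_mul, (hz u).2, (hz v).2, (hz v).1, zero_mul, add_zero, C.A_mul, map_add]; rfl)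
    have hzz : ∀ u, z (z u) = 1 := fun u => C.inj _ _ (by rw [(hz _).1, C.A_one])
      (by rw [(hz _).2, (hz u).1, map_zero, C.T_one]; rfl)
    have hmul : ∀ u v, u * v * z (u * v) = u * z u * (v * z v) := fun u v => by
      rw [hzmul]
      calc u * v * (z u * z v) = u * (v * z u) * z v := by group
        _ = u * (z u * v) * z v := by rw [Subgroup.mem_center_iff.mp (hzc u) v]
        _ = _ := by group
    have hsq : ∀ u, u * z u * z (u * z u) = u := fun u => by
      rw [hzmul, hzz, mul_one, mul_assoc, C.central_sq (hz u).1, mul_one]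
    let φ : MulAut S := MulEquiv.mk' ⟨fun u => u * z u, fun u => u * z u, hsq, hsq⟩ hmul
    have hφ : φ ∈ C.linHom.ker := (C.mem_ker_linHom φ).mpr fun a => by
      obtain ⟨u, rfl⟩ := C.exists_lift a
      rw [C.linPart_apply]
      show C.A (u * z u) = _
      rw [C.A_mul, (hz u).1, add_zero]
    refine ⟨⟨φ, hφ⟩, AddMonoidHom.ext fun a => Subtype.ext ?_⟩
    show C.T ((C.exists_lift a).choose⁻¹ * ((C.exists_lift a).choose * z (C.exists_lift a).choose)) = h a
    rw [inv_mul_cancel_left, (hz _).2, (C.exists_lift a).choose_spec]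
  rw [Nat.card_eq_of_bijective toFun ⟨hinj, hsurj⟩]
  -- count homomorphisms
  let _ : Module (ZMod 2) F := AddCommGroup.zmodModule fun x => by rw [two_nsmul]; exact CharTwo.add_self_eq_zero x
  let _ : Module (ZMod 2) Z := AddCommGroup.zmodModule fun x => Subtype.ext (by
    rw [two_nsmul]; exact CharTwo.add_self_eq_zero (x : F))
  let b := Module.finBasis (ZMod 2) F
  have hfin : Module.finrank (ZMod 2) F = f := by
    have h := Module.natCard_eq_pow_finrank (K := ZMod 2) (V := F)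
    rw [hf, Nat.card_zmod] at h
    exact (Nat.pow_right_injective le_rfl h).symm
  rw [Nat.card_eq_of_bijective (fun g : F →+ Z => g.toZModLinearMap 2)
      ⟨fun g g' h => AddMonoidHom.ext fun a => LinearMap.congr_fun h a,
        fun g => ⟨g.toAddMonoidHom, LinearMap.ext fun a => rfl⟩⟩,
    ← Nat.card_congr (b.constr ℕ).toEquiv, Nat.card_fun, hZc, Nat.card_fin, hfin]

include C in
theorem aut_structure [Finite S] [Finite F] {f : ℕ} (hf : Nat.card F = 2 ^ f) {m : ℕ} (hm : q = 2 ^ m) :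
    Cfsg.IsElementaryAbelian 2 (Cfsg.pCore 2 (MulAut S)) ∧
      Nat.card (Cfsg.pCore 2 (MulAut S)) = q ^ f ∧ Nat.card (MulAut S) = q ^ f * ((q ^ 2 - 1) * f) := by
  classical
  haveI : Fact (Nat.Prime 2) := ⟨Nat.prime_two⟩
  haveI := Fintype.ofFinite F
  have hsq : ∀ φ ∈ C.linHom.ker, φ * φ = 1 := fun φ hφ => C.sq_of_linPart ((C.mem_ker_linHom φ).mp hφ)
  have hkp : IsPGroup 2 C.linHom.ker := fun φ => ⟨1, Subtype.ext (by
    rw [pow_one, pow_two]; exact hsq _ φ.2)⟩
  have hfield : ∀ c : Fˣ, ∀ k : ℕ, c ^ (2 ^ k) = 1 → c = 1 := fun c k h => by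
    refine Units.ext (iterateFrobenius_inj F 2 k ?_)
    rw [iterateFrobenius_def, Units.val_one, map_one, ← Units.val_pow_eq_pow_val, h, Units.val_one]
  have hcore : Cfsg.pCore 2 (MulAut S) = C.linHom.ker := by
    refine le_antisymm (fun φ hφ => ?_) (Basics.le_pCore hkp)
    obtain ⟨d, τ, hdτ⟩ := C.linPart_semilinear φ
    have key : ∀ c : Fˣ, τ (c : F) = c := by
      intro c
      obtain ⟨μ, hμ⟩ := C.exists_aut c (RingEquiv.refl F)
      have hcomm : φ * μ * φ⁻¹ * μ⁻¹ ∈ Cfsg.pCore 2 (MulAut S) := by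
        have h := mul_mem hφ ((inferInstance : (Cfsg.pCore 2 (MulAut S)).Normal).conj_mem _ (inv_mem hφ) μ)
        simpa [mul_assoc] using h
      obtain ⟨k, hk⟩ := Basics.pCore_isPGroup (G := MulAut S) 2 ⟨_, hcomm⟩
      have hk' : (φ * μ * φ⁻¹ * μ⁻¹) ^ 2 ^ k = 1 := congrArg Subtype.val hk
      let e : Fˣ := Units.mk0 (τ (c : F)) (fun h => c.ne_zero (τ.map_eq_zero_iff.mp h)) * c⁻¹
      have hact : ∀ a, C.linPart (φ * μ * φ⁻¹ * μ⁻¹) a = (e : F) * a := fun a => by
        have hphi : C.linPart φ (C.linPart φ⁻¹ (C.linPart μ⁻¹ a)) = C.linPart μ⁻¹ a := by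
          rw [← C.linPart_mul, mul_inv_cancel, C.linPart_one]
        have hmu : (c : F) * C.linPart μ⁻¹ a = a := by
          have h := hμ (C.linPart μ⁻¹ a)
          rw [← C.linPart_mul, mul_inv_cancel, C.linPart_one] at h
          exact h.symm
        rw [C.linPart_mul, C.linPart_mul, C.linPart_mul, hdτ, hμ]
        show (d : F) * τ ((c : F) * C.linPart φ⁻¹ (C.linPart μ⁻¹ a)) = _
        rw [map_mul, mul_left_comm, ← hdτ, hphi]
        show τ (c : F) * C.linPart μ⁻¹ a = τ (c : F) * (c⁻¹ : Fˣ) * a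
        conv_rhs => rw [← hmu, mul_assoc, ← mul_assoc _ (c : F), Units.inv_mul, one_mul]
      have hpow : ∀ i : ℕ, ∀ a, C.linPart ((φ * μ * φ⁻¹ * μ⁻¹) ^ i) a = (e : F) ^ i * a := by
        intro i
        induction i with
        | zero => intro a; rw [pow_zero, pow_zero, one_mul, C.linPart_one]
        | succ i ih => intro a; rw [pow_succ, C.linPart_mul, hact, ih, pow_succ, mul_assoc]
      have he := hpow (2 ^ k) 1
      rw [hk', C.linPart_one, mul_one, ← Units.val_pow_eq_pow_val] at he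
      have he1 := hfield e k (Units.ext he.symm)
      have := congrArg Units.val (mul_inv_eq_one.mp he1)
      simpa using this
    have hτ : ∀ a, τ a = a := fun a => by
      by_cases ha : a = 0
      · rw [ha, map_zero]
      · exact key (Units.mk0 a ha)
    obtain ⟨k, hk⟩ := Basics.pCore_isPGroup (G := MulAut S) 2 ⟨_, hφ⟩
    have hk' : φ ^ 2 ^ k = 1 := congrArg Subtype.val hk
    have hpow : ∀ i : ℕ, ∀ a, C.linPart (φ ^ i) a = (d : F) ^ i * a := by
      intro i
      induction i with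
      | zero => intro a; rw [pow_zero, pow_zero, one_mul, C.linPart_one]
      | succ i ih => intro a; rw [pow_succ, C.linPart_mul, hdτ, hτ, ih, pow_succ, mul_assoc]
    have he := hpow (2 ^ k) 1
    rw [hk', C.linPart_one, mul_one, ← Units.val_pow_eq_pow_val] at he
    have hd := hfield d k (Units.ext he.symm)
    refine (C.mem_ker_linHom φ).mpr fun a => ?_
    rw [hdτ, hτ, hd, Units.val_one, one_mul]
  refine ⟨⟨⟨⟨fun a b => Subtype.ext ?_⟩⟩, fun a ha => ?_⟩, by rw [hcore, C.card_linHom_ker hf], ?_⟩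
  · show (a : MulAut S) * b = b * a
    have ha := hsq _ (hcore.le a.2)
    have hb := hsq _ (hcore.le b.2)
    have hab := hsq _ (hcore.le (mul_mem a.2 b.2))
    rw [← inv_eq_of_mul_eq_one_right hab, mul_inv_rev, inv_eq_of_mul_eq_one_right ha,
      inv_eq_of_mul_eq_one_right hb]
  · rw [pow_two]; exact hsq a (hcore.le ha)
  · rw [Subgroup.card_eq_card_quotient_mul_card_subgroup C.linHom.ker,
      Nat.card_congr (QuotientGroup.quotientKerEquivRange C.linHom).toEquiv,
      C.card_linHom_range hf, C.card_linHom_ker hf, mul_comm]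

include C in
theorem no_sym_three [Finite S] [Finite F] (hf : Nat.card F = 2 ^ 4) (hq : q = 4) (H : Subgroup (MulAut S)) :
    ¬ Nonempty (↥H ≃* Equiv.Perm (Fin 3)) := by
  classical
  haveI : Fact (Nat.Prime 2) := ⟨Nat.prime_two⟩
  haveI := Fintype.ofFinite F
  rintro ⟨e⟩
  let r : Equiv.Perm (Fin 3) := finRotate 3
  let s : Equiv.Perm (Fin 3) := Equiv.swap 0 1
  set ρ : MulAut S := (e.symm r : MulAut S) with hρ
  set x : MulAut S := (e.symm s : MulAut S) with hx
  have hcoe : ∀ g h : Equiv.Perm (Fin 3), g = h → (e.symm g : MulAut S) = e.symm h := fun g h hgh => by rw [hgh]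
  have hr3 : ρ * ρ * ρ = 1 := by
    have h := hcoe (r * r * r) 1 (by decide)
    simpa [map_mul, map_one] using h
  have hx2 : x * x = 1 := by
    have h := hcoe (s * s) 1 (by decide)
    simpa [map_mul, map_one] using h
  have hxr : x * ρ = ρ * ρ * x := by
    have h := hcoe (s * r) (r * r * s) (by decide)
    simpa [map_mul] using h
  have hρ1 : ρ ≠ 1 := fun h => by
    have h2 : r = 1 := e.symm.injective (Subtype.ext (by rw [map_one]; exact h))
    exact absurd h2 (by decide)
  obtain ⟨c, τ, hcτ⟩ := C.linPart_semilinear ρ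
  obtain ⟨d, θ, hdθ⟩ := C.linPart_semilinear x
  have hτ3 : ∀ a, τ (τ (τ a)) = a := by
    intro a
    have h : ∀ a, C.linPart (ρ * ρ * ρ) a = (c : F) * τ (c : F) * τ (τ (c : F)) * τ (τ (τ a)) := fun a => by
      rw [C.linPart_mul, C.linPart_mul, hcτ, hcτ, hcτ, map_mul, map_mul, map_mul]; ring
    have h1 := h 1
    rw [hr3, C.linPart_one, map_one, map_one, map_one, mul_one] at h1
    have h2 := h a
    rw [hr3, C.linPart_one, ← h1, one_mul] at h2
    exact h2.symm
  have hcyc : IsCyclic (F ≃+* F) := AutPSL.isCyclic_ringAut 2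
  have hcardA : Nat.card (F ≃+* F) = 4 := AutPSL.card_ringAut 2 4 (by rw [← Nat.card_eq_fintype_card, hf])
  have hτ1 : τ = 1 := by
    haveI : Finite (F ≃+* F) := Nat.finite_of_card_ne_zero (by rw [hcardA]; norm_num)
    have h3 : orderOf τ ∣ 3 := orderOf_dvd_of_pow_eq_one (RingEquiv.ext fun a => hτ3 a)
    exact orderOf_eq_one_iff.mp (Nat.eq_one_of_dvd_coprimes (show Nat.Coprime 3 4 by norm_num) h3
      (hcardA ▸ orderOf_dvd_natCard τ))
  have hcρ : ∀ a, C.linPart ρ a = c * a := fun a => by rw [hcτ, hτ1]; rfl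
  have hc1 : c ≠ 1 := by
    intro h
    apply hρ1
    have h2 := C.sq_of_linPart (φ := ρ) fun a => by rw [hcρ, h, Units.val_one, one_mul]
    calc ρ = ρ * ρ * ρ := by rw [h2, one_mul]
      _ = 1 := hr3
  have hc3 : (c : F) * c * c = 1 := by
    have h : C.linPart (ρ * ρ * ρ) 1 = (c : F) * c * c := by
      rw [C.linPart_mul, C.linPart_mul, hcρ, hcρ, hcρ, mul_one, mul_assoc]
    rw [hr3, C.linPart_one] at h
    exact h.symm
  have hθc : θ (c : F) = c * c := by
    have h : C.linPart (x * ρ) 1 = C.linPart (ρ * ρ * x) 1 := by rw [hxr]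
    rw [C.linPart_mul, C.linPart_mul, C.linPart_mul, hcρ, hcρ, hcρ, hdθ, hdθ, mul_one, map_one, mul_one] at h
    exact mul_left_cancel₀ d.ne_zero (by linear_combination h)
  have hθ2 : θ * θ = 1 := RingEquiv.ext fun a => by
    have h : ∀ a, C.linPart (x * x) a = (d : F) * θ (d : F) * θ (θ a) := fun a => by
      rw [C.linPart_mul, hdθ, hdθ, map_mul]; ring
    have h1 := h 1
    rw [hx2, C.linPart_one, map_one, map_one, mul_one] at h1
    have h2 := h a
    rw [hx2, C.linPart_one, ← h1, one_mul] at h2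
    exact h2.symm
  -- every involutory field automorphism fixes `c`
  have hσc : σ (c : F) = c := by
    rw [AutPSU.qb_apply, hq]; linear_combination (c : F) * hc3
  have hfix : θ (c : F) = c := by
    by_cases hθ : θ = 1
    · rw [hθ]; rfl
    · haveI : Finite (F ≃+* F) := Nat.finite_of_card_ne_zero (by rw [hcardA]; norm_num)
      haveI := Fintype.ofFinite (F ≃+* F)
      haveI := hcyc
      have hb := IsCyclic.card_pow_eq_one_le (α := F ≃+* F) (n := 2) (by norm_num)
      have hσ2 : (σ : F ≃+* F) ^ 2 = 1 := RingEquiv.ext fun a => AutPSU.qb_qb a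
      have hθσ : θ = σ := by
        by_contra hne
        have hsub : ({1, θ, σ} : Finset (F ≃+* F)) ⊆ Finset.univ.filter fun a => a ^ 2 = 1 := by
          intro a ha
          simp only [Finset.mem_insert, Finset.mem_singleton] at ha
          rw [Finset.mem_filter]
          refine ⟨Finset.mem_univ _, ?_⟩
          rcases ha with rfl | rfl | rfl
          · exact one_pow 2
          · rw [pow_two, hθ2]
          · exact hσ2
        have h3 : ({1, θ, σ} : Finset (F ≃+* F)).card = 3 := by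
          rw [Finset.card_insert_of_notMem, Finset.card_insert_of_notMem, Finset.card_singleton]
          · simpa using hne
          · simp only [Finset.mem_insert, Finset.mem_singleton]
            rintro (h | h)
            · exact hθ h.symm
            · exact AutPSU.qb_ne_refl (F := F) (q := q) h.symm
        have := Finset.card_le_card hsub
        omega
      rw [hθσ, hσc]
  rw [hfix] at hθc
  refine hc1 (Units.ext (mul_left_cancel₀ c.ne_zero ?_))
  rw [Units.val_one, mul_one]; exact hθc.symm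

end HermCoords

theorem su3_aut_structure {S : Type*} [Group S] [Finite S] (n : ℕ) (hn : 2 ≤ n) {F : Type*} [Field F] [Fintype F]
    (hF : Fintype.card F = 4 ^ n) (P : Sylow 2 ↥(Cfsg.SU 3 F (2 ^ n)))
    (hS : Nonempty (S ≃* ↥(P : Subgroup ↥(Cfsg.SU 3 F (2 ^ n))))) :
    Cfsg.IsElementaryAbelian 2 (Cfsg.pCore 2 (MulAut S)) ∧ Nat.card ↥(Cfsg.pCore 2 (MulAut S)) = 2 ^ (2 * n ^ 2) ∧
      Nat.card (MulAut S) = 2 ^ (2 * n ^ 2) * (2 * n * ((2 ^ n) ^ 2 - 1)) := by
  haveI : Fact (Nat.Prime 2) := ⟨Nat.prime_two⟩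
  have hq2 : Fintype.card F = (2 ^ n) ^ 2 := by rw [hF, ← pow_mul, mul_comm, pow_mul]; norm_num
  haveI : AutPSU.QField F (2 ^ n) := AutPSU.QField.of_card hq2
  haveI : CharP F 2 := charP_of_card_eq_prime_pow (f := n * 2) (by rw [hq2, pow_mul])
  obtain ⟨e⟩ := hS
  obtain ⟨C⟩ := hermCoords_of_equiv (F := F) (q := 2 ^ n) rfl P inferInstance e
  obtain ⟨h1, h2, h3⟩ := C.aut_structure (f := 2 * n)
    (by rw [Nat.card_eq_fintype_card, hq2, ← pow_mul, mul_comm]) rfl
  have hp : (2 ^ n) ^ (2 * n) = 2 ^ (2 * n ^ 2) := by rw [← pow_mul]; congr 1; ring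
  exact ⟨h1, by rw [h2, hp], by rw [h3, hp, mul_comm ((2 ^ n) ^ 2 - 1)]⟩

theorem psu3_four_no_sym_three {T : Type*} [Group T] [Finite T] {F : Type} [Field F] [Fintype F]
    (hF : Fintype.card F = 16) (S : Sylow 2 (Cfsg.PSU 3 F 4))
    (e : T ≃* ↥(S : Subgroup (Cfsg.PSU 3 F 4))) (H : Subgroup (MulAut T)) :
    ¬ Nonempty (↥H ≃* Equiv.Perm (Fin 3)) := by
  classical
  haveI : Fact (Nat.Prime 2) := ⟨Nat.prime_two⟩
  have hq2 : Fintype.card F = 4 ^ 2 := by rw [hF]; norm_num
  haveI : AutPSU.QField F 4 := AutPSU.QField.of_card hq2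
  haveI : CharP F 2 := charP_of_card_eq_prime_pow (f := 4) (by rw [hF]; norm_num)
  set π := QuotientGroup.mk' (Subgroup.center (Cfsg.SU 3 F 4)) with hπ
  have hπs : Function.Surjective π := QuotientGroup.mk'_surjective _
  have hZ : Subgroup.center (Cfsg.SU 3 F 4) = ⊥ := Subgroup.eq_bot_of_card_eq _ (by
    rw [UnitaryOrder.card_center_SU hq2 3 (by norm_num)]; norm_num)
  have hπi : Function.Injective π := by
    rw [← MonoidHom.ker_eq_bot_iff, hπ, QuotientGroup.ker_mk', hZ]
  obtain ⟨P⟩ : Nonempty (Sylow 2 (Cfsg.SU 3 F 4)) := inferInstance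
  let e' : T ≃* ↥(P : Subgroup (Cfsg.SU 3 F 4)) :=
    (e.trans (Sylow.equiv S (P.mapSurjective hπs))).trans
      ((MulEquiv.subgroupCongr (Sylow.coe_mapSurjective hπs P)).trans
        ((P : Subgroup (Cfsg.SU 3 F 4)).equivMapOfInjective π hπi).symm)
  obtain ⟨C⟩ := hermCoords_of_equiv (F := F) (q := 4) (m := 2) rfl P inferInstance e'
  exact C.no_sym_three (by rw [Nat.card_eq_fintype_card, hF]; norm_num) rfl H

end Cfsg.Agent.InvChar
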