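import Cfsg.Agent.Lib.InvChar.SU3Sylow
import Cfsg.Agent.Lib.InvChar.HermFieldSum

/-!
# The centre of a Sylow 2-subgroup of `SU(3, 2^n)` in an overgroup of index two
-/

set_option autoImplicit false
set_option linter.style.haveILetI false
set_option linter.unusedSectionVars false

namespace Cfsg.Agent.InvChar

open Cfsg.Agent

theorem su3_centre_le {R : Type*} [Group R] [Finite R] (n : ℕ) (hn : 2 ≤ n) {F : Type*} [Field F]
    [Fintype F] (hF : Fintype.card F = 4 ^ n) (P : Sylow 2 ↥(Cfsg.SU 3 F (2 ^ n))) (S' : Subgroup R)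
    (hS : Nonempty (↥S' ≃* ↥(P : Subgroup ↥(Cfsg.SU 3 F (2 ^ n))))) (hidx : S'.index = 2) :
    (Subgroup.center ↥S').map S'.subtype ≤ Subgroup.center R := by
  classical
  haveI : Fact (Nat.Prime 2) := ⟨Nat.prime_two⟩
  have hq2 : Fintype.card F = (2 ^ n) ^ 2 := by rw [hF, ← pow_mul, mul_comm, pow_mul]; norm_num
  haveI : AutPSU.QField F (2 ^ n) := AutPSU.QField.of_card hq2
  haveI : CharP F 2 := charP_of_card_eq_prime_pow (f := n * 2) (by rw [hq2, pow_mul])
  obtain ⟨Q, α, τ, hα, hτ, htr, hinj, hex⟩ := exists_su3_sylow (F := F) (q := 2 ^ n) rfl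
  set σ := AutPSU.qb (F := F) (2 ^ n) with hσ
  obtain ⟨e⟩ := hS
  let E : ↥S' ≃* ↥(Q : Subgroup ↥(Cfsg.SU 3 F (2 ^ n))) := e.trans (Sylow.equiv P Q)
  let A : S' → F := fun u => α (E u)
  let T : S' → F := fun u => τ (E u)
  have hA : ∀ u v, A (u * v) = A u + A v := fun u v => by simp only [A, map_mul, hα]
  have hT : ∀ u v, T (u * v) = T u + T v + A v * σ (A u) := fun u v => by simp only [A, T, map_mul, hτ]
  have hinjS : ∀ u v, A u = A v → T u = T v → u = v := fun u v h1 h2 => E.injective (hinj _ _ h1 h2)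
  have hexS : ∀ a t, t + σ t = a * σ a → ∃ u, A u = a ∧ T u = t := fun a t h => by
    obtain ⟨u, h1, h2⟩ := hex a t h
    exact ⟨E.symm u, by simp [A, h1], by simp [T, h2]⟩
  have hA1 : A 1 = 0 := by have := hA 1 1; rw [mul_one] at this; linear_combination -this
  have hfix : ∀ a : F, σ (a * σ a) = a * σ a := fun a => by rw [map_mul, AutPSU.qb_qb, mul_comm]
  have hlift : ∀ a : F, ∃ u, A u = a := fun a => by
    obtain ⟨t, ht⟩ := AutPSU.exists_trace (F := F) (q := 2 ^ n) (hfix a)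
    obtain ⟨u, hu, -⟩ := hexS a t ht
    exact ⟨u, hu⟩
  -- the centre
  have hcomm : ∀ u v, u * v = v * u ↔ A v * σ (A u) = A u * σ (A v) := fun u v => by
    constructor
    · intro h
      have h1 := congrArg T h
      rw [hT, hT] at h1
      linear_combination h1
    · intro h
      exact hinjS _ _ (by rw [hA, hA, add_comm]) (by rw [hT, hT, h]; ring)
  have hcen : ∀ u, u ∈ Subgroup.center S' ↔ A u = 0 := fun u => by
    constructor
    · intro h
      by_contra hne
      obtain ⟨b, hb⟩ := AutPSU.qb_ne (F := F) (q := 2 ^ n)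
      obtain ⟨v, hv⟩ := hlift (b / σ (A u))
      have h1 := (hcomm u v).mp (Subgroup.mem_center_iff.mp h v).symm
      have hσne : σ (A u) ≠ 0 := fun h0 => hne (σ.map_eq_zero_iff.mp h0)
      rw [hv, div_mul_cancel₀ b hσne, map_div₀, AutPSU.qb_qb, mul_div_cancel₀ (σ b) hne] at h1
      exact hb h1.symm
    · intro h
      rw [Subgroup.mem_center_iff]
      intro v
      exact (hcomm v u).mpr (by rw [h, map_zero, mul_zero, zero_mul])
  have hsqT : ∀ u, A (u * u) = 0 ∧ T (u * u) = A u * σ (A u) := fun u =>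
    ⟨by rw [hA, CharTwo.add_self_eq_zero], by rw [hT, CharTwo.add_self_eq_zero, zero_add]⟩
  -- the outer element
  obtain ⟨r, hr⟩ : ∃ r : R, r ∉ S' := by
    by_contra h
    push Not at h
    rw [(Subgroup.eq_top_iff' S').mpr h, Subgroup.index_top] at hidx
    omega
  have hN : S'.Normal := Subgroup.normal_of_index_eq_two hidx
  have hr2 : r * r ∈ S' := Subgroup.mul_self_mem_of_index_two hidx r
  let x : S' → S' := fun u => ⟨r * u * r⁻¹, hN.conj_mem _ u.2 r⟩
  have hx : ∀ u v, x (u * v) = x u * x v := fun u v => Subtype.ext (by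
    show r * ((u : R) * v) * r⁻¹ = r * u * r⁻¹ * (r * v * r⁻¹); group)
  have hxx : ∀ u, x (x u) = ⟨r * r, hr2⟩ * u * ⟨r * r, hr2⟩⁻¹ := fun u => Subtype.ext (by
    show r * (r * u * r⁻¹) * r⁻¹ = r * r * u * (r * r)⁻¹; group)
  have hxc : ∀ u, u ∈ Subgroup.center S' → x u ∈ Subgroup.center S' := fun u hu => by
    rw [Subgroup.mem_center_iff]
    intro v
    obtain ⟨w, rfl⟩ : ∃ w, x w = v := ⟨⟨r⁻¹ * v * r, by simpa using hN.conj_mem _ v.2 r⁻¹⟩, Subtype.ext (by
      show r * (r⁻¹ * (v : R) * r) * r⁻¹ = v; group)⟩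
    rw [← hx, ← hx, Subgroup.mem_center_iff.mp hu w]
  have hdiff : ∀ u v, A u = A v → u * v⁻¹ ∈ Subgroup.center S' := fun u v h => (hcen _).mpr (by
    have h1 := hA (u * v⁻¹) v
    rw [inv_mul_cancel_right, h] at h1
    linear_combination -h1)
  have hind : ∀ u v, A u = A v → A (x u) = A (x v) := fun u v h => by
    have h1 := (hcen _).mp (hxc _ (hdiff u v h))
    have h2 := hA (x (u * v⁻¹)) (x v)
    rw [← hx, inv_mul_cancel_right, h1, zero_add] at h2
    exact h2
  choose s hs using hlift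
  let L : F →+ F := AddMonoidHom.mk' (fun a => A (x (s a))) fun a b => by
    rw [hind (s (a + b)) (s a * s b) (by rw [hs, hA, hs, hs]), hx, hA]
  have hL : ∀ u, L (A u) = A (x u) := fun u => hind _ _ (hs _)
  have hLL : ∀ a, L (L a) = a := fun a => by
    obtain ⟨u, rfl⟩ : ∃ u, A u = a := ⟨_, hs a⟩
    rw [hL, hL, hxx, hA, hA]
    have : A (⟨r * r, hr2⟩ : S')⁻¹ = A (⟨r * r, hr2⟩ : S') := by
      have h1 := hA (⟨r * r, hr2⟩ : S') (⟨r * r, hr2⟩ : S')⁻¹
      rw [mul_inv_cancel, hA1] at h1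
      exact (CharTwo.add_eq_zero.mp h1.symm).symm
    rw [this]
    linear_combination CharTwo.add_self_eq_zero (A (⟨r * r, hr2⟩ : S'))
  -- the fixed additive subgroup
  let K : F →+ F := L + AddMonoidHom.id F
  have hKC : K.range ≤ K.ker := by
    rintro _ ⟨a, rfl⟩
    show L (L a + a) + (L a + a) = 0
    rw [map_add, hLL, add_comm a (L a), CharTwo.add_self_eq_zero]
  have hCcard : 2 ^ n ≤ Nat.card K.ker := by
    have h1 := AddSubgroup.card_eq_card_quotient_mul_card_addSubgroup K.ker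
    rw [Nat.card_congr (QuotientAddGroup.quotientKerEquivRange K).toEquiv, Nat.card_eq_fintype_card (α := F), hq2] at h1
    have h2 := AddSubgroup.card_le_of_le hKC
    nlinarith
  -- central elements as elements of the fixed field
  let W : AddSubgroup F :=
    { carrier := {t | ∃ c : S', A c = 0 ∧ T c = t ∧ x c = c}
      zero_mem' := ⟨1, hA1, by have := hT 1 1; rw [mul_one, hA1] at this; linear_combination -this,
        Subtype.ext (by show r * (1 : R) * r⁻¹ = 1; group)⟩
      add_mem' := by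
        rintro _ _ ⟨c, hc, rfl, hxc⟩ ⟨d, hd, rfl, hxd⟩
        exact ⟨c * d, by rw [hA, hc, hd, add_zero], by rw [hT, hd, zero_mul, add_zero], by rw [hx, hxc, hxd]⟩
      neg_mem' := by
        rintro _ ⟨c, hc, rfl, hxc⟩
        exact ⟨c, hc, (CharTwo.neg_eq _).symm, hxc⟩ }
  have hCW : ∀ a ∈ K.ker, a * σ a ∈ W := by
    intro a ha
    obtain ⟨u, rfl⟩ : ∃ u, A u = a := ⟨_, hs a⟩
    refine ⟨u * u, (hsqT u).1, (hsqT u).2, hinjS _ _ ?_ ?_⟩
    · rw [hx, (hsqT u).1, (hsqT _).1]
    · rw [hx, (hsqT u).2, (hsqT _).2, ← hL]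
      rw [show L (A u) = A u from CharTwo.add_eq_zero.mp ha]
  have heven : Even (2 ^ n) := Nat.even_pow.mpr ⟨even_two, by omega⟩
  rintro _ ⟨z, hz, rfl⟩
  have hz0 := (hcen z).mp hz
  have hTz : σ (T z) = T z := by
    have h1 : T z + σ (T z) = A z * σ (A z) := htr (E z)
    rw [hz0, zero_mul] at h1
    exact (CharTwo.add_eq_zero.mp h1).symm
  obtain ⟨c, hc, hcT, hcx⟩ := fixed_le_of_norms (q := 2 ^ n) heven K.ker hCcard W hCW hTz
  obtain rfl : c = z := hinjS _ _ (hc.trans hz0.symm) hcT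
  have hrz : r * (c : R) = c * r := mul_inv_eq_iff_eq_mul.mp (congrArg Subtype.val hcx)
  rw [Subgroup.mem_center_iff]
  intro g
  show g * (c : R) = c * g
  by_cases hg : g ∈ S'
  · exact congrArg Subtype.val (Subgroup.mem_center_iff.mp hz ⟨g, hg⟩)
  · have hg' : r⁻¹ * g ∈ S' := by
      rw [Subgroup.mul_mem_iff_of_index_two hidx, inv_mem_iff]
      exact iff_of_false hr hg
    have h2 := congrArg Subtype.val (Subgroup.mem_center_iff.mp hz ⟨_, hg'⟩)
    simp only [Subgroup.coe_mul] at h2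
    calc g * (c : R) = r * (r⁻¹ * g * c) := by group
      _ = r * (c * (r⁻¹ * g)) := by rw [h2]
      _ = (r * c) * (r⁻¹ * g) := by group
      _ = (c * r) * (r⁻¹ * g) := by rw [hrz]
      _ = c * g := by group

end Cfsg.Agent.InvChar
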