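import Cfsg.Agent.Lib.InvChar.SU3Sylow
import Cfsg.Agent.Lib.InvChar.HermSemilinear
import Cfsg.Agent.Lib.AutPSL.Counts

/-!
# Automorphisms of groups with the coordinates of a Sylow 2-subgroup of `SU(3, 2^n)`
-/

set_option autoImplicit false
set_option linter.style.haveILetI false
set_option linter.unusedSectionVars false

namespace Cfsg.Agent.InvChar

open Cfsg.Agent

variable {F : Type*} [Field F] {q : ℕ} [hQ : AutPSU.QField F q] [CharP F 2]

/-- Coordinates of the unitary type. -/
structure HermCoords (S : Type*) [Group S] (F : Type*) [Field F] (q : ℕ) [AutPSU.QField F q] where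
  A : S → F
  T : S → F
  A_mul : ∀ u v, A (u * v) = A u + A v
  T_mul : ∀ u v, T (u * v) = T u + T v + A v * AutPSU.qb q (A u)
  cond : ∀ u, T u + AutPSU.qb q (T u) = A u * AutPSU.qb q (A u)
  inj : ∀ u v, A u = A v → T u = T v → u = v
  surj : ∀ a t, t + AutPSU.qb q t = a * AutPSU.qb q a → ∃ u, A u = a ∧ T u = t

omit [CharP F 2] hQ in
theorem hermCoords_of_equiv {S : Type*} [Group S] {F : Type*} [Field F] {q : ℕ} [AutPSU.QField F q] [CharP F 2]
    {m : ℕ} (hm : q = 2 ^ m) (P : Sylow 2 (Cfsg.SU 3 F q)) (hF : Finite F)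
    (e : S ≃* ↥(P : Subgroup (Cfsg.SU 3 F q))) : Nonempty (HermCoords S F q) := by
  haveI : Fact (Nat.Prime 2) := ⟨Nat.prime_two⟩
  haveI := hF
  obtain ⟨Q, α, τ, hα, hτ, htr, hinj, hex⟩ := exists_su3_sylow (F := F) (q := q) hm
  let E : S ≃* ↥(Q : Subgroup (Cfsg.SU 3 F q)) := e.trans (Sylow.equiv P Q)
  exact ⟨{ A := fun u => α (E u)
           T := fun u => τ (E u)
           A_mul := fun u v => by simp only [map_mul, hα]
           T_mul := fun u v => by simp only [map_mul, hτ]
           cond := fun u => htr _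
           inj := fun u v h1 h2 => E.injective (hinj _ _ h1 h2)
           surj := fun a t h => by
            obtain ⟨u, h1, h2⟩ := hex a t h
            exact ⟨E.symm u, by simp [h1], by simp [h2]⟩ }⟩

namespace HermCoords

local notation "σ" => AutPSU.qb (F := F) q

variable {S : Type*} [Group S] (C : HermCoords S F q)

include hQ

theorem A_one : C.A 1 = 0 := by
  have := C.A_mul 1 1
  rw [mul_one] at this
  linear_combination -this

theorem T_one : C.T 1 = 0 := by
  have := C.T_mul 1 1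
  rw [mul_one, C.A_one] at this
  linear_combination -this

theorem exists_lift (a : F) : ∃ u, C.A u = a := by
  obtain ⟨t, ht⟩ := AutPSU.exists_trace (F := F) (q := q) (c := a * σ a)
    (by rw [map_mul, AutPSU.qb_qb, mul_comm])
  obtain ⟨u, hu, -⟩ := C.surj a t ht
  exact ⟨u, hu⟩

theorem exists_central {t : F} (ht : σ t = t) : ∃ u, C.A u = 0 ∧ C.T u = t :=
  C.surj 0 t (by rw [ht, CharTwo.add_self_eq_zero, zero_mul])

theorem T_fixed {u : S} (h : C.A u = 0) : σ (C.T u) = C.T u := by
  have h1 := C.cond u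
  rw [h, zero_mul] at h1
  exact (CharTwo.add_eq_zero.mp h1).symm

theorem comm_iff (u v : S) : u * v = v * u ↔ C.A v * σ (C.A u) = C.A u * σ (C.A v) := by
  constructor
  · intro h
    have h1 := congrArg C.T h
    rw [C.T_mul, C.T_mul] at h1
    linear_combination h1
  · intro h
    exact C.inj _ _ (by rw [C.A_mul, C.A_mul, add_comm]) (by rw [C.T_mul, C.T_mul, h]; ring)

theorem mem_center_iff (u : S) : u ∈ Subgroup.center S ↔ C.A u = 0 := by
  constructor
  · intro h
    by_contra hne
    obtain ⟨b, hb⟩ := AutPSU.qb_ne (F := F) (q := q)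
    obtain ⟨v, hv⟩ := C.exists_lift (b / σ (C.A u))
    have h1 := (C.comm_iff u v).mp (Subgroup.mem_center_iff.mp h v).symm
    have hσne : σ (C.A u) ≠ 0 := fun h0 => hne ((AutPSU.qb (F := F) q).map_eq_zero_iff.mp h0)
    rw [hv, div_mul_cancel₀ b hσne, map_div₀, AutPSU.qb_qb, mul_div_cancel₀ (σ b) hne] at h1
    exact hb h1.symm
  · intro h
    rw [Subgroup.mem_center_iff]
    intro v
    exact (C.comm_iff v u).mpr (by rw [h, map_zero, mul_zero, zero_mul])

theorem map_A_zero (φ : MulAut S) {u : S} (h : C.A u = 0) : C.A (φ u) = 0 := by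
  rw [← C.mem_center_iff] at h ⊢
  rw [Subgroup.mem_center_iff] at h ⊢
  intro v
  obtain ⟨w, rfl⟩ := φ.surjective v
  rw [← map_mul, ← map_mul, h w]

theorem A_inv (u : S) : C.A u⁻¹ = C.A u := by
  have h := C.A_mul u u⁻¹
  rw [mul_inv_cancel, C.A_one] at h
  exact (CharTwo.add_eq_zero.mp h.symm).symm

theorem A_map_congr (φ : MulAut S) {u v : S} (h : C.A u = C.A v) : C.A (φ u) = C.A (φ v) := by
  have h1 : C.A (u * v⁻¹) = 0 := by rw [C.A_mul, C.A_inv, h, CharTwo.add_self_eq_zero]
  have h2 := C.map_A_zero φ h1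
  rw [map_mul, map_inv, C.A_mul, C.A_inv] at h2
  exact CharTwo.add_eq_zero.mp h2

/-- The action on `S / Z(S)`. -/
noncomputable def linPart (φ : MulAut S) : F →+ F :=
  AddMonoidHom.mk' (fun a => C.A (φ (C.exists_lift a).choose)) fun a b => by
    rw [C.A_map_congr φ (v := (C.exists_lift a).choose * (C.exists_lift b).choose)
      (by rw [(C.exists_lift (a + b)).choose_spec, C.A_mul, (C.exists_lift a).choose_spec, (C.exists_lift b).choose_spec]),
      map_mul, C.A_mul]

theorem linPart_apply (φ : MulAut S) (u : S) : C.linPart φ (C.A u) = C.A (φ u) :=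
  C.A_map_congr φ (C.exists_lift (C.A u)).choose_spec

theorem linPart_mul (φ ψ : MulAut S) (a : F) : C.linPart (φ * ψ) a = C.linPart φ (C.linPart ψ a) := by
  obtain ⟨u, rfl⟩ := C.exists_lift a
  rw [C.linPart_apply, C.linPart_apply, C.linPart_apply]
  rfl

theorem linPart_one (a : F) : C.linPart 1 a = a := by
  obtain ⟨u, rfl⟩ := C.exists_lift a
  rw [C.linPart_apply]
  rfl

theorem linPart_semilinear (φ : MulAut S) : ∃ (c : Fˣ) (τ : F ≃+* F), ∀ a, C.linPart φ a = c * τ a := by
  classical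
  have hinj : Function.Injective (C.linPart φ) := fun a b h => by
    have h' := congrArg (C.linPart φ⁻¹) h
    rwa [← C.linPart_mul, ← C.linPart_mul, inv_mul_cancel, C.linPart_one, C.linPart_one] at h'
  let M : F → F := fun t => if ht : σ t = t then C.T (φ (C.exists_central ht).choose) else 0
  have hM : ∀ {t u}, C.A u = 0 → C.T u = t → M t = C.T (φ u) := fun {t u} h0 h1 => by
    have ht : σ t = t := h1 ▸ C.T_fixed h0
    simp only [M, dif_pos ht]
    obtain ⟨e0, e1⟩ := (C.exists_central ht).choose_spec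
    rw [C.inj _ u (e0.trans h0.symm) (e1.trans h1.symm)]
  refine norm_semilinear (q := q) _ hinj M (fun a b ha hb => ?_) fun a => ?_
  · obtain ⟨u, hu, rfl⟩ := C.exists_central ha
    obtain ⟨v, hv, rfl⟩ := C.exists_central hb
    rw [hM hu rfl, hM hv rfl, hM (u := u * v) (by rw [C.A_mul, hu, hv, add_zero])
      (by rw [C.T_mul, hv, zero_mul, add_zero]), map_mul, C.T_mul, C.map_A_zero φ hv, zero_mul, add_zero]
  · obtain ⟨u, rfl⟩ := C.exists_lift a
    rw [hM (u := u * u) (by rw [C.A_mul, CharTwo.add_self_eq_zero])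
      (by rw [C.T_mul, CharTwo.add_self_eq_zero, zero_add]), map_mul, C.T_mul,
      CharTwo.add_self_eq_zero, zero_add, C.linPart_apply]

/-- An automorphism trivial on `S / Z(S)` fixes the centre. -/
theorem fix_central {φ : MulAut S} (h : ∀ a, C.linPart φ a = a) {z : S} (hz : C.A z = 0) : φ z = z := by
  obtain ⟨a, ha⟩ := AutPSU.exists_norm (F := F) (q := q) (C.T_fixed hz)
  obtain ⟨u, hu⟩ := C.exists_lift a
  have hzu : z = u * u := C.inj _ _ (by rw [hz, C.A_mul, CharTwo.add_self_eq_zero])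
    (by rw [C.T_mul, CharTwo.add_self_eq_zero, zero_add, hu, ha])
  have hφu : C.A (φ u) = C.A u := by rw [← C.linPart_apply, h]
  rw [hzu, map_mul]
  exact C.inj _ _ (by rw [C.A_mul, C.A_mul, hφu])
    (by rw [C.T_mul, C.T_mul, hφu, CharTwo.add_self_eq_zero, CharTwo.add_self_eq_zero])

theorem central_sq {z : S} (hz : C.A z = 0) : z * z = 1 :=
  C.inj _ _ (by rw [C.A_mul, C.A_one, hz, add_zero])
    (by rw [C.T_mul, C.T_one, CharTwo.add_self_eq_zero, hz, zero_mul, add_zero])

/-- Automorphisms trivial on `S / Z(S)` square to one. -/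
theorem sq_of_linPart {φ : MulAut S} (h : ∀ a, C.linPart φ a = a) : φ * φ = 1 := by
  refine MulEquiv.ext fun u => ?_
  have hz : C.A (u⁻¹ * φ u) = 0 := by
    rw [C.A_mul, C.A_inv, ← C.linPart_apply φ, h, CharTwo.add_self_eq_zero]
  show φ (φ u) = u
  calc φ (φ u) = φ (u * (u⁻¹ * φ u)) := by rw [mul_inv_cancel_left]
    _ = φ u * (u⁻¹ * φ u) := by rw [map_mul, C.fix_central h hz]
    _ = u * ((u⁻¹ * φ u) * (u⁻¹ * φ u)) := by group
    _ = u := by rw [C.central_sq hz, mul_one]

end HermCoords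

end Cfsg.Agent.InvChar
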