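/-
A group with unitary coordinates is a Suzuki 2-group.
-/
import Cfsg.Agent.Lib.InvChar.SU3Aut
import Cfsg.Agent.S1248
import Cfsg.Prelude.Def_LieRecognition

set_option autoImplicit false
set_option linter.style.haveILetI false
set_option linter.unusedSectionVars false

namespace Cfsg.Agent.InvChar

open Cfsg.Agent

namespace HermCoords

variable {F : Type*} [Field F] {q : ℕ} [hQ : AutPSU.QField F q] [CharP F 2]
variable {S : Type*} [Group S] (C : HermCoords S F q)

local notation "σ" => AutPSU.qb (F := F) q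

include hQ C

theorem card_eq : Nat.card S = q ^ 3 := by
  obtain ⟨h1, -, -, -, h5, -⟩ := S1248.hermCoords_structure C
  rw [← Subgroup.card_mul_index (Subgroup.center S), h1, h5]
  ring

/-- A non-trivial square root of one is central with non-zero second coordinate. -/
theorem involution_coords {u : S} (h1 : u ≠ 1) (h2 : u * u = 1) : C.A u = 0 ∧ C.T u ≠ 0 := by
  have h := congrArg C.T h2
  rw [C.T_mul, C.T_one, CharTwo.add_self_eq_zero, zero_add, mul_eq_zero] at h
  have hA : C.A u = 0 := h.elim id fun e => (map_eq_zero_iff _ (RingEquiv.injective _)).mp e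
  exact ⟨hA, fun h0 => h1 (C.inj _ _ (by rw [hA, C.A_one]) (by rw [h0, C.T_one]))⟩

/-- The automorphism `(a, t) ↦ (la, l²t)` for a scalar fixed by the involution. -/
theorem exists_dilation (l : F) (hl : σ l = l) : ∃ f : S →* S, ∀ u, C.A (f u) = l * C.A u ∧ C.T (f u) = l ^ 2 * C.T u := by
  have hex : ∀ u, ∃ v, C.A v = l * C.A u ∧ C.T v = l ^ 2 * C.T u := fun u => by
    refine C.surj _ _ ?_
    rw [map_mul, map_mul, map_pow, hl]
    linear_combination l ^ 2 * C.cond u
  choose f hA hT using hex
  refine ⟨MonoidHom.mk' f fun u v => C.inj _ _ ?_ ?_, fun u => ⟨hA u, hT u⟩⟩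
  · rw [hA, C.A_mul, C.A_mul, hA, hA, mul_add]
  · rw [hT, C.T_mul, C.T_mul, hT, hT, hA, hA, map_mul, hl]
    ring

/-- A group with unitary coordinates is a Suzuki 2-group. -/
theorem isSuzukiTwoGroup [Finite F] {n : ℕ} (hn : 2 ≤ n) (hq : q = 2 ^ n) : Cfsg.IsSuzukiTwoGroup S := by
  classical
  haveI : Fact (Nat.Prime 2) := ⟨Nat.prime_two⟩
  have h4 : 4 ≤ q := hq ▸ (show 2 ^ 2 ≤ 2 ^ n from Nat.pow_le_pow_right (by norm_num) hn)
  obtain ⟨hz, -, -, -, -, -⟩ := S1248.hermCoords_structure C
  have hS : Nat.card S = 2 ^ (n * 3) := by rw [C.card_eq, hq, pow_mul]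
  haveI hfin : Finite S := Nat.finite_of_card_ne_zero (by rw [hS]; positivity)
  haveI := Fintype.ofFinite S
  refine ⟨hfin, IsPGroup.of_card hS, ?_, ?_, ?_⟩
  · by_contra hne
    push Not at hne
    have htop : Subgroup.center S = ⊤ := eq_top_iff.2 fun x _ => Subgroup.mem_center_iff.2 fun y => hne y x
    rw [htop, Subgroup.card_top, C.card_eq] at hz
    nlinarith [Nat.mul_le_mul h4 h4, hz, pow_succ q 2, pow_two q]
  · have hc : 3 ≤ (Finset.univ : Finset (Subgroup.center S)).card := by
      rw [Finset.card_univ, ← Nat.card_eq_fintype_card, hz]; omega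
    obtain ⟨a, ha, b, hb, hab⟩ := Finset.one_lt_card.1 (show 1 < (Finset.univ.erase (1 : Subgroup.center S)).card by
      rw [Finset.card_erase_of_mem (Finset.mem_univ _)]; omega)
    simp only [Finset.mem_erase, Finset.mem_univ, and_true] at ha hb
    exact ⟨a, b, fun e => hab (Subtype.ext e), fun e => ha (Subtype.ext e),
      C.central_sq ((C.mem_center_iff _).1 a.2), fun e => hb (Subtype.ext e),
      C.central_sq ((C.mem_center_iff _).1 b.2)⟩
  · let L : Subgroup Fˣ :=
      { carrier := {l | σ (l : F) = l}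
        mul_mem' := fun {a b} (ha : σ (a : F) = a) (hb : σ (b : F) = b) => by
          show σ ((a * b : Fˣ) : F) = _
          rw [Units.val_mul, map_mul, ha, hb]
        one_mem' := by show σ ((1 : Fˣ) : F) = _; rw [Units.val_one, map_one]
        inv_mem' := fun {a} (ha : σ (a : F) = a) => by
          show σ ((a⁻¹ : Fˣ) : F) = _
          rw [Units.val_inv_eq_inv_val, map_inv₀, ha] }
    haveI : IsCyclic L := subgroup_units_cyclic L
    choose f hf using fun l : L => C.exists_dilation ((l : Fˣ) : F) l.2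
    have hcomp : ∀ a b : L, ∀ u, f (a * b) u = f a (f b u) := fun a b u => C.inj _ _
      (by rw [(hf _ u).1, (hf a _).1, (hf b u).1, Subgroup.coe_mul, Units.val_mul, mul_assoc])
      (by rw [(hf _ u).2, (hf a _).2, (hf b u).2, Subgroup.coe_mul, Units.val_mul]; ring)
    have hone : ∀ u, f 1 u = u := fun u => C.inj _ _
      (by rw [(hf _ u).1, Subgroup.coe_one, Units.val_one, one_mul])
      (by rw [(hf _ u).2, Subgroup.coe_one, Units.val_one]; ring)
    let ψ : L →* MulAut S := MonoidHom.mk'
      (fun l => { toFun := f l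
                  invFun := f l⁻¹
                  left_inv := fun u => by rw [← hcomp, inv_mul_cancel, hone]
                  right_inv := fun u => by rw [← hcomp, mul_inv_cancel, hone]
                  map_mul' := (f l).map_mul })
      fun a b => MulEquiv.ext fun u => hcomp a b u
    refine ⟨ψ.range, isCyclic_of_surjective ψ.rangeRestrict ψ.rangeRestrict_surjective, ?_⟩
    intro x y hx hxx hy hyy
    obtain ⟨hxA, hxT⟩ := C.involution_coords hx hxx
    obtain ⟨hyA, hyT⟩ := C.involution_coords hy hyy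
    have hact : ∀ l : L, ψ l x = y ↔ ((l : Fˣ) : F) ^ 2 = C.T y / C.T x := fun l => by
      rw [eq_div_iff hxT]
      show f l x = y ↔ _
      refine ⟨fun e => by rw [← (hf l x).2, e], fun e => C.inj _ _ ?_ ?_⟩
      · rw [(hf l x).1, hxA, hyA, mul_zero]
      · rw [(hf l x).2, e]
    obtain ⟨r, hr⟩ := (frobenius_inj F 2).bijective_of_finite.2 (C.T y / C.T x)
    rw [frobenius_def] at hr
    have hr0 : r ≠ 0 := fun e => div_ne_zero hyT hxT (by rw [← hr, e, zero_pow two_ne_zero])
    have hrσ : σ r = r := frobenius_inj F 2 (by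
      rw [frobenius_def, frobenius_def, ← map_pow, hr, map_div₀, C.T_fixed hyA, C.T_fixed hxA])
    refine ⟨⟨ψ ⟨Units.mk0 r hr0, hrσ⟩, MonoidHom.mem_range.2 ⟨_, rfl⟩⟩, (hact _).2 (by simpa using hr), ?_⟩
    rintro ⟨_, l, rfl⟩ hk
    have hlr : ((l : Fˣ) : F) = r := frobenius_inj F 2 (by
      rw [frobenius_def, frobenius_def, (hact l).1 hk, hr])
    exact Subtype.ext (congrArg ψ (Subtype.ext (Units.ext hlr)))

end HermCoords

end Cfsg.Agent.InvChar
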