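import Cfsg.Agent.Lib.AutPSU.Group
import Cfsg.Agent.Lib.LinearGroups.UnitaryOrder

/-!
# A Sylow 2-subgroup of `SU(3, 2^n)` in coordinates
-/

set_option autoImplicit false
set_option linter.style.haveILetI false
set_option linter.unusedSectionVars false

namespace Cfsg.Agent.InvChar

open Cfsg.Agent

variable {F : Type*} [Field F] {q : ℕ} [hQ : AutPSU.QField F q]
include hQ

local notation "σ" => AutPSU.qb (F := F) q
local notation "H" => Cfsg.hermForm 3 F q
local notation "V" => Fin 3 → F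

theorem exists_su3_frame :
    ∃ e f w : V, H e e = 0 ∧ H f f = 0 ∧ H e f = 1 ∧ H f e = 1 ∧
      H w e = 0 ∧ H e w = 0 ∧ H w f = 0 ∧ H f w = 0 ∧ H w w = 1 := by
  obtain ⟨e, f, hee, hff, hef⟩ := AutPSU.exists_hyperbolic_pair (F := F) (q := q) (n := 3) (by norm_num)
  have hfe : H f e = 1 := by rw [← AutPSU.H_flip e f, hef, map_one]
  let φ : V →ₗ[F] F × F := (AutPSU.Hl (q := q) e).prod (AutPSU.Hl (q := q) f)
  obtain ⟨w₀, hw₀, hw0⟩ : ∃ w ∈ φ.ker, w ≠ 0 := by
    refine Submodule.exists_mem_ne_zero_of_ne_bot fun hb => ?_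
    have := LinearMap.finrank_le_finrank_of_injective (LinearMap.ker_eq_bot.mp hb)
    simp at this
  have hker : ∀ v : V, v ∈ φ.ker ↔ H v e = 0 ∧ H v f = 0 := fun v => by simp [φ, Prod.ext_iff]
  have haniso : ∃ w ∈ φ.ker, H w w ≠ 0 := by
    by_contra hall
    push Not at hall
    apply hw0
    refine AutPSU.eq_zero_of_orth (q := q) fun v => ?_
    obtain ⟨h0e, h0f⟩ := (hker w₀).mp hw₀
    set v' := v - H v f • e - H v e • f with hv'
    have hv'k : v' ∈ φ.ker := by
      rw [hker, hv']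
      simp only [AutPSU.H_sub_left, AutPSU.H_smul_left, hee, hff, hef, hfe]
      exact ⟨by ring, by ring⟩
    have hpol : ∀ c : F, c * H v' w₀ + σ (c * H v' w₀) = 0 := fun c => by
      have h1 := hall _ (Submodule.add_mem _ (Submodule.smul_mem _ c hv'k) hw₀)
      simp only [AutPSU.H_add_left, AutPSU.H_add_right, AutPSU.H_smul_left, AutPSU.H_smul_right,
        hall _ hv'k, hall _ hw₀] at h1
      rw [map_mul, AutPSU.H_flip]
      linear_combination h1
    have hv0 : H v' w₀ = 0 := by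
      by_contra hne
      obtain ⟨t, ht⟩ := AutPSU.exists_trace (F := F) (q := q) (c := 1) (map_one _)
      have := hpol (t / H v' w₀)
      rw [div_mul_cancel₀ t hne, ht] at this
      exact one_ne_zero this
    rw [hv', AutPSU.H_sub_left, AutPSU.H_sub_left, AutPSU.H_smul_left, AutPSU.H_smul_left,
      AutPSU.H_eq_zero_comm.mp h0e, AutPSU.H_eq_zero_comm.mp h0f, mul_zero, mul_zero, sub_zero, sub_zero] at hv0
    exact hv0
  obtain ⟨w, hwk, hww⟩ := haniso
  obtain ⟨hwe, hwf⟩ := (hker w).mp hwk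
  obtain ⟨c, hc⟩ := AutPSU.exists_norm (F := F) (q := q) (c := (H w w)⁻¹)
    (by rw [map_inv₀, AutPSU.H_self_fixed])
  refine ⟨e, f, c • w, hee, hff, hef, hfe, ?_, ?_, ?_, ?_, ?_⟩
  · rw [AutPSU.H_smul_left, hwe, mul_zero]
  · rw [AutPSU.H_smul_right, AutPSU.H_eq_zero_comm.mp hwe, mul_zero]
  · rw [AutPSU.H_smul_left, hwf, mul_zero]
  · rw [AutPSU.H_smul_right, AutPSU.H_eq_zero_comm.mp hwf, mul_zero]
  · rw [AutPSU.H_smul_left, AutPSU.H_smul_right, ← mul_assoc, hc, inv_mul_cancel₀ hww]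

/-- The fixed field has `q` elements. -/
theorem card_trace_ker : Nat.card {k : F // k + σ k = 0} = q := by
  let tr : F →+ F := AddMonoidHom.id F + (σ : F ≃+* F).toAddEquiv.toAddMonoidHom
  have hk : ∀ k : F, k ∈ tr.ker ↔ k + σ k = 0 := fun k => Iff.rfl
  have hr : ∀ k : F, k ∈ tr.range ↔ σ k = k := fun k => by
    constructor
    · rintro ⟨t, rfl⟩
      show σ (t + σ t) = t + σ t
      rw [map_add, AutPSU.qb_qb, add_comm]
    · intro h
      obtain ⟨t, ht⟩ := AutPSU.exists_trace (F := F) (q := q) h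
      exact ⟨t, ht⟩
  haveI := AutPSU.finite_field (F := F) (q := q)
  have hcard := AddSubgroup.card_eq_card_quotient_mul_card_addSubgroup tr.ker
  rw [Nat.card_congr (QuotientAddGroup.quotientKerEquivRange tr).toEquiv, hQ.card] at hcard
  obtain ⟨k₀, hk₀, hk₁⟩ := AutPSU.exists_skew (F := F) (q := q)
  have heq : Nat.card tr.range = Nat.card tr.ker := by
    have hσ : σ k₀ = -k₀ := eq_neg_of_add_eq_zero_right hk₁
    refine Nat.card_congr
      { toFun := fun a => ⟨k₀ * a.1, (hk _).mpr (by rw [map_mul, (hr _).mp a.2, hσ]; ring)⟩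
        invFun := fun a => ⟨a.1 / k₀, (hr _).mpr (by
          rw [map_div₀, hσ, eq_neg_of_add_eq_zero_right ((hk _).mp a.2), neg_div_neg_eq])⟩
        left_inv := fun a => Subtype.ext (mul_div_cancel_left₀ a.1 hk₀)
        right_inv := fun a => Subtype.ext (mul_div_cancel₀ a.1 hk₀) }
  rw [heq] at hcard
  have : Nat.card tr.ker = q := by nlinarith
  exact this

/-- Coordinates on a Sylow 2-subgroup of `SU₃(q)`, `q` a power of two. -/
theorem exists_su3_sylow [CharP F 2] {m : ℕ} (hm : q = 2 ^ m) :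
    ∃ (Q : Sylow 2 (Cfsg.SU 3 F q)) (α τ : ↥(Q : Subgroup (Cfsg.SU 3 F q)) → F),
      (∀ u v, α (u * v) = α u + α v) ∧
      (∀ u v, τ (u * v) = τ u + τ v + α v * σ (α u)) ∧
      (∀ u, τ u + σ (τ u) = α u * σ (α u)) ∧
      (∀ u v, α u = α v → τ u = τ v → u = v) ∧
      (∀ a t, t + σ t = a * σ a → ∃ u, α u = a ∧ τ u = t) := by
  classical
  haveI : Fact (Nat.Prime 2) := ⟨Nat.prime_two⟩
  haveI := AutPSU.finite_field (F := F) (q := q)
  haveI := Fintype.ofFinite F
  obtain ⟨e, f, w, hee, hff, hef, hfe, hwe, hew, hwf, hfw, hww⟩ := exists_su3_frame (F := F) (q := q)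
  have hIsQ : ∀ a t : F, t + σ t = a * σ a → AutPSU.IsQ q e (a • w) t := fun a t h => by
    refine ⟨hee, by rw [AutPSU.H_smul_left, hwe, mul_zero], ?_⟩
    rw [AutPSU.H_smul_left, AutPSU.H_smul_right, hww, mul_one, h, CharTwo.add_self_eq_zero]
  let D := {p : F × F // p.2 + σ p.2 = p.1 * σ p.1}
  let E : D → Cfsg.SU 3 F q := fun p => AutPSU.qE e (p.1.1 • w) p.1.2 (hIsQ _ _ p.2)
  have hEf : ∀ p : D, AutPSU.app (E p) f = f + p.1.1 • w + p.1.2 • e := fun p => by
    rw [AutPSU.qE_apply, hfe, AutPSU.H_smul_right, hfw, mul_zero, zero_smul, sub_zero, one_smul, mul_one]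
  have hEinj : Function.Injective E := by
    intro p p' h
    have h1 := congrArg (fun s => AutPSU.app s f) h
    simp only [hEf] at h1
    have ha : p.1.1 = p'.1.1 := by
      have h2 := congrArg (fun v => H v w) h1
      simpa [AutPSU.H_add_left, AutPSU.H_smul_left, hfw, hww, hew] using h2
    have hb : p.1.2 = p'.1.2 := by
      have h2 := congrArg (fun v => H v f) h1
      simpa [AutPSU.H_add_left, AutPSU.H_smul_left, hff, hwf, hef] using h2
    exact Subtype.ext (Prod.ext ha hb)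
  have hcond : ∀ p p' : D, (p.1.2 + p'.1.2 + p'.1.1 * σ p.1.1) + σ (p.1.2 + p'.1.2 + p'.1.1 * σ p.1.1) =
      (p.1.1 + p'.1.1) * σ (p.1.1 + p'.1.1) := fun p p' => by
    simp only [map_add, map_mul, AutPSU.qb_qb]
    linear_combination p.2 + p'.2
  let mulD : D → D → D := fun p p' => ⟨(p.1.1 + p'.1.1, p.1.2 + p'.1.2 + p'.1.1 * σ p.1.1), hcond p p'⟩
  have hEmul : ∀ p p', E p * E p' = E (mulD p p') := fun p p' => by
    rw [AutPSU.qE_mul]
    refine AutPSU.qE_congr (add_smul _ _ _).symm ?_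
    show p.1.2 + p'.1.2 - _ = p.1.2 + p'.1.2 + _
    rw [AutPSU.H_smul_left, AutPSU.H_smul_right, hww, mul_one, CharTwo.sub_eq_add]
  have hE1 : (1 : Cfsg.SU 3 F q) ∈ Set.range E := by
    refine ⟨⟨(0, 0), by simp⟩, ?_⟩
    rw [← AutPSU.qE_one (F := F) (q := q) (n := 3) hee]
    exact AutPSU.qE_congr (zero_smul _ _) rfl
  let Q0 : Submonoid (Cfsg.SU 3 F q) :=
    { carrier := Set.range E
      one_mem' := hE1
      mul_mem' := by rintro _ _ ⟨p, rfl⟩ ⟨p', rfl⟩; exact ⟨_, (hEmul p p').symm⟩ }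
  let Q : Subgroup (Cfsg.SU 3 F q) :=
    { Q0 with
      inv_mem' := fun {x} hx => by
        have h := (mem_powers_iff_mem_zpowers (x := x) (y := x⁻¹)).mpr (Subgroup.inv_mem _ (Subgroup.mem_zpowers x))
        exact Submonoid.powers_le.mpr hx h }
  have hD : Nat.card D = q ^ 3 := by
    have hg : ∀ a : F, ∃ t : F, t + σ t = a * σ a := fun a =>
      AutPSU.exists_trace (by rw [map_mul, AutPSU.qb_qb, mul_comm])
    choose g hg using hg
    rw [Nat.card_congr (show D ≃ F × {k : F // k + σ k = 0} from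
      { toFun := fun p => (p.1.1, ⟨p.1.2 + g p.1.1, by
          rw [map_add]; linear_combination p.2 + hg p.1.1 + CharTwo.add_self_eq_zero (p.1.1 * σ p.1.1)⟩)
        invFun := fun p => ⟨(p.1, p.2.1 + g p.1), by
          show p.2.1 + g p.1 + σ (p.2.1 + g p.1) = _
          rw [map_add]; linear_combination p.2.2 + hg p.1⟩
        left_inv := fun p => Subtype.ext (Prod.ext rfl (by
          show p.1.2 + g p.1.1 + g p.1.1 = p.1.2
          rw [add_assoc, CharTwo.add_self_eq_zero, add_zero]))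
        right_inv := fun p => Prod.ext rfl (Subtype.ext (by
          show p.2.1 + g p.1 + g p.1 = p.2.1
          rw [add_assoc, CharTwo.add_self_eq_zero, add_zero])) }), Nat.card_prod, hQ.card, card_trace_ker]
    ring
  have hQcard : Nat.card Q = q ^ 3 := by rw [← hD]; exact Nat.card_range_of_injective hEinj
  have hSU : Nat.card (Cfsg.SU 3 F q) = q ^ 3 * ((q ^ 2 - 1) * (q ^ 3 + 1)) := by
    have hF : Fintype.card F = q ^ 2 := by rw [← Nat.card_eq_fintype_card, hQ.card]
    have h := UnitaryOrder.card_SU hF 3 (by norm_num)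
    rw [UnitaryOrder.card_GU hF 3, Finset.prod_range_succ, Finset.prod_range_succ, Finset.prod_range_one] at h
    simp only [show Even 0 from ⟨0, rfl⟩, show ¬ Even 1 by decide, show Even 2 from ⟨1, rfl⟩, if_true, if_false] at h
    refine Nat.eq_of_mul_eq_mul_left (show 0 < q + 1 by omega) (h.trans ?_)
    norm_num
    ring
  have hm1 : 1 ≤ m := by
    rcases m with _ | m
    · have := AutPSU.two_le_q (F := F) (q := q); simp [hm] at this
    · omega
  have hodd : Odd ((q ^ 2 - 1) * (q ^ 3 + 1)) := by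
    have h2 : Even q := hm ▸ (Nat.even_pow.mpr ⟨even_two, by omega⟩)
    refine Odd.mul ?_ ((h2.pow_of_ne_zero (by norm_num)).add_one)
    have : 1 ≤ q ^ 2 := Nat.one_le_pow _ _ (by have := AutPSU.two_le_q (F := F) (q := q); omega)
    exact Nat.Even.sub_odd this (h2.pow_of_ne_zero (by norm_num)) odd_one
  have hQp : IsPGroup 2 Q := IsPGroup.of_card (n := m * 3) (by rw [hQcard, hm, pow_mul])
  obtain ⟨S, hS⟩ := hQp.exists_le_sylow
  have hSeq : Q = (S : Subgroup (Cfsg.SU 3 F q)) := by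
    refine Subgroup.eq_of_le_of_card_ge hS ?_
    have h1 := Subgroup.card_subgroup_dvd_card (S : Subgroup (Cfsg.SU 3 F q))
    obtain ⟨j, hj⟩ := IsPGroup.iff_card.mp S.isPGroup'
    rw [hSU, hj] at h1
    have h2 := ((Nat.coprime_two_left.mpr hodd).pow_left j).dvd_of_dvd_mul_right h1
    rw [hQcard, hj]
    exact Nat.le_of_dvd (pow_pos (by have := AutPSU.two_le_q (F := F) (q := q); omega) 3) h2
  have hmem : ∀ u : ↥(S : Subgroup (Cfsg.SU 3 F q)), ∃ p, E p = u := fun u => hSeq.ge u.2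
  choose co hco using hmem
  have hcm : ∀ u v, co (u * v) = mulD (co u) (co v) := fun u v => hEinj (by
    rw [hco, ← hEmul, hco, hco, Subgroup.coe_mul])
  refine ⟨S, fun u => (co u).1.1, fun u => (co u).1.2, fun u v => ?_, fun u v => ?_, fun u => (co u).2,
    fun u v ha ht => ?_, fun a t h => ?_⟩
  · show (co (u * v)).1.1 = _
    rw [hcm]
  · show (co (u * v)).1.2 = _
    rw [hcm]
  · refine Subtype.ext ?_
    rw [← hco u, ← hco v]
    exact congrArg E (Subtype.ext (Prod.ext ha ht))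
  · refine ⟨⟨E ⟨(a, t), h⟩, hSeq.le ⟨_, rfl⟩⟩, ?_⟩
    have : co ⟨E ⟨(a, t), h⟩, hSeq.le ⟨_, rfl⟩⟩ = ⟨(a, t), h⟩ := hEinj (hco _)
    exact ⟨congrArg (fun p => p.1.1) this, congrArg (fun p => p.1.2) this⟩

end Cfsg.Agent.InvChar
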