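import Mathlib
import Cfsg.Agent.Lib.Invol.Dihedral
import Cfsg.Prelude.Def_CaseTheorems

/-!
# 2-groups with an involution whose centralizer has order four
-/

set_option autoImplicit false
set_option linter.style.haveILetI false

namespace Cfsg.Agent.InvChar

open Cfsg Cfsg.Agent

universe u

theorem exists_cyclic_index_two_aux : ∀ (N : ℕ) (S : Type u) [Group S] [Finite S], Nat.card S ≤ N →
    IsPGroup 2 S → ∀ x : S, orderOf x = 2 → Nat.card (Subgroup.centralizer ({x} : Set S)) = 4 →
    ∃ a : S, 2 * orderOf a = Nat.card S := by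
  intro N
  induction N with
  | zero =>
    intro S _ _ h
    exact absurd h (not_le.mpr Nat.card_pos)
  | succ N ih =>
    intro S _ _ hle hS x hx hC
    haveI : Fact (Nat.Prime 2) := ⟨Nat.prime_two⟩
    set V := Subgroup.centralizer ({x} : Set S) with hV
    have hxV : x ∈ V := Subgroup.mem_centralizer_singleton_iff.mpr rfl
    obtain ⟨m, hm⟩ := IsPGroup.iff_card.mp hS
    have h4 : 4 ∣ Nat.card S := hC ▸ V.card_subgroup_dvd_card
    by_cases hVtop : V = ⊤
    · rw [hVtop, Subgroup.card_top] at hC
      exact ⟨x, by rw [hx, hC]⟩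
    have hx1 : x ≠ 1 := fun e => by rw [e, orderOf_one] at hx; omega
    haveI : Nontrivial S := ⟨⟨x, 1, hx1⟩⟩
    haveI : Nontrivial (Subgroup.center S) := hS.center_nontrivial
    obtain ⟨k, hk0, hk⟩ := (hS.to_subgroup (Subgroup.center S)).nontrivial_iff_card.mp inferInstance
    obtain ⟨zc, hzc⟩ := exists_prime_orderOf_dvd_card' (G := Subgroup.center S) 2
      (hk ▸ dvd_pow_self 2 hk0.ne')
    set z : S := (zc : S) with hzdef
    have hz : orderOf z = 2 := by rw [hzdef, Subgroup.orderOf_coe, hzc]
    have hzcen : ∀ g : S, g * z = z * g := fun g => Subgroup.mem_center_iff.mp zc.2 g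
    have hzx : z ≠ x := fun e => hVtop (eq_top_iff.mpr fun g _ =>
      Subgroup.mem_centralizer_singleton_iff.mpr (e ▸ hzcen g))
    set Z := Subgroup.zpowers z with hZ
    haveI : Z.Normal := ⟨fun a ha g => by
      obtain ⟨i, rfl⟩ := ha
      have : g * z ^ i * g⁻¹ = z ^ i := by
        rw [(show Commute g z from hzcen g).zpow_right i |>.eq, mul_inv_cancel_right]
      rw [this]; exact ⟨i, rfl⟩⟩
    have hZ2 : Nat.card Z = 2 := by rw [hZ, Nat.card_zpowers, hz]
    have hZmem : ∀ g, g ∈ Z → g = 1 ∨ g = z := by
      intro g hg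
      obtain ⟨i, rfl⟩ := hg
      rcases Int.even_or_odd i with ⟨j, rfl⟩ | ⟨j, rfl⟩
      · left
        show z ^ (j + j) = 1
        rw [zpow_add, ← (Commute.refl z).mul_zpow, Invol.mul_self_of_orderOf_two hz, one_zpow]
      · right
        show z ^ (2 * j + 1) = z
        rw [zpow_add, zpow_mul, zpow_two, Invol.mul_self_of_orderOf_two hz, one_zpow, one_mul, zpow_one]
    have hxZ : x ∉ Z := fun h => (hZmem x h).elim hx1 (fun e => hzx e.symm)
    set π := QuotientGroup.mk' Z with hπ
    have hQ : 2 * Nat.card (S ⧸ Z) = Nat.card S := by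
      rw [Subgroup.card_eq_card_quotient_mul_card_subgroup Z, hZ2, mul_comm]
    have hQp : IsPGroup 2 (S ⧸ Z) := hS.to_quotient Z
    have hxQ : orderOf (π x) = 2 := orderOf_eq_prime
      (by rw [← map_pow, pow_two, Invol.mul_self_of_orderOf_two hx, map_one])
      (fun e => hxZ ((QuotientGroup.eq_one_iff x).mp e))
    -- the centralizer in the quotient
    have hCQ : Nat.card (Subgroup.centralizer ({π x} : Set (S ⧸ Z))) = 4 := by
      set C' := Subgroup.centralizer ({π x} : Set (S ⧸ Z)) with hC'
      set Nn := C'.comap π with hNn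
      have hN : Nat.card Nn = 2 * Nat.card C' := by
        have h1 := Subgroup.card_mul_index Nn
        rw [hNn, Subgroup.index_comap_of_surjective C' (QuotientGroup.mk'_surjective Z),
          ← hQ, ← Subgroup.card_mul_index C', ← mul_assoc] at h1
        exact Nat.eq_of_mul_eq_mul_right (Nat.pos_of_ne_zero Subgroup.index_ne_zero_of_finite) h1
      have hmemN : ∀ g, g ∈ Nn ↔ g * x * g⁻¹ = x ∨ g * x * g⁻¹ = z * x := by
        intro g
        rw [hNn, Subgroup.mem_comap, hC', Subgroup.mem_centralizer_singleton_iff, ← map_mul, ← map_mul,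
          hπ, QuotientGroup.mk'_apply, QuotientGroup.mk'_apply, QuotientGroup.eq]
        constructor
        · intro h
          rcases hZmem _ h with h | h
          · left; rw [inv_mul_eq_one.mp h, mul_inv_cancel_right]
          · right
            have h' : x * g = g * x * z := eq_mul_of_inv_mul_eq h
            have h'' : g * x = x * g * z := by
              rw [h', mul_assoc, Invol.mul_self_of_orderOf_two hz, mul_one]
            rw [h'', mul_assoc x, hzcen g, ← mul_assoc, mul_inv_cancel_right, hzcen x]
        · rintro (h | h)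
          · rw [mul_inv_eq_iff_eq_mul.mp h, inv_mul_cancel]; exact one_mem _
          · rw [mul_inv_eq_iff_eq_mul.mp h, mul_assoc, mul_inv_rev, mul_assoc,
              ((show Commute (x * g) z from hzcen _).inv_right).eq.symm, inv_mul_cancel_left]
            exact inv_mem (Subgroup.mem_zpowers z)
      have hVN : V ≤ Nn := fun g hg => (hmemN g).mpr (Or.inl (by
        rw [Subgroup.mem_centralizer_singleton_iff.mp hg, mul_inv_cancel_right]))
      have hlt : V < Nn := by
        obtain ⟨g, hg, hgV⟩ := SetLike.exists_of_lt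
          ((@Group.normalizerCondition_of_isNilpotent S _ hS.isNilpotent) V (lt_top_iff_ne_top.mpr hVtop))
        refine lt_of_le_of_ne hVN fun e => hgV (e ▸ (hmemN g).mpr ?_)
        have hgx : g * x * g⁻¹ ∈ V := (Subgroup.mem_normalizer_iff.mp hg x).mp hxV
        have hVmem : ∀ v ∈ V, v = 1 ∨ v = x ∨ v = z ∨ v = z * x := by
          intro v hv
          by_contra hcon
          push Not at hcon
          classical
          haveI := Fintype.ofFinite V
          have hzV : z ∈ V := Subgroup.mem_centralizer_singleton_iff.mpr (hzcen x).symm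
          have hz1 : z ≠ 1 := fun e => by rw [e, orderOf_one] at hz; omega
          let s : Finset V := {⟨1, one_mem _⟩, ⟨x, hxV⟩, ⟨z, hzV⟩, ⟨z * x, mul_mem hzV hxV⟩, ⟨v, hv⟩}
          have hzx1 : z * x ≠ 1 := fun e => hzx (by
            rw [eq_inv_of_mul_eq_one_left e, inv_eq_of_mul_eq_one_right (Invol.mul_self_of_orderOf_two hx)])
          have hs : s.card = 5 := by
            simp only [s]
            rw [Finset.card_insert_of_notMem, Finset.card_insert_of_notMem,
              Finset.card_insert_of_notMem, Finset.card_insert_of_notMem, Finset.card_singleton] <;>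
              simp [Subtype.ext_iff, Ne.symm hx1, Ne.symm hz1, Ne.symm hzx1, hzx.symm, hz1, hx1,
                Ne.symm hcon.1, Ne.symm hcon.2.1, Ne.symm hcon.2.2.1, Ne.symm hcon.2.2.2]
          have := Finset.card_le_univ s
          rw [hs, ← Nat.card_eq_fintype_card, hC] at this
          omega
        rcases hVmem _ hgx with h | h | h | h
        · exact absurd (conj_eq_one_iff.mp h) hx1
        · exact Or.inl h
        · exfalso
          have : x = z := by
            calc x = g⁻¹ * (g * x * g⁻¹) * g := by group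
              _ = g⁻¹ * (g * z) := by rw [h, mul_assoc, hzcen]
              _ = z := by group
          exact hzx this.symm
        · exact Or.inr h
      -- at most two cosets of `V`
      have hup : Nat.card Nn ≤ 8 := by
        have h1 : (V.subgroupOf Nn).index ≤ 2 := by
          classical
          rw [Subgroup.index_eq_card]
          refine le_trans (Nat.card_le_card_of_injective (fun q =>
            (⟨(q.out : S) * x * (q.out : S)⁻¹, by
              exact Finset.mem_insert.mpr (((hmemN _).mp q.out.2).imp id Finset.mem_singleton.mpr)⟩ : ({x, z * x} : Finset S))) ?_) ?_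
          · intro q r hqr
            have h1 : (q.out : S) * x * (q.out : S)⁻¹ = (r.out : S) * x * (r.out : S)⁻¹ :=
              congrArg Subtype.val hqr
            rw [← Quotient.out_eq q, ← Quotient.out_eq r]
            refine QuotientGroup.eq.mpr (Subgroup.mem_centralizer_singleton_iff.mpr ?_)
            show (q.out : S)⁻¹ * r.out * x = x * ((q.out : S)⁻¹ * r.out)
            calc (q.out : S)⁻¹ * r.out * x = (q.out : S)⁻¹ * ((r.out : S) * x * (r.out : S)⁻¹) * r.out := by group
              _ = x * ((q.out : S)⁻¹ * r.out) := by rw [← h1]; group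
          · rw [Nat.card_eq_finsetCard]; exact Finset.card_le_two
        have h2 := Subgroup.card_mul_index (V.subgroupOf Nn)
        rw [Nat.card_congr (Subgroup.subgroupOfEquivOfLe hVN).toEquiv, hC] at h2
        omega
      have hdvd : 4 ∣ Nat.card Nn := hC ▸ Subgroup.card_dvd_of_le hVN
      have hgt : 4 < Nat.card Nn := by
        have h1 := Subgroup.card_le_of_le hVN
        rcases (show 4 < Nat.card Nn ∨ Nat.card Nn = 4 by omega) with h | h
        · exact h
        · exact absurd (Subgroup.eq_of_le_of_card_ge hVN (by omega)) hlt.ne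
      omega
    obtain ⟨ab, hab⟩ := ih (S ⧸ Z) (by omega) hQp (π x) hxQ hCQ
    obtain ⟨a, rfl⟩ := QuotientGroup.mk'_surjective Z ab
    change 2 * orderOf (π a) = Nat.card (S ⧸ Z) at hab
    have hdiv : orderOf (π a) ∣ orderOf a := orderOf_map_dvd π a
    have hpow : a ^ orderOf (π a) ∈ Z := by
      rw [← QuotientGroup.eq_one_iff, QuotientGroup.mk_pow]
      exact pow_orderOf_eq_one _
    by_cases hfull : a ^ orderOf (π a) = 1
    case neg =>
      have hzpow : a ^ orderOf (π a) = z := (hZmem _ hpow).resolve_left hfull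
      have hord : orderOf a = 2 * orderOf (π a) := by
        obtain ⟨c, hc⟩ := hdiv
        have h2 : orderOf a ∣ orderOf (π a) * 2 := orderOf_dvd_of_pow_eq_one (by
          rw [pow_mul, hzpow, pow_two, Invol.mul_self_of_orderOf_two hz])
        rw [hc] at h2
        have hc2 : c ∣ 2 := Nat.dvd_of_mul_dvd_mul_left (orderOf_pos (π a)) h2
        rcases (Nat.dvd_prime Nat.prime_two).mp hc2 with h | h
        · exfalso
          rw [h, mul_one] at hc
          exact hfull (hc ▸ pow_orderOf_eq_one a)
        · rw [hc, h, mul_comm]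
      exact ⟨a, by omega⟩
    case pos =>
      have hord : orderOf a = orderOf (π a) :=
        Nat.dvd_antisymm (orderOf_dvd_of_pow_eq_one hfull) hdiv
      have hS4 : Nat.card S = 4 * orderOf a := by omega
      obtain ⟨n, hn⟩ := hS.exists_orderOf_eq_pow a
      have hVlt : 4 < Nat.card S := by
        have := Subgroup.card_le_of_le (le_top (a := V))
        rw [Subgroup.card_top] at this
        rcases (show 4 < Nat.card S ∨ Nat.card S = 4 by omega) with h | h
        · exact h
        · exact absurd (Subgroup.eq_top_of_card_eq V (by omega)) hVtop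
      rcases n with _ | _ | n
      · rw [hn] at hS4; omega
      · -- order eight, not of exponent two
        obtain ⟨y, hy⟩ : ∃ y : S, y * y ≠ 1 := by
          by_contra hcon
          push Not at hcon
          refine hVtop (eq_top_iff.mpr fun g _ => Subgroup.mem_centralizer_singleton_iff.mpr ?_)
          have h1 := hcon (g * x)
          calc g * x = g⁻¹ * x⁻¹ := by
                rw [inv_eq_of_mul_eq_one_right (hcon g), inv_eq_of_mul_eq_one_right (hcon x)]
            _ = (x * g)⁻¹ := (mul_inv_rev x g).symm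
            _ = x * g := inv_eq_of_mul_eq_one_right (hcon _)
        refine ⟨y, ?_⟩
        obtain ⟨j, hj⟩ := hS.exists_orderOf_eq_pow y
        have hjd : orderOf y ∣ Nat.card S := orderOf_dvd_natCard y
        have hne : orderOf y ≠ Nat.card S := by
          intro h
          refine hVtop (eq_top_iff.mpr fun g _ => Subgroup.mem_centralizer_singleton_iff.mpr ?_)
          have htop : Subgroup.zpowers y = ⊤ := Subgroup.eq_top_of_card_eq _ (by rw [Nat.card_zpowers, h])
          obtain ⟨i, hi⟩ := htop.symm ▸ Subgroup.mem_top g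
          obtain ⟨l, hl⟩ := htop.symm ▸ Subgroup.mem_top x
          rw [← hi, ← hl]
          exact ((Commute.refl y).zpow_zpow i l).eq
        have hS8 : Nat.card S = 8 := by rw [hS4, hn]; norm_num
        have hj2 : ¬ orderOf y ∣ 2 := fun h => hy (by
          rw [← pow_two]; exact orderOf_dvd_iff_pow_eq_one.mp h)
        rw [hS8] at hjd hne ⊢
        have hle8 := Nat.le_of_dvd (by norm_num) hjd
        interval_cases h : orderOf y <;> omega
      · exfalso
        set w := a ^ 2 ^ (n + 1) with hw
        have hw1 : w ≠ 1 := fun e => by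
          have := orderOf_dvd_of_pow_eq_one e
          rw [hn, Nat.pow_dvd_pow_iff_le_right (by norm_num)] at this
          omega
        have hwsq : w * w = 1 := by
          rw [hw, ← pow_add, show 2 ^ (n + 1) + 2 ^ (n + 1) = 2 ^ (n + 1 + 1) by rw [pow_succ]; ring,
            ← hn, pow_orderOf_eq_one]
        -- the conjugate of `a` lies in `⟨a⟩⟨z⟩`
        have hmem : ∃ i : ℕ, ∃ j : ℤ, x * a * x⁻¹ = a ^ i * z ^ j := by
          have hA2 : (Subgroup.zpowers (π a)).index = 2 := by
            have h1 := Subgroup.card_mul_index (Subgroup.zpowers (π a))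
            rw [Nat.card_zpowers, ← hab, mul_comm 2] at h1
            exact Nat.eq_of_mul_eq_mul_left (orderOf_pos _) h1
          haveI := Subgroup.normal_of_index_eq_two hA2
          obtain ⟨i, hi⟩ := (mem_powers_iff_mem_zpowers (x := π a)).mpr
            ((inferInstance : (Subgroup.zpowers (π a)).Normal).conj_mem _ (Subgroup.mem_zpowers _) (π x))
          have hi' : π a ^ i = π (x * a * x⁻¹) := by rw [map_mul, map_mul, map_inv]; exact hi
          rw [← map_pow, hπ, QuotientGroup.mk'_apply, QuotientGroup.mk'_apply, QuotientGroup.eq] at hi'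
          obtain ⟨j, hj⟩ := hi'
          exact ⟨i, j, by rw [show z ^ j = (a ^ i)⁻¹ * (x * a * x⁻¹) from hj, mul_inv_cancel_left]⟩
        obtain ⟨i, j, hij⟩ := hmem
        have hxw : x * w * x⁻¹ = w := by
          have h1 : x * w * x⁻¹ = w ^ i := by
            rw [hw, ← conj_pow, hij, ((show Commute (a ^ i) z from hzcen _).zpow_right j).mul_pow,
              ← pow_mul, mul_comm i, pow_mul, ← zpow_natCast (z ^ j), ← zpow_mul, mul_comm j,
              zpow_mul, zpow_natCast, pow_succ' 2 n, pow_mul z, pow_two z, Invol.mul_self_of_orderOf_two hz,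
              one_pow, one_zpow, mul_one]
          rcases Nat.even_or_odd i with ⟨k, rfl⟩ | ⟨k, rfl⟩
          · rw [pow_add, ← (Commute.refl w).mul_pow, hwsq, one_pow] at h1
            exact absurd (conj_eq_one_iff.mp h1) hw1
          · rw [h1, pow_add, pow_mul, pow_two, hwsq, one_pow, one_mul, pow_one]
        have hwV : w ∈ V := Subgroup.mem_centralizer_singleton_iff.mpr (mul_inv_eq_iff_eq_mul.mp hxw).symm
        -- `V` contains five elements
        classical
        have hz1 : z ≠ 1 := fun e => by rw [e, orderOf_one] at hz; omega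
        have hzV : z ∈ V := Subgroup.mem_centralizer_singleton_iff.mpr (hzcen x).symm
        have hwz : w ≠ z := fun e => by
          have h1 : π w = 1 := (QuotientGroup.eq_one_iff w).mpr (e ▸ Subgroup.mem_zpowers z)
          rw [hw, map_pow] at h1
          have := orderOf_dvd_of_pow_eq_one h1
          rw [← hord, hn, Nat.pow_dvd_pow_iff_le_right (by norm_num)] at this
          omega
        have hnotx : ∀ e : ℤ, x ≠ a ^ (e : ℤ) ∧ x ≠ a ^ e * z := by
          intro e
          have hac : ¬ Commute a x := fun hc => by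
            have haV : Subgroup.zpowers a ⊔ Z ≤ V := sup_le
              (Subgroup.zpowers_le.mpr (Subgroup.mem_centralizer_singleton_iff.mpr hc.eq))
              (Subgroup.zpowers_le.mpr hzV)
            have h1 := Subgroup.card_le_of_le ((le_sup_left (b := Z)).trans haV)
            rw [Nat.card_zpowers, hC] at h1
            have hlt : Subgroup.zpowers a < Subgroup.zpowers a ⊔ Z := by
              refine lt_of_le_of_ne le_sup_left fun h => ?_
              have : z ∈ Subgroup.zpowers a := h ▸ Subgroup.mem_sup_right (Subgroup.mem_zpowers z)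
              obtain ⟨l, hl⟩ := (mem_powers_iff_mem_zpowers (x := a)).mpr this
              have h2 : π a ^ l = 1 := by
                rw [← map_pow, show a ^ l = z from hl]
                exact (QuotientGroup.eq_one_iff z).mpr (Subgroup.mem_zpowers z)
              have h3 := orderOf_dvd_of_pow_eq_one h2
              rw [← hord] at h3
              exact hz1 (by rw [← hl]; exact orderOf_dvd_iff_pow_eq_one.mp h3)
            have h2 : Nat.card (Subgroup.zpowers a ⊔ Z : Subgroup S) ≤ 4 := hC ▸ Subgroup.card_le_of_le haV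
            have h3 : Nat.card (Subgroup.zpowers a) < Nat.card (Subgroup.zpowers a ⊔ Z : Subgroup S) :=
              lt_of_le_of_ne (Subgroup.card_le_of_le hlt.le)
                fun h => hlt.ne (Subgroup.eq_of_le_of_card_ge hlt.le h.ge)
            rw [Nat.card_zpowers, hn] at h3
            have : 4 ≤ 2 ^ (n + 1 + 1) := by
              rw [pow_succ, pow_succ]; have := Nat.one_le_two_pow (n := n); omega
            omega
          constructor <;> intro h <;> apply hac <;> rw [h]
          · exact (Commute.refl a).zpow_right e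
          · exact ((Commute.refl a).zpow_right e).mul_right (hzcen a)
        have hxw' : x ≠ w := by rw [hw, ← zpow_natCast]; exact (hnotx _).1
        have hxwz : x ≠ w * z := by rw [hw, ← zpow_natCast]; exact (hnotx _).2
        have hwz1 : w * z ≠ 1 := fun e => hwz (by
          rw [eq_inv_of_mul_eq_one_left e, inv_eq_of_mul_eq_one_right (Invol.mul_self_of_orderOf_two hz)])
        haveI := Fintype.ofFinite V
        let s : Finset V := {⟨1, one_mem _⟩, ⟨x, hxV⟩, ⟨z, hzV⟩, ⟨w, hwV⟩, ⟨w * z, mul_mem hwV hzV⟩}
        have hs : s.card = 5 := by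
          simp only [s]
          rw [Finset.card_insert_of_notMem, Finset.card_insert_of_notMem,
            Finset.card_insert_of_notMem, Finset.card_insert_of_notMem, Finset.card_singleton] <;>
            simp [Subtype.ext_iff, Ne.symm hx1, Ne.symm hz1, Ne.symm hw1, Ne.symm hwz1, hzx.symm, hxw', hxwz,
              hwz.symm, hw1, hz1]
        have := Finset.card_le_univ s
        rw [hs, ← Nat.card_eq_fintype_card, hC] at this
        omega

theorem dihedral_or_quasiDihedral {S : Type u} [Group S] [Finite S] (hS : IsPGroup 2 S)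
    (x : S) (hx : orderOf x = 2) (hC : Nat.card ↥(Subgroup.centralizer ({x} : Set S)) = 4) :
    (∃ n : ℕ, Nonempty (S ≃* DihedralGroup n)) ∨ IsQuasiDihedral S ∨ Nat.card S = 4 := by
  haveI : Fact (Nat.Prime 2) := ⟨Nat.prime_two⟩
  obtain ⟨a, ha⟩ := exists_cyclic_index_two_aux (Nat.card S) S le_rfl hS x hx hC
  obtain ⟨n, hn⟩ := hS.exists_orderOf_eq_pow a
  have h4 : 4 ∣ Nat.card S := hC ▸ Subgroup.card_subgroup_dvd_card _
  by_cases hS4 : Nat.card S = 4
  · exact Or.inr (Or.inr hS4)
  have hn2 : 2 ≤ n := by
    by_contra h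
    interval_cases n <;> omega
  obtain ⟨q, rfl⟩ : ∃ q, n = q + 2 := ⟨n - 2, by omega⟩
  have hxa : x ∉ Subgroup.zpowers a := by
    intro h
    obtain ⟨i, hi⟩ := h
    have hle : Subgroup.zpowers a ≤ Subgroup.centralizer ({x} : Set S) :=
      Subgroup.zpowers_le.mpr (Subgroup.mem_centralizer_singleton_iff.mpr
        (hi ▸ ((Commute.refl a).zpow_right i).eq))
    have h1 := Subgroup.card_le_of_le hle
    rw [Nat.card_zpowers, hC, hn, pow_succ, pow_succ] at h1
    have hq : 2 ^ q = 1 := by have := Nat.one_le_two_pow (n := q); omega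
    have hord4 : orderOf a = 4 := by rw [hn, pow_succ, pow_succ, hq]; norm_num
    have heq : Subgroup.zpowers a = Subgroup.centralizer ({x} : Set S) :=
      Subgroup.eq_of_le_of_card_ge hle (by rw [Nat.card_zpowers, hC, hord4])
    -- `S` has order eight, `x = a ^ 2` is central
    haveI : (Subgroup.zpowers a).Normal := Subgroup.normal_of_index_eq_two (by
      have h1 := Subgroup.card_mul_index (Subgroup.zpowers a)
      rw [Nat.card_zpowers, ← ha, mul_comm 2] at h1
      exact Nat.eq_of_mul_eq_mul_left (orderOf_pos _) h1)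
    have htop : Subgroup.centralizer ({x} : Set S) = ⊤ := by
      refine eq_top_iff.mpr fun g _ => Subgroup.mem_centralizer_singleton_iff.mpr ?_
      obtain ⟨j, hj⟩ := (inferInstance : (Subgroup.zpowers a).Normal).conj_mem x ⟨i, hi⟩ g
      have hj' : a ^ j = g * x * g⁻¹ := hj
      have hxx : g * x * g⁻¹ * (g * x * g⁻¹) = 1 :=
        Invol.mul_self_of_orderOf_two (by rw [Invol.orderOf_conj, hx])
      have key : ∀ k : ℤ, a ^ k * a ^ k = 1 → a ^ k ≠ 1 → a ^ k = a ^ (2 : ℤ) := by
        intro k h1 h2
        rw [← zpow_add, ← orderOf_dvd_iff_zpow_eq_one, hord4] at h1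
        rw [Ne, ← orderOf_dvd_iff_zpow_eq_one, hord4] at h2
        rw [← orderOf_dvd_sub_iff_zpow_eq_zpow, hord4]
        omega
      have e1 := key j (hj' ▸ hxx) (hj' ▸ fun e => Invol.ne_one_of_orderOf_two hx (conj_eq_one_iff.mp e))
      have hi' : a ^ i = x := hi
      have e2 := key i (hi' ▸ Invol.mul_self_of_orderOf_two hx) (hi' ▸ Invol.ne_one_of_orderOf_two hx)
      exact mul_inv_eq_iff_eq_mul.mp (by rw [← hj', e1, ← e2, hi'])
    rw [htop, Subgroup.card_top] at hC
    omega
  haveI : (Subgroup.zpowers a).Normal := Subgroup.normal_of_index_eq_two (by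
    have h1 := Subgroup.card_mul_index (Subgroup.zpowers a)
    rw [Nat.card_zpowers, ← ha, mul_comm 2] at h1
    exact Nat.eq_of_mul_eq_mul_left (orderOf_pos _) h1)
  obtain ⟨r, hr⟩ := (inferInstance : (Subgroup.zpowers a).Normal).conj_mem a (Subgroup.mem_zpowers a) x
  have hr' : x * a * x⁻¹ = a ^ r := hr.symm
  have hxi : x⁻¹ = x := inv_eq_of_mul_eq_one_right (Invol.mul_self_of_orderOf_two hx)
  have hN : (orderOf a : ℤ) = 2 ^ q * 4 := by rw [hn, pow_add]; push_cast; ring
  -- `r * r ≡ 1`
  have hsq : ((2 : ℤ) ^ q * 4) ∣ r * r - 1 := by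
    rw [← hN, orderOf_dvd_sub_iff_zpow_eq_zpow, zpow_one, zpow_mul, ← hr', conj_zpow, ← hr', hxi]
    calc x * (x * a * x) * x = (x * x) * a * (x * x) := by group
      _ = a := by rw [Invol.mul_self_of_orderOf_two hx, one_mul, mul_one]
  -- `a ^ (2 ^ q)` is not centralized
  have hfix : ¬ (4 : ℤ) ∣ r - 1 := by
    intro h4r
    set b := a ^ ((2 : ℤ) ^ q) with hb
    have hxb : x * b * x⁻¹ = b := by
      rw [hb, ← conj_zpow, hr', ← zpow_mul, ← orderOf_dvd_sub_iff_zpow_eq_zpow, hN,
        show r * (2 : ℤ) ^ q - 2 ^ q = 2 ^ q * (r - 1) by ring]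
      exact mul_dvd_mul_left _ h4r
    have hbord : orderOf b = 4 := by
      have hbn : b = a ^ 2 ^ q := by rw [hb, ← zpow_natCast]; push_cast; ring_nf
      rw [hbn, orderOf_pow' _ (by positivity), hn, pow_add, Nat.gcd_eq_right (dvd_mul_right _ _),
        Nat.mul_div_cancel_left _ (by positivity)]
      norm_num
    have hle : Subgroup.zpowers b ≤ Subgroup.centralizer ({x} : Set S) :=
      Subgroup.zpowers_le.mpr (Subgroup.mem_centralizer_singleton_iff.mpr (mul_inv_eq_iff_eq_mul.mp hxb).symm)
    have heq := Subgroup.eq_of_le_of_card_ge hle (by rw [hC, Nat.card_zpowers, hbord])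
    refine hxa ((Subgroup.zpowers_le.mpr (hb ▸ Subgroup.zpow_mem _ (Subgroup.mem_zpowers a) _) : Subgroup.zpowers b ≤ Subgroup.zpowers a) ?_)
    rw [heq]; exact Subgroup.mem_centralizer_singleton_iff.mpr rfl
  have hodd : r % 2 = 1 := by
    by_contra h
    have h2 : (2 : ℤ) ∣ r * r - 1 := dvd_trans ⟨2 ^ q * 2, by ring⟩ hsq
    have h3 : (2 : ℤ) ∣ r * r := dvd_mul_of_dvd_left (by omega) r
    omega
  obtain ⟨k, hk⟩ : ∃ k : ℤ, r = 4 * k + 3 := ⟨r / 4, by omega⟩
  have hdvd : (2 : ℤ) ^ q * 2 ∣ r + 1 := by
    obtain ⟨m, hm⟩ := hsq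
    have h1 : (2 : ℤ) ^ q * 2 * 2 ∣ (4 * (k + 1)) * (2 * k + 1) * 2 :=
      ⟨m, by rw [show 4 * (k + 1) * (2 * k + 1) * 2 = r * r - 1 by rw [hk]; ring, hm]; ring⟩
    have h2 := Int.dvd_of_mul_dvd_mul_right two_ne_zero h1
    have hcop : IsCoprime ((2 : ℤ) ^ q * 2) (2 * k + 1) := by
      rw [← pow_succ]
      exact IsCoprime.pow_left ⟨-k, 1, by ring⟩
    rw [show r + 1 = 4 * (k + 1) by omega]
    exact hcop.dvd_of_dvd_mul_right h2
  obtain ⟨c, hc⟩ := hdvd
  rcases Int.even_or_odd c with ⟨e, rfl⟩ | hcodd
  · -- dihedral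
    left
    have hinv : x * a * x⁻¹ = a⁻¹ := by
      rw [hr', ← zpow_neg_one, ← orderOf_dvd_sub_iff_zpow_eq_zpow, hN]
      exact ⟨e, by rw [sub_neg_eq_add, hc]; ring⟩
    obtain ⟨f⟩ := Invol.nonempty_dihedralEquiv (Invol.mul_self_of_orderOf_two hx) hinv hxa
    have htop : Subgroup.closure ({x, a} : Set S) = ⊤ := by
      refine Subgroup.eq_top_of_card_eq _ ?_
      rw [← Nat.card_congr f.toEquiv, DihedralGroup.nat_card, ha]
    exact ⟨orderOf a, ⟨((f.trans (MulEquiv.subgroupCongr htop)).trans Subgroup.topEquiv).symm⟩⟩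
  · -- quasi-dihedral
    right; left
    obtain ⟨l, rfl⟩ := hcodd
    have hq1 : 1 ≤ q := by
      by_contra hq
      obtain rfl : q = 0 := by omega
      simp only [pow_zero, one_mul] at hc
      omega
    refine ⟨q + 2, by omega, by rw [← ha, hn]; ring, a, x, hn, hx, ?_⟩
    rw [hr', show q + 2 - 1 = q + 1 by omega, ← zpow_natCast a, ← orderOf_dvd_sub_iff_zpow_eq_zpow, hN,
      Nat.cast_sub Nat.one_le_two_pow]
    push_cast
    exact ⟨l, by rw [show r = 2 ^ q * 2 * (2 * l + 1) - 1 by omega]; ring⟩

end Cfsg.Agent.InvChar
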