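import Cfsg.Agent.Lib.Basics.FpfAbelian
import Cfsg.Agent.Lib.Basics.CoprimeGen
import Cfsg.Agent.Lib.Basics.CoprimeAction
import Cfsg.Agent.Lib.Basics.Cores
import Cfsg.Agent.Lib.Invol.Basic
import Cfsg.Agent.Lib.InvChar.OneSubgroup
import Cfsg.Prelude.Def_Transfer
import Mathlib.GroupTheory.SpecificGroups.ZGroup

/-!
# Solvable groups whose involution centralizers have normal 2-complements
-/

set_option autoImplicit false
set_option linter.style.haveILetI false
set_option linter.unusedSectionVars false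

namespace Cfsg.Agent.InvChar

open Cfsg Cfsg.Agent

universe u

variable {H : Type u} [Group H] [Finite H]

theorem eq_one_of_odd_of_pgroup {Q : Subgroup H} (hQ : IsPGroup 2 Q) {x : H} (hx : x ∈ Q)
    (ho : Odd (orderOf x)) : x = 1 := by
  obtain ⟨k, hk⟩ := hQ ⟨x, hx⟩
  have h := orderOf_dvd_of_pow_eq_one (congrArg Subtype.val hk)
  obtain ⟨j, -, hj⟩ := (Nat.dvd_prime_pow Nat.prime_two).mp h
  rcases j with _ | j
  · exact orderOf_eq_one_iff.mp (by rw [hj, pow_zero])
  · rw [hj, pow_succ] at ho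
    exact absurd ho (Nat.not_odd_iff_even.mpr ⟨2 ^ j, by ring⟩)

/-- Elements of odd order lie in every normal 2-complement. -/
theorem odd_complement_facts {C : Subgroup H} (hC : HasNormalPComplement 2 C) :
    ∃ N : Subgroup C, N.Normal ∧ Odd (Nat.card N) ∧ ∀ x : C, Odd (orderOf x) → x ∈ N := by
  haveI : Fact (Nat.Prime 2) := ⟨Nat.prime_two⟩
  obtain ⟨P, N, hN, hc⟩ := hC
  refine ⟨N, hN, ?_, fun x hx => ?_⟩
  · rw [← hc.index_eq_card]
    exact Nat.not_even_iff_odd.mp fun h => P.not_dvd_index h.two_dvd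
  · haveI := hN
    obtain ⟨k, hk⟩ := IsPGroup.iff_card.mp P.isPGroup'
    have h1 : orderOf (x : C ⧸ N) ∣ 2 ^ k := by
      rw [← hk, ← hc.symm.index_eq_card]
      exact orderOf_dvd_natCard _
    have h2 : orderOf (x : C ⧸ N) ∣ orderOf x := orderOf_map_dvd (QuotientGroup.mk' N) x
    refine (QuotientGroup.eq_one_iff x).mp (orderOf_eq_one_iff.mp ?_)
    exact Nat.eq_one_of_dvd_coprimes (Nat.Coprime.pow_right k (Nat.coprime_two_right.mpr hx)) h2 h1

/-- An odd element of the centralizer of an involution commutes with the elements of `O₂` there. -/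
theorem commute_of_complement {t x y : H}
    (hI : HasNormalPComplement 2 ↥(Subgroup.centralizer ({t} : Set H)))
    (hx : Odd (orderOf x)) (hxt : Commute x t) (hy : y ∈ pCore 2 H) (hyt : Commute y t) :
    Commute x y := by
  haveI : Fact (Nat.Prime 2) := ⟨Nat.prime_two⟩
  obtain ⟨N, hN, hNo, hmem⟩ := odd_complement_facts hI
  let x' : Subgroup.centralizer ({t} : Set H) := ⟨x, Subgroup.mem_centralizer_singleton_iff.mpr hxt.eq⟩
  let y' : Subgroup.centralizer ({t} : Set H) := ⟨y, Subgroup.mem_centralizer_singleton_iff.mpr hyt.eq⟩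
  have hx' : x' ∈ N := hmem x' (by rwa [← Subgroup.orderOf_coe])
  have hc : x' * (y' * x'⁻¹ * y'⁻¹) ∈ N := mul_mem hx' (hN.conj_mem _ (inv_mem hx') y')
  have hcY : x * (y * x⁻¹ * y⁻¹) ∈ pCore 2 H := by
    have h := mul_mem ((inferInstance : (pCore 2 H).Normal).conj_mem y hy x) (inv_mem hy)
    simpa [mul_assoc] using h
  have h1 : x * (y * x⁻¹ * y⁻¹) = 1 := by
    refine eq_one_of_odd_of_pgroup (Basics.pCore_isPGroup 2) hcY ?_
    have h2 : orderOf (x' * (y' * x'⁻¹ * y'⁻¹)) ∣ Nat.card N := Subgroup.orderOf_dvd_natCard N hc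
    rw [← Subgroup.orderOf_coe] at h2
    exact hNo.of_dvd_nat h2
  calc x * y = x * (y * x⁻¹ * y⁻¹) * (y * x) := by group
    _ = y * x := by rw [h1, one_mul]

variable (hsol : Group.IsSolvable H) (hO : oddCore H = ⊥)
  (hI : ∀ t : H, orderOf t = 2 → HasNormalPComplement 2 ↥(Subgroup.centralizer ({t} : Set H)))

include hsol hO hI

theorem odd_not_commute_core {x : H} (hx : Odd (orderOf x)) (hx1 : x ≠ 1) :
    ∀ y ∈ pCore 2 H, y ≠ 1 → x * y ≠ y * x := by
  haveI : Fact (Nat.Prime 2) := ⟨Nat.prime_two⟩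
  haveI := hsol
  intro y hy hy1 hxy
  have hYp : IsPGroup 2 (pCore 2 H) := Basics.pCore_isPGroup 2
  haveI : Nontrivial (Subgroup.zpowers y) := (Subgroup.zpowers y).nontrivial_iff_ne_bot.mpr
    fun h => hy1 (Subgroup.zpowers_eq_bot.mp h)
  obtain ⟨k, hk0, hk⟩ := (hYp.to_le (Subgroup.zpowers_le.mpr hy)).nontrivial_iff_card.mp inferInstance
  obtain ⟨⟨t, htm⟩, ht⟩ := exists_prime_orderOf_dvd_card' (G := Subgroup.zpowers y) 2
    (hk ▸ dvd_pow_self 2 hk0.ne')
  rw [← Subgroup.orderOf_coe] at ht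
  obtain ⟨j, rfl⟩ := Subgroup.mem_zpowers_iff.mp htm
  have hxt : Commute x (y ^ j) := Commute.zpow_right hxy j
  have hQ : Subgroup.zpowers x ≤ Subgroup.centralizer (pCore 2 H : Set H) := by
    refine Basics.pq_lemma 2 (pCore 2 H ⊓ Subgroup.centralizer ({x} : Set H)) _ _
      (hYp.to_le inf_le_left) ?_ hYp (fun a ha => ?_) Subgroup.le_normalizer_of_normal
      Subgroup.le_normalizer_of_normal ?_
    · rw [Nat.card_zpowers]; exact Nat.coprime_two_right.mpr hx
    · rw [Subgroup.mem_centralizer_iff]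
      intro b hb
      obtain ⟨i, rfl⟩ := Subgroup.mem_zpowers_iff.mp hb
      exact (Commute.zpow_right (show Commute a x from Subgroup.mem_centralizer_singleton_iff.mp ha.2) i).symm
    · intro a ha
      rw [Subgroup.mem_centralizer_iff]
      intro b hb
      obtain ⟨i, rfl⟩ := Subgroup.mem_zpowers_iff.mp hb
      refine (commute_of_complement (hI _ ht) hx hxt ha.1 ?_).zpow_left i
      exact (Subgroup.mem_centralizer_iff.mp ha.2 _ ⟨zpow_mem hy j,
        Subgroup.mem_centralizer_singleton_iff.mpr hxt.eq.symm⟩).symm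
  exact hx1 (eq_one_of_odd_of_pgroup hYp
    (Basics.centralizer_pCore_le hO (hQ (Subgroup.mem_zpowers x))) hx)

/-- No involution of `H / O₂(H)` commutes with a nontrivial element of odd order. -/
theorem quot_involution_not_commute {u a : H ⧸ pCore 2 H} (hu : orderOf u = 2) (ha : Odd (orderOf a))
    (hc : Commute u a) : a = 1 := by
  haveI : Fact (Nat.Prime 2) := ⟨Nat.prime_two⟩
  by_contra ha1
  obtain ⟨a₀, rfl⟩ := QuotientGroup.mk_surjective a
  obtain ⟨m, r, hr, hm⟩ := Nat.exists_eq_pow_mul_and_not_dvd (orderOf_pos a₀).ne' 2 (by norm_num)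
  set x := a₀ ^ (2 ^ m) with hxd
  have hxo : Odd (orderOf x) := by
    rw [hxd, orderOf_pow' _ (by positivity), hm, Nat.gcd_eq_right (Dvd.intro _ rfl),
      Nat.mul_div_cancel_left _ (by positivity)]
    exact Nat.not_even_iff_odd.mp fun h => hr h.two_dvd
  have hxq : (x : H ⧸ pCore 2 H) = (a₀ : H ⧸ pCore 2 H) ^ (2 ^ m) := rfl
  have hx1 : (x : H ⧸ pCore 2 H) ≠ 1 := fun h => ha1 <| orderOf_eq_one_iff.mp <|
    Nat.eq_one_of_dvd_coprimes (Nat.Coprime.pow_right m (Nat.coprime_two_right.mpr ha)) dvd_rfl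
      (orderOf_dvd_of_pow_eq_one (hxq ▸ h))
  obtain ⟨u₀, rfl⟩ := QuotientGroup.mk_surjective u
  have hcx : Commute (u₀ : H ⧸ pCore 2 H) (x : H ⧸ pCore 2 H) := hxq ▸ hc.pow_right _
  have hxne : x ≠ 1 := fun h => hx1 (by rw [h]; rfl)
  have hnc := odd_not_commute_core hsol hO hI hxo hxne
  have hcop : (Nat.card (Subgroup.zpowers x)).Coprime (Nat.card (pCore 2 H)) := by
    obtain ⟨k, hk⟩ := IsPGroup.iff_card.mp (Basics.pCore_isPGroup (G := H) 2)
    rw [Nat.card_zpowers, hk]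
    exact (Nat.coprime_two_right.mpr hxo).pow_right k
  obtain ⟨c, hcC, hcY⟩ := Basics.exists_centralizer_mem_coset (Subgroup.zpowers x) (pCore 2 H)
    Subgroup.le_normalizer_of_normal hcop (Or.inl (inferInstanceAs (Group.IsSolvable (Subgroup.zpowers x))))
    u₀ (Subgroup.le_normalizer_of_normal (H := pCore 2 H) (Subgroup.mem_top u₀)) (fun b hb => by
      obtain ⟨i, rfl⟩ := Subgroup.mem_zpowers_iff.mp hb
      refine (QuotientGroup.eq_one_iff _).mp ?_
      have h : (x : H ⧸ pCore 2 H) ^ i * u₀ = u₀ * (x : H ⧸ pCore 2 H) ^ i :=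
        (hcx.zpow_right i).eq.symm
      simp only [QuotientGroup.mk_mul, QuotientGroup.mk_inv, QuotientGroup.mk_zpow, h]
      group)
  have hcx' : Commute x c := Subgroup.mem_centralizer_iff.mp hcC x (Subgroup.mem_zpowers x)
  have hcq : (c : H ⧸ pCore 2 H) = u₀ := (QuotientGroup.eq.mpr hcY).symm
  have hc2 : c * c = 1 := by
    by_contra h
    refine hnc (c * c) ((QuotientGroup.eq_one_iff _).mp ?_) h (hcx'.mul_right hcx').eq
    rw [QuotientGroup.mk_mul, hcq]; exact Invol.mul_self_of_orderOf_two hu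
  have hc1 : c ≠ 1 := fun h => Invol.ne_one_of_orderOf_two hu (by rw [← hcq, h]; rfl)
  have hco := Invol.orderOf_two_of_mul_self hc2 hc1
  have key : ∀ y ∈ pCore 2 H, Commute y c → y = 1 := fun y hy hyc => by
    by_contra hy1
    exact hnc y hy hy1 (commute_of_complement (hI c hco) hxo hcx' hy hyc).eq
  -- so `c` inverts the core
  let f : pCore 2 H → pCore 2 H := fun y =>
    ⟨(y : H)⁻¹ * (c * y * c⁻¹), mul_mem (inv_mem y.2) ((inferInstance : (pCore 2 H).Normal).conj_mem _ y.2 c)⟩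
  have hf : Function.Injective f := fun a b h => by
    have h' : (a : H)⁻¹ * (c * a * c⁻¹) = (b : H)⁻¹ * (c * b * c⁻¹) := congrArg Subtype.val h
    have hfix : Commute ((b : H) * (a : H)⁻¹) c := by
      have h2 : (b : H) * (a : H)⁻¹ = c * ((b : H) * (a : H)⁻¹) * c⁻¹ := by
        calc (b : H) * (a : H)⁻¹ = (b : H) * ((a : H)⁻¹ * (c * a * c⁻¹)) * (c * (a : H)⁻¹ * c⁻¹) := by group
          _ = (b : H) * ((b : H)⁻¹ * (c * b * c⁻¹)) * (c * (a : H)⁻¹ * c⁻¹) := by rw [h']
          _ = _ := by group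
      exact (eq_mul_inv_iff_mul_eq.mp h2)
    exact Subtype.ext (mul_inv_eq_one.mp (key _ (mul_mem b.2 (inv_mem a.2)) hfix)).symm
  have hinv : ∀ z ∈ pCore 2 H, c * z * c⁻¹ = z⁻¹ := fun z hz => by
    obtain ⟨y, hy⟩ := Finite.injective_iff_surjective.mp hf ⟨z, hz⟩
    obtain rfl : (y : H)⁻¹ * (c * y * c⁻¹) = z := congrArg Subtype.val hy
    calc c * ((y : H)⁻¹ * (c * y * c⁻¹)) * c⁻¹ = c * (y : H)⁻¹ * c⁻¹ * ((c * c) * y * (c * c)⁻¹) := by group
      _ = ((y : H)⁻¹ * (c * y * c⁻¹))⁻¹ := by rw [hc2]; group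
  have hsq : ∀ z ∈ pCore 2 H, z * z = 1 → z = 1 := fun z hz h2 => key z hz <| by
    have h := hinv z hz
    rw [Invol.inv_eq_self_of_mul_self h2, mul_inv_eq_iff_eq_mul] at h
    exact h.symm
  -- hence the core is trivial, so the group too
  have hYbot : pCore 2 H = ⊥ := by
    by_contra hne
    haveI : Nontrivial (pCore 2 H) := (pCore 2 H).nontrivial_iff_ne_bot.mpr hne
    obtain ⟨k, hk0, hk⟩ := (Basics.pCore_isPGroup (G := H) 2).nontrivial_iff_card.mp inferInstance
    obtain ⟨t, ht⟩ := exists_prime_orderOf_dvd_card' (G := pCore 2 H) 2 (hk ▸ dvd_pow_self 2 hk0.ne')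
    exact Invol.ne_one_of_orderOf_two ht
      (Subtype.ext (hsq _ t.2 (congrArg Subtype.val (Invol.mul_self_of_orderOf_two ht))))
  haveI := hsol
  apply hxne
  have := Basics.centralizer_pCore_le (p := 2) hO
    (show x ∈ Subgroup.centralizer (pCore 2 H : Set H) from fun y hy => by
      rw [hYbot] at hy; rw [Subgroup.mem_bot.mp hy, one_mul, mul_one])
  rwa [hYbot, Subgroup.mem_bot] at this

theorem solvable_two_nilpotent_structure (X : Subgroup H) (hXodd : Odd (Nat.card X))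
    (hXidx : ∃ k : ℕ, X.index = 2 ^ k) :
    (∀ x ∈ X, x ≠ 1 → ∀ y ∈ pCore 2 H, y ≠ 1 → x * y ≠ y * x) ∧
      (∀ (p : ℕ) [Fact p.Prime] (P : Sylow p ↥X), IsCyclic ↥(P : Subgroup ↥X)) ∧
      (X ⊔ pCore 2 H).Normal ∧
      ∀ _hN : (X ⊔ pCore 2 H).Normal, IsCyclic (H ⧸ (X ⊔ pCore 2 H)) ∧
        IsPGroup 2 (H ⧸ (X ⊔ pCore 2 H)) := by
  haveI : Fact (Nat.Prime 2) := ⟨Nat.prime_two⟩
  haveI := hsol
  have hYp : IsPGroup 2 (pCore 2 H) := Basics.pCore_isPGroup 2
  have hfree : ∀ x ∈ X, x ≠ 1 → ∀ y ∈ pCore 2 H, y ≠ 1 → x * y ≠ y * x := fun x hx hx1 =>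
    odd_not_commute_core hsol hO hI (hXodd.of_dvd_nat (Subgroup.orderOf_dvd_natCard X hx)) hx1
  have hcyc : ∀ (p : ℕ) [Fact p.Prime] (P : Sylow p ↥X), IsCyclic ↥(P : Subgroup ↥X) := by
    intro p _ P
    by_cases hY : pCore 2 H = ⊥
    · have hXbot : X = ⊥ := by
        rw [eq_bot_iff]; intro x hx
        have := Basics.centralizer_pCore_le (p := 2) hO
          (show x ∈ Subgroup.centralizer (pCore 2 H : Set H) from fun y hy => by
            rw [hY] at hy; rw [Subgroup.mem_bot.mp hy, one_mul, mul_one])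
        rwa [hY] at this
      haveI : Subsingleton X := by rw [hXbot]; infer_instance
      exact isCyclic_of_subsingleton
    rcases Basics.fpf_sylow_cyclic_or_quaternion (pCore 2 H) X hY (fun h hh h1 => by
        rw [eq_bot_iff]; rintro y ⟨hy, hyc⟩
        by_contra hy1
        exact hfree h hh h1 y hy hy1 (Subgroup.mem_centralizer_singleton_iff.mp hyc).symm) p P with h | ⟨-, n, ⟨e⟩⟩
    · exact h
    · exfalso
      refine Nat.not_even_iff_odd.mpr hXodd (even_iff_two_dvd.mpr (dvd_trans ?_ (Subgroup.card_subgroup_dvd_card (P : Subgroup X))))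
      rw [Nat.card_congr e.toEquiv, Nat.card_eq_fintype_card, QuaternionGroup.card]
      exact dvd_mul_of_dvd_left (by norm_num) _
  -- the quotient by the core
  set π := QuotientGroup.mk' (pCore 2 H) with hπ
  have hπs : Function.Surjective π := QuotientGroup.mk'_surjective _
  haveI : Group.IsSolvable (H ⧸ pCore 2 H) := Group.isSolvable_of_surjective hπs
  set F := fittingSubgroup (H ⧸ pCore 2 H) with hF
  have hFodd : Odd (Nat.card F) := by
    obtain ⟨P⟩ : Nonempty (Sylow 2 F) := inferInstance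
    haveI hPn : (P : Subgroup F).Normal := inferInstance
    haveI := P.characteristic_of_normal hPn
    haveI : F.Normal := inferInstance
    haveI hn : ((P : Subgroup F).map F.subtype).Normal := ConjAct.normal_of_characteristic_of_normal
    haveI : (((P : Subgroup F).map F.subtype).comap π).Normal := hn.comap _
    have hM : IsPGroup 2 (((P : Subgroup F).map F.subtype).comap π) :=
      (P.isPGroup'.map _).comap_of_ker_isPGroup π (by rw [hπ, QuotientGroup.ker_mk']; exact hYp)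
    have hle := Subgroup.map_mono (f := π) (Basics.le_pCore hM)
    rw [Subgroup.map_comap_eq_self_of_surjective hπs, hπ, QuotientGroup.map_mk'_self,
      le_bot_iff, Subgroup.map_eq_bot_iff, Subgroup.ker_subtype, le_bot_iff] at hle
    refine Nat.not_even_iff_odd.mp fun h => P.not_dvd_index ?_
    rw [hle, Subgroup.index_bot]
    exact h.two_dvd
  set Xb := X.map π with hXb
  have hXbodd : Odd (Nat.card Xb) := hXodd.of_dvd_nat (Subgroup.card_map_dvd X π)
  obtain ⟨k, hk⟩ := hXidx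
  have hXbidx : Xb.index ∣ 2 ^ k := hk ▸ Subgroup.index_map_dvd X hπs
  have hFX : F ≤ Xb := by
    have h1 : Odd (Nat.card (F ⊔ Xb : Subgroup _)) := (hFodd.mul hXbodd).of_dvd_nat
      ⟨_, Basics.card_mul_card_eq_card_sup_mul_card_inf Subgroup.le_normalizer_of_normal⟩
    have h2 : Nat.card (F ⊔ Xb : Subgroup _) ∣ Nat.card Xb * 2 ^ k :=
      (Subgroup.card_subgroup_dvd_card _).trans (by
        rw [← Subgroup.card_mul_index Xb]; exact Nat.mul_dvd_mul_left _ hXbidx)
    have h3 := ((Nat.coprime_two_right.mpr h1).pow_right k).dvd_of_dvd_mul_right h2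
    rw [Subgroup.eq_of_le_of_card_ge (le_sup_right : Xb ≤ F ⊔ Xb) (Nat.le_of_dvd Nat.card_pos h3)]
    exact le_sup_left
  haveI hZX : IsZGroup X := ⟨fun p hp P => @hcyc p ⟨hp⟩ P⟩
  haveI hZXb : IsZGroup Xb := IsZGroup.of_surjective (f := π.subgroupMap X) (π.subgroupMap_surjective X)
  haveI : IsZGroup F := IsZGroup.of_injective (f := Subgroup.inclusion hFX) (Subgroup.inclusion_injective hFX)
  haveI : IsCyclic F := inferInstance
  have hcomm : ∀ a b : H ⧸ pCore 2 H, a * b * a⁻¹ * b⁻¹ ∈ F := fun a b => by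
    refine Basics.centralizer_fittingSubgroup_le (G := H ⧸ pCore 2 H) fun f hf => ?_
    have hFn : F.Normal := inferInstance
    let c : H ⧸ pCore 2 H → (F →* F) := fun g => ((MulAut.conjNormal (H := F) g : MulAut F) : F →* F)
    obtain ⟨m, hm⟩ := MonoidHom.map_cyclic (c a)
    obtain ⟨n, hn⟩ := MonoidHom.map_cyclic (c b)
    have hcm : ∀ g : F, c a (c b g) = c b (c a g) := fun g => by
      rw [hm (c b g), hn g, hn (c a g), hm g, ← zpow_mul, ← zpow_mul, mul_comm]
    have hcm' : ∀ g ∈ F, a * (b * g * b⁻¹) * a⁻¹ = b * (a * g * a⁻¹) * b⁻¹ := fun g hg =>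
      congrArg Subtype.val (hcm ⟨g, hg⟩)
    calc f * (a * b * a⁻¹ * b⁻¹) = b * (a * (a⁻¹ * (b⁻¹ * f * b) * a) * a⁻¹) * b⁻¹ * (a * b * a⁻¹ * b⁻¹) := by group
      _ = a * (b * (a⁻¹ * (b⁻¹ * f * b) * a) * b⁻¹) * a⁻¹ * (a * b * a⁻¹ * b⁻¹) := by
        rw [hcm']
        have h1 := hFn.conj_mem _ (hFn.conj_mem f hf b⁻¹) a⁻¹
        simpa [mul_assoc] using h1
      _ = a * b * a⁻¹ * b⁻¹ * f := by group
  have hXbn : Xb.Normal := ⟨fun x hx g => by
    have h := mul_mem (hFX (hcomm g x)) hx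
    rwa [inv_mul_cancel_right] at h⟩
  have hXY : X ⊔ pCore 2 H = Xb.comap π := by
    rw [hXb, Subgroup.comap_map_eq, hπ, QuotientGroup.ker_mk']
  refine ⟨hfree, hcyc, hXY ▸ hXbn.comap π, fun hN => ?_⟩
  have hidx : (X ⊔ pCore 2 H).index ∣ 2 ^ k := hk ▸ Subgroup.index_dvd_of_le le_sup_left
  obtain ⟨j, -, hj⟩ := (Nat.dvd_prime_pow Nat.prime_two).mp hidx
  refine ⟨?_, IsPGroup.of_card (n := j) (by rw [← Subgroup.index_eq_card, hj])⟩
  obtain ⟨S⟩ : Nonempty (Sylow 2 (H ⧸ pCore 2 H)) := inferInstance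
  have hSF : ∀ s ∈ (S : Subgroup (H ⧸ pCore 2 H)), s ∈ F → s = 1 := fun s hs hsF =>
    eq_one_of_odd_of_pgroup S.isPGroup' hs (hFodd.of_dvd_nat (Subgroup.orderOf_dvd_natCard F hsF))
  have hScomm : ∀ s ∈ (S : Subgroup (H ⧸ pCore 2 H)), ∀ t ∈ (S : Subgroup (H ⧸ pCore 2 H)), s * t = t * s :=
    fun s hs t ht => mul_inv_eq_iff_eq_mul.mp (mul_inv_eq_one.mp
      (hSF _ (mul_mem (mul_mem (mul_mem hs ht) (inv_mem hs)) (inv_mem ht)) (hcomm s t)))
  have hinvF : ∀ u : H ⧸ pCore 2 H, orderOf u = 2 → ∀ f ∈ F, u * f * u⁻¹ = f⁻¹ := fun u hu f hf => by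
    have hFn : F.Normal := inferInstance
    have hg : u * f * u⁻¹ * f ∈ F := mul_mem (hFn.conj_mem f hf u) hf
    have hc : f * (u * f * u⁻¹) = u * f * u⁻¹ * f :=
      congrArg Subtype.val (mul_comm' (⟨f, hf⟩ : F) ⟨_, hFn.conj_mem f hf u⟩)
    have h2 := Invol.mul_self_of_orderOf_two hu
    have hcu : Commute u (u * f * u⁻¹ * f) := by
      refine mul_inv_eq_iff_eq_mul.mp ?_
      calc u * (u * f * u⁻¹ * f) * u⁻¹ = (u * u) * f * (u * u)⁻¹ * (u * f * u⁻¹) * 1 := by group
        _ = u * f * u⁻¹ * f := by rw [h2, inv_one, one_mul, mul_one, mul_one, hc]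
    exact eq_inv_of_mul_eq_one_left (quot_involution_not_commute hsol hO hI hu
      (hFodd.of_dvd_nat (Subgroup.orderOf_dvd_natCard F hg)) hcu)
  have huv : ∀ u v : (S : Subgroup (H ⧸ pCore 2 H)), orderOf u = 2 → orderOf v = 2 → u = v := fun u v hu hv => by
    rw [← Subgroup.orderOf_coe] at hu hv
    have hm : (u : H ⧸ pCore 2 H) * v ∈ F := Basics.centralizer_fittingSubgroup_le fun f hf => by
      refine (mul_inv_eq_iff_eq_mul.mp ?_).symm
      calc (u : H ⧸ pCore 2 H) * v * f * ((u : H ⧸ pCore 2 H) * v)⁻¹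
          = u * ((v : H ⧸ pCore 2 H) * f * (v : H ⧸ pCore 2 H)⁻¹) * (u : H ⧸ pCore 2 H)⁻¹ := by group
        _ = f := by rw [hinvF _ hv f hf, hinvF _ hu _ (inv_mem hf), inv_inv]
    have := mul_eq_one_iff_eq_inv.mp (hSF _ (mul_mem u.2 v.2) hm)
    rw [Invol.inv_of_orderOf_two hv] at this
    exact Subtype.ext this
  have hScyc : IsCyclic (S : Subgroup (H ⧸ pCore 2 H)) := by
    rcases cyclic_or_quaternion S.isPGroup' (fun A B hA hB => by
      obtain ⟨a, ha⟩ := exists_prime_orderOf_dvd_card' (G := A) 2 (by rw [hA])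
      obtain ⟨b, hb⟩ := exists_prime_orderOf_dvd_card' (G := B) 2 (by rw [hB])
      rw [← Subgroup.orderOf_coe] at ha hb
      have hA' : Subgroup.zpowers (a : (S : Subgroup (H ⧸ pCore 2 H))) = A :=
        Subgroup.eq_of_le_of_card_ge (Subgroup.zpowers_le.mpr a.2) (by rw [hA, Nat.card_zpowers, ha])
      have hB' : Subgroup.zpowers (b : (S : Subgroup (H ⧸ pCore 2 H))) = B :=
        Subgroup.eq_of_le_of_card_ge (Subgroup.zpowers_le.mpr b.2) (by rw [hB, Nat.card_zpowers, hb])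
      rw [← hA', ← hB', huv _ _ ha hb]) with h | ⟨-, n, ⟨e⟩⟩
    · exact h
    · rcases n with _ | n
      · haveI : IsCyclic (QuaternionGroup (2 ^ 0)) := QuaternionGroup.quaternionGroup_one_isCyclic
        exact isCyclic_of_surjective e.symm e.symm.surjective
      · exfalso
        have h := congrArg e (Subtype.ext (hScomm _ (e.symm (QuaternionGroup.a 1)).2 _ (e.symm (QuaternionGroup.xa 0)).2) :
          e.symm (QuaternionGroup.a 1) * e.symm (QuaternionGroup.xa 0) = e.symm (QuaternionGroup.xa 0) * e.symm (QuaternionGroup.a 1))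
        rw [map_mul, map_mul, e.apply_symm_apply, e.apply_symm_apply, QuaternionGroup.a_mul_xa,
          QuaternionGroup.xa_mul_a] at h
        injection h with h'
        simp only [zero_sub, zero_add] at h'
        haveI : Fact (2 < 2 * 2 ^ (n + 1)) := ⟨by have := Nat.one_le_two_pow (n := n); rw [pow_succ]; omega⟩
        exact ZMod.neg_one_ne_one h'
  -- map the Sylow subgroup onto the quotient
  have hYle : pCore 2 H ≤ (X ⊔ pCore 2 H).comap (MonoidHom.id H) := le_sup_right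
  let φ := QuotientGroup.map (pCore 2 H) (X ⊔ pCore 2 H) (MonoidHom.id H) hYle
  have hφ : Function.Surjective φ := fun q => by
    obtain ⟨g, rfl⟩ := QuotientGroup.mk_surjective q
    exact ⟨g, rfl⟩
  have htop : (S : Subgroup (H ⧸ pCore 2 H)).map φ = ⊤ := by
    rw [← Subgroup.index_eq_one]
    refine Nat.eq_one_of_dvd_coprimes ?_ (Subgroup.index_map_dvd _ hφ) (show _ ∣ 2 ^ k from ?_)
    · exact (Nat.coprime_two_right.mpr (Nat.not_even_iff_odd.mp fun h => S.not_dvd_index h.two_dvd)).pow_right k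
    · refine dvd_trans (Dvd.intro_left _ (Subgroup.card_mul_index _)) ?_
      rw [← Subgroup.index_eq_card]; exact hidx
  haveI := hScyc
  exact isCyclic_of_surjective (φ.comp (S : Subgroup (H ⧸ pCore 2 H)).subtype) fun q => by
    obtain ⟨s, hs, rfl⟩ := Subgroup.mem_map.mp (htop.ge (Subgroup.mem_top q))
    exact ⟨⟨s, hs⟩, rfl⟩

end Cfsg.Agent.InvChar
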