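import Cfsg.Agent.Lib.Components.Quasisimple
import Cfsg.Agent.Lib.ClassK.PComp
import Cfsg.Agent.Lib.Basics.CoprimeGen
import Cfsg.Agent.Lib.Basics.Cores
import Cfsg.Agent.Lib.Invol.Basic
import Cfsg.Prelude.Def_Local
import Cfsg.Prelude.Def_CaseTheorems

/-!
# Standard subgroups whose centralizing involution is moved into `P C(P)`
-/

set_option autoImplicit false
set_option linter.style.haveILetI false
set_option linter.unusedSectionVars false

namespace Cfsg.Agent.InvChar

open Cfsg Cfsg.Agent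
open scoped commutatorElement

variable {X : Type*} [Group X] [Finite X]

/-- In a group of 2-rank at most one, commuting involutions are equal. -/
theorem eq_of_rank_one {K : Subgroup X} (hr : PRankLE 2 1 ↥K) {a b : X} (ha : a ∈ K) (hb : b ∈ K)
    (ha2 : a * a = 1) (hb2 : b * b = 1) (ha1 : a ≠ 1) (hb1 : b ≠ 1) (hc : Commute a b) : a = b := by
  classical
  by_contra hab
  let a' : K := ⟨a, ha⟩
  let b' : K := ⟨b, hb⟩
  set A := Subgroup.closure ({a', b'} : Set K) with hA
  haveI hcomm : IsMulCommutative A := Subgroup.isMulCommutative_closure (by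
    rintro x (rfl | rfl) y (rfl | rfl)
    · rfl
    · exact Subtype.ext hc.eq
    · exact Subtype.ext hc.eq.symm
    · rfl)
  have hsq : ∀ x ∈ A, x ^ 2 = 1 := by
    intro x hx
    induction hx using Subgroup.closure_induction with
    | mem x hx => rcases hx with rfl | rfl <;> exact Subtype.ext (by simpa [pow_two])
    | one => exact one_pow 2
    | mul x y hx hy ihx ihy =>
      rw [(show Commute x y from congrArg Subtype.val (mul_comm' (⟨x, hx⟩ : A) ⟨y, hy⟩)).mul_pow, ihx, ihy, one_mul]
    | inv x _ ih => rw [inv_pow, ih, inv_one]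
  have h := hr A hcomm hsq
  haveI := Fintype.ofFinite A
  have h3 : ({1, ⟨a', Subgroup.subset_closure (Or.inl rfl)⟩, ⟨b', Subgroup.subset_closure (Or.inr rfl)⟩} : Finset A).card = 3 := by
    rw [Finset.card_insert_of_notMem, Finset.card_insert_of_notMem, Finset.card_singleton] <;>
      simp [Subtype.ext_iff, a', b', Ne.symm ha1, Ne.symm hb1, hab]
  have := Finset.card_le_univ ({1, ⟨a', Subgroup.subset_closure (Or.inl rfl)⟩, ⟨b', Subgroup.subset_closure (Or.inr rfl)⟩} : Finset A)
  rw [h3, ← Nat.card_eq_fintype_card] at this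
  omega

/-- The only involution of a 2-subgroup of a rank-one group. -/
theorem unique_involution {K T : Subgroup X} (hr : PRankLE 2 1 ↥K) (hT : IsPGroup 2 T) (hTK : T ≤ K)
    {a b : X} (ha : a ∈ T) (hb : b ∈ T) (ha2 : orderOf a = 2) (hb2 : orderOf b = 2) : a = b := by
  haveI : Fact (Nat.Prime 2) := ⟨Nat.prime_two⟩
  haveI : Nontrivial T := ⟨⟨⟨a, ha⟩, 1, fun h => Invol.ne_one_of_orderOf_two ha2 (congrArg Subtype.val h)⟩⟩
  haveI := hT.center_nontrivial
  obtain ⟨k, hk0, hk⟩ := (hT.to_subgroup (Subgroup.center T)).nontrivial_iff_card.mp inferInstance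
  obtain ⟨c, hc⟩ := exists_prime_orderOf_dvd_card' (G := Subgroup.center T) 2 (hk ▸ dvd_pow_self 2 hk0.ne')
  have hc2 : orderOf ((c : T) : X) = 2 := by rw [Subgroup.orderOf_coe, Subgroup.orderOf_coe, hc]
  have key : ∀ x ∈ T, orderOf x = 2 → x = ((c : T) : X) := fun x hx hx2 =>
    eq_of_rank_one hr (hTK hx) (hTK (c : T).2) (Invol.mul_self_of_orderOf_two hx2)
      (Invol.mul_self_of_orderOf_two hc2) (Invol.ne_one_of_orderOf_two hx2) (Invol.ne_one_of_orderOf_two hc2)
      (congrArg Subtype.val (Subgroup.mem_center_iff.mp c.2 ⟨x, hx⟩) : x * ((c : T) : X) = _)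
  rw [key a ha ha2, key b hb hb2]

/-- A perfect subgroup has no nontrivial homomorphism to its centre. -/
theorem commute_of_perfect_central {P : Subgroup X} (hP : commutator ↥P = ⊤) {c : X}
    (h : ∀ u : P, ∃ z : Subgroup.center ↥P, c * (u : X) * c⁻¹ * (u : X)⁻¹ = ((z : P) : X)) :
    ∀ u ∈ P, Commute c u := by
  choose z hz using h
  have hcent : ∀ (u : P) (v : P), ((z u : P) : X) * (v : X) = (v : X) * ((z u : P) : X) := fun u v =>
    (congrArg Subtype.val (Subgroup.mem_center_iff.mp (z u).2 v)).symm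
  let f : P →* Subgroup.center ↥P := MonoidHom.mk' z fun u v => Subtype.ext (Subtype.ext (by
    show ((z (u * v) : P) : X) = ((z u : P) : X) * ((z v : P) : X)
    rw [← hz (u * v), Subgroup.coe_mul]
    calc c * ((u : X) * v) * c⁻¹ * ((u : X) * v)⁻¹
        = c * u * c⁻¹ * ((c * v * c⁻¹ * (v : X)⁻¹) * (u : X)⁻¹) := by group
      _ = c * u * c⁻¹ * ((u : X)⁻¹ * ((z v : P) : X)) := by rw [hz v, ← Subgroup.coe_inv, hcent]
      _ = ((z u : P) : X) * ((z v : P) : X) := by rw [← mul_assoc, hz u]))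
  have hker : f.ker = ⊤ := by
    rw [eq_top_iff, ← hP, _root_.commutator_def, Subgroup.commutator_le]
    intro a _ b _
    rw [MonoidHom.mem_ker, map_commutatorElement, commutatorElement_eq_one_iff_commute]
    exact Subtype.ext (Subgroup.mem_center_iff.mp (f b).2 _)
  intro u hu
  have h1 : f ⟨u, hu⟩ = 1 := MonoidHom.mem_ker.mp (hker ▸ Subgroup.mem_top (⟨u, hu⟩ : P))
  have h2 := hz ⟨u, hu⟩
  rw [show z ⟨u, hu⟩ = 1 from h1] at h2
  exact mul_inv_eq_iff_eq_mul.mp (mul_inv_eq_one.mp h2)

/-- Normal subgroups of a quasisimple `P` not containing `p` centralize `P`. -/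
theorem central_of_normalized {P N : Subgroup X} (hP : IsQuasisimple ↥P)
    (hN : P ≤ Subgroup.normalizer (N : Set X)) {p : X} (hp : p ∈ P) (hpN : p ∉ N) {w : X} (hwN : w ∈ N)
    (hwP : w ∈ P) : (⟨w, hwP⟩ : P) ∈ Subgroup.center ↥P := by
  have h := ((Components.isQuasisimple_normalized_cases hP hN).resolve_left fun hle => hpN (hle hp))
    (show w ∈ N ⊓ P from ⟨hwN, hwP⟩)
  exact Subgroup.mem_center_iff.mpr fun v => Subtype.ext (Subgroup.mem_centralizer_iff.mp h v v.2)

theorem standard_commutes_core (P : Subgroup X) (hP : IsStandardSubgroup P)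
    (hr : PRankLE 2 1 ↥(Subgroup.centralizer (P : Set X))) (hZ : Odd (Nat.card ↥(Subgroup.center ↥P)))
    (S : Sylow 2 ↥(Subgroup.normalizer (P : Set X))) (t : X) (ht : orderOf t = 2)
    (htS : t ∈ (S : Subgroup ↥(Subgroup.normalizer (P : Set X))).map (Subgroup.normalizer (P : Set X)).subtype)
    (htP : t ∈ Subgroup.centralizer (P : Set X))
    (g : X) (hgN : ∀ s ∈ (S : Subgroup ↥(Subgroup.normalizer (P : Set X))).map (Subgroup.normalizer (P : Set X)).subtype,
      g * s * g⁻¹ ∈ (S : Subgroup ↥(Subgroup.normalizer (P : Set X))).map (Subgroup.normalizer (P : Set X)).subtype)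
    (hgS : g ∉ (S : Subgroup ↥(Subgroup.normalizer (P : Set X))).map (Subgroup.normalizer (P : Set X)).subtype)
    (hg2 : g ^ 2 ∈ (S : Subgroup ↥(Subgroup.normalizer (P : Set X))).map (Subgroup.normalizer (P : Set X)).subtype)
    (hgt : g * t * g⁻¹ ∈ P ⊔ Subgroup.centralizer (P : Set X)) :
    ⁅P, oddCore X⁆ = ⊥ ∧
      ∀ L : Subgroup X, IsPComponent 2 L → P ≤ L → (∀ l ∈ L, t * l * t⁻¹ ∈ L) → IsQuasisimple ↥L := by
  haveI : Fact (Nat.Prime 2) := ⟨Nat.prime_two⟩
  obtain ⟨hqs, ⟨-, htight⟩, -, hNK⟩ := hP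
  set K := Subgroup.centralizer (P : Set X) with hK
  set T := (S : Subgroup ↥(Subgroup.normalizer (P : Set X))).map (Subgroup.normalizer (P : Set X)).subtype with hT
  have hTN : T ≤ Subgroup.normalizer (P : Set X) := Subgroup.map_subtype_le _
  have hTp : IsPGroup 2 T := S.isPGroup'.map _
  have ht2 := Invol.mul_self_of_orderOf_two ht
  have ht1 := Invol.ne_one_of_orderOf_two ht
  set O := oddCore X with hO
  have hOodd : Odd (Nat.card O) :=
    Nat.coprime_two_right.mp (Basics.pPrimeCore_coprime (G := X) 2)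
  have htight' : ∀ c : X, t ∈ K.map (MulAut.conj c).toMonoidHom → c ∈ Subgroup.normalizer (P : Set X) := by
    intro c hc
    by_contra hn
    rw [hNK] at hn
    have h1 := htight c hn
    have h2 : orderOf t ∣ Nat.card ↥(K ⊓ K.map (MulAut.conj c).toMonoidHom) :=
      Subgroup.orderOf_dvd_natCard _ ⟨htP, hc⟩
    rw [ht] at h2
    exact Nat.not_even_iff_odd.mpr h1 (even_iff_two_dvd.mpr h2)
  -- `t` is central in `T`
  have htT : ∀ s ∈ T, Commute s t := by
    intro s hs
    have hsK : s * t * s⁻¹ ∈ K := by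
      intro v hv
      have hv' : s⁻¹ * v * s ∈ P := by
        have := (Subgroup.mem_normalizer_iff.mp (inv_mem (hTN hs)) v).mp hv
        rwa [inv_inv] at this
      calc v * (s * t * s⁻¹) = s * ((s⁻¹ * v * s) * t) * s⁻¹ := by group
        _ = s * (t * (s⁻¹ * v * s)) * s⁻¹ := by rw [Subgroup.mem_centralizer_iff.mp htP _ hv']
        _ = s * t * s⁻¹ * v := by group
    exact mul_inv_eq_iff_eq_mul.mp (unique_involution hr (hTp.to_le inf_le_left) inf_le_right
      (show s * t * s⁻¹ ∈ T ⊓ K from ⟨T.mul_mem (T.mul_mem hs htS) (T.inv_mem hs), hsK⟩)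
      (show t ∈ T ⊓ K from ⟨htS, htP⟩) (by rw [Invol.orderOf_conj, ht]) ht)
  set t' := g * t * g⁻¹ with ht'
  have ht'T : t' ∈ T := hgN t htS
  have ht'2 : t' * t' = 1 := by rw [ht', conj_mul, ht2, mul_one, mul_inv_cancel]
  have ht'ne : t' ≠ t := by
    intro h
    have hgP : g ∈ Subgroup.normalizer (P : Set X) := htight' g ⟨t, htP, h⟩
    apply hgS
    have hp : IsPGroup 2 (Subgroup.zpowers (⟨g, hgP⟩ : Subgroup.normalizer (P : Set X))) := by
      obtain ⟨k, hk⟩ := hTp ⟨g ^ 2, hg2⟩
      obtain ⟨j, -, hj⟩ := (Nat.dvd_prime_pow Nat.prime_two).mp (show orderOf g ∣ 2 ^ (k + 1) from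
        orderOf_dvd_of_pow_eq_one (by rw [pow_succ', pow_mul]; exact congrArg Subtype.val hk))
      exact IsPGroup.of_card (n := j) (by rw [Nat.card_zpowers, ← Subgroup.orderOf_coe]; exact hj)
    have hle : Subgroup.zpowers (⟨g, hgP⟩ : Subgroup.normalizer (P : Set X)) ≤
        Subgroup.normalizer ((S : Subgroup ↥(Subgroup.normalizer (P : Set X))) : Set ↥(Subgroup.normalizer (P : Set X))) := by
      rw [Subgroup.zpowers_le]
      refine Subgroup.mem_normalizer_iff_map_conj_eq.mpr (Subgroup.eq_of_le_of_card_ge ?_ (Nat.card_congr (Subgroup.equivMapOfInjective _ _ (MulAut.conj _).injective).toEquiv).le)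
      rintro _ ⟨s, hs, rfl⟩
      obtain ⟨w, hw, hwe⟩ := hgN _ ⟨s, hs, rfl⟩
      show (⟨g, hgP⟩ : Subgroup.normalizer (P : Set X)) * s * (⟨g, hgP⟩)⁻¹ ∈ (S : Subgroup ↥(Subgroup.normalizer (P : Set X)))
      rwa [← show w = (⟨g, hgP⟩ : Subgroup.normalizer (P : Set X)) * s * (⟨g, hgP⟩)⁻¹ from Subtype.ext hwe]
    have h2 := S.3 (IsPGroup.to_sup_of_normal_right' hp S.isPGroup' hle) le_sup_right
    exact ⟨⟨g, hgP⟩, h2 ▸ Subgroup.mem_sup_left (Subgroup.mem_zpowers _), rfl⟩
  -- decompose `t'`
  obtain ⟨p₀, hp₀, k₀, hk₀, hpk⟩ : ∃ a ∈ P, ∃ b ∈ K, a * b = t' := by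
    have hle : P ≤ Subgroup.normalizer (K : Set X) := hNK ▸ Subgroup.le_normalizer
    rw [← SetLike.mem_coe, Subgroup.coe_mul_of_left_le_normalizer_right P K hle, Set.mem_mul] at hgt
    exact hgt
  have hc₀ : Commute p₀ k₀ := Subgroup.mem_centralizer_iff.mp hk₀ p₀ hp₀
  set m := Nat.card ↥(Subgroup.center ↥P) with hm
  have hsq : p₀ * p₀ * (k₀ * k₀) = 1 := by rw [← hc₀.symm.mul_mul_mul_comm, hpk, ht'2]
  have hp2K : p₀ * p₀ ∈ K := by rw [eq_inv_of_mul_eq_one_left hsq]; exact inv_mem (mul_mem hk₀ hk₀)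
  have hp2Z : (⟨p₀ * p₀, mul_mem hp₀ hp₀⟩ : P) ∈ Subgroup.center ↥P :=
    Subgroup.mem_center_iff.mpr fun v => Subtype.ext (Subgroup.mem_centralizer_iff.mp hp2K v v.2)
  have hpm : (p₀ * p₀) ^ m = 1 := by
    have := pow_card_eq_one' (x := (⟨_, hp2Z⟩ : Subgroup.center ↥P))
    exact congrArg Subtype.val (congrArg Subtype.val this)
  set p := p₀ ^ m with hp
  set k := k₀ ^ m with hk
  have hpP : p ∈ P := pow_mem hp₀ _
  have hkK : k ∈ K := pow_mem hk₀ _
  have hpp : p * p = 1 := by rw [hp, ← (Commute.refl p₀).mul_pow]; exact hpm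
  have hkk : k * k = 1 := by
    rw [hk, ← (Commute.refl k₀).mul_pow, eq_inv_of_mul_eq_one_right hsq, inv_pow, hpm, inv_one]
  have hpk' : p * k = t' := by
    rw [hp, hk, ← hc₀.mul_pow, hpk]
    obtain ⟨i, hi⟩ := hZ
    rw [hi, pow_succ, pow_mul, pow_two, ht'2, one_pow, one_mul]
  have hcpt : Commute p t := Subgroup.mem_centralizer_iff.mp htP p hpP
  have hckt : Commute k t := by
    have : k = p⁻¹ * t' := by rw [← hpk', inv_mul_cancel_left]
    rw [this]; exact hcpt.inv_left.mul_left (htT t' ht'T)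
  have hk1t : k = 1 ∨ k = t := by
    by_cases h : k = 1
    · exact Or.inl h
    · exact Or.inr (eq_of_rank_one hr hkK htP hkk ht2 h ht1 hckt)
  have hp1 : p ≠ 1 := by
    intro h
    rcases hk1t with hk' | hk' <;> rw [h, hk', one_mul] at hpk'
    · exact ht1 (conj_eq_one_iff.mp hpk'.symm)
    · exact ht'ne hpk'.symm
  have hpZ : (⟨p, hpP⟩ : P) ∉ Subgroup.center ↥P := by
    intro h
    have h2 : orderOf (⟨⟨p, hpP⟩, h⟩ : Subgroup.center ↥P) ∣ m := orderOf_dvd_natCard _
    rw [← Subgroup.orderOf_coe, ← Subgroup.orderOf_coe] at h2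
    rw [show orderOf ((⟨⟨p, hpP⟩, h⟩ : Subgroup.center ↥P) : P).1 = 2 from Invol.orderOf_two_of_mul_self hpp hp1] at h2
    exact Nat.not_even_iff_odd.mpr hZ (even_iff_two_dvd.mpr h2)
  have hpO : p ∉ O := fun h => by
    have h2 : orderOf p ∣ Nat.card O := Subgroup.orderOf_dvd_natCard O h
    rw [Invol.orderOf_two_of_mul_self hpp hp1] at h2
    exact Nat.not_even_iff_odd.mpr hOodd (even_iff_two_dvd.mpr h2)
  have hperf := Components.qs_perfect hqs
  -- fixed points of `t` on `O` centralize `P`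
  have hCt : ∀ c ∈ O, Commute c t → c ∈ K := by
    intro c hc hct
    have hcN : c ∈ Subgroup.normalizer (P : Set X) := htight' c ⟨t, htP, by
      show c * t * c⁻¹ = t
      rw [hct.eq, mul_inv_cancel_right]⟩
    refine Subgroup.mem_centralizer_iff.mpr fun v hv =>
      (commute_of_perfect_central hperf (fun u => ?_) v hv).eq.symm
    have h1 : c * u * c⁻¹ * (u : X)⁻¹ ∈ P :=
      mul_mem ((Subgroup.mem_normalizer_iff.mp hcN u).mp u.2) (inv_mem u.2)
    have h2 : c * u * c⁻¹ * (u : X)⁻¹ ∈ O := by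
      have h3 := mul_mem hc ((inferInstance : O.Normal).conj_mem _ (inv_mem hc) u)
      simpa [mul_assoc] using h3
    exact ⟨⟨_, central_of_normalized hqs Subgroup.le_normalizer_of_normal hpP hpO h2 h1⟩, rfl⟩
  have hg2t : g * t' * g⁻¹ = t := by
    calc g * (g * t * g⁻¹) * g⁻¹ = g ^ 2 * t * (g ^ 2)⁻¹ := by rw [pow_two]; group
      _ = t := by rw [(htT _ hg2).eq, mul_inv_cancel_right]
  have hCt' : ∀ c ∈ O, Commute c t' → ∀ v ∈ P, Commute c (g * v * g⁻¹) := by
    intro c hc hct v hv
    have h1 : g⁻¹ * c * g ∈ K := by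
      refine hCt _ (by simpa using (inferInstance : O.Normal).conj_mem c hc g⁻¹) ?_
      show g⁻¹ * c * g * t = t * (g⁻¹ * c * g)
      calc g⁻¹ * c * g * t = g⁻¹ * (c * t') * g := by rw [ht']; group
        _ = g⁻¹ * (t' * c) * g := by rw [hct.eq]
        _ = t * (g⁻¹ * c * g) := by rw [ht']; group
    show c * (g * v * g⁻¹) = g * v * g⁻¹ * c
    calc c * (g * v * g⁻¹) = g * ((g⁻¹ * c * g) * v) * g⁻¹ := by group
      _ = g * (v * (g⁻¹ * c * g)) * g⁻¹ := by rw [Subgroup.mem_centralizer_iff.mp h1 v hv]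
      _ = g * v * g⁻¹ * c := by group
  -- the four group `⟨t, p⟩` on `O`
  set V := Subgroup.closure ({t, p} : Set X) with hV
  haveI hVc : IsMulCommutative V := Subgroup.isMulCommutative_closure (by
    rintro x (rfl | rfl) y (rfl | rfl)
    · rfl
    · exact hcpt.eq.symm
    · exact hcpt.eq
    · rfl)
  have htp : t * p ≠ 1 := by
    intro h
    have : p = t := by rw [eq_inv_of_mul_eq_one_right h, Invol.inv_of_orderOf_two ht]
    exact hpZ (Subgroup.mem_center_iff.mpr fun v => Subtype.ext (by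
      show (v : X) * p = p * v
      rw [this]; exact Subgroup.mem_centralizer_iff.mp htP v v.2))
  have hVmem : ∀ x ∈ V, x = 1 ∨ x = t ∨ x = p ∨ x = t * p := by
    intro x hx
    induction hx using Subgroup.closure_induction with
    | mem x hx => rcases hx with rfl | rfl <;> simp
    | one => simp
    | mul x y _ _ ihx ihy =>
      have h1 : p * t = t * p := hcpt.eq
      have h2 : t * (t * p) = p := by rw [← mul_assoc, ht2, one_mul]
      have h3 : p * (t * p) = t := by rw [← mul_assoc, h1, mul_assoc, hpp, mul_one]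
      have h4 : t * p * t = p := by rw [mul_assoc, h1, h2]
      have h5 : t * p * p = t := by rw [mul_assoc, hpp, mul_one]
      have h6 : t * p * (t * p) = 1 := by rw [mul_assoc, h3, ht2]
      rcases ihx with rfl | rfl | rfl | rfl <;> rcases ihy with rfl | rfl | rfl | rfl <;>
        simp [ht2, hpp, h1, h2, h3, h4, h5, h6]
    | inv x _ ih =>
      rcases ih with rfl | rfl | rfl | rfl
      · simp
      · simp [Invol.inv_of_orderOf_two ht]
      · simp [Invol.inv_eq_self_of_mul_self hpp]
      · right; right; right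
        rw [mul_inv_rev, Invol.inv_of_orderOf_two ht, Invol.inv_eq_self_of_mul_self hpp, hcpt.eq]
  have hVn : ¬ IsCyclic V := by
    intro h
    obtain ⟨⟨x, hx⟩, hgen⟩ := h.exists_generator
    obtain ⟨i, hi⟩ := hgen ⟨t, Subgroup.subset_closure (Or.inl rfl)⟩
    obtain ⟨j, hj⟩ := hgen ⟨p, Subgroup.subset_closure (Or.inr rfl)⟩
    have hi' : x ^ i = t := congrArg Subtype.val hi
    have hj' : x ^ j = p := congrArg Subtype.val hj
    have hx2 : x * x = 1 := by
      rcases hVmem x hx with rfl | rfl | rfl | rfl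
      · exact one_mul 1
      · exact ht2
      · exact hpp
      · calc t * p * (t * p) = t * (p * t) * p := by group
          _ = t * (t * p) * p := by rw [hcpt.eq]
          _ = t * t * (p * p) := by group
          _ = 1 := by rw [ht2, hpp, one_mul]
    have hpow : ∀ i : ℤ, x ^ i = 1 ∨ x ^ i = x := fun i => by
      rcases Int.even_or_odd i with ⟨r, rfl⟩ | ⟨r, rfl⟩
      · left; rw [zpow_add, ← (Commute.refl x).mul_zpow, hx2, one_zpow]
      · right; rw [zpow_add, zpow_mul, zpow_two, hx2, one_zpow, one_mul, zpow_one]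
    rcases hpow i with h1 | h1 <;> rw [hi'] at h1
    · exact ht1 h1
    rcases hpow j with h2 | h2 <;> rw [hj'] at h2
    · exact hp1 h2
    · exact htp (by rw [h1, h2, hx2])
  have hcop : (Nat.card V).Coprime (Nat.card O) := by
    have hVp : IsPGroup 2 V := fun x => ⟨1, Subtype.ext (by
      show (x : X) ^ (2 ^ 1) = 1
      rcases hVmem x x.2 with h | h | h | h <;> rw [h, pow_one, pow_two]
      · exact one_mul 1
      · exact ht2
      · exact hpp
      · calc t * p * (t * p) = t * (p * t) * p := by group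
          _ = t * (t * p) * p := by rw [hcpt.eq]
          _ = t * t * (p * p) := by group
          _ = 1 := by rw [ht2, hpp, one_mul])⟩
    obtain ⟨i, hi⟩ := IsPGroup.iff_card.mp hVp
    rw [hi]
    exact (Nat.coprime_two_left.mpr hOodd).pow_left i
  -- an element of `P`, noncentral, centralizing `O` mod conjugation
  have hgen := Basics.iSup_inf_centralizer_eq V O hVn Subgroup.le_normalizer_of_normal hcop
  have hP : P ≤ Subgroup.centralizer (O : Set X) := by
    set D := P ⊓ Subgroup.centralizer (O : Set X) with hD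
    have hPD : P ≤ Subgroup.normalizer (D : Set X) := by
      haveI : (Subgroup.centralizer (O : Set X)).Normal := Subgroup.normal_centralizer
      exact le_trans (le_inf Subgroup.le_normalizer Subgroup.le_normalizer_of_normal)
        (Subgroup.inf_normalizer_le_normalizer_inf)
    suffices hkey : ∀ u ∈ P, p * u * p⁻¹ * u⁻¹ ∈ Subgroup.centralizer (O : Set X) by
      by_contra hne
      refine hpZ (Subgroup.mem_center_iff.mpr fun v => Subtype.ext ?_)
      refine (commute_of_perfect_central hperf (fun u => ?_) v v.2).eq.symm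
      have hw : p * (u : X) * p⁻¹ * (u : X)⁻¹ ∈ P := mul_mem (mul_mem (mul_mem hpP u.2) (inv_mem hpP)) (inv_mem u.2)
      refine ⟨⟨⟨_, hw⟩, Subgroup.mem_center_iff.mpr fun w => Subtype.ext (Subgroup.mem_centralizer_iff.mp
        (((Components.isQuasisimple_normalized_cases hqs hPD).resolve_left
          fun hle => hne (hle.trans inf_le_right)) (show _ ∈ D ⊓ P from ⟨⟨hw, hkey u u.2⟩, hw⟩)) w w.2)⟩, rfl⟩
    haveI hCOn : (Subgroup.centralizer (O : Set X)).Normal := Subgroup.normal_centralizer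
    have hK' : ∀ c ∈ O, Commute c t → Commute c p := fun c hc hct =>
      (Subgroup.mem_centralizer_iff.mp (hCt c hc hct) p hpP).symm
    rcases hk1t with hk' | hk'
    · -- `t' = p`: then `t p` centralizes `O`
      rw [hk', mul_one] at hpk'
      have hCp : ∀ c ∈ O, Commute c p → Commute c t := fun c hc hcp => by
        have h := hCt' c hc (hpk' ▸ hcp) p hpP
        rwa [hpk', hg2t] at h
      have htpO : t * p ∈ Subgroup.centralizer (O : Set X) := by
        have hle : O ≤ Subgroup.centralizer ({t * p} : Set X) := by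
          refine hgen.ge.trans (iSup₂_le fun a ha c hc => ?_)
          rw [Subgroup.mem_centralizer_singleton_iff]
          have hca : Commute c a := Subgroup.mem_centralizer_singleton_iff.mp hc.2
          rcases hVmem a ha.1 with rfl | rfl | rfl | rfl
          · exact absurd rfl ha.2
          · exact (hca.mul_right (hK' c hc.1 hca)).eq
          · exact ((hCp c hc.1 hca).mul_right hca).eq
          · exact hca.eq
        exact Subgroup.mem_centralizer_iff.mpr fun c hc => Subgroup.mem_centralizer_singleton_iff.mp (hle hc)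
      intro u hu
      have hw : p * u * p⁻¹ * u⁻¹ ∈ P := mul_mem (mul_mem (mul_mem hpP hu) (inv_mem hpP)) (inv_mem hu)
      have h1 := mul_mem htpO (hCOn.conj_mem _ (inv_mem htpO) u)
      have h2 : u * t⁻¹ = t⁻¹ * u := ((show Commute u t from Subgroup.mem_centralizer_iff.mp htP u hu).inv_right).eq
      have h3 : t * p * (u * (t * p)⁻¹ * u⁻¹) = p * u * p⁻¹ * u⁻¹ := by
        calc t * p * (u * (t * p)⁻¹ * u⁻¹) = (t * (p * u * p⁻¹ * u⁻¹)) * (u * t⁻¹) * u⁻¹ := by group
          _ = (t * (p * u * p⁻¹ * u⁻¹)) * (t⁻¹ * u) * u⁻¹ := by rw [h2]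
          _ = (p * u * p⁻¹ * u⁻¹ * t) * (t⁻¹ * u) * u⁻¹ := by rw [Subgroup.mem_centralizer_iff.mp htP _ hw]
          _ = p * u * p⁻¹ * u⁻¹ := by group
      rwa [h3] at h1
    · rw [hk'] at hpk'
      have hCpt : ∀ c ∈ O, Commute c (t * p) → Commute c t := fun c hc hcp => by
        rw [← hcpt.eq] at hcp
        have h := hCt' c hc (hpk' ▸ hcp) p hpP
        have h' : Commute c (g * t * g⁻¹) := by rw [← ht', ← hpk']; exact hcp
        have h3 := h.mul_right h'
        rwa [show g * p * g⁻¹ * (g * t * g⁻¹) = g * (p * t) * g⁻¹ by group, hpk', hg2t] at h3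
      have hpc : p ∈ Subgroup.centralizer (O : Set X) := by
        have hle : O ≤ Subgroup.centralizer ({p} : Set X) := by
          refine hgen.ge.trans (iSup₂_le fun a ha c hc => ?_)
          rw [Subgroup.mem_centralizer_singleton_iff]
          have hca : Commute c a := Subgroup.mem_centralizer_singleton_iff.mp hc.2
          rcases hVmem a ha.1 with rfl | rfl | rfl | rfl
          · exact absurd rfl ha.2
          · exact (hK' c hc.1 hca).eq
          · exact hca.eq
          · exact (hK' c hc.1 (hCpt c hc.1 hca)).eq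
        exact Subgroup.mem_centralizer_iff.mpr fun c hc => Subgroup.mem_centralizer_singleton_iff.mp (hle hc)
      intro u _
      have h1 := mul_mem hpc (hCOn.conj_mem _ (inv_mem hpc) u)
      simpa [mul_assoc] using h1
  refine ⟨Subgroup.commutator_eq_bot_iff_le_centralizer.mpr hP, fun L hL hPL _ => ?_⟩
  refine ClassK.pComponent_quasisimple_of_commute hL (Subgroup.commutator_eq_bot_iff_le_centralizer.mpr ?_)
  set C := L ⊓ Subgroup.centralizer (O : Set X) with hC
  haveI : (Subgroup.centralizer (O : Set X)).Normal := Subgroup.normal_centralizer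
  set π := QuotientGroup.mk' (pPrimeCore 2 X) with hπ
  have hCn : L ≤ Subgroup.normalizer (C : Set X) :=
    le_trans (le_inf Subgroup.le_normalizer Subgroup.le_normalizer_of_normal) Subgroup.inf_normalizer_le_normalizer_inf
  have himg : L.map π ≤ C.map π := by
    refine (Components.isQuasisimple_normalized_cases hL.2.1.2
      ((Subgroup.map_mono hCn).trans (Subgroup.le_normalizer_map π))).resolve_right fun h => ?_
    refine hpO ?_
    have hPc : (⁅P, P⁆).map π = ⊥ := by
      rw [Subgroup.map_commutator, Subgroup.commutator_eq_bot_iff_le_centralizer]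
      intro x hx
      exact Subgroup.centralizer_le (Subgroup.map_mono hPL)
        (h ⟨Subgroup.map_mono (le_inf hPL hP) hx, Subgroup.map_mono hPL hx⟩)
    rw [Subgroup.map_eq_bot_iff, hπ, QuotientGroup.ker_mk', Components.isQuasisimple_commutator_eq_self hqs] at hPc
    exact hPc hpP
  have hCL : C = L := hL.2.2 C (hL.1.inf (Components.isSubnormal_of_normal _)) inf_le_left
    (le_antisymm (Subgroup.map_mono inf_le_left) himg)
  exact hCL ▸ (inf_le_right : C ≤ Subgroup.centralizer (O : Set X))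

end Cfsg.Agent.InvChar
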