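import Cfsg.Agent.Lib.InvChar.AnisotropicPair
import Cfsg.Agent.Lib.ConjFunctor.CriticalChief

/-!
The automorphism group of a 2-group with at most three involutions is solvable.
-/

set_option autoImplicit false
set_option linter.style.haveILetI false
set_option linter.unusedSectionVars false

namespace Cfsg.Agent.InvChar.ThreeAut

open Subgroup
open scoped commutatorElement

theorem isSolvable_of_two_group {H : Type*} [Group H] [Finite H] (h : IsPGroup 2 H) :
    Group.IsSolvable H := by
  haveI : Fact (Nat.Prime 2) := ⟨Nat.prime_two⟩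
  haveI := h.isNilpotent
  infer_instance

/-- A group is a 2-group when its elements of odd order are trivial. -/
theorem isPGroup_of_odd_trivial {H : Type*} [Group H] [Finite H]
    (h : ∀ g : H, Odd (orderOf g) → g = 1) : IsPGroup 2 H := by
  intro g
  obtain ⟨k, m, hm, hkm⟩ := Nat.exists_eq_pow_mul_and_not_dvd (orderOf_pos g).ne' 2 (by norm_num)
  refine ⟨k, h _ ?_⟩
  rw [orderOf_pow, hkm, Nat.gcd_mul_right_left, Nat.mul_div_cancel_left _ (Nat.two_pow_pos k),
    Nat.odd_iff]
  omega

theorem eq_one_of_odd {H : Type*} [Group H] [Finite H] (hH : IsPGroup 2 H) {c : H} {m : ℕ}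
    (hm : Odd m) (hc : c ^ m = 1) : c = 1 := by
  obtain ⟨k, hk⟩ := hH c
  exact orderOf_eq_one_iff.mp (Nat.eq_one_of_dvd_coprimes
    ((Nat.coprime_two_right.mpr hm).symm.pow_left k) (orderOf_dvd_of_pow_eq_one hk)
    (orderOf_dvd_of_pow_eq_one hc))

/-- At most three involutions, stated without counting. -/
def FewInvol (X : Type*) [Group X] : Prop :=
  ∀ a b c d : X, a ^ 2 = 1 → b ^ 2 = 1 → c ^ 2 = 1 → d ^ 2 = 1 → a ≠ 1 → b ≠ 1 → c ≠ 1 → d ≠ 1 →
    a = b ∨ a = c ∨ a = d ∨ b = c ∨ b = d ∨ c = d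

theorem FewInvol.card_le {X : Type*} [Group X] [Finite X] (h : FewInvol X) :
    Nat.card {x : X // x ^ 2 = 1} ≤ 4 := by
  classical
  cases nonempty_fintype X
  rw [Nat.card_eq_fintype_card, Fintype.card_subtype]
  by_contra hlt
  have h4 : 4 ≤ ((Finset.univ.filter fun x : X => x ^ 2 = 1).erase 1).card := by
    rw [Finset.card_erase_of_mem (by simp)]
    omega
  obtain ⟨T, hT, hTc⟩ := Finset.exists_subset_card_eq h4
  obtain ⟨a, b, c, d, hab, hac, had, hbc, hbd, hcd, rfl⟩ := Finset.card_eq_four.mp hTc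
  have hm : ∀ t ∈ ({a, b, c, d} : Finset X), t ^ 2 = 1 ∧ t ≠ 1 := fun t ht => by
    obtain ⟨h1, h2⟩ := Finset.mem_erase.mp (hT ht)
    exact ⟨(Finset.mem_filter.mp h2).2, h1⟩
  have ma := hm a (by simp)
  have mb := hm b (by simp)
  have mc := hm c (by simp)
  have md := hm d (by simp)
  rcases h a b c d ma.1 mb.1 mc.1 md.1 ma.2 mb.2 mc.2 md.2 with e | e | e | e | e | e <;>
    contradiction

variable {A : Type*} [Group A] [Finite A]

/-- The automorphism group of an abelian 2-group with few involutions is solvable. -/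
theorem abelian_solvable {Z : Type*} [CommGroup Z] [Finite Z] (hZ : IsPGroup 2 Z) (h : FewInvol Z) :
    Group.IsSolvable (MulAut Z) := by
  let Ω := {x : Z // x ^ 2 = 1}
  let ψ : MulAut Z →* Equiv.Perm Ω :=
    { toFun := fun φ =>
        { toFun := fun x => ⟨φ x.1, by rw [← map_pow, x.2, map_one]⟩
          invFun := fun x => ⟨φ.symm x.1, by rw [← map_pow, x.2, map_one]⟩
          left_inv := fun x => Subtype.ext (φ.symm_apply_apply x.1)
          right_inv := fun x => Subtype.ext (φ.apply_symm_apply x.1) }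
      map_one' := by ext x; rfl
      map_mul' := fun φ φ' => by ext x; rfl }
  haveI hP : Group.IsSolvable (Equiv.Perm Ω) := by
    have hle := h.card_le
    have hc : Nat.card (Equiv.Perm Ω) = Nat.factorial (Nat.card Ω) := Nat.card_perm
    change Nat.card Ω ≤ 4 at hle
    obtain ⟨a, b, hab⟩ : ∃ a b, Nat.card (Equiv.Perm Ω) = 2 ^ a * 3 ^ b := by
      rw [hc]
      interval_cases hn : Nat.card Ω
      · exact ⟨0, 0, rfl⟩
      · exact ⟨0, 0, rfl⟩
      · exact ⟨1, 0, rfl⟩
      · exact ⟨1, 1, rfl⟩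
      · exact ⟨3, 1, rfl⟩
    exact CT.isSolvable_of_card_two_primes Nat.prime_two Nat.prime_three _ _ a b rfl hab
  haveI : Group.IsSolvable ψ.ker := by
    refine isSolvable_of_two_group (isPGroup_of_odd_trivial fun φ hφ => ?_)
    rw [← Subgroup.orderOf_coe] at hφ
    apply Subtype.ext
    have hinv : ∀ x : Z, x ^ 2 = 1 → (φ : MulAut Z) x = x := by
      intro x hx
      exact congrArg Subtype.val (Equiv.congr_fun (MonoidHom.mem_ker.mp φ.2) (⟨x, hx⟩ : Ω))
    have key : ∀ k : ℕ, ∀ x : Z, x ^ 2 ^ k = 1 → (φ : MulAut Z) x = x := by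
      intro k
      induction k with
      | zero => intro x hx; rw [pow_zero, pow_one] at hx; rw [hx, map_one]
      | succ k ih =>
        intro x hx
        have h2 : (φ : MulAut Z) (x ^ 2) = x ^ 2 := ih _ (by rw [← pow_mul, ← pow_succ']; exact hx)
        set c := x⁻¹ * (φ : MulAut Z) x with hc
        have hc2 : c ^ 2 = 1 := by
          rw [hc, mul_pow, inv_pow, ← map_pow, h2, inv_mul_cancel]
        have hn : ∀ n : ℕ, ((φ : MulAut Z) ^ n) x = x * c ^ n := by
          intro n
          induction n with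
          | zero => simp
          | succ n ihn =>
            rw [pow_succ', MulAut.mul_apply, ihn, map_mul, map_pow, hinv c hc2, pow_succ', hc]
            rw [← mul_assoc x, mul_inv_cancel_left]
        have h1 := hn (orderOf (φ : MulAut Z))
        rw [pow_orderOf_eq_one, MulAut.one_apply, left_eq_mul] at h1
        have hc1 := eq_one_of_odd hZ hφ h1
        rw [hc, inv_mul_eq_one] at hc1
        exact hc1.symm
    refine MulEquiv.ext fun x => ?_
    obtain ⟨k, hk⟩ := hZ x
    exact key k x hk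
  exact Group.isSolvable_of_ker_le_range ψ.ker.subtype ψ
    (by rw [Subgroup.range_subtype])

/-- Restriction of automorphisms to a characteristic subgroup. -/
noncomputable def restrict {X : Type*} [Group X] (H : Subgroup X) [hH : H.Characteristic] :
    MulAut X →* MulAut H where
  toFun φ :=
    { toFun := fun x => ⟨φ x, (Subgroup.characteristic_iff_le_comap.mp hH φ) x.2⟩
      invFun := fun x => ⟨φ.symm x, (Subgroup.characteristic_iff_le_comap.mp hH φ.symm) x.2⟩
      left_inv := fun x => Subtype.ext (φ.symm_apply_apply _)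
      right_inv := fun x => Subtype.ext (φ.apply_symm_apply _)
      map_mul' := fun x y => Subtype.ext (map_mul φ _ _) }
  map_one' := by ext x; rfl
  map_mul' φ φ' := by ext x; rfl

theorem seven_terms : ∀ p q r u v w : ZMod 2,
    p + (q + r + u) + (v + w) + (p + q + v) + (p + r + w) + (q + r + u) + p + q + r = 0 := by
  decide

theorem indicator_add {W : Type*} [Group W] (H : Subgroup W) (hH : H.index = 2) [DecidablePred (· ∈ H)]
    (x y : W) : (if x * y ∈ H then (0 : ZMod 2) else 1) =
      (if x ∈ H then 0 else 1) + (if y ∈ H then 0 else 1) := by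
  have h := Subgroup.mul_mem_iff_of_index_two hH (a := x) (b := y)
  by_cases hx : x ∈ H <;> by_cases hy : y ∈ H <;> simp [hx, hy, h] <;> decide

/-- Two functions on a group of exponent two and order at most four detecting the identity. -/
theorem exists_coords {W : Type*} [CommGroup W] [Finite W] (hW : ∀ w : W, w ^ 2 = 1)
    (hc : Nat.card W ≤ 4) :
    ∃ f g : W → ZMod 2, (∀ x y, f (x * y) = f x + f y) ∧ (∀ x y, g (x * y) = g x + g y) ∧
      (∀ w, f w = 0 → g w = 0 → w = 1) ∧ (Nat.card W ≤ 2 → ∀ w, g w = 0) := by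
  classical
  haveI : Fact (Nat.Prime 2) := ⟨Nat.prime_two⟩
  have h2 : IsPGroup 2 W := fun w => ⟨1, by rw [pow_one]; exact hW w⟩
  obtain ⟨k, hk⟩ := h2.exists_card_eq
  have hk2 : k ≤ 2 := by
    rw [hk] at hc
    exact (Nat.pow_le_pow_iff_right (by norm_num : 1 < 2)).mp hc
  interval_cases k
  · refine ⟨fun _ => 0, fun _ => 0, by simp, by simp, fun w _ _ => ?_, fun _ _ => rfl⟩
    haveI := (Nat.card_eq_one_iff_unique.mp (by rw [hk]; rfl)).1
    exact Subsingleton.elim w 1
  · have hb : (⊥ : Subgroup W).index = 2 := by rw [Subgroup.index_bot, hk]; rfl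
    refine ⟨fun w => if w ∈ (⊥ : Subgroup W) then 0 else 1, fun _ => 0, indicator_add _ hb, by simp,
      fun w hf _ => ?_, fun _ _ => rfl⟩
    by_contra hw
    simp [hw] at hf
  · obtain ⟨a, ha⟩ : ∃ a : W, a ≠ 1 := by
      by_contra hno
      push Not at hno
      haveI : Subsingleton W := ⟨fun x y => (hno x).trans (hno y).symm⟩
      rw [Nat.card_of_subsingleton (1 : W)] at hk
      norm_num at hk
    have hidx : ∀ e : W, e ≠ 1 → (Subgroup.zpowers e).index = 2 := by
      intro e he
      have h := (Subgroup.zpowers e).card_mul_index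
      rw [Nat.card_zpowers, orderOf_eq_prime (hW e) he, hk] at h
      omega
    obtain ⟨b, hb⟩ : ∃ b : W, b ∉ Subgroup.zpowers a := by
      by_contra hno
      push Not at hno
      have h := hidx a ha
      rw [(Subgroup.eq_top_iff' _).mpr hno, Subgroup.index_top] at h
      norm_num at h
    have hb1 : b ≠ 1 := fun e => hb (e ▸ one_mem _)
    refine ⟨fun w => if w ∈ Subgroup.zpowers a then 0 else 1,
      fun w => if w ∈ Subgroup.zpowers b then 0 else 1, indicator_add _ (hidx a ha),
      indicator_add _ (hidx b hb1), fun w hf hg => ?_, fun h => by rw [hk] at h; norm_num at h⟩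
    have hwa : w ∈ Subgroup.zpowers a := by by_contra h; simp [h] at hf
    have hwb : w ∈ Subgroup.zpowers b := by by_contra h; simp [h] at hg
    by_contra hw
    apply hb
    have ec : ∀ e : W, e ≠ 1 → Nat.card (Subgroup.zpowers e) = 2 := fun e he => by
      rw [Nat.card_zpowers, orderOf_eq_prime (hW e) he]
    have e1 := Subgroup.eq_of_le_of_card_ge (Subgroup.zpowers_le.mpr hwa) (by rw [ec a ha, ec w hw])
    have e2 := Subgroup.eq_of_le_of_card_ge (Subgroup.zpowers_le.mpr hwb) (by rw [ec b hb1, ec w hw])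
    rw [← e1, e2]
    exact Subgroup.mem_zpowers b

/-- The automorphism group of a 2-group of class two with central squares and few involutions. -/
theorem classTwo_solvable (hA : IsPGroup 2 A) (hsq : ∀ a : A, a ^ 2 ∈ Subgroup.center A)
    (hcom : ∀ a b : A, a⁻¹ * b * a * b⁻¹ ∈ Subgroup.center A) (hI : FewInvol A) :
    Group.IsSolvable (MulAut A) := by
  classical
  haveI : Fact (Nat.Prime 2) := ⟨Nat.prime_two⟩
  set Z := Subgroup.center A with hZdef
  letI : CommGroup ↥Z :=
    { (inferInstance : Group ↥Z) with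
      mul_comm := fun a b => Subtype.ext (Subgroup.mem_center_iff.mp b.2 a.1) }
  haveI : Z.Normal := inferInstanceAs (Subgroup.center A).Normal
  haveI : Z.Characteristic := inferInstanceAs (Subgroup.center A).Characteristic
  have hZI : FewInvol ↥Z := by
    intro a b c d ha hb hc hd a1 b1 c1 d1
    have hI' := hI a b c d (by rw [← Subgroup.coe_pow, ha, Subgroup.coe_one])
      (by rw [← Subgroup.coe_pow, hb, Subgroup.coe_one]) (by rw [← Subgroup.coe_pow, hc, Subgroup.coe_one])
      (by rw [← Subgroup.coe_pow, hd, Subgroup.coe_one]) (fun e => a1 (Subtype.ext e))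
      (fun e => b1 (Subtype.ext e)) (fun e => c1 (Subtype.ext e)) (fun e => d1 (Subtype.ext e))
    simpa only [Subtype.coe_inj] using hI'
  haveI hZs : Group.IsSolvable (MulAut ↥Z) := abelian_solvable (hA.to_subgroup Z) hZI
  let ρ := restrict (X := A) Z
  let sq : ↥Z →* ↥Z := powMonoidHom 2
  let cl : A → ↥Z ⧸ sq.range := fun x => QuotientGroup.mk ⟨x ^ 2, hsq x⟩
  let kk : A → A → ↥Z := fun x y => ⟨x⁻¹ * y * x * y⁻¹, hcom x y⟩
  have hcen : ∀ (z : ↥Z) (t : A), t * z = z * t := fun z t => Subgroup.mem_center_iff.mp z.2 t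
  have hmul : ∀ x y, cl (x * y) = cl x * cl y * QuotientGroup.mk (kk x y) := by
    intro x y
    show (QuotientGroup.mk _ : ↥Z ⧸ sq.range) =
      QuotientGroup.mk _ * QuotientGroup.mk _ * QuotientGroup.mk _
    rw [← QuotientGroup.mk_mul, ← QuotientGroup.mk_mul]
    congr 1
    apply Subtype.ext
    show (x * y) ^ 2 = x ^ 2 * y ^ 2 * (x⁻¹ * y * x * y⁻¹)
    rw [mul_assoc (x ^ 2), hcen ⟨_, hcom x y⟩ (y ^ 2)]
    simp only [pow_two]
    group
  have kr : ∀ x y z, kk x (y * z) = kk x y * kk x z := by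
    intro x y z
    apply Subtype.ext
    show x⁻¹ * (y * z) * x * (y * z)⁻¹ = (x⁻¹ * y * x * y⁻¹) * (x⁻¹ * z * x * z⁻¹)
    calc x⁻¹ * (y * z) * x * (y * z)⁻¹ = x⁻¹ * y * x * ((x⁻¹ * z * x * z⁻¹) * y⁻¹) := by group
      _ = x⁻¹ * y * x * (y⁻¹ * (x⁻¹ * z * x * z⁻¹)) := by rw [hcen ⟨_, hcom x z⟩ y⁻¹]
      _ = _ := by group
  have hker2 : ∀ z : ↥Z, cl z = 1 := fun z => (QuotientGroup.eq_one_iff _).mpr
    ⟨z, Subtype.ext (Subgroup.coe_pow _ _ _)⟩
  have hwd : ∀ x : A, ∀ z : ↥Z, cl (x * z) = cl x := by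
    intro x z
    rw [hmul, hker2, mul_one]
    have : kk x z = 1 := by
      apply Subtype.ext
      show x⁻¹ * (z : A) * x * (z : A)⁻¹ = 1
      rw [mul_assoc x⁻¹ (z : A) x, ← hcen z x, inv_mul_cancel_left, mul_inv_cancel]
    rw [this, QuotientGroup.mk_one, mul_one]
  have hW2 : ∀ w : ↥Z ⧸ sq.range, w ^ 2 = 1 := by
    intro w
    induction w using QuotientGroup.induction_on with
    | H z => rw [← QuotientGroup.mk_pow]; exact (QuotientGroup.eq_one_iff _).mpr ⟨z, rfl⟩
  have hWc : Nat.card (↥Z ⧸ sq.range) = Nat.card {z : ↥Z // z ^ 2 = 1} := by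
    have h1 := sq.range.card_mul_index
    have h2 := sq.ker.card_mul_index
    rw [Subgroup.index_ker] at h2
    have h3 : Nat.card sq.ker = Nat.card {z : ↥Z // z ^ 2 = 1} := Nat.card_congr (Equiv.refl _)
    show sq.range.index = _
    rw [← h3]
    have hpos : 0 < Nat.card sq.range := Nat.card_pos
    nlinarith [h1, h2]
  obtain ⟨f, g, hf, hg, hdet, hsmall⟩ := exists_coords hW2 (hWc ▸ hZI.card_le)
  -- no zero outside the centre
  have hzero : ∀ x : A, cl x = 1 → x ∉ Z → ∃ u : A, u ^ 2 = 1 ∧ u ∉ Z ∧ ∃ z : ↥Z, x = u * z := by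
    intro x hx hxZ
    obtain ⟨w, hw⟩ := (QuotientGroup.eq_one_iff _).mp hx
    have hw' : (w : A) ^ 2 = x ^ 2 := congrArg Subtype.val hw
    refine ⟨x * (w : A)⁻¹, ?_, fun h => hxZ ?_, w, by simp⟩
    · have hc : Commute x (w : A)⁻¹ := (Commute.inv_right (hcen w x : Commute x (w : A)))
      rw [hc.mul_pow, inv_pow, hw', mul_inv_cancel]
    · rw [show x = x * (w : A)⁻¹ * (w : A) by simp]
      exact mul_mem h w.2
  -- the representative statement of the alternative
  have hcase : (∀ x : A, x ∉ Z → cl x ≠ 1) ∨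
      (Nat.card (↥Z ⧸ sq.range) ≤ 2 ∧
        ∀ x y : A, x ∉ Z → y ∉ Z → cl x = 1 → cl y = 1 → x⁻¹ * y ∈ Z) := by
    by_cases hno : ∀ x : A, x ∉ Z → cl x ≠ 1
    · exact Or.inl hno
    refine Or.inr ?_
    push Not at hno
    obtain ⟨x₀, hx₀, hcx₀⟩ := hno
    obtain ⟨z₀, hz₀, hz₀1⟩ : ∃ z : ↥Z, z ^ 2 = 1 ∧ z ≠ 1 := by
      have hne : Z ≠ ⊥ := by
        intro hb
        haveI : Nontrivial A := ⟨⟨x₀, 1, fun e => hx₀ (e ▸ one_mem Z)⟩⟩
        haveI := hA.center_nontrivial
        exact (Subgroup.nontrivial_iff_ne_bot _).mp (inferInstanceAs (Nontrivial (Subgroup.center A))) hb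
      haveI := (Subgroup.nontrivial_iff_ne_bot _).mpr hne
      obtain ⟨j, hj0, hj⟩ := (hA.to_subgroup Z).nontrivial_iff_card.mp inferInstance
      obtain ⟨z, hz⟩ := exists_prime_orderOf_dvd_card' (G := ↥Z) 2 (hj ▸ dvd_pow_self 2 (by omega))
      exact ⟨z, orderOf_dvd_iff_pow_eq_one.mp (dvd_of_eq hz), fun e => by
        rw [e, orderOf_one] at hz; omega⟩
    have hz₀' : (z₀ : A) ^ 2 = 1 := by rw [← Subgroup.coe_pow, hz₀, Subgroup.coe_one]
    have hz₀1' : (z₀ : A) ≠ 1 := fun e => hz₀1 (Subtype.ext e)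
    have huz : ∀ u : A, u ∉ Z → u ^ 2 = 1 → ((u * z₀) ^ 2 = 1 ∧ u * z₀ ∉ Z ∧ u ≠ u * z₀) := by
      intro u hu hu2
      refine ⟨by rw [(show Commute u (z₀ : A) from hcen z₀ u).mul_pow, hu2, hz₀', one_mul], fun h => hu ?_,
        fun e => hz₀1' (left_eq_mul.mp e)⟩
      rw [show u = u * z₀ * (z₀ : A)⁻¹ by simp]
      exact mul_mem h (inv_mem z₀.2)
    have ne1 : ∀ u : A, u ∉ Z → u ≠ 1 := fun u hu e => hu (e ▸ one_mem Z)
    have nez : ∀ u : A, u ∉ Z → u ≠ (z₀ : A) := fun u hu e => hu (e ▸ z₀.2)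
    obtain ⟨u, u2, huZ, zu, rfl⟩ := hzero x₀ hcx₀ hx₀
    obtain ⟨v2, vZ, huv⟩ := huz u huZ u2
    refine ⟨?_, ?_⟩
    · by_contra h3
      rw [hWc] at h3
      obtain ⟨z₁, hz₁, hz₁1, hz₁₀⟩ : ∃ z : ↥Z, z ^ 2 = 1 ∧ z ≠ 1 ∧ z ≠ z₀ := by
        by_contra hcon
        push Not at hcon
        apply h3
        have hinj : Function.Injective (fun z : {z : ↥Z // z ^ 2 = 1} => decide (z.1 = 1)) := by
          intro a b hab
          simp only [decide_eq_decide] at hab
          apply Subtype.ext
          by_cases ha : a.1 = 1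
          · rw [ha, hab.mp ha]
          · rw [hcon a.1 a.2 ha, hcon b.1 b.2 (fun e => ha (hab.mpr e))]
        simpa using Nat.card_le_card_of_injective _ hinj
      have hz₁' : (z₁ : A) ^ 2 = 1 := by rw [← Subgroup.coe_pow, hz₁, Subgroup.coe_one]
      rcases hI u (u * z₀) (z₀ : A) (z₁ : A) u2 v2 hz₀' hz₁' (ne1 u huZ) (ne1 _ vZ) hz₀1'
        (fun e => hz₁1 (Subtype.ext e)) with e | e | e | e | e | e
      · exact huv e
      · exact nez u huZ e
      · exact huZ (e ▸ z₁.2)
      · exact nez _ vZ e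
      · exact vZ (e ▸ z₁.2)
      · exact hz₁₀ (Subtype.ext e).symm
    · have key : ∀ x : A, x ∉ Z → cl x = 1 → u⁻¹ * x ∈ Z := by
        intro x hx hcx
        obtain ⟨u', u'2, hu'Z, zu', rfl⟩ := hzero x hcx hx
        rcases hI u (u * z₀) (z₀ : A) u' u2 v2 hz₀' u'2 (ne1 u huZ) (ne1 _ vZ) hz₀1' (ne1 u' hu'Z)
          with e | e | e | e | e | e
        · exact absurd e huv
        · exact absurd e (nez u huZ)
        · rw [← e, inv_mul_cancel_left]; exact zu'.2
        · exact absurd e (nez _ vZ)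
        · rw [← e, mul_assoc u, inv_mul_cancel_left]; exact mul_mem z₀.2 zu'.2
        · exact absurd e.symm (nez u' hu'Z)
      intro x y hx hy hcx hcy
      rw [show x⁻¹ * y = (u⁻¹ * x)⁻¹ * (u⁻¹ * y) by group]
      exact mul_mem (inv_mem (key x hx hcx)) (key y hy hcy)
  -- the action on the quotient by the centre
  let V := Additive (A ⧸ Z)
  letI : CommGroup (A ⧸ Z) :=
    { (inferInstance : Group (A ⧸ Z)) with
      mul_comm := fun a b => by
        induction a using QuotientGroup.induction_on with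
        | H x => induction b using QuotientGroup.induction_on with
          | H y =>
            show (QuotientGroup.mk (x * y) : A ⧸ Z) = QuotientGroup.mk (y * x)
            apply QuotientGroup.eq.mpr
            rw [show (x * y)⁻¹ * (y * x) = y⁻¹ * (x⁻¹ * y * x * y⁻¹) * y by group]
            exact Subgroup.Normal.conj_mem' (inferInstance : Z.Normal) _ (hcom x y) y }
  let π : A → V := fun x => Additive.ofMul (QuotientGroup.mk x)
  have hπs : Function.Surjective π := fun v => by
    obtain ⟨x, hx⟩ := QuotientGroup.mk_surjective (Additive.toMul v)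
    exact ⟨x, congrArg Additive.ofMul hx⟩
  have hπ0 : ∀ x, π x = 0 ↔ x ∈ Z := fun x => QuotientGroup.eq_one_iff x
  have hπm : ∀ x y, π (x * y) = π x + π y := fun x y => rfl
  have hψ : ∀ (φ : ρ.ker) (a : A), (φ : MulAut A) a ∈ Z ↔ a ∈ Z := by
    intro φ a
    constructor
    · intro h
      have := (Subgroup.characteristic_iff_le_comap.mp (inferInstance : Z.Characteristic)
        (φ : MulAut A).symm) h
      simpa using this
    · exact fun h => (Subgroup.characteristic_iff_le_comap.mp (inferInstance : Z.Characteristic)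
        (φ : MulAut A)) h
  have hfix : ∀ (φ : ρ.ker) (z : ↥Z), (φ : MulAut A) z = z := fun φ z =>
    congrArg Subtype.val (MulEquiv.congr_fun (MonoidHom.mem_ker.mp φ.2) z)
  let θ : ρ.ker →* MulAut (A ⧸ Z) :=
    { toFun := fun φ => QuotientGroup.congr Z Z (φ : MulAut A) (by
        ext a
        constructor
        · rintro ⟨b, hb, rfl⟩; exact (hψ φ b).mpr hb
        · intro ha
          refine ⟨(φ : MulAut A).symm a, (hψ φ _).mp ?_, (φ : MulAut A).apply_symm_apply a⟩
          rw [(φ : MulAut A).apply_symm_apply]; exact ha)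
      map_one' := by
        apply MulEquiv.ext; intro v
        induction v using QuotientGroup.induction_on with | H a => rfl
      map_mul' := fun φ φ' => by
        apply MulEquiv.ext; intro v
        induction v using QuotientGroup.induction_on with | H a => rfl }
  haveI hks : Group.IsSolvable θ.ker := by
    refine isSolvable_of_two_group (isPGroup_of_odd_trivial fun φ hφ => ?_)
    rw [← Subgroup.orderOf_coe, ← Subgroup.orderOf_coe] at hφ
    refine Subtype.ext (Subtype.ext (MulEquiv.ext fun x => ?_))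
    have hc : x⁻¹ * ((φ : ρ.ker) : MulAut A) x ∈ Z := by
      have h1 := MulEquiv.congr_fun (MonoidHom.mem_ker.mp φ.2) (QuotientGroup.mk x)
      exact QuotientGroup.eq.mp h1.symm
    set c : ↥Z := ⟨_, hc⟩
    have hn : ∀ n : ℕ, (((φ : ρ.ker) : MulAut A) ^ n) x = x * (c : A) ^ n := by
      intro n
      induction n with
      | zero => simp
      | succ n ih =>
        rw [pow_succ', MulAut.mul_apply, ih, map_mul, map_pow, hfix _ c, pow_succ', ← mul_assoc x]
        simp [c]
    have h1 := hn (orderOf ((φ : ρ.ker) : MulAut A))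
    rw [pow_orderOf_eq_one, MulAut.one_apply, left_eq_mul] at h1
    have hc1 := eq_one_of_odd hA hφ h1
    exact (inv_mul_eq_one.mp hc1).symm
  let Γ := θ.range
  letI act : DistribMulAction Γ V :=
    { smul := fun φ v => Additive.ofMul ((φ : MulAut (A ⧸ Z)) (Additive.toMul v))
      one_smul := fun v => rfl
      mul_smul := fun φ φ' v => rfl
      smul_zero := fun φ => congrArg Additive.ofMul (map_one (φ : MulAut (A ⧸ Z)))
      smul_add := fun φ v w => congrArg Additive.ofMul (map_mul (φ : MulAut (A ⧸ Z)) _ _) }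
  haveI : FaithfulSMul Γ V := ⟨fun {φ φ'} h => Subtype.ext (MulEquiv.ext fun v => h (Additive.ofMul v))⟩
  let cq : V → ↥Z ⧸ sq.range := fun v => Quotient.liftOn' (Additive.toMul v) cl (fun a b hab => by
    have h1 := QuotientGroup.leftRel_apply.mp hab
    rw [show b = a * ((⟨_, h1⟩ : ↥Z) : A) by simp, hwd])
  have hcq : ∀ x, cq (π x) = cl x := fun x => rfl
  have hinv : ∀ (φ : Γ) (v : V), cq (φ • v) = cq v := by
    rintro ⟨_, φ, rfl⟩ v
    obtain ⟨x, rfl⟩ := hπs v
    show cl ((φ : MulAut A) x) = cl x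
    have : (φ : MulAut A) x ^ 2 = x ^ 2 := by
      rw [← map_pow]; exact hfix φ ⟨_, hsq x⟩
    exact congrArg QuotientGroup.mk (Subtype.ext this)
  have hquad : ∀ {F : (↥Z ⧸ sq.range) → ZMod 2}, (∀ x y, F (x * y) = F x + F y) →
      AnisoPair.IsQuad (fun v => F (cq v)) := by
    intro F hF a b c
    obtain ⟨x, rfl⟩ := hπs a
    obtain ⟨y, rfl⟩ := hπs b
    obtain ⟨z, rfl⟩ := hπs c
    show F (cq _) + F (cq _) + F (cq _) + F (cq _) + F (cq _) + F (cq _) + F (cq _) = 0
    rw [show π x + π y + π z = π (x * (y * z)) by rw [hπm, hπm, add_assoc]]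
    rw [← hπm x y, ← hπm x z, ← hπm y z]
    simp only [hcq, hmul, kr, QuotientGroup.mk_mul, hF]
    exact seven_terms _ _ _ _ _ _
  have d : AnisoPair.Data Γ (fun v => f (cq v)) (fun v => g (cq v)) :=
    { two := fun v => by
        obtain ⟨x, rfl⟩ := hπs v
        rw [← hπm, hπ0, ← pow_two]
        exact hsq x
      quad₁ := hquad hf
      quad₂ := hquad hg
      inv₁ := fun φ v => by rw [hinv φ v]
      inv₂ := fun φ v => by rw [hinv φ v]
      aniso := by
        have h01 := AnisoPair.eq_zero_of_ne_one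
        rcases hcase with hno | ⟨hW, huniq⟩
        · refine Or.inl fun v hv => ?_
          obtain ⟨x, rfl⟩ := hπs v
          by_contra hc
          push Not at hc
          exact hno x (fun e => hv ((hπ0 x).mpr e)) (hdet _ (h01 _ hc.1) (h01 _ hc.2))
        · refine Or.inr ⟨fun v => hsmall hW _, fun v w hv hw h1 h2 => ?_⟩
          obtain ⟨x, rfl⟩ := hπs v
          obtain ⟨y, rfl⟩ := hπs w
          exact congrArg Additive.ofMul (QuotientGroup.eq.mpr (huniq x y
            (fun e => hv ((hπ0 x).mpr e)) (fun e => hw ((hπ0 y).mpr e))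
            (hdet _ h1 (hsmall hW _)) (hdet _ h2 (hsmall hW _)))) }
  haveI : Group.IsSolvable Γ := d.solvable
  haveI hρs : Group.IsSolvable ρ.ker :=
    Group.isSolvable_of_ker_le_range θ.ker.subtype θ.rangeRestrict
      (by rw [Subgroup.range_subtype, MonoidHom.ker_rangeRestrict])
  exact Group.isSolvable_of_ker_le_range ρ.ker.subtype ρ (by rw [Subgroup.range_subtype])

/-- The automorphism group of a 2-group with at most three involutions is solvable. -/
theorem mulAut_solvable {X : Type*} [Group X] [Finite X] (hX : IsPGroup 2 X) (hI : FewInvol X) :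
    Group.IsSolvable (MulAut X) := by
  haveI : Fact (Nat.Prime 2) := ⟨Nat.prime_two⟩
  obtain ⟨C, hCc, hcom, hsq, hcent⟩ := ConjFunctor.exists_critical (p := 2) hX
  haveI := hCc
  have toCenter : ∀ (a : C), (a : X) ∈ C ⊓ Subgroup.centralizer (C : Set X) → a ∈ Subgroup.center ↥C :=
    fun a ha => Subgroup.mem_center_iff.mpr fun b =>
      Subtype.ext (Subgroup.mem_centralizer_iff.mp ha.2 b b.2)
  have hI' : FewInvol ↥C := by
    intro a b c d ha hb hc hd a1 b1 c1 d1
    have h' := hI a b c d (by rw [← Subgroup.coe_pow, ha, Subgroup.coe_one])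
      (by rw [← Subgroup.coe_pow, hb, Subgroup.coe_one]) (by rw [← Subgroup.coe_pow, hc, Subgroup.coe_one])
      (by rw [← Subgroup.coe_pow, hd, Subgroup.coe_one]) (fun e => a1 (Subtype.ext e))
      (fun e => b1 (Subtype.ext e)) (fun e => c1 (Subtype.ext e)) (fun e => d1 (Subtype.ext e))
    simpa only [Subtype.coe_inj] using h'
  haveI hCs : Group.IsSolvable (MulAut ↥C) := by
    refine classTwo_solvable (hX.to_subgroup C) (fun a => toCenter _ (hsq a a.2)) (fun a b => ?_) hI'
    apply toCenter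
    have h1 : ⁅((a : X))⁻¹, (b : X)⁆ ∈ ⁅(⊤ : Subgroup X), C⁆ :=
      Subgroup.commutator_mem_commutator (Subgroup.mem_top _) b.2
    have h2 := hcom h1
    rw [commutatorElement_def, inv_inv] at h2
    exact h2
  haveI : Group.IsSolvable (restrict (X := X) C).ker := by
    refine isSolvable_of_two_group (isPGroup_of_odd_trivial fun φ hφ => ?_)
    rw [← Subgroup.orderOf_coe] at hφ
    exact Subtype.ext (ConjFunctor.eq_one_of_fix_critical (p := 2) hX inferInstance hcent _
      (Nat.coprime_two_right.mpr hφ)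
      (fun a ha => congrArg Subtype.val (MulEquiv.congr_fun (MonoidHom.mem_ker.mp φ.2) (⟨a, ha⟩ : C))))
  exact Group.isSolvable_of_ker_le_range (restrict (X := X) C).ker.subtype (restrict (X := X) C)
    (by rw [Subgroup.range_subtype])

end Cfsg.Agent.InvChar.ThreeAut
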