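import Cfsg.Agent.Lib.Basics.Frattini
import Cfsg.Agent.Lib.Invol.Basic
import Mathlib

/-!
# 2-groups of order at least `2^14` with `|Z₄| = 16` and a small Frattini subgroup of `C(Z₃)`
-/

set_option autoImplicit false
set_option linter.style.haveILetI false
set_option linter.unusedSectionVars false

namespace Cfsg.Agent.InvChar.TwoFourteen

open Cfsg Cfsg.Agent

variable {T : Type*} [Group T] [Finite T]

/-- An index two subgroup avoiding a given element. -/
theorem exists_avoid_two {W N : Subgroup T} (hNW : N ≤ W) (hsq : ∀ a ∈ W, a * a ∈ N)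
    (hcm : ∀ a ∈ W, ∀ b ∈ W, a * b * a⁻¹ * b⁻¹ ∈ N) {v : T} (hv : v ∈ W) (hvN : v ∉ N) :
    ∃ H : Subgroup T, N ≤ H ∧ H ≤ W ∧ v ∉ H ∧ (∀ a ∈ W, ∀ b ∈ W, a * b ∈ H ↔ (a ∈ H ↔ b ∈ H)) ∧
      Nat.card W = 2 * Nat.card H := by
  classical
  obtain ⟨H, ⟨hNH, hHW, hvH⟩, hmax⟩ := (Set.toFinite {H : Subgroup T | N ≤ H ∧ H ≤ W ∧ v ∉ H}).exists_maximal
    ⟨N, le_rfl, hNW, hvN⟩
  have hnorm : ∀ a ∈ W, ∀ h ∈ H, a * h * a⁻¹ ∈ H := fun a ha h hh => by
    have : a * h * a⁻¹ = a * h * a⁻¹ * h⁻¹ * h := by group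
    rw [this]; exact H.mul_mem (hNH (hcm a ha h (hHW hh))) hh
  -- adjoining an element puts `v` in
  have hkey : ∀ a ∈ W, a ∉ H → a⁻¹ * v ∈ H := by
    intro a ha haH
    let H' : Subgroup T :=
      { carrier := {x | x ∈ H ∨ (x ∈ W ∧ a⁻¹ * x ∈ H)}
        one_mem' := Or.inl H.one_mem
        inv_mem' := by
          rintro x (hx | ⟨hxW, hx⟩)
          · exact Or.inl (H.inv_mem hx)
          · refine Or.inr ⟨W.inv_mem hxW, ?_⟩
            have : a⁻¹ * x⁻¹ = a⁻¹ * (a⁻¹ * x)⁻¹ * a * (a * a)⁻¹ := by group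
            rw [this]
            refine H.mul_mem ?_ (H.inv_mem (hNH (hsq a ha)))
            have := hnorm a⁻¹ (W.inv_mem ha) _ (H.inv_mem hx)
            rwa [inv_inv] at this
        mul_mem' := by
          rintro x y (hx | ⟨hxW, hx⟩) (hy | ⟨hyW, hy⟩)
          · exact Or.inl (H.mul_mem hx hy)
          · refine Or.inr ⟨W.mul_mem (hHW hx) hyW, ?_⟩
            have : a⁻¹ * (x * y) = (a⁻¹ * x * a⁻¹⁻¹) * (a⁻¹ * y) := by group
            rw [this]
            exact H.mul_mem (hnorm _ (W.inv_mem ha) _ hx) hy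
          · refine Or.inr ⟨W.mul_mem hxW (hHW hy), ?_⟩
            rw [← mul_assoc]; exact H.mul_mem hx hy
          · refine Or.inl ?_
            have : x * y = (a * (a⁻¹ * x) * a⁻¹) * (a * a) * (a⁻¹ * y) := by group
            rw [this]
            exact H.mul_mem (H.mul_mem (hnorm a ha _ hx) (hNH (hsq a ha))) hy }
    by_contra h
    have hle : H ≤ H' := fun x hx => Or.inl hx
    have hW' : H' ≤ W := fun x hx => hx.elim (fun h => hHW h) And.left
    have hv' : v ∉ H' := fun hx => hx.elim hvH fun h' => h h'.2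
    have := hmax ⟨hNH.trans hle, hW', hv'⟩ hle
    exact haH (this (Or.inr ⟨ha, by rw [inv_mul_cancel]; exact H.one_mem⟩))
  have hiff : ∀ a ∈ W, ∀ b ∈ W, a * b ∈ H ↔ (a ∈ H ↔ b ∈ H) := by
    intro a ha b hb
    by_cases haH : a ∈ H
    · simp only [haH, true_iff]
      exact H.mul_mem_cancel_left haH
    · simp only [haH, false_iff]
      constructor
      · intro h hbH
        exact haH ((H.mul_mem_cancel_right hbH).mp h)
      · intro hbH
        have h1 := hkey a ha haH
        have h2 := hkey b hb hbH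
        have : a * b = (a * a) * ((a⁻¹ * v) * (b⁻¹ * v)⁻¹) := by group
        rw [this]
        exact H.mul_mem (hNH (hsq a ha)) (H.mul_mem h1 (H.inv_mem h2))
  refine ⟨H, hNH, hHW, hvH, hiff, ?_⟩
  let e : H × Bool ≃ W := Equiv.ofBijective
    (fun p => ⟨(p.1 : T) * (if p.2 then v else 1), W.mul_mem (hHW p.1.2) (by split_ifs; exacts [hv, W.one_mem])⟩)
    ⟨by
      rintro ⟨⟨x, hx⟩, i⟩ ⟨⟨y, hy⟩, j⟩ e
      have e' := congrArg Subtype.val e
      cases i <;> cases j <;> simp only [Bool.false_eq_true, if_false, if_true, mul_one] at e'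
      · subst e'; rfl
      · exact absurd ((H.mul_mem_cancel_left hy).mp (e' ▸ hx)) hvH
      · exact absurd ((H.mul_mem_cancel_left hx).mp (e'.symm ▸ hy)) hvH
      · obtain rfl := mul_right_cancel e'; rfl,
    by
      rintro ⟨w, hw⟩
      by_cases h : w ∈ H
      · exact ⟨(⟨w, h⟩, false), Subtype.ext (mul_one w)⟩
      · refine ⟨(⟨w * v⁻¹, ?_⟩, true), Subtype.ext (inv_mul_cancel_right w v)⟩
        exact (hiff w hw _ (W.inv_mem hv)).mpr (iff_of_false h fun h' => hvH (by simpa using H.inv_mem h'))⟩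
  rw [← Nat.card_congr e, Nat.card_prod, Nat.card_eq_fintype_card (α := Bool), Fintype.card_bool, mul_comm]

/-- A subgroup avoiding the socle of an extraspecial-like group. -/
theorem exists_avoid {z : T} (hz1 : z ≠ 1) (hzz : z * z = 1)
    (hsq : ∀ a : T, a * a = 1 ∨ a * a = z) (hcm : ∀ a b : T, a * b * a⁻¹ * b⁻¹ = 1 ∨ a * b * a⁻¹ * b⁻¹ = z) :
    ∃ E : Subgroup T, z ∉ E ∧ Nat.card T * Nat.card (Subgroup.center T) ≤ 16 * (Nat.card E * Nat.card E) := by
  classical
  have hP : IsPGroup 2 T := fun a => ⟨2, by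
    rw [show 2 ^ 2 = 2 + 2 by norm_num, pow_add, pow_two]
    rcases hsq a with h | h <;> rw [h]
    · exact one_mul 1
    · exact hzz⟩
  have hzc : z ∈ Subgroup.center T := Subgroup.mem_center_iff.mpr fun g => by
    rcases hcm g z with h | h
    · exact mul_inv_eq_iff_eq_mul.mp (mul_inv_eq_one.mp h)
    · exfalso
      have h' : g * z * g⁻¹ = 1 := by rw [mul_inv_eq_iff_eq_mul] at h; rw [h, hzz]
      exact hz1 (conj_eq_one_iff.mp h')
  let Z2 : Subgroup T := Subgroup.zpowers z
  have hZ2 : Nat.card Z2 = 2 := by rw [Nat.card_zpowers, Invol.orderOf_two_of_mul_self hzz hz1]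
  obtain ⟨A, ⟨hcA, hAc, hbd⟩, hmax⟩ := (Set.toFinite {A : Subgroup T | Subgroup.center T ≤ A ∧
      A ≤ Subgroup.centralizer (A : Set T) ∧
      Nat.card T * Nat.card (Subgroup.center T) ≤ Nat.card (Subgroup.centralizer (A : Set T)) * Nat.card A}).exists_maximal
    ⟨Subgroup.center T, le_rfl, fun a ha => Subgroup.mem_centralizer_iff.mpr fun b hb =>
      Subgroup.mem_center_iff.mp ha b, by
      have : Subgroup.centralizer ((Subgroup.center T : Subgroup T) : Set T) = ⊤ := eq_top_iff.mpr fun g _ =>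
        Subgroup.mem_centralizer_iff.mpr fun b hb => (Subgroup.mem_center_iff.mp hb g).symm
      rw [this, Subgroup.card_top]⟩
  have hCA : Subgroup.centralizer (A : Set T) = A := by
    refine le_antisymm (fun u hu => ?_) hAc
    by_contra huA
    set C := Subgroup.centralizer (A : Set T) with hC
    let A' := A ⊔ Subgroup.zpowers u
    have hlt : A < A' := lt_of_le_of_ne le_sup_left fun e => huA (e ▸ Subgroup.mem_sup_right (Subgroup.mem_zpowers u))
    have hcard : 2 * Nat.card A ≤ Nat.card A' := by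
      have hd := Subgroup.card_dvd_of_le hlt.le
      obtain ⟨k, hk⟩ := hd
      have hne : Nat.card A ≠ Nat.card A' := fun e => hlt.ne (Subgroup.eq_of_le_of_card_ge hlt.le e.ge)
      have hpos := Nat.card_pos (α := A)
      have hpos' := Nat.card_pos (α := A')
      rw [hk] at hne hpos' ⊢
      rcases k with _ | _ | k
      · simp at hpos'
      · simp at hne
      · nlinarith
    let f : C →* Z2 := MonoidHom.mk' (fun c => ⟨(c : T) * u * (c : T)⁻¹ * u⁻¹, by
        rcases hcm c u with h | h <;> rw [h]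
        · exact Z2.one_mem
        · exact Subgroup.mem_zpowers z⟩) fun a b => Subtype.ext (by
        show ((a : T) * b) * u * ((a : T) * b)⁻¹ * u⁻¹ = ((a : T) * u * (a : T)⁻¹ * u⁻¹) * ((b : T) * u * (b : T)⁻¹ * u⁻¹)
        have hq : ∀ g : T, g * ((b : T) * u * (b : T)⁻¹ * u⁻¹) = ((b : T) * u * (b : T)⁻¹ * u⁻¹) * g := by
          intro g
          rcases hcm b u with h | h <;> rw [h]
          · rw [one_mul, mul_one]
          · exact Subgroup.mem_center_iff.mp hzc g
        calc _ = (a : T) * ((b : T) * u * (b : T)⁻¹ * u⁻¹) * (u * (a : T)⁻¹ * u⁻¹) := by group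
          _ = ((b : T) * u * (b : T)⁻¹ * u⁻¹) * ((a : T) * u * (a : T)⁻¹ * u⁻¹) := by rw [hq]; group
          _ = _ := (hq _).symm)
    let K := f.ker.map C.subtype
    have hKle : K ≤ Subgroup.centralizer (A' : Set T) := by
      rintro _ ⟨c, hc, rfl⟩
      rw [Subgroup.mem_centralizer_iff]
      have hle : A' ≤ Subgroup.centralizer ({(c : T)} : Set T) := by
        refine sup_le (fun a ha => Subgroup.mem_centralizer_singleton_iff.mpr
          (Subgroup.mem_centralizer_iff.mp c.2 a ha)) (Subgroup.zpowers_le.mpr (Subgroup.mem_centralizer_singleton_iff.mpr ?_))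
        have h : (c : T) * u * (c : T)⁻¹ * u⁻¹ = 1 := congrArg Subtype.val (MonoidHom.mem_ker.mp hc)
        exact (mul_inv_eq_iff_eq_mul.mp (mul_inv_eq_one.mp h)).symm
      intro a ha
      exact Subgroup.mem_centralizer_singleton_iff.mp (hle ha)
    have hA'c : A' ≤ Subgroup.centralizer (A' : Set T) := by
      refine sup_le (fun a ha => Subgroup.mem_centralizer_iff.mpr fun b hb => ?_)
        (Subgroup.zpowers_le.mpr (Subgroup.mem_centralizer_iff.mpr fun b hb => ?_))
      · have hle : A' ≤ Subgroup.centralizer ({a} : Set T) := sup_le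
          (fun x hx => Subgroup.mem_centralizer_singleton_iff.mpr (Subgroup.mem_centralizer_iff.mp (hAc ha) x hx))
          (Subgroup.zpowers_le.mpr (Subgroup.mem_centralizer_singleton_iff.mpr (Subgroup.mem_centralizer_iff.mp hu a ha).symm))
        exact Subgroup.mem_centralizer_singleton_iff.mp (hle hb)
      · have hle : A' ≤ Subgroup.centralizer ({u} : Set T) := sup_le
          (fun x hx => Subgroup.mem_centralizer_singleton_iff.mpr (Subgroup.mem_centralizer_iff.mp hu x hx))
          (Subgroup.zpowers_le.mpr (Subgroup.mem_centralizer_singleton_iff.mpr rfl))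
        exact Subgroup.mem_centralizer_singleton_iff.mp (hle hb)
    have hK2 : Nat.card C ≤ 2 * Nat.card K := by
      have h1 := Subgroup.card_mul_index f.ker
      have h2 : f.ker.index ≤ 2 := by
        rw [Subgroup.index_ker]; exact (Subgroup.card_le_card_group _).trans hZ2.le
      rw [Subgroup.card_map_of_injective C.subtype_injective]
      nlinarith
    have hCA' := Subgroup.card_le_of_le hKle
    have hbd' : Nat.card T * Nat.card (Subgroup.center T) ≤
        Nat.card (Subgroup.centralizer (A' : Set T)) * Nat.card A' := by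
      refine hbd.trans ?_
      calc Nat.card C * Nat.card A ≤ (2 * Nat.card K) * Nat.card A := Nat.mul_le_mul_right _ hK2
        _ = Nat.card K * (2 * Nat.card A) := by ring
        _ ≤ _ := Nat.mul_le_mul hCA' hcard
    exact hlt.not_ge (hmax ⟨hcA.trans hlt.le, hA'c, hbd'⟩ hlt.le)
  have hcomm : ∀ a ∈ A, ∀ b ∈ A, a * b = b * a := fun a ha b hb => (Subgroup.mem_centralizer_iff.mp (hAc ha) b hb).symm
  let s : A →* Z2 := MonoidHom.mk' (fun a => ⟨(a : T) * a, by
      rcases hsq a with h | h <;> rw [h]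
      · exact Z2.one_mem
      · exact Subgroup.mem_zpowers z⟩) fun a b => Subtype.ext (by
      show (a : T) * b * ((a : T) * b) = (a : T) * a * ((b : T) * b)
      exact (show Commute (b : T) a from hcomm b b.2 a a.2).mul_mul_mul_comm _ _)
  let O := s.ker.map A.subtype
  have hO2 : Nat.card A ≤ 2 * Nat.card O := by
    have h1 := Subgroup.card_mul_index s.ker
    have h2 : s.ker.index ≤ 2 := by
      rw [Subgroup.index_ker]; exact (Subgroup.card_le_card_group _).trans hZ2.le
    rw [Subgroup.card_map_of_injective A.subtype_injective]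
    nlinarith
  have hzO : z ∈ O := ⟨⟨z, hcA hzc⟩, MonoidHom.mem_ker.mpr (Subtype.ext hzz), rfl⟩
  obtain ⟨E, -, hEO, hzE, -, hEc⟩ := exists_avoid_two (W := O) (N := ⊥) bot_le
    (by rintro _ ⟨a, ha, rfl⟩; exact Subgroup.mem_bot.mpr (congrArg Subtype.val (MonoidHom.mem_ker.mp ha)))
    (by
      rintro _ ⟨a, -, rfl⟩ _ ⟨b, -, rfl⟩
      rw [Subgroup.mem_bot]
      show (a : T) * b * (a : T)⁻¹ * (b : T)⁻¹ = 1
      rw [hcomm a a.2 b b.2]; group)
    hzO (by rw [Subgroup.mem_bot]; exact hz1)
  refine ⟨E, hzE, ?_⟩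
  rw [hCA] at hbd
  refine hbd.trans ?_
  have : Nat.card A ≤ 4 * Nat.card E := by omega
  nlinarith

/-- A nontrivial element fixed modulo a normal subgroup. -/
theorem exists_fixed (hT : IsPGroup 2 T) {N K : Subgroup T} [N.Normal] [K.Normal] (hNK : N < K) :
    ∃ u ∈ K, u ∉ N ∧ ∀ t : T, t * u * t⁻¹ * u⁻¹ ∈ N := by
  classical
  let π := QuotientGroup.mk' N
  let Kb := K.map π
  haveI : Kb.Normal := Subgroup.Normal.map inferInstance _ (QuotientGroup.mk'_surjective N)
  haveI : Fact (Nat.Prime 2) := ⟨Nat.prime_two⟩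
  have hne : Kb ≠ ⊥ := fun e => hNK.not_ge (by
    have h := (Subgroup.map_eq_bot_iff K).mp e
    rwa [QuotientGroup.ker_mk'] at h)
  let act : T →* MulAut Kb := MulAut.conjNormal.comp π
  letI : MulAction T Kb := MulAction.compHom Kb act
  have hdvd : 2 ∣ Nat.card Kb := by
    obtain ⟨n, hn⟩ := IsPGroup.iff_card.mp ((hT.to_quotient N).to_subgroup Kb)
    rcases n with _ | n
    · exact absurd ((Subgroup.card_eq_one).mp (hn.trans (pow_zero 2))) hne
    · rw [hn]; exact dvd_pow_self 2 (Nat.succ_ne_zero n)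
  obtain ⟨⟨_, u, hu, rfl⟩, hfix, hne1⟩ := hT.exists_fixed_point_of_prime_dvd_card_of_fixed_point Kb hdvd
    (a := (1 : Kb)) (fun t => map_one (act t))
  refine ⟨u, hu, fun h => hne1 (Subtype.ext ((QuotientGroup.eq_one_iff u).mpr h).symm), fun t => ?_⟩
  have h := congrArg Subtype.val (hfix t)
  rw [← QuotientGroup.eq_one_iff]
  show π (t * u * t⁻¹ * u⁻¹) = 1
  rw [map_mul, map_mul, map_mul, map_inv, map_inv]
  exact mul_inv_eq_one.mpr h

theorem step_iff (n : ℕ) (x : T) :
    x ∈ Subgroup.upperCentralSeries T (n + 1) ↔ ∀ t : T, t * x * t⁻¹ * x⁻¹ ∈ Subgroup.upperCentralSeries T n := by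
  rw [Subgroup.mem_upperCentralSeries_succ_iff]
  constructor
  · intro h t
    have h' := (Subgroup.upperCentralSeries T n).inv_mem (h t)
    simpa [commutatorElement_def, mul_assoc] using h'
  · intro h t
    have h' := (Subgroup.upperCentralSeries T n).inv_mem (h t)
    simpa [commutatorElement_def, mul_assoc] using h'

theorem ucs_mono (n : ℕ) : Subgroup.upperCentralSeries T n ≤ Subgroup.upperCentralSeries T (n + 1) :=
  fun x hx => (step_iff n x).mpr fun t =>
    Subgroup.mul_mem _ ((inferInstance : (Subgroup.upperCentralSeries T n).Normal).conj_mem x hx t)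
      (Subgroup.inv_mem _ hx)

theorem normal_le_ucs (hT : IsPGroup 2 T) {N : Subgroup T} [N.Normal] (k : ℕ) (hN : Nat.card N ≤ 2 ^ k) :
    N ≤ Subgroup.upperCentralSeries T k := by
  have key : ∀ j, N ≤ Subgroup.upperCentralSeries T j ∨
      2 ^ j ≤ Nat.card ↥(N ⊓ Subgroup.upperCentralSeries T j) := by
    intro j
    induction j with
    | zero => right; simp [Nat.one_le_iff_ne_zero, Nat.card_pos.ne']
    | succ j ih =>
      rcases ih with h | h
      · exact Or.inl (h.trans (ucs_mono j))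
      · by_cases hle : N ≤ Subgroup.upperCentralSeries T (j + 1)
        · exact Or.inl hle
        right
        haveI : (N ⊓ Subgroup.upperCentralSeries T j).Normal := Subgroup.normal_inf_normal _ _
        obtain ⟨u, huN, hu, hut⟩ := exists_fixed hT (N := N ⊓ Subgroup.upperCentralSeries T j) (K := N)
          (lt_of_le_of_ne inf_le_left fun e => hle ((e.ge.trans inf_le_right).trans (ucs_mono j)))
        have hu' : u ∈ N ⊓ Subgroup.upperCentralSeries T (j + 1) := ⟨huN, (step_iff j u).mpr fun t => (hut t).2⟩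
        have hlt : N ⊓ Subgroup.upperCentralSeries T j < N ⊓ Subgroup.upperCentralSeries T (j + 1) :=
          lt_of_le_of_ne (inf_le_inf_left N (ucs_mono j)) fun e => hu (e ▸ hu')
        obtain ⟨c, hc⟩ := Subgroup.card_dvd_of_le hlt.le
        have hne : Nat.card ↥(N ⊓ Subgroup.upperCentralSeries T j) ≠ Nat.card ↥(N ⊓ Subgroup.upperCentralSeries T (j + 1)) :=
          fun e => hlt.ne (Subgroup.eq_of_le_of_card_ge hlt.le e.ge)
        have hpos := Nat.card_pos (α := ↥(N ⊓ Subgroup.upperCentralSeries T (j + 1)))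
        rw [hc] at hne hpos ⊢
        rcases c with _ | _ | c
        · simp at hpos
        · simp at hne
        · rw [pow_succ]; nlinarith
  rcases key k with h | h
  · exact h
  · exact (Subgroup.eq_of_le_of_card_ge inf_le_left (hN.trans h)).ge.trans inf_le_right

end Cfsg.Agent.InvChar.TwoFourteen
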