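import Cfsg.Agent.Lib.InvChar.TwoFourteenMain

/-!
# Automorphisms and weak closure for `W`
-/

set_option autoImplicit false
set_option linter.style.haveILetI false
set_option linter.unusedSectionVars false

namespace Cfsg.Agent.InvChar.TwoFourteen

open Cfsg Cfsg.Agent

variable {T : Type*} [Group T] [Finite T] {W : Subgroup T}

local notation "Zs" => Subgroup.upperCentralSeries T

namespace Setup

/-- An automorphism of odd order is trivial. -/
theorem aut_eq_one (h : Setup T W) (σ : MulAut T) (hodd : Odd (orderOf σ)) : σ = 1 := by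
  classical
  obtain ⟨n, hn⟩ : ∃ n, orderOf σ = n := ⟨_, rfl⟩
  rw [hn] at hodd
  have hpow : σ ^ n = 1 := hn ▸ pow_orderOf_eq_one σ
  -- a fixed error term vanishes
  have hstab : ∀ x c : T, σ x = x * c → σ c = c → c = 1 := by
    intro x c hx hc
    have key : ∀ k : ℕ, (σ ^ k) x = x * c ^ k := by
      intro k
      induction k with
      | zero => simp
      | succ k ih => rw [pow_succ', MulAut.mul_apply, ih, map_mul, map_pow, hx, hc, pow_succ', mul_assoc]
    have h1 := key n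
    rw [hpow, MulAut.one_apply] at h1
    have hd : orderOf c ∣ n := orderOf_dvd_of_pow_eq_one (mul_eq_left.mp h1.symm)
    obtain ⟨k, hk⟩ := h.hT c
    obtain ⟨j, -, hj⟩ := (Nat.dvd_prime_pow Nat.prime_two).mp (orderOf_dvd_of_pow_eq_one hk)
    rw [← orderOf_eq_one_iff, hj]
    rcases j with _ | j
    · rfl
    · exfalso
      rw [hj] at hd
      exact (Nat.not_even_iff_odd.mpr hodd) (even_iff_two_dvd.mpr ((dvd_pow_self 2 (Nat.succ_ne_zero j)).trans hd))
  have hser : ∀ (i : ℕ) (y : T), y ∈ Zs i → σ y ∈ Zs i := fun i y hy =>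
    Subgroup.characteristic_iff_comap_eq.mp (inferInstance : (Zs i).Characteristic) σ |>.ge hy
  -- the first four terms are centralized
  have hfix : ∀ i ≤ 3, ∀ y ∈ Zs i, σ y = y := by
    intro i
    induction i with
    | zero =>
      intro _ y hy
      rw [Subgroup.upperCentralSeries_zero, Subgroup.mem_bot] at hy
      rw [hy, map_one]
    | succ i ih =>
      intro hi y hy
      obtain ⟨x, hx, hx', hxg⟩ := h.exists_gen i (by omega)
      have hσx : σ x = x := by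
        have hne : σ x ∉ Zs i := fun e => hx' (by
          have := ih (by omega) _ e
          rwa [← σ.injective this])
        have he := (hxg (σ x) (hser (i + 1) x hx)).resolve_left hne
        have := hstab x (x⁻¹ * σ x) (mul_inv_cancel_left x (σ x)).symm (ih (by omega) _ he)
        exact (inv_mul_eq_one.mp this).symm
      rcases hxg y hy with e | e
      · exact ih (by omega) _ e
      · have := ih (by omega) _ e
        rwa [map_mul, map_inv, hσx, mul_right_inj] at this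
  obtain ⟨hi, hPk, -, H, v, m, hPH, -, ⟨hvW, hvH, hvfix⟩, hmW, hm, hgen, hfixW, hker⟩ := h.facts
  rw [hPk] at hfixW hvfix
  haveI := h.normal_W
  -- `σ` preserves `W` and is trivial on `T/W`
  have hσW : ∀ w ∈ W, σ w ∈ W := by
    intro w hw
    rw [h.hW, Subgroup.mem_centralizer_iff]
    intro y hy
    rw [← hfix 3 le_rfl y hy, ← map_mul, ← map_mul, h.W_fix hw hy]
  have hTW : ∀ t : T, t⁻¹ * σ t ∈ W := by
    intro t
    rw [h.hW, Subgroup.mem_centralizer_iff]
    intro y hy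
    have hy' : t * y * t⁻¹ ∈ Zs 3 := (inferInstance : (Zs 3).Normal).conj_mem y hy t
    have e := hfix 3 le_rfl _ hy'
    rw [map_mul, map_mul, map_inv, hfix 3 le_rfl y hy] at e
    calc y * (t⁻¹ * σ t) = t⁻¹ * (t * y * t⁻¹) * σ t := by group
      _ = t⁻¹ * (σ t * y * (σ t)⁻¹) * σ t := by rw [e]
      _ = _ := by group
  -- `v`
  have hvfix' : ∀ t, t * σ v * t⁻¹ * (σ v)⁻¹ ∈ Zs 3 := fun t => by
    obtain ⟨t, rfl⟩ := σ.surjective t
    rw [← map_inv, ← map_inv, ← map_mul, ← map_mul, ← map_mul]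
    exact hser 3 _ (hvfix t)
  have hv : σ v = v := by
    have hne : σ v ∉ Zs 3 := fun e => hvH (by
      have e' := σ.injective (hfix 3 le_rfl _ e)
      rw [← e']
      exact hPH (hPk.ge e))
    have he := (hfixW (σ v) (hσW v hvW) hvfix').resolve_left hne
    have := hstab v (v⁻¹ * σ v) (mul_inv_cancel_left v (σ v)).symm (hfix 3 le_rfl _ he)
    exact (inv_mul_eq_one.mp this).symm
  -- the error subgroup inside `W`
  have herr : ∀ a b : T, a ∈ W → b ∈ W → (a * b)⁻¹ * σ (a * b) = (b⁻¹ * (a⁻¹ * σ a) * b * (a⁻¹ * σ a)⁻¹) * ((a⁻¹ * σ a) * (b⁻¹ * σ b)) := by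
    intro a b _ _; rw [map_mul]; group
  have hW0 : ∀ w ∈ W, w⁻¹ * σ w ∈ Zs 3 := by
    let K : Subgroup T :=
      { carrier := {y | y ∈ W ∧ ∃ w ∈ W, (w⁻¹ * σ w)⁻¹ * y ∈ Zs 3}
        one_mem' := ⟨W.one_mem, 1, W.one_mem, by simp⟩
        mul_mem' := by
          rintro y y' ⟨hy, w, hw, e⟩ ⟨hy', w', hw', e'⟩
          refine ⟨W.mul_mem hy hy', w * w', W.mul_mem hw hw', ?_⟩
          have hz : w'⁻¹ * (w⁻¹ * σ w) * w' * (w⁻¹ * σ w)⁻¹ ∈ Zs 3 := by
            have := h.comm_mem (W.inv_mem hw') (W.mul_mem (W.inv_mem hw) (hσW w hw))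
            rw [hPk] at this
            simpa [mul_assoc] using this
          rw [herr w w' hw hw']
          set q := w⁻¹ * σ w
          set q' := w'⁻¹ * σ w'
          set z := w'⁻¹ * q * w' * q⁻¹
          rw [show (z * (q * q'))⁻¹ * (y * y') = (q'⁻¹ * (q⁻¹ * z⁻¹ * q) * q') * (q'⁻¹ * (q⁻¹ * y) * q') * (q'⁻¹ * y') by group]
          refine (Zs 3).mul_mem ((Zs 3).mul_mem ?_ ?_) e'
          · have := (inferInstance : (Zs 3).Normal).conj_mem _ ((inferInstance : (Zs 3).Normal).conj_mem _ ((Zs 3).inv_mem hz) q⁻¹) q'⁻¹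
            simpa using this
          · simpa using (inferInstance : (Zs 3).Normal).conj_mem _ e q'⁻¹
        inv_mem' := by
          rintro y ⟨hy, w, hw, e⟩
          refine ⟨W.inv_mem hy, w, hw, ?_⟩
          have hq : w⁻¹ * σ w ∈ W := W.mul_mem (W.inv_mem hw) (hσW w hw)
          have h1 : (w⁻¹ * σ w) * (w⁻¹ * σ w) ∈ Zs 3 := hPk ▸ h.sq_mem hq
          have h2 : y * y ∈ Zs 3 := hPk ▸ h.sq_mem hy
          set q := w⁻¹ * σ w
          rw [show q⁻¹ * y⁻¹ = q⁻¹ * y * (y * y)⁻¹ by group]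
          exact (Zs 3).mul_mem e ((Zs 3).inv_mem h2) }
    haveI : K.Normal := ⟨fun y hy t => by
      obtain ⟨hy, w, hw, e⟩ := hy
      refine ⟨h.conj_W hy t, t * w * t⁻¹, h.conj_W hw t, ?_⟩
      have hu := hTW t
      have hq : w⁻¹ * σ w ∈ W := W.mul_mem (W.inv_mem hw) (hσW w hw)
      have hz : (t⁻¹ * σ t) * σ w * (t⁻¹ * σ t)⁻¹ * (σ w)⁻¹ ∈ Zs 3 := hPk ▸ h.comm_mem hu (hσW w hw)
      rw [map_mul, map_mul, map_inv]
      set z := (t⁻¹ * σ t) * σ w * (t⁻¹ * σ t)⁻¹ * (σ w)⁻¹ with hzdef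
      have hid : ((t * w * t⁻¹)⁻¹ * (σ t * σ w * (σ t)⁻¹))⁻¹ * (t * y * t⁻¹) =
          t * ((σ w)⁻¹ * z⁻¹ * (σ w) * ((w⁻¹ * σ w)⁻¹ * y)) * t⁻¹ := by rw [hzdef]; group
      rw [hid]
      refine (inferInstance : (Zs 3).Normal).conj_mem _ ((Zs 3).mul_mem ?_ e) t
      have := (inferInstance : (Zs 3).Normal).conj_mem _ ((Zs 3).inv_mem hz) (σ w)⁻¹
      simpa using this⟩
    have h3K : Zs 3 ≤ K := fun y hy => ⟨h.le_W hy, 1, W.one_mem, by simpa using hy⟩
    intro w hw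
    by_contra hne
    have hlt : Zs 3 < K := lt_of_le_of_ne h3K fun e => hne (e.ge
      (⟨W.mul_mem (W.inv_mem hw) (hσW w hw), w, hw, by rw [inv_mul_cancel]; exact (Zs 3).one_mem⟩ : w⁻¹ * σ w ∈ K))
    obtain ⟨u, ⟨huW, w', hw', e⟩, hu3, hufix⟩ := exists_fixed h.hT hlt
    have hu' := (hfixW u huW hufix).resolve_left hu3
    have hσu : σ (w'⁻¹ * σ w') = w'⁻¹ * σ w' := by
      set q := w'⁻¹ * σ w'
      have hv' : v⁻¹ * q ∈ Zs 3 := by
        have := (Zs 3).mul_mem hu' ((Zs 3).inv_mem e)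
        rw [show v⁻¹ * u * (q⁻¹ * u)⁻¹ = v⁻¹ * q by group] at this
        exact this
      have := hfix 3 le_rfl _ hv'
      rwa [map_mul, map_inv, hv, mul_right_inj] at this
    have hq1 := hstab w' _ (mul_inv_cancel_left w' (σ w')).symm hσu
    rw [hq1, inv_one, one_mul] at e
    exact hu3 e
  have hW1 : ∀ w ∈ W, σ w = w := fun w hw =>
    (inv_mul_eq_one.mp (hstab w _ (mul_inv_cancel_left w (σ w)).symm (hfix 3 le_rfl _ (hW0 w hw)))).symm
  refine MulEquiv.ext fun t => ?_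
  exact (inv_mul_eq_one.mp (hstab t _ (mul_inv_cancel_left t (σ t)).symm (hW1 _ (hTW t)))).symm

/-- A subgroup isomorphic to `W` in the same way equals `W`. -/
theorem eq_of_same (h : Setup T W) (U F : Subgroup T) (hcard : Nat.card U = Nat.card W) (hF : Nat.card F ≤ 8)
    (hsq : ∀ a ∈ U, a * a ∈ F) (hcm : ∀ a ∈ U, ∀ b ∈ U, a * b * a⁻¹ * b⁻¹ ∈ F)
    (hFc : ∀ y ∈ F, ∀ u ∈ U, y * u = u * y) : U = W := by
  classical
  haveI := h.normal_W
  have hI : Nat.card W ≤ 8 * Nat.card ↥(U ⊓ W) := by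
    have h1 : W.relIndex U ∣ W.index := Subgroup.relIndex_dvd_index_of_normal W U
    have h2 := Subgroup.card_mul_index ((U ⊓ W).subgroupOf U)
    rw [Nat.card_congr (Subgroup.subgroupOfEquivOfLe inf_le_left).toEquiv] at h2
    have h3 : ((U ⊓ W).subgroupOf U).index ≤ 8 := by
      rw [Subgroup.inf_subgroupOf_left]
      exact (Nat.le_of_dvd (by rw [h.index_W]; norm_num) h1).trans h.index_W.le
    rw [← hcard, ← h2]
    nlinarith
  have h3UW : Zs 3 ≤ U ⊓ W := h.phi_eq ▸ h.hd' inf_le_right (hI.trans (Nat.mul_le_mul_right _ (by norm_num)))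
  have h3F : Zs 3 ≤ F := by
    intro y hy
    by_contra hyF
    obtain ⟨E, -, hEle, hyE, -, hEc⟩ := exists_avoid_two (W := U ⊓ W) (N := F ⊓ Zs 3) (inf_le_right.trans h3UW)
      (fun a ha => Subgroup.mem_inf.mpr ⟨hsq a ha.1, h.phi_eq ▸ h.sq_mem ha.2⟩)
      (fun a ha b hb => Subgroup.mem_inf.mpr ⟨hcm a ha.1 b hb.1, h.phi_eq ▸ h.comm_mem ha.2 hb.2⟩)
      (h3UW hy) (fun e => hyF e.1)
    exact hyE (h.hd' (hEle.trans inf_le_right) (by omega) (h.phi_eq.ge hy))
  have heq : F = Zs 3 := (Subgroup.eq_of_le_of_card_ge h3F (by rw [h.card_ucs 3 (by norm_num)]; exact hF)).symm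
  refine Subgroup.eq_of_le_of_card_ge ?_ hcard.ge
  intro u hu
  rw [h.hW, Subgroup.mem_centralizer_iff]
  intro y hy
  exact hFc y (heq ▸ hy) u hu

end Setup

end Cfsg.Agent.InvChar.TwoFourteen
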