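import Cfsg.Agent.Lib.InvChar.TwoFourteenSetup
import Cfsg.Agent.Lib.Invol.MaxClassTwo

/-!
# Consequences for `W`
-/

set_option autoImplicit false
set_option linter.style.haveILetI false
set_option linter.unusedSectionVars false

namespace Cfsg.Agent.InvChar.TwoFourteen

open Cfsg Cfsg.Agent
open scoped commutatorElement

variable {T : Type*} [Group T] [Finite T] {W : Subgroup T}

local notation "Zs" => Subgroup.upperCentralSeries T

private theorem iff_cancel_helper {A B D : Prop} (h : ((A ↔ B) ↔ D) ↔ D) : B ↔ A := by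
  by_cases A <;> by_cases B <;> by_cases D <;> simp_all

private theorem parity_helper : ∀ (j : Fin 4) (q0 q1 q2 q3 : Bool),
    (((q0 = false ∨ j ≠ 0 ↔ q1 = false ∨ j ≠ 1) ↔ q2 = false ∨ j ≠ 2) ↔ q3 = false ∨ j ≠ 3) ↔
      ![q0, q1, q2, q3] j = false := by
  intro j q0 q1 q2 q3
  fin_cases j <;> cases q0 <;> cases q1 <;> cases q2 <;> cases q3 <;> simp

namespace Setup

theorem index_W (h : Setup T W) : W.index = 8 := h.facts.1
theorem phi_eq (h : Setup T W) : phi W = Zs 3 := h.facts.2.1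
theorem card_W (h : Setup T W) : Nat.card W = 2 ^ 11 := h.facts.2.2.1

theorem le_W (h : Setup T W) : Zs 3 ≤ W := h.phi_eq ▸ Subgroup.map_subtype_le _

theorem card_T (h : Setup T W) : Nat.card T = 2 ^ 14 := by
  rw [← Subgroup.card_mul_index W, h.index_W, h.card_W]; norm_num

/-- The derived subgroup of `W` is `Z₃`. -/
theorem comm_eq (h : Setup T W) : (commutator ↥W).map W.subtype = Zs 3 := by
  classical
  haveI := h.normal_W
  haveI : ((commutator ↥W).map W.subtype).Normal := ConjAct.normal_of_characteristic_of_normal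
  set D := (commutator ↥W).map W.subtype with hD
  have hD3 : D ≤ Zs 3 := by
    rw [← h.phi_eq]
    haveI := (h.hT.to_subgroup W).isNilpotent
    exact Subgroup.map_mono Basics.commutator_le_frattini
  by_contra hne
  have hlt : D < Zs 3 := lt_of_le_of_ne hD3 hne
  have hc4 : Nat.card D ≤ 2 ^ 2 := by
    obtain ⟨c, hc⟩ := Subgroup.card_dvd_of_le hD3
    have hne' : Nat.card D ≠ Nat.card (Zs 3) := fun e => hne (Subgroup.eq_of_le_of_card_ge hD3 e.ge)
    rw [h.card_ucs 3 (by norm_num)] at hc hne'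
    rcases c with _ | _ | c
    · norm_num at hc
    · omega
    · nlinarith
  have hD2 : D ≤ Zs 2 := normal_le_ucs h.hT 2 hc4
  obtain ⟨x, hx, hx', hxg⟩ := h.exists_gen 2 (by norm_num)
  have hle2 : Zs 2 ≤ W := (ucs_mono 2).trans h.le_W
  haveI : ((Zs 2).subgroupOf W).Normal := inferInstance
  let π := QuotientGroup.mk' ((Zs 2).subgroupOf W)
  have hxW : x ∈ W := h.le_W hx
  set z := π ⟨x, hxW⟩ with hz
  have hmem : ∀ (y : T) (hy : y ∈ W), y ∈ Zs 3 → π ⟨y, hy⟩ = 1 ∨ π ⟨y, hy⟩ = z := by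
    intro y hy hy3
    rcases hxg y hy3 with e | e
    · exact Or.inl ((QuotientGroup.eq_one_iff _).mpr e)
    · exact Or.inr (QuotientGroup.eq.mpr (show (⟨x, hxW⟩ : W)⁻¹ * ⟨y, hy⟩ ∈ (Zs 2).subgroupOf W from e)).symm
  have hcz : ∀ a b : W ⧸ (Zs 2).subgroupOf W, a * b * a⁻¹ * b⁻¹ = 1 := by
    intro a b
    obtain ⟨a, rfl⟩ := QuotientGroup.mk_surjective a
    obtain ⟨b, rfl⟩ := QuotientGroup.mk_surjective b
    show π (a * b * a⁻¹ * b⁻¹) = 1
    refine (QuotientGroup.eq_one_iff _).mpr (hD2 ⟨⁅a, b⁆, Subgroup.commutator_mem_commutator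
      (Subgroup.mem_top a) (Subgroup.mem_top b), ?_⟩)
    simp [commutatorElement_def]
  obtain ⟨E, hzE, hE⟩ := exists_avoid (z := z)
    (fun e => hx' ((QuotientGroup.eq_one_iff _).mp e : (⟨x, hxW⟩ : W) ∈ (Zs 2).subgroupOf W))
    ((QuotientGroup.eq_one_iff _).mpr (show x * x ∈ Zs 2 by
      rcases hxg (x * x) ((Zs 3).mul_mem hx hx) with e | e
      · exact e
      · rw [inv_mul_cancel_left] at e; exact absurd e hx'))
    (fun a => by
      obtain ⟨⟨a, ha⟩, rfl⟩ := QuotientGroup.mk_surjective a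
      exact hmem (a * a) (W.mul_mem ha ha) (h.phi_eq ▸ h.sq_mem ha))
    (fun a b => Or.inl (hcz a b))
  have htop : Subgroup.center (W ⧸ (Zs 2).subgroupOf W) = ⊤ := eq_top_iff.mpr fun a _ =>
    Subgroup.mem_center_iff.mpr fun b => mul_inv_eq_iff_eq_mul.mp (mul_inv_eq_one.mp (hcz b a))
  rw [htop, Subgroup.card_top] at hE
  set E' := (E.comap π).map W.subtype with hE'
  have hcE : Nat.card W ≤ 16 * Nat.card E' := by
    rw [Subgroup.card_map_of_injective W.subtype_injective]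
    have h1 := Subgroup.card_mul_index E
    have h2 := Subgroup.card_mul_index (E.comap π)
    rw [Subgroup.index_comap_of_surjective _ (QuotientGroup.mk'_surjective _)] at h2
    have h3 : E.index ≤ 4 := by
      rw [← h1] at hE
      have hpos := Nat.card_pos (α := E)
      have : E.index * E.index ≤ 4 * 4 := by
        have hle' : E.index * E.index * (Nat.card E * Nat.card E) ≤ 4 * 4 * (Nat.card E * Nat.card E) := by
          calc E.index * E.index * (Nat.card E * Nat.card E) = Nat.card E * E.index * (Nat.card E * E.index) := by ring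
            _ ≤ _ := hE.trans (le_of_eq (by ring))
        exact Nat.le_of_mul_le_mul_right hle' (Nat.mul_pos hpos hpos)
      exact Nat.mul_self_le_mul_self_iff.mp this
    rw [← h2]
    nlinarith
  obtain ⟨⟨y, hy⟩, hyE, e⟩ := h.hd' (Subgroup.map_subtype_le _) hcE (h.phi_eq.ge hx)
  obtain rfl : y = x := e
  exact hzE hyE

/-- `Z₃` is elementary abelian. -/
theorem elem (h : Setup T W) {y : T} (hy : y ∈ Zs 3) : y * y = 1 := by
  have hcz : ∀ a ∈ Zs 3, ∀ w ∈ W, a * w = w * a := fun a ha w hw => h.W_fix hw ha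
  have key : ∀ a ∈ W, ∀ b ∈ W, (a * b * a⁻¹ * b⁻¹) * (a * b * a⁻¹ * b⁻¹) = 1 := by
    intro a ha b hb
    have haa : a * a ∈ Zs 3 := h.phi_eq ▸ h.sq_mem ha
    have hc := hcz (a * b * a⁻¹ * b⁻¹) (h.phi_eq ▸ h.comm_mem ha hb) a ha
    calc (a * b * a⁻¹ * b⁻¹) * (a * b * a⁻¹ * b⁻¹)
        = (a * b * a⁻¹ * b⁻¹) * a * (b * a⁻¹ * b⁻¹) := by group
      _ = (a * a) * b * (a⁻¹ * b⁻¹ * (b * a⁻¹ * b⁻¹)) := by rw [hc]; group
      _ = b * (a * a) * (a⁻¹ * b⁻¹ * (b * a⁻¹ * b⁻¹)) := by rw [hcz _ haa b hb]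
      _ = 1 := by group
  have hle : (commutator ↥W).map W.subtype ≤ ({
      carrier := {y | y ∈ Zs 3 ∧ y * y = 1}
      one_mem' := ⟨(Zs 3).one_mem, one_mul 1⟩
      mul_mem' := fun {a b} ha hb => ⟨(Zs 3).mul_mem ha.1 hb.1, by
        rw [(show Commute b a from hcz b hb.1 a (h.le_W ha.1)).mul_mul_mul_comm, ha.2, hb.2, one_mul]⟩
      inv_mem' := fun {a} ha => ⟨(Zs 3).inv_mem ha.1, by rw [← mul_inv_rev, ha.2, inv_one]⟩ } : Subgroup T) := by
    rw [Subgroup.map_le_iff_le_comap, commutator_def, Subgroup.commutator_le]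
    intro a _ b _
    rw [Subgroup.mem_comap]
    have e : W.subtype ⁅a, b⁆ = (a : T) * b * (a : T)⁻¹ * (b : T)⁻¹ := by simp [commutatorElement_def]
    rw [e]
    exact ⟨h.phi_eq ▸ h.comm_mem a.2 b.2, key a a.2 b b.2⟩
  exact (hle (h.comm_eq.ge hy)).2

/-- `T/W` is dihedral. -/
theorem quot_iso (h : Setup T W) [W.Normal] : Nonempty (T ⧸ W ≃* DihedralGroup 4) := by
  classical
  haveI : Fact (Nat.Prime 2) := ⟨Nat.prime_two⟩
  obtain ⟨x₁, h1, h1', -⟩ := h.exists_gen 0 (by norm_num)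
  obtain ⟨x₂, h2, h2', -⟩ := h.exists_gen 1 (by norm_num)
  obtain ⟨x₃, h3, h3', -⟩ := h.exists_gen 2 (by norm_num)
  have hx1 : x₁ ≠ 1 := fun e => h1' (e ▸ (Zs 0).one_mem)
  have hcen : ∀ t : T, t * x₁ * t⁻¹ = x₁ := fun t => by
    have : x₁ ∈ Subgroup.center T := by rw [← Subgroup.upperCentralSeries_one]; exact h1
    rw [Subgroup.mem_center_iff.mp this t, mul_inv_cancel_right]
  obtain ⟨a, ha2, ha3⟩ := h.card_quot.2 h.index_W x₁ h1 1 (Zs 2).one_mem x₂ h2 x₃ h3 h2' h3'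
  obtain ⟨b, hb2, hb3⟩ := h.card_quot.2 h.index_W 1 (Zs 1).one_mem x₂ h2 x₂ h2 x₃ h3 h2' h3'
  obtain ⟨c, hc2, hc3⟩ := h.card_quot.2 h.index_W 1 (Zs 1).one_mem x₁ (ucs_mono 1 h1) x₂ h2 x₃ h3 h2' h3'
  simp only [mul_one] at ha3 hb2 hc2
  have hmov : ∀ t y : T, y ∈ Zs 3 → t * y * t⁻¹ ≠ y → t ∉ W := fun t y hy hne ht => hne (by
    rw [← h.W_fix ht hy, mul_inv_cancel_right])
  let A : T ⧸ W := QuotientGroup.mk a
  let B : T ⧸ W := QuotientGroup.mk b
  let C : T ⧸ W := QuotientGroup.mk c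
  have hnc : A * B ≠ B * A := by
    intro e
    have hm : (b * a)⁻¹ * (a * b) ∈ W := QuotientGroup.eq.mp e.symm
    have h' := h.W_fix hm h3
    have e1 : (a * b) * x₃ * (a * b)⁻¹ = x₃ * x₂ * x₁ := by
      calc (a * b) * x₃ * (a * b)⁻¹ = a * (b * x₃ * b⁻¹) * a⁻¹ := by group
        _ = (a * x₃ * a⁻¹) * (a * x₂ * a⁻¹) := by rw [hb3]; group
        _ = _ := by rw [ha3, ha2, mul_assoc]
    have e2 : (b * a) * x₃ * (b * a)⁻¹ = x₃ * x₂ := by
      calc (b * a) * x₃ * (b * a)⁻¹ = b * (a * x₃ * a⁻¹) * b⁻¹ := by group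
        _ = _ := by rw [ha3, hb3]
    have e3 : (a * b) * x₃ * (a * b)⁻¹ = (b * a) * x₃ * (b * a)⁻¹ := by
      calc (a * b) * x₃ * (a * b)⁻¹ = (b * a) * (((b * a)⁻¹ * (a * b)) * x₃) * (a * b)⁻¹ := by group
        _ = (b * a) * (x₃ * ((b * a)⁻¹ * (a * b))) * (a * b)⁻¹ := by rw [h']
        _ = _ := by group
    rw [e1, e2] at e3
    exact hx1 (mul_eq_left.mp e3)
  have hsq : ∀ t : T, (∀ y ∈ Zs 3, t * t * y * (t * t)⁻¹ = y) → (QuotientGroup.mk t : T ⧸ W) * QuotientGroup.mk t = 1 := by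
    intro t ht
    rw [← QuotientGroup.mk_mul, QuotientGroup.eq_one_iff]
    refine h.hW.ge ?_
    exact Subgroup.mem_centralizer_iff.mpr fun y hy => (mul_inv_eq_iff_eq_mul.mp (ht y hy)).symm
  have hfixall : ∀ g : T, g * x₂ * g⁻¹ = x₂ → g * x₃ * g⁻¹ = x₃ → ∀ y ∈ Zs 3, g * y * g⁻¹ = y := by
    intro g k2 k3
    obtain ⟨θx, hθ⟩ : ∃ p : T, p = g := ⟨g, rfl⟩
    have k1 : ∀ y ∈ Zs 1, g * y * g⁻¹ = y := fun y hy => by
      rw [Subgroup.upperCentralSeries_one] at hy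
      rw [Subgroup.mem_center_iff.mp hy g, mul_inv_cancel_right]
    have step : ∀ (n : ℕ), n < 3 → ∀ x ∈ Zs (n + 1), x ∉ Zs n → g * x * g⁻¹ = x →
        (∀ y ∈ Zs n, g * y * g⁻¹ = y) → ∀ y ∈ Zs (n + 1), g * y * g⁻¹ = y := by
      intro n hn x hx hx' kx ky y hy
      obtain ⟨u, hu, hu', hug⟩ := h.exists_gen n (by omega)
      rcases hug y hy with e | e
      · exact ky y e
      · have hxu := (hug x hx).resolve_left hx'
        have e' : x⁻¹ * y ∈ Zs n := by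
          have := (Zs n).mul_mem ((Zs n).inv_mem hxu) e
          simpa [mul_assoc] using this
        calc g * y * g⁻¹ = (g * x * g⁻¹) * (g * (x⁻¹ * y) * g⁻¹) := by group
          _ = y := by rw [kx, ky _ e', mul_inv_cancel_left]
    exact step 2 (by norm_num) x₃ h3 h3' k3 (step 1 (by norm_num) x₂ h2 h2' k2 k1)
  have hA2 : A * A = 1 := hsq a (hfixall (a * a)
    (by
      calc a * a * x₂ * (a * a)⁻¹ = a * (a * x₂ * a⁻¹) * a⁻¹ := by group
        _ = a * (x₂ * x₁) * a⁻¹ := by rw [ha2]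
        _ = (a * x₂ * a⁻¹) * (a * x₁ * a⁻¹) := by group
        _ = x₂ := by rw [ha2, hcen, mul_assoc, h.elem (ucs_mono 2 (ucs_mono 1 h1)), mul_one])
    (by
      calc a * a * x₃ * (a * a)⁻¹ = a * (a * x₃ * a⁻¹) * a⁻¹ := by group
        _ = x₃ := by rw [ha3, ha3]))
  have hC2 : C * C = 1 := hsq c (hfixall (c * c)
    (by
      calc c * c * x₂ * (c * c)⁻¹ = c * (c * x₂ * c⁻¹) * c⁻¹ := by group
        _ = x₂ := by rw [hc2, hc2])
    (by
      calc c * c * x₃ * (c * c)⁻¹ = c * (c * x₃ * c⁻¹) * c⁻¹ := by group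
        _ = c * (x₃ * x₁) * c⁻¹ := by rw [hc3]
        _ = (c * x₃ * c⁻¹) * (c * x₁ * c⁻¹) := by group
        _ = x₃ := by rw [hc3, hcen, mul_assoc, h.elem (ucs_mono 2 (ucs_mono 1 h1)), mul_one]))
  have hA1 : A ≠ 1 := fun e => hmov a x₂ (ucs_mono 2 h2) (by rw [ha2]; simpa using hx1) ((QuotientGroup.eq_one_iff a).mp e)
  have hC1 : C ≠ 1 := fun e => hmov c x₃ h3 (by rw [hc3]; simpa using hx1) ((QuotientGroup.eq_one_iff c).mp e)
  have hAC : A ≠ C := fun e => by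
    have hm : a⁻¹ * c ∈ W := QuotientGroup.eq.mp e
    have h' := h.W_fix hm (ucs_mono 2 h2)
    have : c * x₂ * c⁻¹ = a * x₂ * a⁻¹ := by
      calc c * x₂ * c⁻¹ = a * ((a⁻¹ * c) * x₂) * c⁻¹ := by group
        _ = a * (x₂ * (a⁻¹ * c)) * c⁻¹ := by rw [h']
        _ = _ := by group
    rw [hc2, ha2] at this
    exact hx1 (mul_eq_left.mp this.symm)
  have h8 : Nat.card (T ⧸ W) = 8 := h.index_W
  have hp : IsPGroup 2 (T ⧸ W) := h.hT.to_quotient W
  have hCn : ¬ IsMulCommutative (T ⧸ W) := fun hc => hnc (mul_comm' A B)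
  have h4 : (commutator (T ⧸ W)).index = 4 := by
    haveI := hp.isNilpotent
    have hne : commutator (T ⧸ W) ≠ ⊥ := fun e => hnc (commutatorElement_eq_one_iff_mul_comm.mp
      (Subgroup.mem_bot.mp (e ▸ Subgroup.commutator_mem_commutator (Subgroup.mem_top A) (Subgroup.mem_top B))))
    haveI : Nontrivial (T ⧸ W) := ⟨⟨A * B, B * A, hnc⟩⟩
    have hd := Subgroup.card_mul_index (commutator (T ⧸ W))
    rw [h8] at hd
    have h1c : Nat.card (commutator (T ⧸ W)) ≠ 1 := fun e => hne ((Subgroup.card_eq_one).mp e)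
    have h5 : (commutator (T ⧸ W)).index ≠ 2 := by
      intro e
      -- a cyclic commutator quotient would make the group abelian
      have hle : commutator (T ⧸ W) ≤ frattini (T ⧸ W) := Basics.commutator_le_frattini
      haveI : Fact (Nat.Prime 2) := ⟨Nat.prime_two⟩
      haveI hcyc := isCyclic_of_prime_card (α := (T ⧸ W) ⧸ commutator (T ⧸ W)) (p := 2) e
      obtain ⟨g, hg⟩ := hcyc.exists_generator
      obtain ⟨g, rfl⟩ := QuotientGroup.mk_surjective g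
      have htop : Subgroup.zpowers g ⊔ frattini (T ⧸ W) = ⊤ := by
        refine eq_top_iff.mpr fun y _ => ?_
        obtain ⟨n, hn⟩ := Subgroup.mem_zpowers_iff.mp (hg (QuotientGroup.mk y))
        have hy : (g ^ n)⁻¹ * y ∈ commutator (T ⧸ W) := QuotientGroup.eq.mp (by rw [← hn]; rfl)
        have := Subgroup.mul_mem_sup (Subgroup.zpow_mem _ (Subgroup.mem_zpowers g) n) (hle hy)
        rwa [mul_inv_cancel_left] at this
      have hz := frattini_nongenerating htop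
      obtain ⟨i, hi⟩ := Subgroup.mem_zpowers_iff.mp (hz.ge (Subgroup.mem_top A))
      obtain ⟨j, hj⟩ := Subgroup.mem_zpowers_iff.mp (hz.ge (Subgroup.mem_top B))
      exact hnc (by rw [← hi, ← hj, ← zpow_add, ← zpow_add, add_comm])
    have h6 : (commutator (T ⧸ W)).index ≠ 1 := fun e => by
      exact (Group.IsSolvable.commutator_lt_top_of_nontrivial (T ⧸ W)).ne (Subgroup.index_eq_one.mp e)
    have h7 : (commutator (T ⧸ W)).index ∣ 8 := Dvd.intro_left _ hd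
    have h9 := Nat.le_of_dvd (by norm_num) h7
    interval_cases hi : (commutator (T ⧸ W)).index <;> omega
  obtain ⟨Dd⟩ := Invol.MaxClassTwo.exists_mcData hp hCn h4
  have hm : Dd.m = 2 := by
    have h' := Dd.card
    rw [h8, show 8 = 2 ^ 3 by norm_num] at h'
    have := Nat.pow_right_injective (le_refl 2) h'
    omega
  rcases Invol.MaxClassTwo.iso_cases Dd with ⟨e⟩ | ⟨e⟩ | hq
  · rw [hm] at e; exact e
  · exfalso
    rw [hm] at e
    obtain ⟨e⟩ := e
    have hu : ∀ a b : QuaternionGroup 2, a * a = 1 → b * b = 1 → a ≠ 1 → b ≠ 1 → a = b := by decide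
    exact hAC (e.injective (hu _ _ (by rw [← map_mul, hA2, map_one]) (by rw [← map_mul, hC2, map_one])
      (fun e' => hA1 (e.injective (e'.trans (map_one e).symm))) (fun e' => hC1 (e.injective (e'.trans (map_one e).symm)))))
  · obtain ⟨n, hn, hcn, -⟩ := hq
    rw [h8, show 8 = 2 ^ 3 by norm_num] at hcn
    have := Nat.pow_right_injective (le_refl 2) hcn
    omega

/-- The centre of `W` is `Z₃`. -/
theorem center_eq (h : Setup T W) : (Subgroup.center ↥W).map W.subtype = Zs 3 := by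
  classical
  haveI := h.normal_W
  haveI : ((Subgroup.center ↥W).map W.subtype).Normal := ConjAct.normal_of_characteristic_of_normal
  obtain ⟨hi, hPk, -, H, v, m, hPH, hiff, ⟨hvW, hvH, hvfix⟩, hmW, hm, hgen, hfix, hker⟩ := h.facts
  rw [hPk] at hgen hfix hker hPH hvfix
  set Z := (Subgroup.center ↥W).map W.subtype with hZ
  have h3Z : Zs 3 ≤ Z := fun y hy =>
    ⟨⟨y, h.le_W hy⟩, Subgroup.mem_center_iff.mpr fun w => Subtype.ext (h.W_fix w.2 hy).symm, rfl⟩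
  by_contra hne
  obtain ⟨u, huZ, hu3, hufix⟩ := exists_fixed h.hT (lt_of_le_of_ne h3Z (Ne.symm hne))
  have huW : u ∈ W := (Subgroup.map_subtype_le _) huZ
  have hvZ : v ∈ Z := by
    have h' := (hfix u huW hufix).resolve_left hu3
    have h'' := Z.mul_mem huZ (Z.inv_mem (h3Z h'))
    simpa [mul_assoc] using h''
  have hvc : ∀ w ∈ W, v * w = w * v := by
    obtain ⟨⟨v', hv'⟩, hvc, e⟩ := hvZ
    obtain rfl : v' = v := e
    intro w hw
    exact (congrArg Subtype.val (Subgroup.mem_center_iff.mp hvc ⟨w, hw⟩)).symm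
  obtain ⟨x₁, h1, h1', -⟩ := h.exists_gen 0 (by norm_num)
  obtain ⟨x₂, h2, h2', -⟩ := h.exists_gen 1 (by norm_num)
  obtain ⟨x₃, h3, h3', hxg⟩ := h.exists_gen 2 (by norm_num)
  have hx1 : x₁ ≠ 1 := fun e => h1' (e ▸ (Zs 0).one_mem)
  have hcen : ∀ t : T, ∀ y ∈ Zs 1, t * y * t⁻¹ = y := fun t y hy => by
    rw [Subgroup.upperCentralSeries_one] at hy
    rw [Subgroup.mem_center_iff.mp hy t, mul_inv_cancel_right]
  have el : ∀ y ∈ Zs 3, y⁻¹ = y := fun y hy => Invol.inv_eq_self_of_mul_self (h.elem hy)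
  -- the form
  let f : T → Prop := fun y => y ∈ Zs 2
  let br : T → T → T := fun a b => a * b * a⁻¹ * b⁻¹
  have hbr : ∀ a b, a ∈ W → b ∈ W → br a b ∈ Zs 3 := fun a b ha hb => hPk ▸ h.comm_mem ha hb
  have hf2 : ∀ y y', y ∈ Zs 3 → y' ∈ Zs 3 → (f (y * y') ↔ (f y ↔ f y')) := by
    intro y y' hy hy'
    by_cases e : y ∈ Zs 2
    · show y * y' ∈ Zs 2 ↔ (y ∈ Zs 2 ↔ y' ∈ Zs 2)
      simp only [e, true_iff]
      exact (Zs 2).mul_mem_cancel_left e
    · show y * y' ∈ Zs 2 ↔ (y ∈ Zs 2 ↔ y' ∈ Zs 2)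
      simp only [e, false_iff]
      constructor
      · exact fun h1 h2 => e (((Zs 2).mul_mem_cancel_right h2).mp h1)
      · intro e'
        have a1 := (hxg y hy).resolve_left e
        have a2 := (hxg y' hy').resolve_left e'
        have h' := (Zs 2).mul_mem ((Zs 2).inv_mem a1) a2
        rw [show (x₃⁻¹ * y)⁻¹ * (x₃⁻¹ * y') = y⁻¹ * y' by group, el y hy] at h'
        exact h'
  have hfconj : ∀ t y, f (t * y * t⁻¹) ↔ f y := fun t y => by
    constructor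
    · intro h'
      have h'' := (inferInstance : (Zs 2).Normal).conj_mem _ h' t⁻¹
      simpa [mul_assoc] using h''
    · exact fun h' => (inferInstance : (Zs 2).Normal).conj_mem _ h' t
  have hbrl : ∀ a a' b, a ∈ W → a' ∈ W → b ∈ W → br (a * a') b = br a b * br a' b := by
    intro a a' b ha ha' hb
    show (a * a') * b * (a * a')⁻¹ * b⁻¹ = _
    calc _ = a * br a' b * (b * a⁻¹ * b⁻¹) := by simp only [br]; group
      _ = br a' b * br a b := by rw [← h.W_fix ha (hbr a' b ha' hb)]; simp only [br]; group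
      _ = _ := h.W_fix (h.le_W (hbr a b ha hb)) (hbr a' b ha' hb)
  have hbri : ∀ a b, a ∈ W → b ∈ W → br b a = br a b := fun a b ha hb => by
    rw [← el _ (hbr a b ha hb)]; simp only [br]; group
  have hbrconj : ∀ t a b, t * br a b * t⁻¹ = br (t * a * t⁻¹) (t * b * t⁻¹) := fun t a b => by
    simp only [br]; group
  -- the function `φ`
  let φ : T → Prop := fun k => f (br m (k * m * k⁻¹))
  have hφW : ∀ k u, u ∈ W → (φ (k * u) ↔ φ k) := by
    intro k u hu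
    have hc : k * u * m * (k * u)⁻¹ = (k * br u m * k⁻¹) * (k * m * k⁻¹) := by simp only [br]; group
    have hz : k * br u m * k⁻¹ ∈ Zs 3 := (inferInstance : (Zs 3).Normal).conj_mem _ (hbr u m hu hmW) k
    show f (br m (k * u * m * (k * u)⁻¹)) ↔ _
    rw [hc, hbri _ m (W.mul_mem (h.le_W hz) (h.conj_W hmW k)) hmW]
    rw [hbrl _ _ _ (h.le_W hz) (h.conj_W hmW k) hmW, hbri _ _ hmW (h.conj_W hmW k)]
    have : br (k * br u m * k⁻¹) m = 1 := by
      show (k * br u m * k⁻¹) * m * (k * br u m * k⁻¹)⁻¹ * m⁻¹ = 1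
      rw [h.W_fix hmW hz]; group
    rw [this, one_mul]
  have hφ1 : ∀ u ∈ W, φ u := fun u hu => by
    have := (hφW 1 u hu)
    rw [one_mul] at this
    rw [this]
    show f (br m (1 * m * 1⁻¹))
    simp only [br, one_mul, inv_one, mul_one, mul_inv_cancel_right, mul_inv_cancel]
    exact (Zs 2).one_mem
  have hφinv : ∀ k, φ k⁻¹ ↔ φ k := fun k => by
    show f _ ↔ f _
    rw [← hfconj k (br m (k⁻¹ * m * k⁻¹⁻¹)), hbrconj]
    rw [show k * (k⁻¹ * m * k⁻¹⁻¹) * k⁻¹ = m by group, hbri m _ hmW (h.conj_W hmW k)]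
  -- an involution moving `x₃` gives zero
  have hφinvol : ∀ k, k * k ∈ W → k * x₂ * k⁻¹ = x₂ → k * x₃ * k⁻¹ ≠ x₃ → φ k := by
    intro k hk k2 k3
    by_contra hcon
    set c := br m (k * m * k⁻¹) with hc
    have hc3 : c ∈ Zs 3 := hbr _ _ hmW (h.conj_W hmW k)
    have hck : k * c * k⁻¹ = c := by
      have hkk : k * (k * m * k⁻¹) * k⁻¹ = (br (k * k) m) * m := by simp only [br]; group
      have hz : br (k * k) m ∈ Zs 3 := hbr _ _ hk hmW
      rw [hc, hbrconj, hkk, ← hbri (k * m * k⁻¹) _ (h.conj_W hmW k) (W.mul_mem (h.le_W hz) hmW),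
        hbrl _ _ _ (h.le_W hz) hmW (h.conj_W hmW k)]
      have : br (br (k * k) m) (k * m * k⁻¹) = 1 := by
        show br (k * k) m * (k * m * k⁻¹) * (br (k * k) m)⁻¹ * (k * m * k⁻¹)⁻¹ = 1
        rw [h.W_fix (h.conj_W hmW k) hz]; group
      rw [this, one_mul]
    have hfix2 : ∀ y ∈ Zs 2, k * y * k⁻¹ = y := by
      intro y hy
      obtain ⟨u', -, -, hug⟩ := h.exists_gen 1 (by norm_num)
      rcases hug y hy with e | e
      · exact hcen k y e
      · have hxu := (hug x₂ h2).resolve_left h2'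
        have e' : x₂⁻¹ * y ∈ Zs 1 := by
          have := (Zs 1).mul_mem ((Zs 1).inv_mem hxu) e
          simpa [mul_assoc] using this
        calc k * y * k⁻¹ = (k * x₂ * k⁻¹) * (k * (x₂⁻¹ * y) * k⁻¹) := by group
          _ = y := by rw [k2, hcen k _ e', mul_inv_cancel_left]
    have hd := (hxg c hc3).resolve_left hcon
    refine k3 ?_
    calc k * x₃ * k⁻¹ = (k * c * k⁻¹) * (k * (x₃⁻¹ * c) * k⁻¹)⁻¹ := by group
      _ = x₃ := by rw [hck, hfix2 _ hd]; group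
  -- representatives of `T/W`
  obtain ⟨a, ha2, ha3⟩ := h.card_quot.2 h.index_W x₁ h1 1 (Zs 2).one_mem x₂ h2 x₃ h3 h2' h3'
  obtain ⟨b, hb2, hb3⟩ := h.card_quot.2 h.index_W 1 (Zs 1).one_mem x₂ h2 x₂ h2 x₃ h3 h2' h3'
  obtain ⟨ζ, hc2, hc3⟩ := h.card_quot.2 h.index_W 1 (Zs 1).one_mem x₁ (ucs_mono 1 h1) x₂ h2 x₃ h3 h2' h3'
  simp only [mul_one] at ha3 hb2 hc2
  have h11 : x₁ * x₁ = 1 := h.elem (ucs_mono 2 (ucs_mono 1 h1))
  have h22 : x₂ * x₂ = 1 := h.elem (ucs_mono 2 h2)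
  have h12 : x₁ * x₂ = x₂ * x₁ := h.W_fix (h.le_W (ucs_mono 2 h2)) (ucs_mono 2 (ucs_mono 1 h1))
  have hmk : ∀ s t : T, s * x₂ * s⁻¹ = t * x₂ * t⁻¹ → s * x₃ * s⁻¹ = t * x₃ * t⁻¹ → s⁻¹ * t ∈ W := by
    intro s t e2 e3
    set g := s⁻¹ * t
    have hg : ∀ x, s * x * s⁻¹ = t * x * t⁻¹ → g * x * g⁻¹ = x := fun x e => by
      calc g * x * g⁻¹ = s⁻¹ * (t * x * t⁻¹) * s := by simp only [g]; group
        _ = x := by rw [← e]; group
    rw [h.hW, Subgroup.mem_centralizer_iff]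
    intro y hy
    have step : ∀ (n : ℕ), n < 3 → ∀ x ∈ Zs (n + 1), x ∉ Zs n → g * x * g⁻¹ = x →
        (∀ y ∈ Zs n, g * y * g⁻¹ = y) → ∀ y ∈ Zs (n + 1), g * y * g⁻¹ = y := by
      intro n hn x hx hx' kx ky y hy
      obtain ⟨u', -, -, hug⟩ := h.exists_gen n (by omega)
      rcases hug y hy with e | e
      · exact ky y e
      · have hxu := (hug x hx).resolve_left hx'
        have e' : x⁻¹ * y ∈ Zs n := by
          have := (Zs n).mul_mem ((Zs n).inv_mem hxu) e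
          simpa [mul_assoc] using this
        calc g * y * g⁻¹ = (g * x * g⁻¹) * (g * (x⁻¹ * y) * g⁻¹) := by group
          _ = y := by rw [kx, ky _ e', mul_inv_cancel_left]
    exact (mul_inv_eq_iff_eq_mul.mp (step 2 (by norm_num) x₃ h3 h3' (hg _ e3)
      (step 1 (by norm_num) x₂ h2 h2' (hg _ e2) (hcen g)) y hy)).symm
  -- the action of products
  have act : ∀ s t y y' : T, t * y * t⁻¹ = y' → (s * t) * y * (s * t)⁻¹ = s * y' * s⁻¹ := fun s t y y' e => by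
    rw [← e]; group
  have cj : ∀ s y y' : T, s * (y * y') * s⁻¹ = (s * y * s⁻¹) * (s * y' * s⁻¹) := fun s y y' => by group
  have c1 : ∀ s : T, s * x₁ * s⁻¹ = x₁ := fun s => hcen s x₁ h1
  have bζ2 : (b * ζ) * x₂ * (b * ζ)⁻¹ = x₂ := by rw [act b ζ _ _ hc2, hb2]
  have bζ3 : (b * ζ) * x₃ * (b * ζ)⁻¹ = x₃ * x₂ * x₁ := by rw [act b ζ _ _ hc3, cj, hb3, c1]
  have ab2 : (a * b) * x₂ * (a * b)⁻¹ = x₂ * x₁ := by rw [act a b _ _ hb2, ha2]
  have ab3 : (a * b) * x₃ * (a * b)⁻¹ = x₃ * x₂ * x₁ := by rw [act a b _ _ hb3, cj, ha3, ha2, mul_assoc]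
  have hsq : ∀ k, (k * k) * x₂ * (k * k)⁻¹ = x₂ → (k * k) * x₃ * (k * k)⁻¹ = x₃ → k * k ∈ W := fun k e2 e3 => by
    simpa using hmk 1 (k * k) (by simpa using e2.symm) (by simpa using e3.symm)
  have φζ : φ ζ := hφinvol ζ
    (hsq ζ (by rw [act ζ ζ _ _ hc2, hc2]) (by rw [act ζ ζ _ _ hc3, cj, hc3, c1, mul_assoc, h11, mul_one]))
    hc2 (by rw [hc3]; simpa using hx1)
  have hx2 : x₂ ≠ 1 := fun e => h2' (e ▸ (Zs 1).one_mem)
  have φb : φ b := hφinvol b
    (hsq b (by rw [act b b _ _ hb2, hb2]) (by rw [act b b _ _ hb3, cj, hb3, hb2, mul_assoc, h22, mul_one]))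
    hb2 (by rw [hb3]; simpa using hx2)
  have hx21 : x₂ * x₁ ≠ 1 := fun e => h2' (by
    rw [eq_inv_of_mul_eq_one_left e]; exact (Zs 1).inv_mem h1)
  have φbζ : φ (b * ζ) := hφinvol (b * ζ)
    (hsq _ (by rw [act _ _ _ _ bζ2, bζ2]) (by
      rw [act _ _ _ _ bζ3, cj, cj, bζ3, bζ2, c1]
      calc x₃ * x₂ * x₁ * x₂ * x₁ = x₃ * x₂ * (x₁ * x₂) * x₁ := by group
        _ = x₃ * (x₂ * x₂) * (x₁ * x₁) := by rw [h12]; group
        _ = x₃ := by rw [h22, h11, mul_one, mul_one]))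
    bζ2 (by rw [bζ3, mul_assoc]; simpa using hx21)
  have φab : φ (a * b * ζ) ↔ φ (a * b) := by
    rw [← hφinv (a * b)]
    have hW' : ((a * b)⁻¹)⁻¹ * (a * b * ζ) ∈ W := by
      rw [inv_inv]
      have k2 : (a * b * ζ) * x₂ * (a * b * ζ)⁻¹ = x₂ * x₁ := by rw [act _ ζ _ _ hc2, ab2]
      have k3 : (a * b * ζ) * x₃ * (a * b * ζ)⁻¹ = x₃ * x₂ := by
        rw [act _ ζ _ _ hc3, cj, ab3, c1, mul_assoc (x₃ * x₂), h11, mul_one]
      simpa using hmk 1 ((a * b) * (a * b * ζ))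
        (by rw [one_mul, inv_one, mul_one, act _ _ _ _ k2, cj, ab2, c1, mul_assoc, h11, mul_one])
        (by
          rw [one_mul, inv_one, mul_one, act _ _ _ _ k3, cj, ab3, ab2]
          calc x₃ = x₃ * (x₂ * x₂) * (x₁ * x₁) := by rw [h22, h11, mul_one, mul_one]
            _ = x₃ * x₂ * (x₂ * x₁) * x₁ := by group
            _ = x₃ * x₂ * (x₁ * x₂) * x₁ := by rw [h12]
            _ = _ := by group)
    have := hφW ((a * b)⁻¹) _ hW'
    rwa [mul_inv_cancel_left] at this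
  -- the eight representatives
  let R : Fin 8 → T := ![1, ζ, b, b * ζ, a, a * ζ, a * b, a * b * ζ]
  let act2 : Fin 8 → T × T := ![(x₂, x₃), (x₂, x₃ * x₁), (x₂, x₃ * x₂), (x₂, x₃ * x₂ * x₁),
    (x₂ * x₁, x₃), (x₂ * x₁, x₃ * x₁), (x₂ * x₁, x₃ * x₂ * x₁), (x₂ * x₁, x₃ * x₂)]
  have hR : ∀ i, (R i * x₂ * (R i)⁻¹, R i * x₃ * (R i)⁻¹) = act2 i := by
    intro i
    fin_cases i
    · show (1 * x₂ * 1⁻¹, 1 * x₃ * 1⁻¹) = (x₂, x₃)
      simp
    · show (ζ * x₂ * ζ⁻¹, ζ * x₃ * ζ⁻¹) = (x₂, x₃ * x₁)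
      rw [hc2, hc3]
    · show (b * x₂ * b⁻¹, b * x₃ * b⁻¹) = (x₂, x₃ * x₂)
      rw [hb2, hb3]
    · show (b * ζ * x₂ * (b * ζ)⁻¹, b * ζ * x₃ * (b * ζ)⁻¹) = (x₂, x₃ * x₂ * x₁)
      rw [bζ2, bζ3]
    · show (a * x₂ * a⁻¹, a * x₃ * a⁻¹) = (x₂ * x₁, x₃)
      rw [ha2, ha3]
    · show (a * ζ * x₂ * (a * ζ)⁻¹, a * ζ * x₃ * (a * ζ)⁻¹) = (x₂ * x₁, x₃ * x₁)
      rw [act a ζ _ _ hc2, act a ζ _ _ hc3, ha2, cj, ha3, c1]
    · show (a * b * x₂ * (a * b)⁻¹, a * b * x₃ * (a * b)⁻¹) = (x₂ * x₁, x₃ * x₂ * x₁)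
      rw [ab2, ab3]
    · show (a * b * ζ * x₂ * (a * b * ζ)⁻¹, a * b * ζ * x₃ * (a * b * ζ)⁻¹) = (x₂ * x₁, x₃ * x₂)
      rw [act _ ζ _ _ hc2, act _ ζ _ _ hc3, ab2, cj, ab3, c1, mul_assoc (x₃ * x₂), h11, mul_one]
  have hact2 : Function.Injective act2 := by
    have n1 : x₂ * x₁ ≠ x₂ := fun e => hx1 (mul_eq_left.mp e)
    have n2 : x₂ * x₁ ≠ x₁ := fun e => hx2 (mul_eq_right.mp e)
    have n3 : x₂ ≠ x₁ := fun e => h2' (e ▸ h1)
    intro i j e
    fin_cases i <;> fin_cases j <;> first | rfl | (exfalso; revert e; simp [act2, hx1, hx2, n1, n2, n3, Ne.symm hx1, Ne.symm hx2, Ne.symm n1, Ne.symm n2, Ne.symm n3, hx21, mul_assoc])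
  let q : Fin 8 → T ⧸ W := fun i => QuotientGroup.mk (R i)
  have hq : Function.Bijective q := by
    refine (Nat.bijective_iff_injective_and_card q).mpr ⟨fun i j e => hact2 ?_, by rw [Nat.card_fin]; exact h.index_W.symm⟩
    have hm' : (R i)⁻¹ * R j ∈ W := QuotientGroup.eq.mp e
    rw [← hR i, ← hR j]
    have : ∀ y ∈ Zs 3, R j * y * (R j)⁻¹ = R i * y * (R i)⁻¹ := fun y hy => by
      calc R j * y * (R j)⁻¹ = R i * (((R i)⁻¹ * R j) * y) * (R j)⁻¹ := by group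
        _ = R i * (y * ((R i)⁻¹ * R j)) * (R j)⁻¹ := by rw [h.W_fix hm' hy]
        _ = _ := by group
    rw [this x₂ (ucs_mono 2 h2), this x₃ h3]
  -- the value at `v` forces the last equality
  let p : Fin 8 → T := fun i => R i * m * (R i)⁻¹
  have hpW : ∀ i, p i ∈ W := fun i => h.conj_W hmW _
  let P := p 0 * p 1 * p 2 * p 3 * p 4 * p 5 * p 6 * p 7
  have m1 := W.mul_mem (hpW 0) (hpW 1)
  have m2 := W.mul_mem m1 (hpW 2)
  have m3 := W.mul_mem m2 (hpW 3)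
  have m4 := W.mul_mem m3 (hpW 4)
  have m5 := W.mul_mem m4 (hpW 5)
  have m6 := W.mul_mem m5 (hpW 6)
  have hPW : P ∈ W := by
    simp only [P]
    exact W.mul_mem (W.mul_mem (W.mul_mem (W.mul_mem (W.mul_mem (W.mul_mem (W.mul_mem (hpW 0) (hpW 1)) (hpW 2)) (hpW 3)) (hpW 4)) (hpW 5)) (hpW 6)) (hpW 7)
  have hPv : v⁻¹ * P ∈ Zs 3 := by
    refine hker _ (W.mul_mem (W.inv_mem hvW) hPW) fun t => ?_
    have e : t * (v⁻¹ * P) * t⁻¹ = (t * v * t⁻¹)⁻¹ * ((t * p 0 * t⁻¹) * (t * p 1 * t⁻¹) * (t * p 2 * t⁻¹) *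
        (t * p 3 * t⁻¹) * (t * p 4 * t⁻¹) * (t * p 5 * t⁻¹) * (t * p 6 * t⁻¹) * (t * p 7 * t⁻¹)) := by
      simp only [P]; group
    have hP' : ∀ i, (t * p i * t⁻¹ ∈ H ↔ t * R i ∉ W) := fun i => by
      rw [show t * p i * t⁻¹ = (t * R i) * m * (t * R i)⁻¹ by simp only [p]; group]
      exact hm _
    obtain ⟨i₀, hi₀⟩ := hq.2 (QuotientGroup.mk t⁻¹)
    have hiW : ∀ i, t * R i ∈ W ↔ i = i₀ := fun i => by
      rw [← QuotientGroup.eq_one_iff, QuotientGroup.mk_mul, ← mul_right_inj (QuotientGroup.mk t⁻¹ : T ⧸ W), ← mul_assoc,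
        ← QuotientGroup.mk_mul, inv_mul_cancel, QuotientGroup.mk_one, one_mul, mul_one, ← hi₀]
      exact ⟨fun e => hq.1 e, fun e => e ▸ rfl⟩
    have hw : ∀ i, t * p i * t⁻¹ ∈ W := fun i => h.conj_W (hpW i) t
    have hvt : t * v * t⁻¹ ∉ H := fun h' => hvH (by
      have h'' := H.mul_mem (H.inv_mem (hPH (hvfix t))) h'
      simpa [mul_assoc] using h'')
    have w1 := W.mul_mem (hw 0) (hw 1)
    have w2 := W.mul_mem w1 (hw 2)
    have w3 := W.mul_mem w2 (hw 3)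
    have w4 := W.mul_mem w3 (hw 4)
    have w5 := W.mul_mem w4 (hw 5)
    have w6 := W.mul_mem w5 (hw 6)
    rw [e, hiff _ (W.inv_mem (h.conj_W hvW t)) _ (W.mul_mem w6 (hw 7)), inv_mem_iff, hiff _ w6 _ (hw 7),
      hiff _ w5 _ (hw 6), hiff _ w4 _ (hw 5), hiff _ w3 _ (hw 4), hiff _ w2 _ (hw 3), hiff _ w1 _ (hw 2),
      hiff _ (hw 0) _ (hw 1)]
    simp only [hP', hiW, iff_false_left hvt]
    fin_cases i₀ <;> decide
  have hφP : f (br P m) := by
    have : br P m = 1 := by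
      have hPc : P * m = m * P := by
        have e : P = v * (v⁻¹ * P) := (mul_inv_cancel_left v P).symm
        rw [e, mul_assoc, h.W_fix hmW hPv, ← mul_assoc, hvc m hmW, mul_assoc]
      show P * m * P⁻¹ * m⁻¹ = 1
      rw [hPc]; group
    rw [this]; exact (Zs 2).one_mem
  have hbm : ∀ i, br (p i) m = br m (p i) := fun i => hbri m (p i) hmW (hpW i)
  have hz : ∀ i, br m (p i) ∈ Zs 3 := fun i => hbr _ _ hmW (hpW i)
  have φa : φ (a * ζ) ↔ φ a := by
    simp only [P] at hφP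
    rw [hbrl _ _ _ m6 (hpW 7) hmW, hbrl _ _ _ m5 (hpW 6) hmW, hbrl _ _ _ m4 (hpW 5) hmW, hbrl _ _ _ m3 (hpW 4) hmW,
      hbrl _ _ _ m2 (hpW 3) hmW, hbrl _ _ _ m1 (hpW 2) hmW, hbrl _ _ _ (hpW 0) (hpW 1) hmW] at hφP
    simp only [hbm] at hφP
    have z1 := (Zs 3).mul_mem (hz 0) (hz 1)
    have z2 := (Zs 3).mul_mem z1 (hz 2)
    have z3 := (Zs 3).mul_mem z2 (hz 3)
    have z4 := (Zs 3).mul_mem z3 (hz 4)
    have z5 := (Zs 3).mul_mem z4 (hz 5)
    have z6 := (Zs 3).mul_mem z5 (hz 6)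
    rw [hf2 _ _ z6 (hz 7), hf2 _ _ z5 (hz 6), hf2 _ _ z4 (hz 5), hf2 _ _ z3 (hz 4), hf2 _ _ z2 (hz 3),
      hf2 _ _ z1 (hz 2), hf2 _ _ (hz 0) (hz 1)] at hφP
    have g0 : f (br m (p 0)) ↔ True := iff_true_intro (hφ1 1 W.one_mem)
    have g1 : f (br m (p 1)) ↔ True := iff_true_intro φζ
    have g2 : f (br m (p 2)) ↔ True := iff_true_intro φb
    have g3 : f (br m (p 3)) ↔ True := iff_true_intro φbζ
    have g4 : f (br m (p 4)) ↔ φ a := Iff.rfl
    have g5 : f (br m (p 5)) ↔ φ (a * ζ) := Iff.rfl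
    have g6 : f (br m (p 6)) ↔ φ (a * b) := Iff.rfl
    have g7 : f (br m (p 7)) ↔ φ (a * b) := φab
    simp only [g0, g1, g2, g3, g4, g5, g6, g7, iff_self, true_iff] at hφP
    revert hφP
    generalize φ a = A, φ (a * ζ) = B, φ (a * b) = D
    exact iff_cancel_helper
  have hζζ : ζ * ζ ∈ W := hsq ζ (by rw [act ζ ζ _ _ hc2, hc2]) (by rw [act ζ ζ _ _ hc3, cj, hc3, c1, mul_assoc, h11, mul_one])
  have hζcomm : ∀ i, (R i * ζ)⁻¹ * (ζ * R i) ∈ W := by
    intro i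
    have e := hR i
    simp only [Prod.ext_iff] at e
    obtain ⟨e2, e3⟩ := e
    refine hmk _ _ ?_ ?_
    · rw [act _ _ _ _ hc2, act _ _ _ _ rfl, e2]
      fin_cases i <;> simp only [act2] <;> first
        | exact hc2.symm
        | (show x₂ * x₁ = ζ * (x₂ * x₁) * ζ⁻¹; rw [cj, hc2, c1])
    · rw [act _ _ _ _ hc3, cj, c1, act _ _ _ _ rfl, e3]
      fin_cases i <;> simp only [act2] <;> first
        | (show x₃ * x₁ = ζ * x₃ * ζ⁻¹; rw [hc3])
        | (show x₃ * x₁ * x₁ = ζ * (x₃ * x₁) * ζ⁻¹; rw [cj, hc3, c1])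
        | (show x₃ * x₂ * x₁ = ζ * (x₃ * x₂) * ζ⁻¹; rw [cj, hc3, hc2, mul_assoc, mul_assoc, h12])
        | (show x₃ * x₂ * x₁ * x₁ = ζ * (x₃ * x₂ * x₁) * ζ⁻¹; rw [cj, cj, hc3, hc2, c1, mul_assoc x₃, mul_assoc x₃ x₁, h12])
  have hφζ : ∀ k, φ (k * ζ) ↔ φ k := by
    intro k
    obtain ⟨i, hi'⟩ := hq.2 (QuotientGroup.mk k)
    have hu : (R i)⁻¹ * k ∈ W := QuotientGroup.eq.mp hi'
    have e1 : φ k ↔ φ (R i) := by
      have := hφW (R i) _ hu
      rwa [mul_inv_cancel_left] at this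
    have hu' : (R i * ζ)⁻¹ * (k * ζ) ∈ W := by
      have := h.conj_W hu ζ⁻¹
      rw [show (R i * ζ)⁻¹ * (k * ζ) = ζ⁻¹ * ((R i)⁻¹ * k) * ζ⁻¹⁻¹ by group]
      exact this
    have e2 : φ (k * ζ) ↔ φ (R i * ζ) := by
      have := hφW (R i * ζ) _ hu'
      rwa [mul_inv_cancel_left] at this
    have e4 : ∀ s : T, φ (s * ζ * ζ) ↔ φ s := fun s => by
      rw [mul_assoc]; exact hφW s _ hζζ
    rw [e1, e2]
    fin_cases i
    · show φ (1 * ζ) ↔ φ 1
      rw [one_mul]; exact iff_of_true φζ (hφ1 1 W.one_mem)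
    · show φ (ζ * ζ) ↔ φ ζ
      exact iff_of_true (hφ1 _ hζζ) φζ
    · exact iff_of_true φbζ φb
    · show φ (b * ζ * ζ) ↔ φ (b * ζ)
      rw [e4]; exact iff_of_true φb φbζ
    · exact φa
    · show φ (a * ζ * ζ) ↔ φ (a * ζ)
      rw [e4]; exact φa.symm
    · exact φab
    · show φ (a * b * ζ * ζ) ↔ φ (a * b * ζ)
      rw [e4]; exact φab.symm
  -- a large radical
  let E₀ : Subgroup T :=
    { carrier := {r | r ∈ W ∧ ∀ w ∈ W, f (br r w)}
      one_mem' := ⟨W.one_mem, fun w _ => by simp only [br, one_mul, inv_one, mul_one, mul_inv_cancel]; exact (Zs 2).one_mem⟩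
      mul_mem' := fun {r s} hr hs => ⟨W.mul_mem hr.1 hs.1, fun w hw => by
        rw [hbrl _ _ _ hr.1 hs.1 hw, hf2 _ _ (hbr _ _ hr.1 hw) (hbr _ _ hs.1 hw)]
        exact iff_of_true (hr.2 w hw) (hs.2 w hw)⟩
      inv_mem' := fun {r} hr => ⟨W.inv_mem hr.1, fun w hw => by
        have h' := hbrl r r⁻¹ w hr.1 (W.inv_mem hr.1) hw
        rw [mul_inv_cancel] at h'
        have h1' : br 1 w = 1 := by simp [br]
        rw [h1'] at h'
        rw [eq_inv_of_mul_eq_one_right h'.symm]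
        exact (Zs 2).inv_mem (hr.2 w hw)⟩ }
  set e := (ζ * m * ζ⁻¹) * m with he
  have heW : e ∈ W := W.mul_mem (h.conj_W hmW ζ) hmW
  have hek : ∀ k, f (br e (k * m * k⁻¹)) := by
    intro k
    rw [hbrl _ _ _ (h.conj_W hmW ζ) hmW (h.conj_W hmW k), hf2 _ _ (hbr _ _ (h.conj_W hmW ζ) (h.conj_W hmW k)) (hbr _ _ hmW (h.conj_W hmW k)),
      ← hfconj ζ⁻¹ (br (ζ * m * ζ⁻¹) _), hbrconj, show ζ⁻¹ * (ζ * m * ζ⁻¹) * ζ⁻¹⁻¹ = m by group,
      show ζ⁻¹ * (k * m * k⁻¹) * ζ⁻¹⁻¹ = (ζ⁻¹ * k) * m * (ζ⁻¹ * k)⁻¹ by group]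
    show φ (ζ⁻¹ * k) ↔ φ k
    obtain ⟨i, hi'⟩ := hq.2 (QuotientGroup.mk k)
    have hk' : (QuotientGroup.mk (ζ⁻¹ * k) : T ⧸ W) = QuotientGroup.mk (k * ζ) := by
      have hz2 : (QuotientGroup.mk ζ : T ⧸ W)⁻¹ = QuotientGroup.mk ζ :=
        inv_eq_of_mul_eq_one_right (by rw [← QuotientGroup.mk_mul, QuotientGroup.eq_one_iff]; exact hζζ)
      have hc : (QuotientGroup.mk (R i) : T ⧸ W) * QuotientGroup.mk ζ = QuotientGroup.mk ζ * QuotientGroup.mk (R i) := by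
        rw [← QuotientGroup.mk_mul, ← QuotientGroup.mk_mul]; exact QuotientGroup.eq.mpr (hζcomm i)
      rw [QuotientGroup.mk_mul, QuotientGroup.mk_mul, QuotientGroup.mk_inv, hz2, ← hi']
      exact hc.symm
    have := hφW (ζ⁻¹ * k) _ (QuotientGroup.eq.mp hk')
    rw [mul_inv_cancel_left] at this
    rw [← this]; exact hφζ k
  have heE : e ∈ E₀ := by
    refine ⟨heW, fun w hw => ?_⟩
    let S : Subgroup T :=
      { carrier := {w | w ∈ W ∧ f (br w e)}
        one_mem' := ⟨W.one_mem, by simp only [br, one_mul, inv_one, mul_one, mul_inv_cancel]; exact (Zs 2).one_mem⟩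
        mul_mem' := fun {r s} hr hs => ⟨W.mul_mem hr.1 hs.1, by
          rw [hbrl _ _ _ hr.1 hs.1 heW, hf2 _ _ (hbr _ _ hr.1 heW) (hbr _ _ hs.1 heW)]
          exact iff_of_true hr.2 hs.2⟩
        inv_mem' := fun {r} hr => ⟨W.inv_mem hr.1, by
          have h' := hbrl r r⁻¹ e hr.1 (W.inv_mem hr.1) heW
          rw [mul_inv_cancel, show br 1 e = 1 by simp [br]] at h'
          rw [eq_inv_of_mul_eq_one_right h'.symm]
          exact (Zs 2).inv_mem hr.2⟩ }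
    have hle : W ≤ S := hgen.trans ((Subgroup.closure_le _).mpr (Set.union_subset
      (fun y hy => ⟨h.le_W hy, by
        show f (y * e * y⁻¹ * e⁻¹)
        rw [h.W_fix heW hy, mul_inv_cancel_right, mul_inv_cancel]
        exact (Zs 2).one_mem⟩)
      (by rintro _ ⟨t, rfl⟩; exact ⟨h.conj_W hmW t, hbri e _ heW (h.conj_W hmW t) ▸ hek t⟩)))
    rw [← hbri e w heW hw]
    exact (hle hw).2
  have h3E : Zs 3 ≤ E₀ := fun y hy => ⟨h.le_W hy, fun w hw => by
    show f (y * w * y⁻¹ * w⁻¹)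
    rw [h.W_fix hw hy, mul_inv_cancel_right, mul_inv_cancel]
    exact (Zs 2).one_mem⟩
  have hconjE : ∀ t r, r ∈ E₀ → t * r * t⁻¹ ∈ E₀ := fun t r hr => ⟨h.conj_W hr.1 t, fun w hw => by
    rw [show w = t * (t⁻¹ * w * t⁻¹⁻¹) * t⁻¹ by group, ← hbrconj, hfconj]
    exact hr.2 _ (h.conj_W hw t⁻¹)⟩
  have hE0c : 128 ≤ Nat.card E₀ := by
    let S : Fin 4 → T := ![1, b, a, a * b]
    let es : Fin 4 → T := fun i => (S i)⁻¹ * e * S i
    have hes : ∀ i, es i ∈ E₀ := fun i => by simpa [es] using hconjE (S i)⁻¹ e heE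
    let F : (Bool × Bool × Bool × Bool) × Zs 3 → E₀ := fun p => ⟨
      (if p.1.1 then es 0 else 1) * (if p.1.2.1 then es 1 else 1) * (if p.1.2.2.1 then es 2 else 1) *
        (if p.1.2.2.2 then es 3 else 1) * p.2, by
      refine E₀.mul_mem (E₀.mul_mem (E₀.mul_mem (E₀.mul_mem ?_ ?_) ?_) ?_) (h3E p.2.2) <;>
        (split_ifs; exacts [hes _, E₀.one_mem])⟩
    -- values on the four representatives
    have hSW : ∀ j i, ((S j * (S i)⁻¹) * ζ ∉ W) ∧ (S j * (S i)⁻¹ ∈ W ↔ j = i) := by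
      intro j i
      have hqi : ∀ u w : Fin 8, (R u) * (R w)⁻¹ ∈ W ↔ u = w := fun u w => by
        rw [← QuotientGroup.eq_one_iff, QuotientGroup.mk_mul, QuotientGroup.mk_inv, mul_inv_eq_one]
        exact ⟨fun e => hq.1 e, fun e => e ▸ rfl⟩
      have h2R : ∀ j : Fin 4, S j = R ((![0, 2, 4, 6] : Fin 4 → Fin 8) j) ∧ S j * ζ = R ((![1, 3, 5, 7] : Fin 4 → Fin 8) j) := by
        intro j
        fin_cases j <;> refine ⟨rfl, ?_⟩ <;> first | exact one_mul ζ | rfl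
      refine ⟨?_, ?_⟩
      · have hc : (S j * (S i)⁻¹ * ζ) ∈ W ↔ (S j * ζ) * (S i)⁻¹ ∈ W := by
          rw [← QuotientGroup.eq_one_iff, ← QuotientGroup.eq_one_iff]
          simp only [QuotientGroup.mk_mul, QuotientGroup.mk_inv]
          have hc0 : (QuotientGroup.mk (S i) : T ⧸ W) * QuotientGroup.mk ζ = QuotientGroup.mk ζ * QuotientGroup.mk (S i) := by
            rw [(h2R i).1, ← QuotientGroup.mk_mul, ← QuotientGroup.mk_mul]; exact QuotientGroup.eq.mpr (hζcomm _)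
          rw [mul_assoc, mul_assoc, (show Commute (QuotientGroup.mk (S i) : T ⧸ W) (QuotientGroup.mk ζ) from hc0).inv_left.eq]
        rw [hc, (h2R j).2, (h2R i).1, hqi]
        fin_cases i <;> fin_cases j <;> decide
      · rw [(h2R j).1, (h2R i).1, hqi]
        fin_cases i <;> fin_cases j <;> decide
    have hval : ∀ j i, S j * es i * (S j)⁻¹ ∈ H ↔ j ≠ i := by
      intro j i
      have hd : S j * es i * (S j)⁻¹ = ((S j * (S i)⁻¹ * ζ) * m * (S j * (S i)⁻¹ * ζ)⁻¹) *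
          ((S j * (S i)⁻¹) * m * (S j * (S i)⁻¹)⁻¹) := by simp only [es, he]; group
      rw [hd, hiff _ (h.conj_W hmW _) _ (h.conj_W hmW _), hm, hm, iff_true_left (hSW j i).1]
      exact not_congr (hSW j i).2
    have hesW : ∀ i, es i ∈ W := fun i => (hes i).1
    have hif : ∀ (q : Bool) (i : Fin 4), (if q then es i else 1) ∈ W := fun q i => by
      split_ifs; exacts [hesW i, W.one_mem]
    have hFv : ∀ p j, S j * (F p : T) * (S j)⁻¹ ∈ H ↔ ![p.1.1, p.1.2.1, p.1.2.2.1, p.1.2.2.2] j = false := by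
      intro p j
      have e' : S j * (F p : T) * (S j)⁻¹ = (S j * (if p.1.1 then es 0 else 1) * (S j)⁻¹) * (S j * (if p.1.2.1 then es 1 else 1) * (S j)⁻¹) *
          (S j * (if p.1.2.2.1 then es 2 else 1) * (S j)⁻¹) * (S j * (if p.1.2.2.2 then es 3 else 1) * (S j)⁻¹) * (S j * (p.2 : T) * (S j)⁻¹) := by
        simp only [F]; group
      have hz' : S j * (p.2 : T) * (S j)⁻¹ ∈ H := hPH ((inferInstance : (Zs 3).Normal).conj_mem _ p.2.2 _)
      rw [e', H.mul_mem_cancel_right hz',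
        hiff _ (W.mul_mem (W.mul_mem (h.conj_W (hif _ _) _) (h.conj_W (hif _ _) _)) (h.conj_W (hif _ _) _)) _ (h.conj_W (hif _ _) _),
        hiff _ (W.mul_mem (h.conj_W (hif _ _) _) (h.conj_W (hif _ _) _)) _ (h.conj_W (hif _ _) _),
        hiff _ (h.conj_W (hif _ _) _) _ (h.conj_W (hif _ _) _)]
      have hite : ∀ (q : Bool) (i : Fin 4), S j * (if q then es i else 1) * (S j)⁻¹ ∈ H ↔ (q = false ∨ j ≠ i) := by
        intro q i
        cases q
        · simp [H.one_mem]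
        · simpa using hval j i
      simp only [hite]
      clear e' hz'
      generalize p.1.1 = q0, p.1.2.1 = q1, p.1.2.2.1 = q2, p.1.2.2.2 = q3
      revert q0 q1 q2 q3
      exact fun q0 q1 q2 q3 => parity_helper j q0 q1 q2 q3
    have hF : Function.Injective F := by
      intro p p' e'
      have hc : p.1 = p'.1 := by
        obtain ⟨⟨q0, q1, q2, q3⟩, z⟩ := p
        obtain ⟨⟨r0, r1, r2, r3⟩, z'⟩ := p'
        have k : ∀ j, ![q0, q1, q2, q3] j = false ↔ ![r0, r1, r2, r3] j = false := fun j => by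
          have a1 := hFv ⟨⟨q0, q1, q2, q3⟩, z⟩ j
          rw [congrArg Subtype.val e', hFv] at a1
          exact a1.symm
        have k0 := k 0
        have k1 := k 1
        have k2 := k 2
        have k3 := k 3
        revert k0 k1 k2 k3
        cases q0 <;> cases q1 <;> cases q2 <;> cases q3 <;> cases r0 <;> cases r1 <;> cases r2 <;> cases r3 <;> simp
      refine Prod.ext hc (Subtype.ext ?_)
      have := congrArg Subtype.val e'
      simp only [F, hc] at this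
      exact mul_left_cancel this
    have h' := Nat.card_le_card_of_injective F hF
    rw [Nat.card_prod, h.card_ucs 3 (by norm_num), Nat.card_eq_fintype_card] at h'
    simpa using h'
  -- the quotient by `Z₂`
  have hle2 : Zs 2 ≤ W := (ucs_mono 2).trans h.le_W
  let π := QuotientGroup.mk' ((Zs 2).subgroupOf W)
  set z := π ⟨x₃, h.le_W h3⟩ with hzdef
  have hmem : ∀ (y : T) (hy : y ∈ W), y ∈ Zs 3 → π ⟨y, hy⟩ = 1 ∨ π ⟨y, hy⟩ = z := by
    intro y hy hy3
    rcases hxg y hy3 with e' | e'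
    · exact Or.inl ((QuotientGroup.eq_one_iff _).mpr e')
    · exact Or.inr (QuotientGroup.eq.mpr (show (⟨x₃, h.le_W h3⟩ : W)⁻¹ * ⟨y, hy⟩ ∈ (Zs 2).subgroupOf W from e')).symm
  obtain ⟨E, hzE, hE⟩ := exists_avoid (z := z)
    (fun e' => h3' ((QuotientGroup.eq_one_iff _).mp e' : (⟨x₃, h.le_W h3⟩ : W) ∈ (Zs 2).subgroupOf W))
    (by
      rw [hzdef, ← map_mul]
      exact (QuotientGroup.eq_one_iff _).mpr (show x₃ * x₃ ∈ Zs 2 by rw [h.elem h3]; exact (Zs 2).one_mem))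
    (fun a' => by
      obtain ⟨⟨a', ha'⟩, rfl⟩ := QuotientGroup.mk_surjective a'
      exact hmem (a' * a') (W.mul_mem ha' ha') (hPk ▸ h.sq_mem ha'))
    (fun a' b' => by
      obtain ⟨⟨a', ha'⟩, rfl⟩ := QuotientGroup.mk_surjective a'
      obtain ⟨⟨b', hb'⟩, rfl⟩ := QuotientGroup.mk_surjective b'
      exact hmem _ (W.mul_mem (W.mul_mem (W.mul_mem ha' hb') (W.inv_mem ha')) (W.inv_mem hb')) (hPk ▸ h.comm_mem ha' hb'))
  have h4 : Nat.card ((Zs 2).subgroupOf W) = 4 := by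
    rw [Nat.card_congr (Subgroup.subgroupOfEquivOfLe hle2).toEquiv, h.card_ucs 2 (by norm_num)]; norm_num
  have hcQ : Nat.card (W ⧸ (Zs 2).subgroupOf W) = 512 := by
    have h' := Subgroup.card_eq_card_quotient_mul_card_subgroup ((Zs 2).subgroupOf W)
    rw [h4, h.card_W] at h'
    norm_num at h'
    omega
  have hcC : 32 ≤ Nat.card (Subgroup.center (W ⧸ (Zs 2).subgroupOf W)) := by
    have hle : (E₀.subgroupOf W).map π ≤ Subgroup.center (W ⧸ (Zs 2).subgroupOf W) := by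
      rintro _ ⟨r, hr, rfl⟩
      refine Subgroup.mem_center_iff.mpr fun w => ?_
      obtain ⟨w, rfl⟩ := QuotientGroup.mk_surjective w
      refine ((mul_inv_eq_iff_eq_mul.mp (mul_inv_eq_one.mp ?_))).symm
      show π (r * w * r⁻¹ * w⁻¹) = 1
      exact (QuotientGroup.eq_one_iff _).mpr (hr.2 w w.2)
    refine le_trans ?_ (Subgroup.card_le_of_le hle)
    have hEle : E₀ ≤ W := fun r hr => hr.1
    have hker' : π.ker ≤ E₀.subgroupOf W := by
      rw [QuotientGroup.ker_mk']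
      intro y hy
      exact h3E (ucs_mono 2 hy)
    have hi' : ((E₀.subgroupOf W).map π).index = (E₀.subgroupOf W).index :=
      Subgroup.index_map_eq _ (QuotientGroup.mk'_surjective _) hker'
    have e1 := Subgroup.card_mul_index ((E₀.subgroupOf W).map π)
    have e2 := Subgroup.card_mul_index (E₀.subgroupOf W)
    rw [hi', hcQ] at e1
    rw [Nat.card_congr (Subgroup.subgroupOfEquivOfLe hEle).toEquiv, h.card_W] at e2
    norm_num at e2
    have hn : (E₀.subgroupOf W).index ≠ 0 := Subgroup.index_ne_zero_of_finite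
    nlinarith
  set E' := (E.comap π).map W.subtype with hE'
  have hcE : Nat.card W ≤ 16 * Nat.card E' := by
    rw [Subgroup.card_map_of_injective W.subtype_injective]
    have h2' := Subgroup.card_mul_index (E.comap π)
    rw [Subgroup.index_comap_of_surjective _ (QuotientGroup.mk'_surjective _)] at h2'
    have h1' := Subgroup.card_mul_index E
    rw [hcQ] at h1' hE
    have h3i : E.index ≤ 16 := by
      by_contra hlt
      push Not at hlt
      have hpos := Nat.card_pos (α := E)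
      have : Nat.card E * 17 ≤ 512 := by
        calc Nat.card E * 17 ≤ Nat.card E * E.index := Nat.mul_le_mul_left _ hlt
          _ = 512 := h1'
      have hE30 : Nat.card E ≤ 30 := by omega
      nlinarith
    rw [← h2']
    nlinarith
  obtain ⟨⟨y, hy⟩, hyE, e'⟩ := h.hd' (Subgroup.map_subtype_le _) hcE (hPk.ge h3)
  obtain rfl : y = x₃ := e'
  exact hzE hyE

end Setup

end Cfsg.Agent.InvChar.TwoFourteen
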