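import Cfsg.Agent.Lib.InvChar.TwoFourteen

/-!
# The structure of `T` with `W = C_T(Z₃(T))`
-/

set_option autoImplicit false
set_option linter.style.haveILetI false
set_option linter.unusedSectionVars false

namespace Cfsg.Agent.InvChar.TwoFourteen

open scoped commutatorElement

open Cfsg Cfsg.Agent

/-- The hypotheses. -/
structure Setup (T : Type*) [Group T] (W : Subgroup T) : Prop where
  hT : IsPGroup 2 T
  ha : 2 ^ 14 ≤ Nat.card T
  hb : Nat.card ↥(Subgroup.upperCentralSeries T 4) = 16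
  hW : W = Subgroup.centralizer ((Subgroup.upperCentralSeries T 3 : Subgroup T) : Set T)
  hc : Nat.card ↥(frattini ↥W) ≤ 8
  hd : ∀ U : Subgroup ↥W, U.index ≤ 16 → frattini ↥W ≤ U

variable {T : Type*} [Group T] [Finite T] {W : Subgroup T}

local notation "Zs" => Subgroup.upperCentralSeries T

/-- The image of the Frattini subgroup of `W`. -/
abbrev phi (W : Subgroup T) : Subgroup T := (frattini ↥W).map W.subtype

theorem ucs_lt (hT : IsPGroup 2 T) (n : ℕ) (h : Zs n ≠ ⊤) : Zs n < Zs (n + 1) := by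
  obtain ⟨u, -, hu, hut⟩ := exists_fixed hT (N := Zs n) (K := ⊤) (lt_top_iff_ne_top.mpr h)
  exact lt_of_le_of_ne (ucs_mono n) fun e => hu (e ▸ (step_iff n u).mpr hut)

namespace Setup

theorem card_ucs (h : Setup T W) : ∀ i ≤ 4, Nat.card (Zs i) = 2 ^ i := by
  have hgrow : ∀ i < 4, 2 * Nat.card (Zs i) ≤ Nat.card (Zs (i + 1)) := by
    intro i hi
    have hne : Zs i ≠ ⊤ := fun e => by
      have hm : Zs i ≤ Zs 4 := by
        have hmono : Monotone fun n => Zs n := monotone_nat_of_le_succ ucs_mono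
        exact hmono (by omega)
      have := Subgroup.card_le_of_le hm
      rw [h.hb, e, Subgroup.card_top] at this
      have := h.ha
      omega
    have hlt := ucs_lt h.hT i hne
    obtain ⟨c, hc⟩ := Subgroup.card_dvd_of_le hlt.le
    have hne' : Nat.card (Zs i) ≠ Nat.card (Zs (i + 1)) := fun e => hlt.ne (Subgroup.eq_of_le_of_card_ge hlt.le e.ge)
    have hpos := Nat.card_pos (α := Zs (i + 1))
    rw [hc] at hne' hpos ⊢
    rcases c with _ | _ | c
    · simp at hpos
    · simp at hne'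
    · nlinarith
  have h0 : Nat.card (Zs 0) = 1 := by rw [Subgroup.upperCentralSeries_zero]; exact Subgroup.card_bot
  have h1 := hgrow 0 (by norm_num)
  have h2 := hgrow 1 (by norm_num)
  have h3 := hgrow 2 (by norm_num)
  have h4 := hgrow 3 (by norm_num)
  simp only [zero_add, show (1 + 1 : ℕ) = 2 from rfl, show (2 + 1 : ℕ) = 3 from rfl, show (3 + 1 : ℕ) = 4 from rfl] at h1 h2 h3 h4
  have hb := h.hb
  intro i hi
  interval_cases i <;> simp only [Nat.reducePow, pow_zero, pow_one] <;> omega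

theorem exists_gen (h : Setup T W) (i : ℕ) (hi : i < 4) :
    ∃ x ∈ Zs (i + 1), x ∉ Zs i ∧ (∀ y ∈ Zs (i + 1), y ∈ Zs i ∨ x⁻¹ * y ∈ Zs i) := by
  classical
  obtain ⟨x, hx, hx'⟩ : ∃ x ∈ Zs (i + 1), x ∉ Zs i := by
    by_contra hcon
    push Not at hcon
    have := Subgroup.card_le_of_le (show Zs (i + 1) ≤ Zs i from hcon)
    rw [h.card_ucs _ (by omega), h.card_ucs _ (by omega), pow_succ] at this
    have := Nat.one_le_two_pow (n := i)
    omega
  refine ⟨x, hx, hx', fun y hy => ?_⟩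
  have hidx : ((Zs i).subgroupOf (Zs (i + 1))).index = 2 := by
    have h1 := Subgroup.card_mul_index ((Zs i).subgroupOf (Zs (i + 1)))
    rw [Nat.card_congr (Subgroup.subgroupOfEquivOfLe (ucs_mono i)).toEquiv, h.card_ucs _ (by omega),
      h.card_ucs _ (by omega), pow_succ] at h1
    exact Nat.eq_of_mul_eq_mul_left (Nat.one_le_two_pow (n := i)) h1
  by_cases hy' : y ∈ Zs i
  · exact Or.inl hy'
  · refine Or.inr ?_
    have := (Subgroup.mul_mem_iff_of_index_two hidx (a := ⟨x⁻¹, Subgroup.inv_mem _ hx⟩) (b := ⟨y, hy⟩)).mpr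
      (iff_of_false (fun e => hx' (by simpa [Subgroup.mem_subgroupOf] using e))
        (fun e => hy' (by simpa [Subgroup.mem_subgroupOf] using e)))
    simpa [Subgroup.mem_subgroupOf] using this

theorem normal_W (h : Setup T W) : W.Normal := by rw [h.hW]; exact Subgroup.normal_centralizer

theorem conj_W (h : Setup T W) {w : T} (hw : w ∈ W) (t : T) : t * w * t⁻¹ ∈ W := h.normal_W.conj_mem w hw t

theorem W_fix (h : Setup T W) {w z : T} (hw : w ∈ W) (hz : z ∈ Zs 3) : z * w = w * z :=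
  Subgroup.mem_centralizer_iff.mp (h.hW.le hw) z hz

theorem sq_mem (h : Setup T W) {a : T} (ha : a ∈ W) : a * a ∈ phi W := by
  haveI : Fact (Nat.Prime 2) := ⟨Nat.prime_two⟩
  exact ⟨⟨a, ha⟩ ^ 2, Basics.pow_mem_frattini (h.hT.to_subgroup W) _, by simp [pow_two]⟩

theorem comm_mem (h : Setup T W) {a b : T} (ha : a ∈ W) (hb : b ∈ W) : a * b * a⁻¹ * b⁻¹ ∈ phi W := by
  haveI : Fact (Nat.Prime 2) := ⟨Nat.prime_two⟩
  haveI := (h.hT.to_subgroup W).isNilpotent
  refine ⟨⁅(⟨a, ha⟩ : W), ⟨b, hb⟩⁆, Basics.commutator_le_frattini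
    (Subgroup.commutator_mem_commutator (Subgroup.mem_top _) (Subgroup.mem_top _)), ?_⟩
  simp [commutatorElement_def]

theorem hd' (h : Setup T W) {E : Subgroup T} (hE : E ≤ W) (h16 : Nat.card W ≤ 16 * Nat.card E) : phi W ≤ E := by
  have hidx : (E.subgroupOf W).index ≤ 16 := by
    have h1 := Subgroup.card_mul_index (E.subgroupOf W)
    rw [Nat.card_congr (Subgroup.subgroupOfEquivOfLe hE).toEquiv] at h1
    have := Nat.card_pos (α := E)
    nlinarith
  rintro _ ⟨x, hx, rfl⟩
  exact Subgroup.mem_subgroupOf.mp (h.hd _ hidx hx)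

theorem card_quot (h : Setup T W) : W.index ≤ 8 ∧ (W.index = 8 → ∀ p ∈ Zs 1, ∀ q ∈ Zs 2,
    ∀ x₂ ∈ Zs 2, ∀ x₃ ∈ Zs 3, x₂ ∉ Zs 1 → x₃ ∉ Zs 2 → ∃ t : T, t * x₂ * t⁻¹ = x₂ * p ∧ t * x₃ * t⁻¹ = x₃ * q) := by
  classical
  haveI := h.normal_W
  have key : ∀ x₂ ∈ Zs 2, ∀ x₃ ∈ Zs 3, x₂ ∉ Zs 1 → x₃ ∉ Zs 2 →
      ∃ θ : T ⧸ W → (Zs 1) × (Zs 2), Function.Injective θ ∧
        ∀ t : T, t * x₂ * t⁻¹ = x₂ * ((θ t).1 : T) ∧ t * x₃ * t⁻¹ = x₃ * ((θ t).2 : T) := by
    intro x₂ h2 x₃ h3 h2' h3'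
    have hin : ∀ (n : ℕ) (x : T), x ∈ Zs (n + 1) → ∀ t : T, x⁻¹ * (t * x * t⁻¹) ∈ Zs n := fun n x hx t => by
      have h1 := (step_iff n x).mp hx t
      have h2 := (inferInstance : (Zs n).Normal).conj_mem _ h1 x⁻¹
      simpa [mul_assoc] using h2
    let θ₀ : T → (Zs 1) × (Zs 2) := fun t => (⟨_, hin 1 x₂ h2 t⟩, ⟨_, hin 2 x₃ h3 t⟩)
    have hinv : ∀ s t : T, s⁻¹ * t ∈ W ↔ θ₀ s = θ₀ t := by
      intro s t
      have hc : ∀ x : T, t * x * t⁻¹ = s * x * s⁻¹ ↔ (s⁻¹ * t) * x = x * (s⁻¹ * t) := fun x => by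
        constructor
        · intro e
          calc s⁻¹ * t * x = s⁻¹ * (t * x * t⁻¹) * t := by group
            _ = x * (s⁻¹ * t) := by rw [e]; group
        · intro e
          calc t * x * t⁻¹ = s * (s⁻¹ * t * x) * t⁻¹ := by group
            _ = s * x * s⁻¹ := by rw [e]; group
      simp only [θ₀, Prod.mk.injEq, Subtype.mk.injEq, mul_left_cancel_iff]
      constructor
      · intro hm
        exact ⟨((hc x₂).mpr (h.W_fix hm (ucs_mono 2 h2)).symm).symm, ((hc x₃).mpr (h.W_fix hm h3).symm).symm⟩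
      · rintro ⟨e2, e3⟩
        have k2 := (hc x₂).mp e2.symm
        have k3 := (hc x₃).mp e3.symm
        rw [h.hW, Subgroup.mem_centralizer_iff]
        set g := s⁻¹ * t
        have k1 : ∀ y ∈ Zs 1, y * g = g * y := fun y hy => by
          rw [Subgroup.upperCentralSeries_one] at hy
          exact (Subgroup.mem_center_iff.mp hy g).symm
        obtain ⟨y2, hy2, hy2', hy2g⟩ := h.exists_gen 1 (by norm_num)
        obtain ⟨y3, hy3, hy3', hy3g⟩ := h.exists_gen 2 (by norm_num)
        have l2 : ∀ y ∈ Zs 2, y * g = g * y := by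
          intro y hy
          have hx : ∀ y ∈ Zs 2, y ∈ Zs 1 ∨ x₂⁻¹ * y ∈ Zs 1 := by
            intro y hy
            rcases hy2g y hy with e | e
            · exact Or.inl e
            · right
              have := (hy2g x₂ h2).resolve_left h2'
              have := (Zs 1).mul_mem ((Zs 1).inv_mem this) e
              simpa [mul_assoc] using this
          rcases hx y hy with e | e
          · exact k1 y e
          · have := (Commute.mul_left (show Commute x₂ g from k2.symm) (k1 _ e))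
            rwa [mul_inv_cancel_left] at this
        intro y hy
        rcases hy3g y hy with e | e
        · exact l2 y e
        · have hx : x₃⁻¹ * y ∈ Zs 2 := by
            have := (hy3g x₃ h3).resolve_left h3'
            have := (Zs 2).mul_mem ((Zs 2).inv_mem this) e
            simpa [mul_assoc] using this
          have := (Commute.mul_left (show Commute x₃ g from k3.symm) (l2 _ hx))
          rwa [mul_inv_cancel_left] at this
    refine ⟨Quotient.lift θ₀ fun s t e => (hinv s t).mp (QuotientGroup.leftRel_apply.mp e), ?_, fun t => ?_⟩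
    · intro a b e
      obtain ⟨s, rfl⟩ := QuotientGroup.mk_surjective a
      obtain ⟨t, rfl⟩ := QuotientGroup.mk_surjective b
      exact QuotientGroup.eq.mpr ((hinv s t).mpr e)
    · exact ⟨(mul_inv_cancel_left x₂ _).symm, (mul_inv_cancel_left x₃ _).symm⟩
  have h8 : Nat.card ((Zs 1) × (Zs 2)) = 8 := by
    rw [Nat.card_prod, h.card_ucs 1 (by norm_num), h.card_ucs 2 (by norm_num)]; norm_num
  refine ⟨?_, fun hi p hp q hq x₂ h2 x₃ h3 h2' h3' => ?_⟩
  · obtain ⟨x₂, h2, h2', -⟩ := h.exists_gen 1 (by norm_num)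
    obtain ⟨x₃, h3, h3', -⟩ := h.exists_gen 2 (by norm_num)
    obtain ⟨θ, hθ, -⟩ := key x₂ h2 x₃ h3 h2' h3'
    exact (Nat.card_le_card_of_injective θ hθ).trans h8.le
  · obtain ⟨θ, hθ, hθt⟩ := key x₂ h2 x₃ h3 h2' h3'
    obtain ⟨a, ha⟩ := ((Nat.bijective_iff_injective_and_card θ).mpr ⟨hθ, hi.trans h8.symm⟩).2 (⟨p, hp⟩, ⟨q, hq⟩)
    obtain ⟨t, rfl⟩ := QuotientGroup.mk_surjective a
    exact ⟨t, by rw [(hθt t).1, ha], by rw [(hθt t).2, ha]⟩

/-- A regular basis of `W` modulo its Frattini subgroup. -/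
theorem facts (h : Setup T W) : W.index = 8 ∧ phi W = Zs 3 ∧ Nat.card W = 2 ^ 11 ∧
    ∃ (H : Subgroup T) (v m : T), phi W ≤ H ∧ (∀ a ∈ W, ∀ b ∈ W, a * b ∈ H ↔ (a ∈ H ↔ b ∈ H)) ∧
      (v ∈ W ∧ v ∉ H ∧ ∀ t, t * v * t⁻¹ * v⁻¹ ∈ phi W) ∧ m ∈ W ∧ (∀ t : T, t * m * t⁻¹ ∈ H ↔ t ∉ W) ∧
      W ≤ Subgroup.closure ((phi W : Set T) ∪ Set.range fun t : T => t * m * t⁻¹) ∧
      (∀ u ∈ W, (∀ t, t * u * t⁻¹ * u⁻¹ ∈ phi W) → u ∈ phi W ∨ v⁻¹ * u ∈ phi W) ∧
      ∀ w ∈ W, (∀ t, t * w * t⁻¹ ∈ H) → w ∈ phi W := by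
  classical
  haveI := h.normal_W
  haveI hPn : (phi W).Normal := ConjAct.normal_of_characteristic_of_normal
  haveI : Fintype T := Fintype.ofFinite T
  have hPW : phi W ≤ W := Subgroup.map_subtype_le _
  have hPc : Nat.card (phi W) ≤ 8 := (Subgroup.card_map_of_injective W.subtype_injective).trans_le h.hc
  haveI : Fact (Nat.Prime 2) := ⟨Nat.prime_two⟩
  obtain ⟨k, hk⟩ := IsPGroup.iff_card.mp (h.hT.to_subgroup (phi W))
  have hk3 : k ≤ 3 := by
    rw [hk] at hPc
    exact (Nat.pow_le_pow_iff_right (le_refl 2)).mp (hPc.trans (le_of_eq (by norm_num)))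
  have hPk : phi W = Zs k := Subgroup.eq_of_le_of_card_ge (normal_le_ucs h.hT k hk.le)
    (by rw [h.card_ucs k (by omega), hk])
  have hidx8 := h.card_quot.1
  have hTW := Subgroup.card_mul_index W
  have hPlt : phi W < W := lt_of_le_of_ne hPW fun e => by
    rw [e] at hPc
    have := h.ha
    nlinarith
  obtain ⟨v, hvW, hvP, hvfix⟩ := exists_fixed h.hT hPlt
  have hfix : ∀ u ∈ W, (∀ t, t * u * t⁻¹ * u⁻¹ ∈ phi W) → u ∈ phi W ∨ v⁻¹ * u ∈ phi W := by
    intro u _ hu
    rw [hPk] at hu hvfix hvP ⊢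
    obtain ⟨x, hx, -, hxg⟩ := h.exists_gen k (by omega)
    rcases hxg u ((step_iff k u).mpr hu) with e | e
    · exact Or.inl e
    · right
      have hv' := (hxg v ((step_iff k v).mpr hvfix)).resolve_left hvP
      have := (Zs k).mul_mem ((Zs k).inv_mem hv') e
      simpa [mul_assoc] using this
  obtain ⟨H, hPH, hHW, hvH, hiff, -⟩ := exists_avoid_two hPW (fun a ha => h.sq_mem ha)
    (fun a ha b hb => h.comm_mem ha hb) hvW hvP
  -- independence of representatives
  have hrep : ∀ (t u w : T), u ∈ W → w ∈ W → (t * u * w * (t * u)⁻¹ ∈ H ↔ t * w * t⁻¹ ∈ H) := by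
    intro t u w hu hw
    have e : t * u * w * (t * u)⁻¹ = (t * (u * w * u⁻¹ * w⁻¹) * t⁻¹) * (t * w * t⁻¹) := by group
    rw [e]
    exact H.mul_mem_cancel_left (hPH (hPn.conj_mem _ (h.comm_mem hu hw) t))
  have hout : ∀ (t w : T), w ∈ W →
      ((QuotientGroup.mk t : T ⧸ W).out * w * (QuotientGroup.mk t : T ⧸ W).out⁻¹ ∈ H ↔ t * w * t⁻¹ ∈ H) := by
    intro t w hw
    obtain ⟨u, hu⟩ := QuotientGroup.mk_out_eq_mul W t
    rw [hu]
    exact hrep t u w u.2 hw
  let F : W → (T ⧸ W → Bool) := fun w d => decide (d.out * (w : T) * d.out⁻¹ ∉ H)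
  have hFt : ∀ (w : W) (t : T), F w (QuotientGroup.mk t) = decide (t * (w : T) * t⁻¹ ∉ H) := fun w t => by
    simp only [F, hout t w w.2]
  have hker : ∀ w ∈ W, (∀ t, t * w * t⁻¹ ∈ H) → w ∈ phi W := by
    intro w hw hwt
    by_contra hwP
    let K : Subgroup T :=
      { carrier := {x | ∀ t, t * x * t⁻¹ ∈ H}
        one_mem' := fun t => by simp [H.one_mem]
        mul_mem' := fun {a b} ha hb t => by
          have : t * (a * b) * t⁻¹ = (t * a * t⁻¹) * (t * b * t⁻¹) := by group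
          rw [this]; exact H.mul_mem (ha t) (hb t)
        inv_mem' := fun {a} ha t => by
          have : t * a⁻¹ * t⁻¹ = (t * a * t⁻¹)⁻¹ := by group
          rw [this]; exact H.inv_mem (ha t) }
    haveI : K.Normal := ⟨fun x hx g t => by
      have : t * (g * x * g⁻¹) * t⁻¹ = (t * g) * x * (t * g)⁻¹ := by group
      rw [this]; exact hx (t * g)⟩
    have hlt : phi W < K := lt_of_le_of_ne (fun x hx t => hPH (hPn.conj_mem x hx t)) fun e => hwP (e ▸ hwt)
    obtain ⟨u, huK, huP, hufix⟩ := exists_fixed h.hT hlt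
    have huH : u ∈ H := by simpa using huK 1
    have h2 := H.mul_mem huH (H.inv_mem (hPH ((hfix u (hHW huH) hufix).resolve_left huP)))
    exact hvH (by simpa [mul_assoc] using h2)
  have hFeq : ∀ a b : W, F a = F b ↔ (a : T)⁻¹ * b ∈ phi W := by
    intro a b
    have key : ∀ t : T, t * ((a : T)⁻¹ * b) * t⁻¹ ∈ H ↔ (t * (a : T) * t⁻¹ ∈ H ↔ t * (b : T) * t⁻¹ ∈ H) := by
      intro t
      have e : t * ((a : T)⁻¹ * b) * t⁻¹ = (t * (a : T) * t⁻¹)⁻¹ * (t * (b : T) * t⁻¹) := by group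
      rw [e, hiff _ (W.inv_mem (h.conj_W a.2 t)) _ (h.conj_W b.2 t), inv_mem_iff]
    constructor
    · intro e
      refine hker _ (W.mul_mem (W.inv_mem a.2) b.2) fun t => (key t).mpr ?_
      have := congrFun e (QuotientGroup.mk t)
      rw [hFt, hFt, decide_eq_decide, not_iff_not] at this
      exact this
    · intro e
      funext d
      obtain ⟨t, rfl⟩ := QuotientGroup.mk_surjective d
      rw [hFt, hFt, decide_eq_decide, not_iff_not]
      exact (key t).mp (hPH (hPn.conj_mem _ e t))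
  let P' := (phi W).subgroupOf W
  let F' : W ⧸ P' → (T ⧸ W → Bool) := Quotient.lift F fun a b e => (hFeq a b).mpr (show a⁻¹ * b ∈ P' from QuotientGroup.leftRel_apply.mp e)
  have hF' : Function.Injective F' := by
    intro a b e
    obtain ⟨a, rfl⟩ := QuotientGroup.mk_surjective a
    obtain ⟨b, rfl⟩ := QuotientGroup.mk_surjective b
    exact QuotientGroup.eq.mpr ((hFeq a b).mp e)
  have hfun : Nat.card (T ⧸ W → Bool) = 2 ^ W.index := by
    rw [Nat.card_fun, Nat.card_eq_fintype_card (α := Bool), Fintype.card_bool]; rfl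
  have hcW : Nat.card W = Nat.card (W ⧸ P') * 2 ^ k := by
    rw [Subgroup.card_eq_card_quotient_mul_card_subgroup P',
      Nat.card_congr (Subgroup.subgroupOfEquivOfLe hPW).toEquiv, hk]
  have hle := Nat.card_le_card_of_injective F' hF'
  rw [hfun] at hle
  have hk8 : 2 ^ k ≤ 8 := (Nat.pow_le_pow_right (by norm_num) hk3).trans (le_of_eq (by norm_num))
  have hWle : Nat.card W ≤ 2 ^ W.index * 8 := hcW ▸ Nat.mul_le_mul hle hk8
  have hge := h.ha
  rw [← hTW] at hge
  have hi : W.index = 8 := by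
    by_contra hne
    interval_cases hi : W.index <;> first | omega | (norm_num at hWle hge; omega)
  rw [hi] at hle hWle hge
  norm_num at hWle hge hle
  have hW11 : Nat.card W = 2 ^ 11 := by norm_num; omega
  have hk' : k = 3 := by
    by_contra hne
    have : 2 ^ k ≤ 4 := (Nat.pow_le_pow_right (by norm_num) (show k ≤ 2 by omega)).trans (le_of_eq (by norm_num))
    have h4 := Nat.mul_le_mul hle this
    rw [Nat.card_eq_fintype_card (α := W ⧸ P')] at hcW
    rw [← hcW, hW11] at h4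
    norm_num at h4
  subst hk'
  have hbij : Function.Bijective F' := (Nat.bijective_iff_injective_and_card F').mpr ⟨hF', by
    rw [hfun, hi]; norm_num at hcW hW11 ⊢; omega⟩
  obtain ⟨m', hm'⟩ := hbij.2 fun d => decide (d = 1)
  obtain ⟨⟨m, hmW⟩, rfl⟩ := QuotientGroup.mk_surjective m'
  have hm : ∀ t : T, t * m * t⁻¹ ∈ H ↔ t ∉ W := fun t => by
    have := congrFun hm' (QuotientGroup.mk t)
    change F ⟨m, hmW⟩ (QuotientGroup.mk t) = _ at this
    rw [hFt, decide_eq_decide, QuotientGroup.eq_one_iff] at this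
    exact (not_iff_comm.mp this).symm
  refine ⟨hi, hPk, hW11, H, v, m, hPH, hiff, ⟨hvW, hvH, hvfix⟩, hmW, hm, ?_, hfix, hker⟩
  set G := Subgroup.closure ((phi W : Set T) ∪ Set.range fun t : T => t * m * t⁻¹) with hG
  have hGW : G ≤ W := (Subgroup.closure_le _).mpr (Set.union_subset hPW (by rintro _ ⟨t, rfl⟩; exact h.conj_W hmW t))
  haveI : Fintype (T ⧸ W) := Fintype.ofFinite _
  have hall : ∀ (n : ℕ) (f : T ⧸ W → Bool), (Finset.univ.filter fun d => f d = true).card = n → ∃ g : W, (g : T) ∈ G ∧ F g = f := by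
    intro n
    induction n with
    | zero =>
      intro f hf
      refine ⟨1, G.one_mem, funext fun d => ?_⟩
      have hd : f d ≠ true := fun e => by
        have : d ∈ (Finset.univ.filter fun d => f d = true) := Finset.mem_filter.mpr ⟨Finset.mem_univ d, e⟩
        rw [Finset.card_eq_zero.mp hf] at this
        exact Finset.notMem_empty d this
      simp only [F, OneMemClass.coe_one, mul_one, mul_inv_cancel, H.one_mem, not_true, decide_false]
      exact (Bool.eq_false_iff.mpr hd).symm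
    | succ n ih =>
      intro f hf
      obtain ⟨d, hd⟩ := Finset.card_pos.mp (by omega : 0 < (Finset.univ.filter fun d => f d = true).card)
      obtain ⟨t, rfl⟩ := QuotientGroup.mk_surjective d
      have hft : f (QuotientGroup.mk t) = true := (Finset.mem_filter.mp hd).2
      obtain ⟨g, hgG, hg⟩ := ih (Function.update f (QuotientGroup.mk t) false) (by
        have he : (Finset.univ.filter fun d => Function.update f (QuotientGroup.mk t) false d = true) =
            (Finset.univ.filter fun d => f d = true).erase (QuotientGroup.mk t) := by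
          ext d
          simp only [Finset.mem_filter, Finset.mem_univ, true_and, Finset.mem_erase, Function.update_apply]
          split_ifs with e <;> simp [e]
        rw [he, Finset.card_erase_of_mem hd, hf]; rfl)
      have hmem : t⁻¹ * m * t ∈ G := Subgroup.subset_closure (Or.inr ⟨t⁻¹, by simp⟩)
      refine ⟨g * ⟨t⁻¹ * m * t, hGW hmem⟩, G.mul_mem hgG hmem, funext fun d => ?_⟩
      obtain ⟨s, rfl⟩ := QuotientGroup.mk_surjective d
      have hgs := congrFun hg (QuotientGroup.mk s)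
      rw [hFt, Function.update_apply] at hgs
      rw [hFt]
      show decide (s * ((g : T) * (t⁻¹ * m * t)) * s⁻¹ ∉ H) = _
      have e1 : s * ((g : T) * (t⁻¹ * m * t)) * s⁻¹ = (s * (g : T) * s⁻¹) * ((s * t⁻¹) * m * (s * t⁻¹)⁻¹) := by group
      have e2 : (QuotientGroup.mk s : T ⧸ W) = QuotientGroup.mk t ↔ s * t⁻¹ ∈ W := by
        rw [← QuotientGroup.eq_one_iff, QuotientGroup.mk_mul, QuotientGroup.mk_inv, mul_inv_eq_one]
      have hX := (hiff _ (h.conj_W g.2 s) _ (h.conj_W hmW (s * t⁻¹))).trans (iff_congr Iff.rfl (hm (s * t⁻¹)))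
      rw [e1]
      by_cases he : s * t⁻¹ ∈ W
      · rw [if_pos (e2.mpr he), decide_eq_false_iff_not, not_not] at hgs
        rw [e2.mpr he, hft, decide_eq_true_iff, hX]
        simp [hgs, he]
      · rw [if_neg (fun e => he (e2.mp e))] at hgs
        rw [← hgs, decide_eq_decide, hX]
        simp [he]
  intro w hw
  obtain ⟨g, hgG, hg⟩ := hall _ (F ⟨w, hw⟩) rfl
  have hgw := (hFeq g ⟨w, hw⟩).mp hg
  have := G.mul_mem hgG (Subgroup.subset_closure (Or.inl hgw))
  simpa using this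

end Setup

end Cfsg.Agent.InvChar.TwoFourteen
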