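import Cfsg.Agent.Lib.InvChar.PConLocals
import Cfsg.Agent.Lib.InvChar.FourCentralizerApps
import Cfsg.Agent.Lib.OddLocal.UniqueC

/-!
# No odd subgroups normalized by a Sylow 2-subgroup in the characteristic 2 situation
-/

set_option autoImplicit false
set_option linter.style.haveILetI false

namespace Cfsg.Agent.InvChar

open Subgroup Cfsg Cfsg.Agent Cfsg.Agent.Components

universe u

/-- In a 2-constrained group with trivial odd core, a 2-subgroup of index at most 2 in a Sylow
2-subgroup normalizes no nontrivial subgroup of odd order. -/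
theorem eq_bot_of_normalized_index_two {H : Type u} [Group H] [Finite H]
    (hc : IsPConstrained 2 H) (hO : pPrimeCore 2 H = ⊥) (T Y : Subgroup H) (hT : IsPGroup 2 T)
    (hmax : ∀ Q : Subgroup H, IsPGroup 2 Q → Nat.card Q ≤ 2 * Nat.card T)
    (hY : Odd (Nat.card Y)) (hTY : T ≤ normalizer (Y : Set H)) : Y = ⊥ := by
  haveI : Fact (Nat.Prime 2) := ⟨Nat.prime_two⟩
  have hcp : centralizer (pCore 2 H : Set H) ≤ pCore 2 H :=
    Transfer.cp_congr ((QuotientGroup.quotientMulEquivOfEq hO).trans QuotientGroup.quotientBot)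
      (isPConstrained_iff.mp hc)
  set P := pCore 2 H with hP
  have hPg : IsPGroup 2 P := Basics.pCore_isPGroup 2
  have hone : ∀ a ∈ P, a ∈ Y → a = 1 := by
    intro a haP haY
    obtain ⟨k, hk⟩ := hPg ⟨a, haP⟩
    have h1 : orderOf a ∣ 2 ^ k := orderOf_dvd_of_pow_eq_one (congrArg Subtype.val hk)
    exact orderOf_eq_one_iff.mp (Nat.eq_one_of_dvd_coprimes
      (Nat.Coprime.pow_left k ((Nat.coprime_two_left).mpr hY)) h1 (Subgroup.orderOf_dvd_natCard _ haY))
  -- the index of `P ∩ T` in `P`
  have hidx : T.relIndex P ≤ 2 := by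
    have h1 : P.relIndex (T ⊔ P) = P.relIndex T := relIndex_sup_right _ _
    have h2 : Nat.card ↥(T ⊔ P) ≤ 2 * Nat.card T :=
      hmax _ (hT.to_sup_of_normal_right hPg)
    have h3 : Nat.card P * P.relIndex (T ⊔ P) = Nat.card ↥(T ⊔ P) := by
      rw [← relIndex_bot_left, ← relIndex_bot_left]
      exact relIndex_mul_relIndex _ _ _ bot_le le_sup_right
    have h4 : Nat.card ↥(P ⊓ T) * P.relIndex T = Nat.card T := by
      rw [← inf_relIndex_right, ← relIndex_bot_left, ← relIndex_bot_left]
      exact relIndex_mul_relIndex _ _ _ bot_le inf_le_right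
    have h5 : Nat.card ↥(P ⊓ T) * T.relIndex P = Nat.card P := by
      rw [inf_comm, ← inf_relIndex_right, ← relIndex_bot_left, ← relIndex_bot_left]
      exact relIndex_mul_relIndex _ _ _ bot_le inf_le_right
    rw [h1] at h3
    have hr : 0 < P.relIndex T := Nat.pos_of_ne_zero fun e => by
      rw [e, mul_zero] at h4; exact (Nat.card_pos (α := T)).ne' h4.symm
    refine (Nat.mul_le_mul_left_iff (Nat.mul_pos (Nat.card_pos (α := ↥(P ⊓ T))) hr)).mp ?_
    calc Nat.card ↥(P ⊓ T) * P.relIndex T * T.relIndex P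
        = Nat.card P * P.relIndex T := by rw [← h5]; ring
      _ ≤ 2 * Nat.card T := h3 ▸ h2
      _ = Nat.card ↥(P ⊓ T) * P.relIndex T * 2 := by rw [h4]; ring
  refine (eq_bot_iff_forall _).mpr fun y hy => hone y (hcp ?_) hy
  intro a ha
  have hin : ∀ b ∈ P, b ∈ T → y * b * y⁻¹ = b := by
    intro b hb hbT
    have h1 : y * b * y⁻¹ * b⁻¹ ∈ Y := by
      rw [show y * b * y⁻¹ * b⁻¹ = y * (b * y⁻¹ * b⁻¹) by group]
      exact mul_mem hy ((mem_normalizer_iff.mp (hTY hbT) _).mp (inv_mem hy))
    have h2 := hone _ (mul_mem ((inferInstance : P.Normal).conj_mem b hb y) (inv_mem hb)) h1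
    exact mul_inv_eq_one.mp h2
  suffices h : y * a * y⁻¹ = a from (mul_inv_eq_iff_eq_mul.mp h).symm
  by_cases haT : a ∈ T
  · exact hin a ha haT
  have hya : y * a * y⁻¹ ∈ P := (inferInstance : P.Normal).conj_mem a ha y
  have hyaT : y * a * y⁻¹ ∉ T := by
    intro hh
    have h2 := hin _ hya hh
    have h3 : y * a * y⁻¹ = a := by
      calc y * a * y⁻¹ = y⁻¹ * (y * (y * a * y⁻¹) * y⁻¹) * y := by group
        _ = y⁻¹ * (y * a * y⁻¹) * y := by rw [h2]
        _ = a := by group
    exact haT (h3 ▸ hh)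
  have h2i : (T.subgroupOf P).index = 2 := by
    have h0 : (T.subgroupOf P).index ≠ 1 := fun e =>
      haT (relIndex_eq_one.mp e ha)
    have : (T.subgroupOf P).index ≠ 0 := Subgroup.index_ne_zero_of_finite
    have : (T.subgroupOf P).index ≤ 2 := hidx
    omega
  set c := y * a * y⁻¹ * a⁻¹ with hcdef
  have hcP : c ∈ P := mul_mem hya (inv_mem ha)
  have hcT : c ∈ T := by
    have := (Subgroup.mul_mem_iff_of_index_two h2i (a := (⟨y * a * y⁻¹, hya⟩ : P))
      (b := (⟨a, ha⟩ : P)⁻¹)).mpr (by
        simp only [inv_mem_iff, mem_subgroupOf]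
        exact iff_of_false hyaT haT)
    exact this
  have hyc : y * c * y⁻¹ = c := hin c hcP hcT
  have hpow : ∀ n : ℕ, y ^ n * a * (y ^ n)⁻¹ = c ^ n * a := by
    intro n
    induction n with
    | zero => simp
    | succ n ih =>
      calc y ^ (n + 1) * a * (y ^ (n + 1))⁻¹ = y * (y ^ n * a * (y ^ n)⁻¹) * y⁻¹ := by
            rw [pow_succ']; group
        _ = (y * c ^ n * y⁻¹) * (y * a * y⁻¹ * a⁻¹) * a := by rw [ih]; group
        _ = c ^ (n + 1) * a := by rw [← conj_pow, hyc, ← hcdef, pow_succ]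
  have h1 := hpow (orderOf y)
  rw [pow_orderOf_eq_one, one_mul, inv_one, mul_one, eq_comm, mul_eq_right] at h1
  obtain ⟨k, hk⟩ := hPg ⟨c, hcP⟩
  have hc1 : c = 1 := orderOf_eq_one_iff.mp (Nat.eq_one_of_dvd_coprimes
    (Nat.Coprime.pow_left k ((Nat.coprime_two_left).mpr
      (hY.of_dvd_nat (Subgroup.orderOf_dvd_natCard Y hy))))
    (orderOf_dvd_of_pow_eq_one (congrArg Subtype.val hk)) (orderOf_dvd_of_pow_eq_one h1))
  exact mul_inv_eq_one.mp hc1

variable {G : Type u} [Group G] [Finite G]

theorem twoSignalizers (S : Sylow 2 G) (A : Subgroup G) (hA : IsSCN (S : Subgroup G) A)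
    (hA3 : ¬ PRankLE 2 2 ↥A)
    (h : (∀ M : Subgroup G, IsMaximalTwoLocal M → IsPConstrained 2 ↥M ∧ oddCore ↥M = ⊥) ∨
      (∀ t : G, orderOf t = 2 → IsPConstrained 2 ↥(centralizer ({t} : Set G)) ∧
        oddCore ↥(centralizer ({t} : Set G)) = ⊥)) :
    (∀ X : Subgroup G, Odd (Nat.card ↥X) → (S : Subgroup G) ≤ normalizer (X : Set G) → X = ⊥) ∧
      (∀ T : Subgroup G, IsPGroup 2 ↥T → T ≠ ⊥ → IsPConstrained 2 ↥(normalizer (T : Set G))) := by
  haveI : Fact (Nat.Prime 2) := ⟨Nat.prime_two⟩
  haveI hAc := OddLocal.isMulCommutative_of_isSCN hA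
  obtain ⟨B, hBc, hBe, hB⟩ : ∃ B : Subgroup A, IsMulCommutative B ∧ (∀ a ∈ B, a ^ 2 = 1) ∧
      2 ^ 2 < Nat.card B := by
    by_contra hcon
    push Not at hcon
    exact hA3 fun B hBc hBe => hcon B hBc hBe
  -- the involutions of `A`, inside `S`
  let N : Subgroup S :=
    { carrier := {a | (a : G) ∈ A ∧ a ^ 2 = 1}
      mul_mem' := by
        rintro a b ⟨ha, ha2⟩ ⟨hb, hb2⟩
        refine ⟨mul_mem ha hb, ?_⟩
        have hcomm : Commute a b := Subtype.ext (congrArg Subtype.val
          (hAc.is_comm.comm (⟨a, ha⟩ : A) ⟨b, hb⟩) : (a : G) * b = b * a)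
        rw [hcomm.mul_pow, ha2, hb2, one_mul]
      one_mem' := ⟨one_mem _, one_pow _⟩
      inv_mem' := by
        rintro a ⟨ha, ha2⟩
        exact ⟨inv_mem ha, by rw [inv_pow, ha2, inv_one]⟩ }
  haveI : N.Normal := ⟨by
    rintro a ⟨ha, ha2⟩ s
    exact ⟨(mem_normalizer_iff.mp (hA.2.1 s.2) a).mp ha, by
      rw [conj_pow, ha2, mul_one, mul_inv_cancel]⟩⟩
  have hN : IsElementaryAbelian 2 N := ⟨⟨⟨fun a b => Subtype.ext (Subtype.ext (congrArg Subtype.val
    (hAc.is_comm.comm (⟨(a : S), a.2.1⟩ : A) ⟨(b : S), b.2.1⟩) :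
      ((a : S) : G) * (b : S) = (b : S) * (a : S)))⟩⟩, fun a ha => ha.2⟩
  have hN4 : 2 < Nat.card N := by
    refine lt_of_lt_of_le (lt_trans (by norm_num) hB) (Nat.card_le_card_of_injective
      (fun b : B => (⟨⟨((b : A) : G), hA.1 (b : A).2⟩, (b : A).2,
        Subtype.ext (by simpa using congrArg (fun a : A => (a : G)) (hBe b b.2))⟩ : N)) ?_)
    intro a b hab
    exact Subtype.ext (Subtype.ext (congrArg (fun z => ((z : N) : S).1) hab))
  obtain ⟨E, hEn, -, hEe, hE2, hE4⟩ := OddLocal.exists_normal_le_card_sq S.2 N hN hN4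
  have hcent : ∀ u ∈ E, u ≠ 1 → (centralizer ({u} : Set S)).index ≤ 2 := by
    intro u hu hu1
    have hlt : (centralizer ({u} : Set S)).index ≤ 3 := by
      rw [index_eq_card]
      refine le_trans (Nat.card_le_card_of_injective
        (fun q => (⟨⟨q.out * u * q.out⁻¹, hEn.conj_mem u hu _⟩, fun e => hu1 (conj_eq_one_iff.mp
          (congrArg Subtype.val e))⟩ : {e : E // e ≠ 1})) ?_) ?_
      · intro q r hqr
        have h1 : q.out * u * q.out⁻¹ = r.out * u * r.out⁻¹ :=
          congrArg (fun z : {e : E // e ≠ 1} => ((z : E) : S)) hqr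
        rw [← Quotient.out_eq q, ← Quotient.out_eq r]
        refine QuotientGroup.eq.mpr (mem_centralizer_singleton_iff.mpr ?_)
        calc q.out⁻¹ * r.out * u = q.out⁻¹ * (r.out * u * r.out⁻¹) * r.out := by group
          _ = u * (q.out⁻¹ * r.out) := by rw [← h1]; group
      · have : Nat.card {e : E // e ≠ 1} < Nat.card E :=
          Finite.card_subtype_lt (x := (1 : E)) (by simp)
        omega
    obtain ⟨k, hk⟩ := S.2.index (centralizer ({u} : Set S))
    rw [hk] at hlt ⊢
    rcases k with _ | _ | k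
    · simp
    · simp
    · exfalso
      have : 4 ≤ 2 ^ (k + 1 + 1) := by
        rw [pow_succ, pow_succ]
        have := Nat.one_le_two_pow (n := k)
        omega
      omega
  refine ⟨fun X hX hSX => ?_, fun T hT hT1 => ?_⟩
  · have hcx : ∀ u ∈ E, u ≠ 1 → X ⊓ centralizer ({(u : G)} : Set G) = ⊥ := by
      intro u hu hu1
      have hu2 : orderOf (u : G) = 2 := by
        rw [Subgroup.orderOf_coe]; exact orderOf_eq_prime (hEe.2 u hu) hu1
      set C := centralizer ({(u : G)} : Set G) with hC
      obtain ⟨H, hCH, hHc, hHO⟩ : ∃ H : Subgroup G, C ≤ H ∧ IsPConstrained 2 ↥H ∧ oddCore ↥H = ⊥ := by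
        rcases h with h | h
        · have hl : IsTwoLocal (normalizer (zpowers (u : G) : Set G)) :=
            ⟨zpowers (u : G), IsPGroup.of_card (n := 1) (by rw [Nat.card_zpowers, hu2, pow_one]),
              fun e => by rw [zpowers_eq_bot] at e; simp [e] at hu2, rfl⟩
          obtain ⟨M, ⟨hM, hle⟩, hmax⟩ := Set.exists_max_image
            {M : Subgroup G | IsTwoLocal M ∧ normalizer (zpowers (u : G) : Set G) ≤ M}
            (fun M => Nat.card M) (Set.toFinite _) ⟨_, hl, le_rfl⟩
          refine ⟨M, le_trans ?_ hle, h M ⟨hM, fun M' hM' hMM' =>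
            (Subgroup.eq_of_le_of_card_ge hMM' (hmax M' ⟨hM', hle.trans hMM'⟩)).symm⟩⟩
          rw [hC, zpowers_eq_closure, ← centralizer_closure]
          exact centralizer_le_normalizer _
        · exact ⟨C, le_rfl, h _ hu2⟩
      set T0 := (centralizer ({u} : Set S)).map (S : Subgroup G).subtype with hT0
      have hT0C : T0 ≤ C := by
        rintro _ ⟨s, hs, rfl⟩
        exact mem_centralizer_singleton_iff.mpr
          (congrArg Subtype.val (mem_centralizer_singleton_iff.mp hs))
      have hT0S : T0 ≤ S := map_subtype_le _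
      have hcard : Nat.card (S : Subgroup G) ≤ 2 * Nat.card T0 := by
        rw [hT0, card_map_of_injective (S : Subgroup G).subtype_injective,
          ← Subgroup.card_mul_index (centralizer ({u} : Set S)), mul_comm 2]
        exact Nat.mul_le_mul_left _ (hcent u hu hu1)
      have := eq_bot_of_normalized_index_two hHc hHO (T0.subgroupOf H) ((X ⊓ C).subgroupOf H)
        ((S.2.to_le hT0S).comap_subtype) ?_ ?_ ?_
      · rw [subgroupOf_eq_bot, disjoint_iff, inf_eq_left.mpr (inf_le_right.trans hCH)] at this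
        exact this
      · intro Q hQ
        obtain ⟨S', hS'⟩ := (hQ.map H.subtype).exists_le_sylow
        rw [Nat.card_congr (subgroupOfEquivOfLe (hT0C.trans hCH)).toEquiv,
          ← card_map_of_injective (K := Q) H.subtype_injective]
        refine (card_le_of_le hS').trans (le_trans (le_of_eq ?_) hcard)
        rw [S'.card_eq_multiplicity, S.card_eq_multiplicity]
      · rw [Nat.card_congr (subgroupOfEquivOfLe (inf_le_right.trans hCH)).toEquiv]
        exact hX.of_dvd_nat (Subgroup.card_dvd_of_le inf_le_left)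
      · intro t ht
        rw [mem_normalizer_iff]
        intro x
        have h1 := mem_normalizer_iff.mp (hSX (hT0S ht)) (x : G)
        have h2 : (x : G) ∈ C ↔ (t : G) * x * (t : G)⁻¹ ∈ C :=
          mem_normalizer_iff.mp (le_normalizer (hT0C ht)) (x : G)
        exact and_congr h1 h2
    set NX := normalizer (X : Set G) with hNX
    haveI : (X.subgroupOf NX).Normal := normal_in_normalizer
    have hinv : ∀ u ∈ E, u ≠ 1 → ∀ x ∈ X, (u : G) * x * (u : G)⁻¹ = x⁻¹ := by
      intro u hu hu1 x hx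
      refine congrArg Subtype.val (FourCent.inverts_of_fpf (x := (⟨(u : G), hSX u.2⟩ : NX)) ?_ (X.subgroupOf NX) ?_
        (k := (⟨x, le_normalizer hx⟩ : NX)) hx)
      · have h1 := hEe.2 u hu
        rw [pow_two] at h1
        exact Subtype.ext (by simpa using congrArg Subtype.val h1)
      · intro k hk hc
        refine Subtype.ext ((eq_bot_iff_forall _).mp (hcx u hu hu1) k ⟨hk, ?_⟩)
        exact mem_centralizer_singleton_iff.mpr (congrArg Subtype.val hc.eq)
    obtain ⟨u, hu, v, hv, hu1, hv1, huv⟩ : ∃ u ∈ E, ∃ v ∈ E, u ≠ 1 ∧ v ≠ 1 ∧ u * v ≠ 1 := by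
      haveI : Nontrivial E := Finite.one_lt_card_iff_nontrivial.mp (by omega)
      obtain ⟨u, hu⟩ := exists_ne (1 : E)
      have huu : (u : S) ≠ 1 := fun e => hu (Subtype.ext e)
      by_contra hcon
      push Not at hcon
      have hsub : ∀ v : E, v = 1 ∨ v = u := by
        intro v
        by_cases hv : (v : S) = 1
        · exact Or.inl (Subtype.ext hv)
        · refine Or.inr (Subtype.ext ?_)
          have h1 := hcon u u.2 v v.2 huu hv
          rw [← eq_inv_iff_mul_eq_one] at h1
          have h2 : ((v : S))⁻¹ = v := inv_eq_of_mul_eq_one_right (by rw [← pow_two]; exact hEe.2 v v.2)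
          rw [h1, h2]
      classical
      have : Nat.card E ≤ 2 := by
        refine le_trans (Nat.card_le_card_of_injective (fun v : E => (⟨v, ?_⟩ : ({1, u} : Finset E)))
          fun a b hab => congrArg Subtype.val hab) ?_
        · rcases hsub v with rfl | rfl <;> simp
        · rw [Nat.card_eq_finsetCard]; exact Finset.card_le_two
      omega
    refine (eq_bot_iff_forall _).mpr fun x hx => ?_
    have h1 := hinv (u * v) (mul_mem hu hv) huv x hx
    have h2 : ((u * v : S) : G) * x * ((u * v : S) : G)⁻¹ = x := by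
      calc ((u * v : S) : G) * x * ((u * v : S) : G)⁻¹
          = (u : G) * ((v : G) * x * (v : G)⁻¹) * (u : G)⁻¹ := by rw [Subgroup.coe_mul]; group
        _ = x := by rw [hinv v hv hv1 x hx, ← conj_inv, hinv u hu hu1 x hx, inv_inv]
    have h3 : x * x = 1 := by
      rw [mul_eq_one_iff_eq_inv, ← h1, h2]
    exact orderOf_eq_one_iff.mp (Nat.eq_one_of_dvd_coprimes
      ((Nat.coprime_two_left).mpr hX) (orderOf_dvd_of_pow_eq_one (by rw [pow_two, h3]))
      (Subgroup.orderOf_dvd_natCard _ hx))
  · haveI : (T.subgroupOf (normalizer (T : Set G))).Normal := normal_in_normalizer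
    have hTN : T ≤ normalizer (T : Set G) := le_normalizer
    have hTp : IsPGroup 2 (T.subgroupOf (normalizer (T : Set G))) := hT.comap_subtype
    rcases h with h | h
    · obtain ⟨M, ⟨hM, hle⟩, hmax⟩ := Set.exists_max_image
        {M : Subgroup G | IsTwoLocal M ∧ normalizer (T : Set G) ≤ M}
        (fun M => Nat.card M) (Set.toFinite _) ⟨_, ⟨T, hT, hT1, rfl⟩, le_rfl⟩
      have hcon := (h M ⟨hM, fun M' hM' hMM' =>
        (Subgroup.eq_of_le_of_card_ge hMM' (hmax M' ⟨hM', hle.trans hMM'⟩)).symm⟩).1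
      have h2 := (Transfer.isPConstrained_pLocal hcon (T.subgroupOf M) hT.comap_subtype).2
      rw [isPConstrained_centralizer_subgroupOf (hTN.trans hle)
        ((centralizer_le_normalizer _).trans hle)] at h2
      exact isPConstrained_of_centralizer hTp
        ((isPConstrained_centralizer_subgroupOf hTN (centralizer_le_normalizer _)).mpr h2)
    · haveI : Nontrivial T := (nontrivial_iff_ne_bot T).mpr hT1
      haveI : Nontrivial (center T) := hT.center_nontrivial
      obtain ⟨k, hk0, hk⟩ := (hT.to_subgroup (center T)).nontrivial_iff_card.mp inferInstance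
      obtain ⟨z, hz⟩ := exists_prime_orderOf_dvd_card' (G := center T) 2
        (hk ▸ dvd_pow_self 2 hk0.ne')
      have hxo : orderOf ((z : T) : G) = 2 := by
        rw [Subgroup.orderOf_coe, Subgroup.orderOf_coe, hz]
      have h2 := (Transfer.isPConstrained_pLocal (h _ hxo).1 (T.subgroupOf _) hT.comap_subtype).2
      rw [isPConstrained_centralizer_subgroupOf
        (fun t ht => mem_centralizer_singleton_iff.mpr
          (congrArg Subtype.val (mem_center_iff.mp z.2 ⟨t, ht⟩)))
        (centralizer_le (Set.singleton_subset_iff.mpr (z : T).2))] at h2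
      exact isPConstrained_of_centralizer hTp
        ((isPConstrained_centralizer_subgroupOf hTN (centralizer_le_normalizer _)).mpr h2)

end Cfsg.Agent.InvChar
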